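/-
General criteria for the triviality of the Schur multiplier, in the form of
`Cfsg.HasSchurMultiplier` (kernels of finite stem extensions).
-/
import Mathlib.GroupTheory.Transfer
import Mathlib.GroupTheory.Sylow
import Mathlib.GroupTheory.Perm.Cycle.Type
import Mathlib.GroupTheory.Abelianization.Defs
import Mathlib.GroupTheory.SpecificGroups.Cyclic
import Cfsg.Prelude.Def_KGroupFacts

set_option autoImplicit false

namespace CfsgLib.Schur

open Subgroup Cfsg
open scoped Pointwise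
open scoped commutatorElement

universe u v w

/-- A central element of the commutator subgroup that lies in a Sylow subgroup lies in the
derived subgroup of that Sylow subgroup. -/
theorem center_commutator_sylow {Γ : Type u} [Group Γ] [Finite Γ] {p : ℕ} [Fact p.Prime]
    (P : Sylow p Γ) {z : Γ} (hc : z ∈ center Γ) (hd : z ∈ commutator Γ) (hp : z ∈ P) :
    z ∈ ⁅(P : Subgroup Γ), (P : Subgroup Γ)⁆ := by
  classical
  let φ : (P : Subgroup Γ) →* Abelianization (P : Subgroup Γ) := Abelianization.of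
  have key : ∀ (k : ℕ) (g₀ : Γ), g₀⁻¹ * z ^ k * g₀ ∈ (P : Subgroup Γ) →
      g₀⁻¹ * z ^ k * g₀ = z ^ k := by
    intro k g₀ _
    have := mem_center_iff.mp (pow_mem hc k) g₀
    rw [mul_assoc, ← this, inv_mul_cancel_left]
  have h1 := MonoidHom.transfer_eq_pow φ z key
  have h2 : MonoidHom.transfer φ z = 1 := Abelianization.commutator_subset_ker _ hd
  rw [h2] at h1
  have hpow : φ (⟨z, hp⟩ ^ (P : Subgroup Γ).index) = 1 := by
    rw [h1]; rfl
  have hord : φ (⟨z, hp⟩ ^ Nat.card (P : Subgroup Γ)) = 1 := by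
    rw [pow_card_eq_one', map_one]
  rw [map_pow] at hpow hord
  have hgcd := pow_gcd_eq_one.mpr ⟨hord, hpow⟩
  rw [(P.card_coprime_index).gcd_eq_one, pow_one] at hgcd
  have hmem : (⟨z, hp⟩ : (P : Subgroup Γ)) ∈ commutator (P : Subgroup Γ) := by
    rwa [← Abelianization.ker_of (G := (P : Subgroup Γ)), MonoidHom.mem_ker]
  rw [← map_subtype_commutator (P : Subgroup Γ)]
  exact ⟨_, hmem, rfl⟩

/-- `G` has no `p`-part in its Schur multiplier: no finite stem extension of `G` has a kernel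
with an element of order `p`. -/
def NoMultiplierAt (p : ℕ) (G : Type u) [Group G] : Prop :=
  ∀ (Γ : Type u) [Group Γ] [Finite Γ] (σ : Γ →* G), IsStemExtension σ →
    ∀ z ∈ σ.ker, z ^ p = 1 → z = 1

theorem stem_ker_eq_bot {G : Type u} [Group G] (h : ∀ p : ℕ, p.Prime → NoMultiplierAt p G)
    {Γ : Type u} [Group Γ] [Finite Γ] {σ : Γ →* G} (hσ : IsStemExtension σ) : σ.ker = ⊥ := by
  by_contra hne
  obtain ⟨p, hp, hdvd⟩ := Nat.exists_prime_and_dvd
    (n := Nat.card σ.ker) (fun h1 => hne (Subgroup.eq_bot_of_card_eq _ h1))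
  have : Fact p.Prime := ⟨hp⟩
  obtain ⟨x, hx⟩ := exists_prime_orderOf_dvd_card' p hdvd
  have hx1 : (x : Γ) = 1 := by
    refine h p hp Γ σ hσ x x.2 ?_
    rw [← SubmonoidClass.coe_pow, ← hx, pow_orderOf_eq_one]; rfl
  have : x = 1 := Subtype.ext hx1
  rw [this, orderOf_one] at hx
  exact hp.one_lt.ne' hx.symm

/-- Trivial multiplier from trivial kernels. -/
theorem hasCyclicSchurMultiplier_one {G : Type u} [Group G] [Finite G]
    (h : ∀ p : ℕ, p.Prime → NoMultiplierAt p G) : HasCyclicSchurMultiplier G 1 := by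
  have : Subsingleton (Multiplicative (ZMod 1)) :=
    inferInstanceAs (Subsingleton (ZMod 1))
  refine ⟨⟨G, inferInstance, inferInstance, MonoidHom.id G, ⟨Function.surjective_id, ?_, ?_⟩,
    ?_⟩, ?_⟩
  · simp
  · simp
  · have hb : (MonoidHom.id G).ker = ⊥ := by simp
    have : Unique ↥(MonoidHom.id G).ker := by
      rw [hb]; infer_instance
    have : Unique (Multiplicative (ZMod 1)) := uniqueOfSubsingleton 1
    exact ⟨MulEquiv.ofUnique⟩
  · intro Γ _ _ σ hσ
    refine ⟨1, fun x => ⟨1, ?_⟩⟩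
    have hb := stem_ker_eq_bot h hσ
    have hx : (x : Γ) ∈ (⊥ : Subgroup Γ) := hb ▸ x.2
    exact Subtype.ext (by simpa using (Subgroup.mem_bot.mp hx).symm)

theorem noMultiplierAt_of_mulEquiv {G H : Type u} [Group G] [Group H] (e : G ≃* H) {p : ℕ}
    (h : NoMultiplierAt p G) : NoMultiplierAt p H := by
  intro Γ _ _ σ hσ z hz hzp
  have hk : (e.symm.toMonoidHom.comp σ).ker = σ.ker :=
    MonoidHom.ker_mulEquiv_comp σ e.symm
  refine h Γ (e.symm.toMonoidHom.comp σ) ⟨e.symm.surjective.comp hσ.1, ?_, ?_⟩ z (hk.symm ▸ hz) hzp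
  · rw [hk]; exact hσ.2.1
  · rw [hk]; exact hσ.2.2

/-- The pullback data at a Sylow subgroup: a Sylow subgroup of `Γ` mapping onto a given one. -/
theorem exists_sylow_map_eq {G : Type v} [Group G] [Finite G] {Γ : Type u} [Group Γ] [Finite Γ]
    {p : ℕ} [Fact p.Prime] {σ : Γ →* G} (hσ : Function.Surjective σ) (S : Sylow p G) :
    ∃ P : Sylow p Γ, (P : Subgroup Γ).map σ = S := by
  obtain ⟨P, hP⟩ := Sylow.mapSurjective_surjective hσ p S
  exact ⟨P, by rw [← hP]; rfl⟩

/-- A `p`-power-order central element lies in every Sylow `p`-subgroup. -/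
theorem center_mem_sylow {Γ : Type u} [Group Γ] [Finite Γ] {p : ℕ} [Fact p.Prime]
    (P : Sylow p Γ) {z : Γ} (hc : z ∈ center Γ) (hz : z ^ p = 1) : z ∈ P := by
  have hpg : IsPGroup p (zpowers z) := by
    rintro ⟨x, k, rfl⟩
    refine ⟨1, Subtype.ext ?_⟩
    simp only [pow_one, SubmonoidClass.coe_pow, coe_one]
    rw [← zpow_natCast, ← zpow_mul, mul_comm, zpow_mul, zpow_natCast, hz, one_zpow]
  obtain ⟨Q, hQ⟩ := hpg.exists_le_sylow
  obtain ⟨g, hg⟩ := MulAction.exists_smul_eq Γ Q P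
  rw [← hg]
  refine Set.mem_smul_set.mpr ⟨z, hQ (mem_zpowers z), ?_⟩
  simp [MulAut.smul_def, mem_center_iff.mp hc g, mul_inv_cancel_right]

/-- Main criterion: it suffices that in every `Sylow`-preimage the derived subgroup meets the
kernel trivially. -/
theorem noMultiplierAt_of_derived {G : Type u} [Group G] [Finite G] {p : ℕ} [Fact p.Prime]
    (S : Sylow p G)
    (h : ∀ (Γ : Type u) [Group Γ] [Finite Γ] (σ : Γ →* G), IsStemExtension σ →
      ∀ P : Subgroup Γ, P.map σ = S → ∀ z ∈ σ.ker, z ∈ ⁅P, P⁆ → z ^ p = 1 → z = 1) :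
    NoMultiplierAt p G := by
  intro Γ _ _ σ hσ z hz hzp
  obtain ⟨P, hP⟩ := exists_sylow_map_eq hσ.1 S
  exact h Γ σ hσ P hP z hz
    (center_commutator_sylow P (hσ.2.1 hz) (hσ.2.2 hz) (center_mem_sylow P (hσ.2.1 hz) hzp)) hzp

end CfsgLib.Schur
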