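/-
Sylow-subgroup criteria for `CfsgLib.Schur.NoMultiplierAt`.
-/
import Cfsg.Agent.Lib.Schur.Basic
import Mathlib.GroupTheory.OrderOfElement
import Mathlib.Tactic.Group
import Mathlib.Tactic.Ring
import Mathlib.Algebra.Ring.Int.Parity

set_option autoImplicit false

namespace CfsgLib.Schur

open Subgroup Cfsg
open scoped commutatorElement

universe u v

section

variable {Γ : Type u} [Group Γ] {G : Type v} [Group G] {σ : Γ →* G}

/-- Elements of a central kernel commute with everything. -/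
theorem ker_commute (hc : σ.ker ≤ center Γ) {z : Γ} (hz : z ∈ σ.ker) (g : Γ) : Commute z g :=
  (mem_center_iff.mp (hc hz) g).symm

/-- The commutator depends only on the images modulo a central kernel. -/
theorem commutator_congr (hc : σ.ker ≤ center Γ) {x x' y y' : Γ} (hx : σ x = σ x')
    (hy : σ y = σ y') : ⁅x, y⁆ = ⁅x', y'⁆ := by
  have h1 : x⁻¹ * x' ∈ σ.ker := by simp [MonoidHom.mem_ker, hx]
  have h2 : y⁻¹ * y' ∈ σ.ker := by simp [MonoidHom.mem_ker, hy]
  obtain ⟨u, hu, rfl⟩ : ∃ u ∈ σ.ker, x' = x * u := ⟨_, h1, by group⟩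
  obtain ⟨v, hv, rfl⟩ : ∃ v ∈ σ.ker, y' = y * v := ⟨_, h2, by group⟩
  have cu := ker_commute hc hu
  have cv := ker_commute hc hv
  simp only [commutatorElement_def, mul_inv_rev]
  calc x * y * x⁻¹ * y⁻¹ = x * (u * (y * u⁻¹)) * x⁻¹ * (v * (y⁻¹ : Γ) * v⁻¹) := by
        rw [← mul_assoc u, (cu y).eq, (cv y⁻¹).eq]; group
    _ = x * u * y * (u⁻¹ * x⁻¹ * v) * y⁻¹ * v⁻¹ := by group
    _ = x * u * y * (v * (u⁻¹ * x⁻¹)) * y⁻¹ * v⁻¹ := by rw [← (cv (u⁻¹ * x⁻¹)).eq]
    _ = x * u * (y * v) * (u⁻¹ * x⁻¹) * (v⁻¹ * y⁻¹) := by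
        rw [← ((cv y⁻¹).inv_left).eq.symm]; group

end

/-- Cyclic Sylow subgroup: no `p`-part. -/
theorem noMultiplierAt_of_cyclic {G : Type u} [Group G] [Finite G] {p : ℕ} [Fact p.Prime]
    (S : Sylow p G) (hS : IsCyclic (S : Subgroup G)) : NoMultiplierAt p G := by
  refine noMultiplierAt_of_derived S fun Γ _ _ σ hσ P hP z _ hz _ => ?_
  obtain ⟨⟨g, hg⟩, hgen⟩ := hS.exists_generator
  have hg' : g ∈ P.map σ := hP ▸ hg
  obtain ⟨c, _, hcg⟩ := mem_map.mp hg'
  have hpow : ∀ x ∈ P, ∃ i : ℤ, σ x = σ (c ^ i) := fun x hx => by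
    have hx' : σ x ∈ (S : Subgroup G) := hP ▸ mem_map_of_mem σ hx
    obtain ⟨i, hi⟩ := mem_zpowers_iff.mp (hgen ⟨σ x, hx'⟩)
    refine ⟨i, ?_⟩
    rw [map_zpow, hcg]
    simpa using (congrArg Subtype.val hi).symm
  have hbot : ⁅P, P⁆ ≤ (⊥ : Subgroup Γ) := by
    rw [commutator_le]
    intro x hx y hy
    obtain ⟨i, hi⟩ := hpow x hx
    obtain ⟨j, hj⟩ := hpow y hy
    rw [mem_bot, commutator_congr hσ.2.1 hi hj, commutatorElement_eq_one_iff_mul_comm]
    exact Commute.zpow_zpow (Commute.refl c) i j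
  exact mem_bot.mp (hbot hz)

/-- Abelian Sylow subgroup `S`, such that only the trivial biadditive alternating form
with values in a commutative group is invariant under all the elements of `T`, each of which
normalises `S`: no `p`-part. -/
theorem noMultiplierAt_of_forms {G : Type u} [Group G] [Finite G] {p : ℕ} [Fact p.Prime]
    (S : Sylow p G) (hab : IsMulCommutative (S : Subgroup G)) (T : Set G)
    (hT : ∀ t ∈ T, ∀ s ∈ (S : Subgroup G), t * s * t⁻¹ ∈ (S : Subgroup G))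
    (hB : ∀ (M : Type u) [CommGroup M] (B : G → G → M),
      (∀ x ∈ (S : Subgroup G), ∀ y ∈ (S : Subgroup G), ∀ z ∈ (S : Subgroup G),
        B (x * y) z = B x z * B y z ∧ B z (x * y) = B z x * B z y) →
      (∀ x ∈ (S : Subgroup G), B x x = 1) →
      (∀ t ∈ T, ∀ x ∈ (S : Subgroup G), ∀ y ∈ (S : Subgroup G),
        B (t * x * t⁻¹) (t * y * t⁻¹) = B x y) →
      ∀ x ∈ (S : Subgroup G), ∀ y ∈ (S : Subgroup G), B x y = 1) :
    NoMultiplierAt p G := by
  refine noMultiplierAt_of_derived S fun Γ _ _ σ hσ P hP z _ hz _ => ?_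
  classical
  obtain ⟨r, hr⟩ := hσ.1.hasRightInverse
  have hker : ∀ x ∈ (S : Subgroup G), ∀ y ∈ (S : Subgroup G), ⁅r x, r y⁆ ∈ center Γ := by
    intro x hx y hy
    apply hσ.2.1
    rw [MonoidHom.mem_ker, map_commutatorElement, hr, hr, commutatorElement_eq_one_iff_mul_comm]
    exact congrArg Subtype.val (hab.is_comm.comm (⟨x, hx⟩ : (S : Subgroup G)) ⟨y, hy⟩)
  letI : CommGroup (center Γ) :=
    { (inferInstance : Group (center Γ)) with
      mul_comm := fun a b => Subtype.ext ((mem_center_iff.mp b.2 a)) }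
  let B : G → G → center Γ := fun x y =>
    if h : x ∈ (S : Subgroup G) ∧ y ∈ (S : Subgroup G) then ⟨⁅r x, r y⁆, hker x h.1 y h.2⟩ else 1
  have hBval : ∀ x ∈ (S : Subgroup G), ∀ y ∈ (S : Subgroup G), (B x y : Γ) = ⁅r x, r y⁆ := by
    intro x hx y hy
    simp [B, hx, hy]
  have hbil : ∀ x ∈ (S : Subgroup G), ∀ y ∈ (S : Subgroup G), ∀ z ∈ (S : Subgroup G),
      B (x * y) z = B x z * B y z ∧ B z (x * y) = B z x * B z y := by
    intro x hx y hy z hz
    have hxy := mul_mem hx hy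
    refine ⟨Subtype.ext ?_, Subtype.ext ?_⟩
    · rw [coe_mul, hBval _ hxy _ hz, hBval _ hx _ hz, hBval _ hy _ hz,
        commutator_congr hσ.2.1 (show σ (r (x * y)) = σ (r x * r y) by simp [hr _]) rfl]
      have hc := mem_center_iff.mp (hker y hy z hz) (r x)
      calc ⁅r x * r y, r z⁆ = (r x * ⁅r y, r z⁆) * (r z * (r x)⁻¹ * (r z)⁻¹) := by
            simp only [commutatorElement_def]; group
        _ = (⁅r y, r z⁆ * r x) * (r z * (r x)⁻¹ * (r z)⁻¹) := by rw [hc]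
        _ = ⁅r y, r z⁆ * ⁅r x, r z⁆ := by simp only [commutatorElement_def]; group
        _ = _ := (mem_center_iff.mp (hker y hy z hz) _).symm
    · rw [coe_mul, hBval _ hz _ hxy, hBval _ hz _ hx, hBval _ hz _ hy,
        commutator_congr hσ.2.1 rfl (show σ (r (x * y)) = σ (r x * r y) by simp [hr _])]
      have hc := mem_center_iff.mp (hker z hz y hy) (r x)
      calc ⁅r z, r x * r y⁆ = r z * r x * (r z)⁻¹ * (⁅r z, r y⁆ * (r x)⁻¹) := by
            simp only [commutatorElement_def]; group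
        _ = r z * r x * (r z)⁻¹ * ((r x)⁻¹ * ⁅r z, r y⁆) := by
            rw [← mem_center_iff.mp (hker z hz y hy) (r x)⁻¹]
        _ = _ := by simp only [commutatorElement_def]; group
  have halt : ∀ x ∈ (S : Subgroup G), B x x = 1 := fun x hx => Subtype.ext (by
    rw [hBval _ hx _ hx, commutatorElement_self]; rfl)
  have hinv : ∀ t ∈ T, ∀ x ∈ (S : Subgroup G), ∀ y ∈ (S : Subgroup G),
      B (t * x * t⁻¹) (t * y * t⁻¹) = B x y := by
    intro t ht x hx y hy
    refine Subtype.ext ?_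
    rw [hBval _ (hT t ht x hx) _ (hT t ht y hy), hBval _ hx _ hy,
      commutator_congr hσ.2.1 (show σ (r (t * x * t⁻¹)) = σ (r t * r x * (r t)⁻¹) by simp [hr _])
        (show σ (r (t * y * t⁻¹)) = σ (r t * r y * (r t)⁻¹) by simp [hr _]),
      show ⁅r t * r x * (r t)⁻¹, r t * r y * (r t)⁻¹⁆ = r t * ⁅r x, r y⁆ * (r t)⁻¹ by
        simp only [commutatorElement_def]; group,
      mem_center_iff.mp (hker x hx y hy) (r t), mul_inv_cancel_right]
  have h1 := hB (center Γ) B hbil halt hinv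
  have hbot : ⁅P, P⁆ ≤ (⊥ : Subgroup Γ) := by
    rw [commutator_le]
    intro x hx y hy
    have hx' : σ x ∈ (S : Subgroup G) := hP ▸ mem_map_of_mem σ hx
    have hy' : σ y ∈ (S : Subgroup G) := hP ▸ mem_map_of_mem σ hy
    rw [mem_bot, commutator_congr hσ.2.1 (hr (σ x)).symm (hr (σ y)).symm, ← hBval _ hx' _ hy',
      h1 _ hx' _ hy']
    rfl
  exact mem_bot.mp (hbot hz)

/-- Metacyclic Sylow subgroup `⟨a, b⟩` with `b a b⁻¹ = a ^ r`, `b ^ 2 = a ^ t`: no `p`-part
provided that `gcd (orderOf a, t, r + 1)` divides every `j` with `orderOf a ∣ (r - 1) j`.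
This covers generalized quaternion and semidihedral groups. -/
theorem noMultiplierAt_of_metacyclic {G : Type u} [Group G] [Finite G] {p : ℕ} [Fact p.Prime]
    (S : Sylow p G) (a b : G) (r t : ℤ) (ha : a ∈ (S : Subgroup G)) (hb : b ∈ (S : Subgroup G))
    (hgen : ∀ s ∈ (S : Subgroup G), ∃ i j : ℤ, s = a ^ i * b ^ j)
    (hr : b * a * b⁻¹ = a ^ r) (hb2 : b ^ 2 = a ^ t)
    (hd : ∀ j : ℤ, (orderOf a : ℤ) ∣ (r - 1) * j →
      ∀ k : ℤ, k ∣ (orderOf a : ℤ) → k ∣ t → k ∣ r + 1 → k ∣ j) :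
    NoMultiplierAt p G := by
  refine noMultiplierAt_of_derived S fun Γ _ _ σ hσ P hP z hzk hz _ => ?_
  classical
  obtain ⟨A, hAP, hA⟩ := mem_map.mp (hP ▸ ha : a ∈ P.map σ)
  obtain ⟨C, hCP, hC⟩ := mem_map.mp (hP ▸ hb : b ∈ P.map σ)
  set w : Γ := ⁅C, A⁆ with hw
  have hwA : Commute w A := by
    have hker : A ^ (-r) * (C * A * C⁻¹) ∈ σ.ker := by
      simp only [MonoidHom.mem_ker, map_mul, map_zpow, map_inv, hA, hC, hr]; group
    have h1 : w = A ^ r * (A ^ (-r) * (C * A * C⁻¹)) * A⁻¹ := by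
      rw [hw, commutatorElement_def]; group
    rw [h1]
    exact ((Commute.refl A).zpow_left r |>.mul_left (ker_commute hσ.2.1 hker A)).mul_left
      (Commute.refl A).inv_left
  have hCA : C * A * C⁻¹ = w * A := by rw [hw, commutatorElement_def]; group
  have hconj : ∀ i : ℤ, C * A ^ i * C⁻¹ = w ^ i * A ^ i := fun i => by
    have := map_zpow (MulAut.conj C) A i
    simp only [MulAut.conj_apply] at this
    rw [this, hCA, hwA.mul_zpow]
  have hfix : ∀ i : ℤ, Commute (A ^ i) C → w ^ i = 1 := fun i hi => by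
    have := hconj i
    rw [← hi.eq, mul_inv_cancel_right] at this
    simpa using this
  have hn : w ^ (orderOf a : ℤ) = 1 := hfix _ (ker_commute hσ.2.1
    (by simp [MonoidHom.mem_ker, hA, pow_orderOf_eq_one]) C)
  have hC2 : A ^ (-t) * C ^ (2 : ℤ) ∈ σ.ker := by
    simp only [MonoidHom.mem_ker, map_mul, map_zpow, hA, hC]
    rw [show b ^ (2 : ℤ) = b ^ 2 by norm_cast, hb2]; group
  have ht : w ^ t = 1 := hfix t <| by
    have h1 : A ^ t = C ^ (2 : ℤ) * (A ^ (-t) * C ^ (2 : ℤ))⁻¹ := by group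
    rw [h1]
    exact ((Commute.refl C).zpow_left 2).mul_left ((ker_commute hσ.2.1 hC2 C).inv_left)
  have hwker : A ^ (-(r - 1)) * w ∈ σ.ker := by
    simp only [MonoidHom.mem_ker, map_mul, map_zpow, map_inv, hA, hw, hC,
      commutatorElement_def, hr]
    group
  have hwC : C * w * C⁻¹ = w ^ r := by
    have h1 : C * (A ^ (-(r - 1)) * w) * C⁻¹ = A ^ (-(r - 1)) * w := by
      rw [(ker_commute hσ.2.1 hwker C).symm.eq, mul_inv_cancel_right]
    calc C * w * C⁻¹ = (C * A ^ (r - 1) * C⁻¹) * (C * (A ^ (-(r - 1)) * w) * C⁻¹) := by group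
      _ = w ^ (r - 1) * A ^ (r - 1) * (A ^ (-(r - 1)) * w) := by rw [hconj, h1]
      _ = _ := by group
  have hr1 : w ^ (r + 1) = 1 := by
    have hc : Commute (C ^ (2 : ℤ)) A := by
      have h1 : C ^ (2 : ℤ) = A ^ t * (A ^ (-t) * C ^ (2 : ℤ)) := by group
      rw [h1]
      exact ((Commute.refl A).zpow_left t).mul_left (ker_commute hσ.2.1 hC2 A)
    have h2 : C * (C * A * C⁻¹) * C⁻¹ = A := by
      calc C * (C * A * C⁻¹) * C⁻¹ = C ^ (2 : ℤ) * A * (C ^ (2 : ℤ))⁻¹ := by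
            rw [zpow_ofNat, pow_two]; group
        _ = A := by rw [hc.eq, mul_inv_cancel_right]
    rw [hCA, show C * (w * A) * C⁻¹ = (C * w * C⁻¹) * (C * A * C⁻¹) by group, hwC, hCA,
      ← mul_assoc, mul_eq_right] at h2
    rw [zpow_add_one]; exact h2
  set W : Subgroup Γ := zpowers w
  have hWn : ∀ x ∈ W, A * x * A⁻¹ ∈ W := fun x hx => by
    obtain ⟨k, rfl⟩ := mem_zpowers_iff.mp hx
    rw [((hwA.zpow_left k).symm).eq, mul_inv_cancel_right]; exact zpow_mem (mem_zpowers w) k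
  have hWC : ∀ x ∈ W, C * x * C⁻¹ ∈ W := fun x hx => by
    obtain ⟨k, rfl⟩ := mem_zpowers_iff.mp hx
    have := map_zpow (MulAut.conj C) w k
    simp only [MulAut.conj_apply] at this
    rw [this, hwC]; exact zpow_mem (zpow_mem (mem_zpowers w) r) k
  have hN : ∀ g : Γ, (∀ x ∈ W, g * x * g⁻¹ ∈ W) → g ∈ Subgroup.normalizer (W : Set Γ) := fun g hg => by
    apply mem_normalizer_iff.mpr
    have hm : W.map (MulAut.conj g).toMonoidHom = W := by
      refine eq_of_le_of_card_ge (map_le_iff_le_comap.mpr fun x hx => hg x hx) ?_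
      rw [card_map_of_injective (MulAut.conj g).injective]
    intro x
    refine ⟨hg x, fun hx => ?_⟩
    rw [← hm] at hx
    obtain ⟨y, hy, hyx⟩ := mem_map.mp hx
    have : y = x := (MulAut.conj g).injective hyx
    exact this ▸ hy
  have hdec : ∀ x ∈ P, ∃ i j : ℤ, ∃ u ∈ σ.ker, x = A ^ i * C ^ j * u := fun x hx => by
    obtain ⟨i, j, hij⟩ := hgen (σ x) (hP ▸ mem_map_of_mem σ hx)
    refine ⟨i, j, (A ^ i * C ^ j)⁻¹ * x, ?_, by group⟩
    simp [MonoidHom.mem_ker, hA, hC, hij]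
  have hder : ⁅P, P⁆ ≤ W := by
    rw [commutator_le]
    intro x hx y hy
    obtain ⟨i, j, u, hu, rfl⟩ := hdec x hx
    obtain ⟨k, l, v, hv, rfl⟩ := hdec y hy
    rw [commutator_congr hσ.2.1 (show σ (A ^ i * C ^ j * u) = σ (A ^ i * C ^ j) by
        simp [MonoidHom.mem_ker.mp hu])
      (show σ (A ^ k * C ^ l * v) = σ (A ^ k * C ^ l) by simp [MonoidHom.mem_ker.mp hv])]
    let N := Subgroup.normalizer (W : Set Γ)
    let π := QuotientGroup.mk' (W.subgroupOf N)
    let A' : N := ⟨A, hN A hWn⟩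
    let C' : N := ⟨C, hN C hWC⟩
    have hcomm : Commute (π A') (π C') := by
      apply Commute.symm
      rw [← commutatorElement_eq_one_iff_commute, ← map_commutatorElement]
      refine (QuotientGroup.eq_one_iff _).mpr ?_
      rw [mem_subgroupOf]
      exact (show ((⁅C', A'⁆ : N) : Γ) = w from rfl) ▸ mem_zpowers w
    have hAA : Commute (π A' ^ i * π C' ^ j) (π A' ^ k * π C' ^ l) :=
      ((Commute.zpow_zpow (Commute.refl _) i k).mul_right (hcomm.zpow_zpow i l)).mul_left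
        ((hcomm.symm.zpow_zpow j k).mul_right (Commute.zpow_zpow (Commute.refl _) j l))
    have h0 : π ⁅A' ^ i * C' ^ j, A' ^ k * C' ^ l⁆ = 1 := by
      simp only [map_commutatorElement, map_mul, map_zpow]
      exact commutatorElement_eq_one_iff_commute.mpr hAA
    have h1 : ((⁅A' ^ i * C' ^ j, A' ^ k * C' ^ l⁆ : N) : Γ) ∈ W :=
      mem_subgroupOf.mp ((QuotientGroup.eq_one_iff _).mp h0)
    exact h1
  obtain ⟨j, rfl⟩ := mem_zpowers_iff.mp (hder hz)
  have hdiv : (orderOf a : ℤ) ∣ (r - 1) * j := by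
    refine orderOf_dvd_iff_zpow_eq_one.mpr ?_
    have hk : σ (w ^ j) = 1 := hzk
    rw [map_zpow, hw, map_commutatorElement, hA, hC, commutatorElement_def, hr] at hk
    rw [zpow_mul, zpow_sub_one]; exact hk
  refine orderOf_dvd_iff_zpow_eq_one.mp ?_
  exact hd j hdiv _ (orderOf_dvd_iff_zpow_eq_one.mpr hn) (orderOf_dvd_iff_zpow_eq_one.mpr ht)
    (orderOf_dvd_iff_zpow_eq_one.mpr hr1)

end CfsgLib.Schur
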