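/-
Alternating forms on the additive group of a finite field that are invariant under multiplication
by squares of units (Steinberg's lemma for the Schur multiplier of SL₂).
-/
import Mathlib.FieldTheory.Finite.Extension
import Mathlib.FieldTheory.Finite.GaloisField
import Mathlib.FieldTheory.Normal.Basic
import Mathlib.Tactic.Ring
import Mathlib.Tactic.Linarith
import Mathlib.Tactic.IntervalCases

set_option autoImplicit false

namespace CfsgLib.Schur

open Polynomial

universe u v

/-- A biadditive alternating form on a finite field, with values in a commutative group, that is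
invariant under multiplication by all non-zero squares is trivial, unless `q = 4` or `q = 9`. -/
theorem torus_form_trivial {F : Type u} [Field F] [Fintype F] (h4 : Fintype.card F ≠ 4)
    (h9 : Fintype.card F ≠ 9) {M : Type v} [CommGroup M] (B : F → F → M)
    (hl : ∀ x y z, B (x + y) z = B x z * B y z) (hr : ∀ x y z, B z (x + y) = B z x * B z y)
    (halt : ∀ x, B x x = 1)
    (hinv : ∀ a : Fˣ, ∀ x y, B (a ^ 2 * x) (a ^ 2 * y) = B x y) (x y : F) : B x y = 1 := by
  classical
  obtain ⟨p, hchar⟩ := CharP.exists F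
  obtain ⟨n, hp, hq⟩ := FiniteField.card F p
  have : Fact p.Prime := ⟨hp⟩
  let _ : Algebra (ZMod p) F := ZMod.algebra F p
  let L : F → F →+ Additive M := fun z =>
    AddMonoidHom.mk' (fun w => Additive.ofMul (B w z)) (fun a b => congrArg Additive.ofMul (hl a b z))
  let R : F → F →+ Additive M := fun z =>
    AddMonoidHom.mk' (fun w => Additive.ofMul (B z w)) (fun a b => congrArg Additive.ofMul (hr a b z))
  rcases Nat.lt_or_ge (n : ℕ) 2 with hn | hn
  · -- prime field
    have hn1 : (n : ℕ) = 1 := by have := n.pos; omega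
    rw [hn1, pow_one] at hq
    have hbij : Function.Bijective (algebraMap (ZMod p) F) := by
      rw [Fintype.bijective_iff_injective_and_card]
      exact ⟨(algebraMap (ZMod p) F).injective, by rw [ZMod.card, hq]⟩
    obtain ⟨a, rfl⟩ := hbij.2 x
    obtain ⟨b, rfl⟩ := hbij.2 y
    obtain ⟨i, rfl⟩ := ZMod.natCast_zmod_surjective a
    obtain ⟨j, rfl⟩ := ZMod.natCast_zmod_surjective b
    rw [map_natCast, map_natCast]
    apply Additive.ofMul.injective
    have h1 : Additive.ofMul (B (i : F) (j : F)) = i • Additive.ofMul (B (1 : F) (j : F)) := by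
      have := (L (j : F)).map_nsmul i 1
      simpa [L] using this
    have h2 : Additive.ofMul (B (1 : F) (j : F)) = j • Additive.ofMul (B (1 : F) (1 : F)) := by
      have := (R 1).map_nsmul j 1
      simpa [R] using this
    rw [h1, h2, halt]; simp
  obtain ⟨g, hg⟩ := IsCyclic.exists_generator (α := Fˣ)
  set c : F := ((g ^ 2 : Fˣ) : F) with hc
  have hc0 : c ≠ 0 := Units.ne_zero _
  have hinv' : ∀ (k : ℕ) (x y : F), B (c ^ k * x) y = B x (c⁻¹ ^ k * y) := by
    intro k x y
    have h := hinv (g ^ k) x (c⁻¹ ^ k * y)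
    have e : (((g ^ k : Fˣ) : F)) ^ 2 = c ^ k := by
      rw [hc]; push_cast; rw [← pow_mul, ← pow_mul, mul_comm]
    rw [e, inv_pow, ← mul_assoc (c ^ k), mul_inv_cancel₀ (pow_ne_zero _ hc0), one_mul] at h
    rw [inv_pow]; exact h
  have hpoly : ∀ (P : (ZMod p)[X]) (x y : F),
      B (aeval c P * x) y = B x (aeval c⁻¹ P * y) := by
    intro P
    induction P using Polynomial.induction_on' with
    | add P Q hP hQ =>
      intro x y
      rw [map_add, map_add, add_mul, add_mul, hl, hr, hP, hQ]
    | monomial k a =>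
      intro x y
      obtain ⟨i, rfl⟩ := ZMod.natCast_zmod_surjective a
      rw [aeval_monomial, aeval_monomial, map_natCast]
      apply Additive.ofMul.injective
      have h1 := (L y).map_nsmul i (c ^ k * x)
      have h2 := (R x).map_nsmul i (c⁻¹ ^ k * y)
      simp only [L, R, AddMonoidHom.mk'_apply, nsmul_eq_mul] at h1 h2
      rw [mul_assoc, mul_assoc, h1, h2, hinv']
  by_cases hroot : aeval c⁻¹ (minpoly (ZMod p) c) = 0
  swap
  · have h := hpoly (minpoly (ZMod p) c) x ((aeval c⁻¹ (minpoly (ZMod p) c))⁻¹ * y)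
    rw [minpoly.aeval, zero_mul, ← mul_assoc, mul_inv_cancel₀ hroot, one_mul] at h
    rw [← h]
    have := (L ((aeval c⁻¹ (minpoly (ZMod p) c))⁻¹ * y)).map_zero
    simpa [L] using this
  exfalso
  obtain ⟨s, hs⟩ := minpoly.exists_algEquiv_of_root
    (Algebra.IsAlgebraic.isAlgebraic c) hroot
  obtain ⟨i, hi⟩ := FiniteField.exists_forall_apply_eq_pow (ZMod p) p F s
  rw [hi, Nat.card_zmod] at hs
  have hqpos : ∀ z : F, ∀ k : ℕ, z ^ p ^ ((n : ℕ) * k) = z := fun z k => by
    rw [pow_mul, ← hq]; exact FiniteField.pow_card_pow k z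
  have hs' : c ^ p ^ (i % (n : ℕ)) = c⁻¹ := by
    have h : c ^ p ^ i = (c ^ p ^ (i % (n : ℕ))) ^ p ^ ((n : ℕ) * (i / (n : ℕ))) := by
      rw [← pow_mul, ← pow_add, Nat.mod_add_div]
    rw [hqpos] at h
    rw [inv_pow] at hs
    exact h ▸ inv_eq_iff_eq_inv.mp hs
  set j := i % (n : ℕ) with hj
  have hjn : j < (n : ℕ) := Nat.mod_lt _ n.pos
  have hone : c ^ (p ^ j + 1) = 1 := by rw [pow_succ, hs', inv_mul_cancel₀ hc0]
  have hg1 : g ^ (2 * (p ^ j + 1)) = 1 := by
    apply Units.ext
    rw [pow_mul]
    simpa [hc] using hone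
  have hord : p ^ (n : ℕ) - 1 ∣ 2 * (p ^ j + 1) := by
    have := orderOf_dvd_of_pow_eq_one hg1
    rwa [orderOf_eq_card_of_forall_mem_zpowers hg, Nat.card_units, Nat.card_eq_fintype_card,
      hq] at this
  have hjle : p ^ j ≤ p ^ ((n : ℕ) - 1) := Nat.pow_le_pow_right hp.pos (by omega)
  have hpn : p ^ (n : ℕ) = p * p ^ ((n : ℕ) - 1) := by
    rw [← pow_succ', Nat.sub_add_cancel n.pos]
  have hbig : p ≤ p ^ ((n : ℕ) - 1) := Nat.le_self_pow (by omega) p
  rw [hpn] at hord hq
  set Q := p ^ ((n : ℕ) - 1) with hQ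
  set J := p ^ j with hJ
  rcases Nat.lt_or_ge p 4 with hp4 | hp4
  · have hp2 := hp.two_le
    interval_cases p
    · -- p = 2
      have hcop : Nat.Coprime (2 * Q - 1) 2 := by
        rw [Nat.coprime_two_right, Nat.odd_iff]; omega
      have := Nat.le_of_dvd (by omega) (hcop.dvd_of_dvd_mul_left hord)
      have : Q = 2 := by omega
      omega
    · -- p = 3
      have := Nat.le_of_dvd (by omega) hord
      have : Q = 3 := by omega
      omega
  · have := Nat.le_of_dvd (by omega) hord
    have : 4 * Q ≤ p * Q := Nat.mul_le_mul_right _ hp4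
    omega

end CfsgLib.Schur
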