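/-
The Schur multiplier of SL₂(q) is trivial for q ≠ 4, 9.
-/
import Cfsg.Agent.Lib.Schur.Criteria
import Cfsg.Agent.Lib.Schur.TorusForms
import Cfsg.Agent.Classical.SLBasic
import Mathlib.LinearAlgebra.Matrix.SpecialLinearGroup
import Mathlib.RingTheory.Norm.Basic
import Mathlib.RingTheory.IntegralDomain
import Mathlib.Tactic.LinearCombination

set_option autoImplicit false

namespace CfsgLib.Schur

open Subgroup Cfsg
open scoped Matrix

universe u

section

variable {G : Type u} [Group G] [Finite G]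

/-- An element whose cyclic group has index prime to `p` gives cyclic Sylow `p`-subgroups. -/
theorem noMultiplierAt_of_cyclic_element {p : ℕ} [Fact p.Prime] (c : G)
    (h : ¬ p ∣ (zpowers c).index) : NoMultiplierAt p G := by
  obtain ⟨Q⟩ : Nonempty (Sylow p (zpowers c)) := inferInstance
  let S0 : Subgroup G := (Q : Subgroup (zpowers c)).map (zpowers c).subtype
  have hcard : Nat.card S0 = p ^ (Nat.card G).factorization p := by
    rw [card_map_of_injective (subtype_injective _), Sylow.card_eq_multiplicity Q,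
      ← (zpowers c).card_mul_index, Nat.factorization_mul Nat.card_pos.ne' index_ne_zero_of_finite,
      Finsupp.add_apply, Nat.factorization_eq_zero_of_not_dvd h, add_zero]
  have hle : S0 ≤ zpowers c := map_subtype_le _
  have : IsCyclic (zpowers c) := inferInstance
  refine noMultiplierAt_of_cyclic (Sylow.ofCard S0 hcard) ?_
  show IsCyclic S0
  exact isCyclic_of_injective (Subgroup.inclusion hle) (Subgroup.inclusion_injective hle)

/-- An element inverted by `w` with `w ^ 2` its power of order two, of full 2-part: generalized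
quaternion Sylow 2-subgroups, so no 2-part. -/
theorem noMultiplierAt_two_of_inverted (c w : G) (h d : ℕ) (hc : orderOf c = 2 * h)
    (hw : w * c * w⁻¹ = c⁻¹) (hw2 : w ^ 2 = c ^ h) (hd : ¬ 2 ∣ d)
    (hG : Nat.card G = 2 * orderOf c * d) : NoMultiplierAt 2 G := by
  have hm : orderOf c ≠ 0 := (orderOf_pos c).ne'
  obtain ⟨k, o, ho, hko⟩ := Nat.exists_eq_pow_mul_and_not_dvd hm 2 (by norm_num)
  have hk : k ≠ 0 := by
    rintro rfl; rw [pow_zero, one_mul] at hko; exact ho (hko ▸ hc ▸ dvd_mul_right 2 h)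
  obtain ⟨k', rfl⟩ : ∃ k', k = k' + 1 := ⟨k - 1, by omega⟩
  have hh : h = 2 ^ k' * o := by
    rw [hc, pow_succ] at hko
    have : 2 * h = 2 * (2 ^ k' * o) := by rw [hko]; ring
    omega
  set a := c ^ o with ha
  have hoa : orderOf a = 2 ^ (k' + 1) := by
    have ho0 : o ≠ 0 := by rintro rfl; exact ho (dvd_zero _)
    rw [ha, orderOf_pow' c ho0, hko, Nat.gcd_mul_left_left, Nat.mul_div_cancel _ (by omega)]
  have hwa : w * a * w⁻¹ = a⁻¹ := by
    rw [ha, ← conj_pow, hw, inv_pow]
  have hw2a : w ^ 2 = a ^ (2 ^ k') := by rw [hw2, hh, ha, ← pow_mul, mul_comm]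
  have hwnot : w ∉ zpowers c := by
    intro hmem
    obtain ⟨i, rfl⟩ := mem_zpowers_iff.mp hmem
    rw [(Commute.zpow_self c i).eq, mul_inv_cancel_right] at hw
    have h2 : c ^ 2 = 1 := by rw [pow_two]; nth_rewrite 2 [hw]; group
    have hle := orderOf_le_of_pow_eq_one (by norm_num) h2
    have hh1 : h = 1 := by omega
    rw [hh1, pow_one, ← zpow_natCast (c ^ i), ← zpow_mul, mul_comm, zpow_mul] at hw2
    norm_num [h2] at hw2
    rw [← hw2, orderOf_one] at hc
    omega
  have hwna : w ∉ zpowers a := fun hmem => hwnot (zpowers_le.mpr (pow_mem (mem_zpowers c) o) hmem)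
  let A := zpowers a
  have hconj : ∀ x ∈ A, w * x * w⁻¹ = x⁻¹ := fun x hx => by
    obtain ⟨i, rfl⟩ := mem_zpowers_iff.mp hx
    have := map_zpow (MulAut.conj w) a i
    simp only [MulAut.conj_apply] at this
    rw [this, hwa, inv_zpow]
  have hwx : ∀ x ∈ A, w * x = x⁻¹ * w := fun x hx => by
    rw [← hconj x hx]; group
  have hw2A : w ^ 2 ∈ A := hw2a ▸ pow_mem (mem_zpowers a) _
  let H : Subgroup G :=
    { carrier := {g | ∃ x ∈ A, ∃ e : Bool, g = x * cond e w 1}
      mul_mem' := by
        rintro _ _ ⟨x, hx, e, rfl⟩ ⟨y, hy, f, rfl⟩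
        cases e
        · exact ⟨x * y, mul_mem hx hy, f, by simp [mul_assoc]⟩
        · cases f
          · exact ⟨x * y⁻¹, mul_mem hx (inv_mem hy), true, by
              simp only [cond_true, cond_false, mul_one]; rw [mul_assoc, hwx y hy, mul_assoc]⟩
          · exact ⟨x * y⁻¹ * w ^ 2, mul_mem (mul_mem hx (inv_mem hy)) hw2A, false, by
              simp only [cond_true, cond_false, mul_one]
              rw [mul_assoc x, ← mul_assoc w y, hwx y hy, pow_two]; group⟩
      one_mem' := ⟨1, one_mem A, false, by simp⟩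
      inv_mem' := by
        rintro _ ⟨x, hx, e, rfl⟩
        cases e
        · exact ⟨x⁻¹, inv_mem hx, false, by simp⟩
        · refine ⟨(w ^ 2)⁻¹ * x, mul_mem (inv_mem hw2A) hx, true, ?_⟩
          simp only [cond_true]
          have h1 : w * x * w = x⁻¹ * w ^ 2 := by rw [hwx x hx, pow_two, mul_assoc]
          refine inv_eq_of_mul_eq_one_right ?_
          rw [show x * w * ((w ^ 2)⁻¹ * x * w) = x * w⁻¹ * x * w by rw [pow_two]; group]
          have h2 := hwx _ (inv_mem hx)
          rw [inv_inv] at h2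
          have : w⁻¹ * x = x⁻¹ * w⁻¹ := by
            rw [inv_mul_eq_iff_eq_mul, ← mul_assoc, h2]; group
          rw [mul_assoc x, this]; group }
  have hcard : Nat.card H = 2 ^ (Nat.card G).factorization 2 := by
    have hbij : Function.Bijective (fun p : A × Bool =>
        (⟨(p.1 : G) * cond p.2 w 1, _, p.1.2, p.2, rfl⟩ : H)) := by
      refine ⟨?_, ?_⟩
      · rintro ⟨⟨x, hx⟩, e⟩ ⟨⟨y, hy⟩, f⟩ he
        have he' : x * cond e w 1 = y * cond f w 1 := congrArg Subtype.val he
        cases e <;> cases f <;> simp only [cond_true, cond_false, mul_one] at he'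
        · subst he'; rfl
        · exact absurd (show w ∈ A by
            rw [show w = y⁻¹ * x by rw [he']; group]; exact mul_mem (inv_mem hy) hx) hwna
        · exact absurd (show w ∈ A by
            rw [show w = x⁻¹ * y by rw [← he']; group]; exact mul_mem (inv_mem hx) hy) hwna
        · obtain rfl := mul_right_cancel he'; rfl
      · rintro ⟨_, x, hx, e, rfl⟩
        exact ⟨(⟨x, hx⟩, e), rfl⟩
    rw [← Nat.card_eq_of_bijective _ hbij, Nat.card_prod, Nat.card_zpowers, hoa,
      Nat.card_eq_fintype_card, Fintype.card_bool]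
    have hG' : Nat.card G = 2 ^ (k' + 2) * (o * d) := by rw [hG, hko]; ring
    have hod : ¬ 2 ∣ o * d := fun hh => by
      rcases Nat.prime_two.dvd_mul.mp hh with h1 | h1
      · exact ho h1
      · exact hd h1
    rw [hG', Nat.factorization_mul (pow_ne_zero _ two_ne_zero) (fun h0 => hod (by rw [h0]; exact dvd_zero 2)),
      Finsupp.add_apply, Nat.Prime.factorization_pow Nat.prime_two, Finsupp.single_eq_same,
      Nat.factorization_eq_zero_of_not_dvd hod, add_zero, ← pow_succ]
  refine noMultiplierAt_of_metacyclic (Sylow.ofCard H hcard) a w (-1) (2 ^ k' : ℕ)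
    ⟨a, mem_zpowers a, false, by simp⟩ ⟨1, one_mem A, true, by simp⟩ ?_
    (by rw [hwa, zpow_neg_one]) (by rw [hw2a, zpow_natCast]) ?_
  · rintro _ ⟨x, hx, e, rfl⟩
    obtain ⟨i, rfl⟩ := mem_zpowers_iff.mp hx
    exact ⟨i, if e then 1 else 0, by cases e <;> simp⟩
  · intro j hj K _ hK _
    refine hK.trans ?_
    rw [hoa, Nat.cast_pow, pow_succ] at hj
    have h1 : ((2 : ℕ) : ℤ) ^ k' * 2 ∣ -(j * 2) := by
      rw [show -(j * 2) = (-1 - 1) * j by ring]; exact hj
    rw [dvd_neg] at h1
    push_cast at h1 ⊢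
    exact (mul_dvd_mul_iff_right two_ne_zero).mp h1

end

section

variable {F : Type u} [Field F]

/-- The diagonal torus homomorphism. -/
def slDiag : Fˣ →* Matrix.SpecialLinearGroup (Fin 2) F where
  toFun a := ⟨!![(a : F), 0; 0, ((a⁻¹ : Fˣ) : F)], by simp [Matrix.det_fin_two]⟩
  map_one' := Subtype.ext (by simp [Matrix.one_fin_two])
  map_mul' a b := Subtype.ext <| by
    show (!![((a * b : Fˣ) : F), 0; 0, (((a * b)⁻¹ : Fˣ) : F)] : Matrix (Fin 2) (Fin 2) F) =
      !![(a : F), 0; 0, ((a⁻¹ : Fˣ) : F)] * !![(b : F), 0; 0, ((b⁻¹ : Fˣ) : F)]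
    simp [mul_comm]

/-- The root subgroup homomorphism. -/
def slUnip : Multiplicative F →* Matrix.SpecialLinearGroup (Fin 2) F where
  toFun t := ⟨!![1, Multiplicative.toAdd t; 0, 1], by simp [Matrix.det_fin_two]⟩
  map_one' := Subtype.ext (by simp [Matrix.one_fin_two])
  map_mul' a b := Subtype.ext <| by
    show (!![1, Multiplicative.toAdd (a * b); 0, 1] : Matrix (Fin 2) (Fin 2) F) =
      !![1, Multiplicative.toAdd a; 0, 1] * !![1, Multiplicative.toAdd b; 0, 1]
    simp [add_comm]

theorem slDiag_coe (a : Fˣ) :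
    (slDiag a : Matrix (Fin 2) (Fin 2) F) = !![(a : F), 0; 0, ((a⁻¹ : Fˣ) : F)] := rfl

theorem slUnip_coe (t : Multiplicative F) :
    (slUnip t : Matrix (Fin 2) (Fin 2) F) = !![1, Multiplicative.toAdd t; 0, 1] := rfl

theorem slUnip_injective : Function.Injective (slUnip (F := F)) := fun a b h => by
  have := congrFun (congrFun (congrArg Subtype.val h) 0) 1
  rw [slUnip_coe, slUnip_coe] at this
  simpa using this

theorem slDiag_injective : Function.Injective (slDiag (F := F)) := fun a b h => by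
  have := congrFun (congrFun (congrArg Subtype.val h) 0) 0
  rw [slDiag_coe, slDiag_coe] at this
  exact Units.ext (by simpa using this)

theorem slDiag_conj_slUnip (a : Fˣ) (t : F) :
    slDiag a * slUnip (Multiplicative.ofAdd t) * (slDiag a)⁻¹ =
      slUnip (Multiplicative.ofAdd ((a : F) ^ 2 * t)) := by
  rw [mul_inv_eq_iff_eq_mul]
  refine Subtype.ext ?_
  simp only [Matrix.SpecialLinearGroup.coe_mul, slDiag_coe, slUnip_coe, toAdd_ofAdd]
  ext i j
  fin_cases i <;> fin_cases j <;> simp <;> field_simp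

variable [Fintype F]

theorem natCard_slTwo :
    Nat.card (Matrix.SpecialLinearGroup (Fin 2) F) =
      Fintype.card F * ((Fintype.card F - 1) * (Fintype.card F + 1)) := by
  have h := Cfsg.Agent.Classical.card_sl_mul (F := F) 2 (by norm_num)
  have hq := Fintype.one_lt_card (α := F)
  obtain ⟨r, hr⟩ : ∃ r, Fintype.card F = r + 1 := ⟨_, (Nat.sub_add_cancel (le_of_lt hq)).symm⟩
  simp only [Fin.prod_univ_two, Fin.val_zero, Fin.val_one, pow_zero, pow_one, hr,
    Nat.add_sub_cancel] at h ⊢
  rw [show (r + 1) ^ 2 - 1 = r * (r + 2) by rw [show (r + 1) ^ 2 = r * (r + 2) + 1 by ring]; omega,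
    show (r + 1) ^ 2 - (r + 1) = r * (r + 1) by
      rw [show (r + 1) ^ 2 = r * (r + 1) + (r + 1) by ring]; omega] at h
  refine Nat.eq_of_mul_eq_mul_left (by omega : 0 < r) ?_
  rw [h]; ring

/-- A generator of the split torus. -/
theorem exists_split_torus : ∃ g : Fˣ, orderOf (slDiag g) = Fintype.card F - 1 := by
  obtain ⟨g, hg⟩ := IsCyclic.exists_generator (α := Fˣ)
  refine ⟨g, ?_⟩
  rw [orderOf_injective _ slDiag_injective, orderOf_eq_card_of_forall_mem_zpowers hg,
    Cfsg.Agent.Classical.natCard_units_field]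

/-- An element of order `q + 1`; if `q` is odd, inverted by some `w` with `w ^ 2 = -1` its
middle power. -/
theorem exists_nonsplit_torus : ∃ c : Matrix.SpecialLinearGroup (Fin 2) F,
    orderOf c = Fintype.card F + 1 ∧
      ((2 : F) ≠ 0 → ∀ h : ℕ, Fintype.card F + 1 = 2 * h →
        ∃ w, w * c * w⁻¹ = c⁻¹ ∧ w ^ 2 = c ^ h) := by
  classical
  obtain ⟨p, hchar⟩ := CharP.exists F
  have hp : p.Prime := CharP.char_is_prime F p
  have : Fact p.Prime := ⟨hp⟩
  let E := FiniteField.Extension F p 2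
  let q := Fintype.card F
  have hq : 1 < q := Fintype.one_lt_card
  have hE : Nat.card E = q ^ 2 := by
    rw [FiniteField.natCard_extension, Nat.card_eq_fintype_card]
  let N : Eˣ →* Fˣ := Units.map (Algebra.norm F (S := E))
  have hNs : Function.Surjective N := FiniteField.unitsMap_norm_surjective F E
  have hK : Nat.card N.ker = q + 1 := by
    have h := N.ker.card_mul_index
    rw [index_ker, MonoidHom.range_eq_top.2 hNs, card_top, Nat.card_units, Nat.card_units, hE,
      Nat.card_eq_fintype_card (α := F)] at h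
    refine Nat.eq_of_mul_eq_mul_right (show 0 < q - 1 by omega) (h.trans ?_)
    obtain ⟨r, hr⟩ : ∃ r, q = r + 1 := ⟨q - 1, by omega⟩
    rw [hr, Nat.add_sub_cancel, show (r + 1) ^ 2 = (r + 1 + 1) * r + 1 by ring]; omega
  obtain ⟨⟨g, hgK⟩, hg⟩ := IsCyclic.exists_generator (α := N.ker)
  have hog : orderOf g = q + 1 := by
    rw [← Subgroup.orderOf_mk g hgK, orderOf_eq_card_of_forall_mem_zpowers hg, hK]
  have hpow : ∀ x : E, algebraMap F E (Algebra.norm F x) = x ^ (q + 1) := fun x => by
    rw [FiniteField.algebraMap_norm_eq_pow, hE, Nat.card_eq_fintype_card]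
    congr 1
    obtain ⟨r, hr⟩ : ∃ r, q = r + 1 := ⟨q - 1, by omega⟩
    show (q ^ 2 - 1) / (q - 1) = q + 1
    rw [hr, Nat.add_sub_cancel, show (r + 1) ^ 2 = (r + 1 + 1) * r + 1 by ring,
      Nat.add_sub_cancel, Nat.mul_div_cancel _ (by omega)]
  let φ : E →ₐ[F] E := FiniteField.frobeniusAlgHom F E
  have hφ : ∀ x : E, φ x = x ^ q := fun x => FiniteField.coe_frobeniusAlgHom F E ▸ rfl
  have hrank : Module.finrank F E = 2 := FiniteField.finrank_extension F p 2
  have key : ∀ (b : Module.Basis (Fin 2) F E), ∃ ψ : N.ker →* Matrix.SpecialLinearGroup (Fin 2) F,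
      Function.Injective ψ ∧
        ∀ x : N.ker, (ψ x : Matrix (Fin 2) (Fin 2) F) = Algebra.leftMulMatrix b ((x : Eˣ) : E) := by
    intro b
    have hdet : ∀ x : N.ker, (Algebra.leftMulMatrix b ((x : Eˣ) : E)).det = 1 := fun x => by
      rw [← Algebra.norm_eq_matrix_det b]
      exact congrArg Units.val (MonoidHom.mem_ker.mp x.2)
    refine ⟨MonoidHom.mk' (fun x => ⟨_, hdet x⟩) (fun x y => Subtype.ext (map_mul _ _ _)), ?_,
      fun _ => rfl⟩
    intro x y h
    exact Subtype.ext (Units.ext (Algebra.leftMulMatrix_injective b (congrArg Subtype.val h)))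
  by_cases h2 : (2 : F) = 0
  · obtain ⟨ψ, hinj, -⟩ := key (Module.finBasisOfFinrankEq F E hrank)
    exact ⟨ψ ⟨g, hgK⟩, by rw [orderOf_injective _ hinj, Subgroup.orderOf_mk, hog],
      fun h => absurd h2 h⟩
  -- the basis `1, θ` with `φ θ = -θ`
  have hφ2 : ∀ x : E, φ (φ x) = x := fun x => by
    rw [hφ, hφ, ← pow_mul, ← pow_two, ← hE]; let := Fintype.ofFinite E; rw [Nat.card_eq_fintype_card, FiniteField.pow_card]
  obtain ⟨x, hx⟩ : ∃ x : E, φ x ≠ x := by
    by_contra! hcon
    have h1 := fun x : Eˣ => (hφ (x : E)).symm.trans (hcon x)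
    obtain ⟨u, hu⟩ := IsCyclic.exists_generator (α := Eˣ)
    have h3 : u ^ (q - 1) = 1 := by
      have := h1 u
      rw [← Nat.sub_add_cancel hq.le, pow_succ, mul_eq_right₀ (Units.ne_zero u)] at this
      exact Units.ext (by simpa using this)
    have h4 := Nat.le_of_dvd (by omega) (orderOf_dvd_of_pow_eq_one h3)
    rw [orderOf_eq_card_of_forall_mem_zpowers hu, Nat.card_units, hE] at h4
    have : q * 2 ≤ q ^ 2 := by rw [pow_two]; exact Nat.mul_le_mul_left q hq
    omega
  set θ := x - φ x with hθ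
  have hθ0 : θ ≠ 0 := sub_ne_zero.mpr (Ne.symm hx)
  have hφθ : φ θ = -θ := by rw [hθ, map_sub, hφ2]; ring
  have hli : LinearIndependent F ![(1 : E), θ] := by
    rw [linearIndependent_fin2]
    refine ⟨by simpa using hθ0, fun a ha => ?_⟩
    simp only [Matrix.cons_val_one, Matrix.cons_val_zero] at ha
    have h3 := congrArg φ ha
    rw [map_smul, map_one, hφθ, smul_neg, ha] at h3
    have h4 : algebraMap F E 2 = 0 := by
      rw [map_ofNat]; linear_combination (-1 : E) * h3
    exact h2 ((map_eq_zero _).mp h4)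
  let b := basisOfLinearIndependentOfCardEqFinrank hli (by simp [hrank])
  have hb : ⇑b = ![(1 : E), θ] := coe_basisOfLinearIndependentOfCardEqFinrank _ _
  obtain ⟨ψ, hinj, hψ⟩ := key b
  refine ⟨ψ ⟨g, hgK⟩, by rw [orderOf_injective _ hinj, Subgroup.orderOf_mk, hog], ?_⟩
  intro _ h hh
  obtain ⟨e, he⟩ := FiniteField.norm_surjective F E (-1)
  have hee : e * e ^ q = -1 := by
    rw [← pow_succ', ← hpow, he, map_neg, map_one]
  let T := LinearMap.toMatrixAlgEquiv b
  let L : E →ₗ[F] E := (Algebra.lmul F E e).comp φ.toLinearMap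
  have hL : ∀ y, L y = e * φ y := fun y => rfl
  have hLdet : (T L).det = 1 := by
    have h1 : T φ.toLinearMap = !![1, 0; 0, -1] := by
      have hb0 : b 0 = 1 := by rw [hb]; rfl
      have hb1 : b 1 = θ := by rw [hb]; rfl
      ext i j
      have h0 : φ.toLinearMap (b 0) = b 0 := by rw [hb0]; exact map_one φ
      have h1 : φ.toLinearMap (b 1) = -b 1 := by rw [hb1]; exact hφθ
      fin_cases i <;> fin_cases j <;> simp [T, LinearMap.toMatrixAlgEquiv_apply, h0, h1]
    have h2 : T L = Algebra.leftMulMatrix b e * T φ.toLinearMap :=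
      (map_mul T (Algebra.lmul F E e) φ.toLinearMap)
    rw [h2, Matrix.det_mul, ← Algebra.norm_eq_matrix_det b, he, h1, Matrix.det_fin_two]
    simp
  let w : Matrix.SpecialLinearGroup (Fin 2) F := ⟨T L, hLdet⟩
  have hwc : (w : Matrix (Fin 2) (Fin 2) F) = T L := rfl
  refine ⟨w, ?_, ?_⟩
  · rw [mul_inv_eq_iff_eq_mul, ← map_inv]
    refine Subtype.ext ?_
    simp only [Matrix.SpecialLinearGroup.coe_mul, hψ, hwc]
    show T L * T (Algebra.lmul F E _) = T (Algebra.lmul F E _) * T L
    rw [← map_mul, ← map_mul]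
    congr 1
    refine LinearMap.ext fun y => ?_
    simp only [Module.End.mul_apply, Algebra.lmul, AlgHom.coe_mk, hL]
    change e * φ ((g : E) * y) = ((g⁻¹ : Eˣ) : E) * (e * φ y)
    rw [map_mul, show φ (g : E) = ((g⁻¹ : Eˣ) : E) by
      rw [hφ, eq_comm, Units.val_inv_eq_inv_val, inv_eq_of_mul_eq_one_right]
      rw [← pow_succ', ← Units.val_pow_eq_pow_val, ← hog, pow_orderOf_eq_one, Units.val_one]]
    ring
  · rw [← map_pow]
    refine Subtype.ext ?_
    simp only [Matrix.SpecialLinearGroup.coe_pow, hψ, hwc]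
    show T L ^ 2 = T (Algebra.lmul F E _)
    rw [← map_pow]
    congr 1
    refine LinearMap.ext fun y => ?_
    rw [pow_two, Module.End.mul_apply]
    change e * φ (e * φ y) = ((g ^ h : Eˣ) : E) * y
    rw [map_mul, hφ2, ← mul_assoc, hφ, hee]
    congr 1
    have h1 : ((g ^ h : Eˣ) : E) ^ 2 = 1 := by
      rw [← Units.val_pow_eq_pow_val, ← pow_mul, mul_comm, ← hh, show Fintype.card F = q from rfl,
        ← hog, pow_orderOf_eq_one, Units.val_one]
    rcases sq_eq_one_iff.mp h1 with h2 | h2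
    · have := orderOf_le_of_pow_eq_one (by omega) (Units.ext (h2.trans Units.val_one.symm))
      omega
    · exact h2.symm

theorem noMultiplierAt_slTwo_char (p : ℕ) [Fact p.Prime] [CharP F p] (h4 : Fintype.card F ≠ 4)
    (h9 : Fintype.card F ≠ 9) : NoMultiplierAt p (Matrix.SpecialLinearGroup (Fin 2) F) := by
  obtain ⟨n, hp, hq⟩ := FiniteField.card F p
  have hcard : Nat.card (slUnip (F := F)).range =
      p ^ (Nat.card (Matrix.SpecialLinearGroup (Fin 2) F)).factorization p := by
    rw [← Nat.card_congr (MonoidHom.ofInjective slUnip_injective).toEquiv,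
      Nat.card_congr Multiplicative.toAdd, Nat.card_eq_fintype_card, natCard_slTwo, hq]
    have hd : ¬ p ∣ (p ^ (n : ℕ) - 1) * (p ^ (n : ℕ) + 1) := by
      intro hdvd
      have hpn : p ∣ p ^ (n : ℕ) := dvd_pow_self p n.ne_zero
      have h1 : 1 ≤ p ^ (n : ℕ) := Nat.one_le_pow _ _ hp.pos
      rcases hp.dvd_mul.mp hdvd with hh | hh
      · exact hp.not_dvd_one (by simpa [Nat.sub_sub_self h1] using Nat.dvd_sub hpn hh)
      · exact hp.not_dvd_one ((Nat.dvd_add_right hpn).mp hh)
    rw [Nat.factorization_mul (pow_ne_zero _ hp.ne_zero) (fun h0 => hd (by rw [h0]; exact dvd_zero p)), Finsupp.add_apply,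
      hp.factorization_pow, Finsupp.single_eq_same, Nat.factorization_eq_zero_of_not_dvd hd,
      add_zero]
  have hab : IsMulCommutative (slUnip (F := F)).range := ⟨⟨by
    rintro ⟨_, a, rfl⟩ ⟨_, b, rfl⟩
    exact Subtype.ext (show slUnip a * slUnip b = slUnip b * slUnip a by
      rw [← map_mul, ← map_mul, mul_comm])⟩⟩
  refine noMultiplierAt_of_forms (Sylow.ofCard _ hcard) hab (Set.range slDiag) ?_ ?_
  · rintro _ ⟨a, rfl⟩ _ ⟨t, rfl⟩
    exact ⟨_, (slDiag_conj_slUnip a (Multiplicative.toAdd t)).symm⟩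
  · intro M _ B hbil halt hinv x hx y hy
    obtain ⟨s, rfl⟩ := hx
    obtain ⟨t, rfl⟩ := hy
    let U : F → Matrix.SpecialLinearGroup (Fin 2) F := fun z => slUnip (Multiplicative.ofAdd z)
    have hU : ∀ a b, U (a + b) = U a * U b := fun a b => map_mul slUnip _ _
    exact torus_form_trivial h4 h9 (fun a b => B (U a) (U b))
      (fun a b c => by rw [hU]; exact (hbil _ ⟨_, rfl⟩ _ ⟨_, rfl⟩ _ ⟨_, rfl⟩).1)
      (fun a b c => by rw [hU]; exact (hbil _ ⟨_, rfl⟩ _ ⟨_, rfl⟩ _ ⟨_, rfl⟩).2)
      (fun a => halt _ ⟨_, rfl⟩)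
      (fun a b c => by
        have := hinv _ ⟨a, rfl⟩ (U b) ⟨_, rfl⟩ (U c) ⟨_, rfl⟩
        rwa [slDiag_conj_slUnip, slDiag_conj_slUnip] at this)
      (Multiplicative.toAdd s) (Multiplicative.toAdd t)

theorem not_dvd_index_zpowers {G : Type*} [Group G] [Finite G] (c : G) {p d : ℕ}
    (h : Nat.card G = orderOf c * d) (hd : ¬ p ∣ d) : ¬ p ∣ (zpowers c).index := by
  rw [← Nat.card_zpowers, ← (zpowers c).card_mul_index] at h
  rwa [Nat.eq_of_mul_eq_mul_left Nat.card_pos h]

theorem hasCyclicSchurMultiplier_slTwo (h4 : Fintype.card F ≠ 4) (h9 : Fintype.card F ≠ 9) :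
    HasCyclicSchurMultiplier (Matrix.SpecialLinearGroup (Fin 2) F) 1 := by
  classical
  refine hasCyclicSchurMultiplier_one fun l hl => ?_
  have : Fact l.Prime := ⟨hl⟩
  obtain ⟨p, hchar⟩ := CharP.exists F
  obtain ⟨n, hp, hq⟩ := FiniteField.card F p
  by_cases hlp : l = p
  · subst hlp; exact noMultiplierAt_slTwo_char l h4 h9
  have hlq : ¬ l ∣ Fintype.card F := fun h =>
    hlp ((Nat.prime_dvd_prime_iff_eq hl hp).mp (hl.dvd_of_dvd_pow (hq ▸ h)))
  have hcard := natCard_slTwo (F := F)
  have h1 := Fintype.one_lt_card (α := F)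
  obtain ⟨g, hg⟩ := exists_split_torus (F := F)
  obtain ⟨c, hc, hcw⟩ := exists_nonsplit_torus (F := F)
  set q := Fintype.card F with hqdef
  by_cases hl2 : l = 2
  · subst hl2
    have h2 : (2 : F) ≠ 0 := by
      intro h0
      have : CharP F 2 := CharTwo.of_one_ne_zero_of_two_eq_zero one_ne_zero h0
      exact hlp (CharP.eq F this hchar)
    have hodd : q % 2 = 1 := by omega
    rcases (show q % 4 = 1 ∨ q % 4 = 3 by omega) with h | h
    · obtain ⟨k, hk⟩ : ∃ k, q = 4 * k + 1 := ⟨q / 4, by omega⟩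
      let w : Matrix.SpecialLinearGroup (Fin 2) F :=
        ⟨!![0, 1; -1, 0], by simp [Matrix.det_fin_two]⟩
      have hwc : (w : Matrix (Fin 2) (Fin 2) F) = !![0, 1; -1, 0] := rfl
      refine noMultiplierAt_two_of_inverted (slDiag g) w (2 * k) (q * (2 * k + 1))
        (by omega) ?_ ?_ ?_ ?_
      · rw [mul_inv_eq_iff_eq_mul, ← map_inv]
        refine Subtype.ext ?_
        simp only [Matrix.SpecialLinearGroup.coe_mul, slDiag_coe, hwc]
        ext i j
        fin_cases i <;> fin_cases j <;> simp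
      · rw [← map_pow]
        have hsq : (g ^ (2 * k)) ^ 2 = 1 := by
          rw [← pow_mul, show 2 * k * 2 = q - 1 by omega, ← hg,
            orderOf_injective _ slDiag_injective, pow_orderOf_eq_one]
        have hne : g ^ (2 * k) ≠ 1 := fun h3 => by
          have := orderOf_le_of_pow_eq_one (by omega) h3
          rw [← orderOf_injective _ slDiag_injective] at this
          omega
        have hm1 : ((g ^ (2 * k) : Fˣ) : F) = -1 :=
          (sq_eq_one_iff.mp (congrArg Units.val hsq)).resolve_left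
            (fun h3 => hne (Units.ext h3))
        refine Subtype.ext ?_
        simp only [Matrix.SpecialLinearGroup.coe_pow, slDiag_coe, hwc, Units.val_inv_eq_inv_val,
          hm1]
        simp [pow_two]
      · intro h3
        rcases Nat.prime_two.dvd_mul.mp h3 with h3 | h3 <;> omega
      · rw [hcard, hg, show q + 1 = 2 * (2 * k + 1) by omega]; ring
    · obtain ⟨k, hk⟩ : ∃ k, q = 4 * k + 3 := ⟨q / 4, by omega⟩
      obtain ⟨w, hw, hw2⟩ := hcw h2 (2 * k + 2) (by omega)
      refine noMultiplierAt_two_of_inverted c w (2 * k + 2) (q * (2 * k + 1))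
        (by omega) hw hw2 ?_ ?_
      · intro h3
        rcases Nat.prime_two.dvd_mul.mp h3 with h3 | h3 <;> omega
      · rw [hcard, hc, show q - 1 = 2 * (2 * k + 1) by omega]; ring
  · by_cases hplus : l ∣ q + 1
    · refine noMultiplierAt_of_cyclic_element c
        (not_dvd_index_zpowers c (d := q * (q - 1)) (by rw [hcard, hc]; ring) ?_)
      intro h3
      rcases hl.dvd_mul.mp h3 with h3 | h3
      · exact hlq h3
      · have := Nat.dvd_sub hplus h3
        rw [show q + 1 - (q - 1) = 2 by omega] at this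
        exact hl2 ((Nat.prime_dvd_prime_iff_eq hl Nat.prime_two).mp this)
    · refine noMultiplierAt_of_cyclic_element (slDiag g)
        (not_dvd_index_zpowers (slDiag g) (d := q * (q + 1)) (by rw [hcard, hg]; ring) ?_)
      intro h3
      rcases hl.dvd_mul.mp h3 with h3 | h3
      · exact hlq h3
      · exact hplus h3

end

end CfsgLib.Schur
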