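/-
Sylow criteria for trivial multiplier stated on explicit elements.
-/
import Cfsg.Agent.Lib.Schur.Criteria
import Mathlib.GroupTheory.PGroup
import Mathlib.Data.ZMod.Basic
import Mathlib.Tactic.LinearCombination

set_option autoImplicit false

namespace CfsgLib.Schur

open Subgroup Cfsg

universe u

variable {G : Type u} [Group G] [Finite G]

theorem card_sylow_of_split {p : ℕ} [hp : Fact p.Prime] {v d : ℕ} (hd : ¬ p ∣ d)
    (h : Nat.card G = p ^ v * d) : p ^ (Nat.card G).factorization p = p ^ v := by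
  rw [h, Nat.factorization_mul (pow_ne_zero _ hp.out.ne_zero)
    (fun h0 => hd (by rw [h0]; exact dvd_zero p)), Finsupp.add_apply, hp.out.factorization_pow,
    Finsupp.single_eq_same, Nat.factorization_eq_zero_of_not_dvd hd, add_zero]

/-- A cyclic Sylow subgroup given by an element. -/
theorem noMultiplierAt_of_sylow_element {p : ℕ} [hp : Fact p.Prime] (c : G) (v d : ℕ)
    (hc : orderOf c = p ^ v) (hd : ¬ p ∣ d) (hG : Nat.card G = p ^ v * d) :
    NoMultiplierAt p G := by
  have hcard : Nat.card (zpowers c) = p ^ (Nat.card G).factorization p := by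
    rw [card_sylow_of_split hd hG, Nat.card_zpowers, hc]
  exact noMultiplierAt_of_cyclic (Sylow.ofCard _ hcard) (isCyclic_zpowers c)

/-- No prime divisor, no part. -/
theorem noMultiplierAt_of_not_dvd {p : ℕ} [hp : Fact p.Prime] (h : ¬ p ∣ Nat.card G) :
    NoMultiplierAt p G :=
  noMultiplierAt_of_sylow_element (1 : G) 0 (Nat.card G) (by simp) h (by simp)

/-- Metacyclic Sylow 2-subgroup given by elements. -/
theorem noMultiplierAt_two_of_metacyclic_elements (a b : G) (r t n d : ℕ) (ha : orderOf a = n)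
    (hn : ∃ v, n = 2 ^ v) (hr : b * a * b⁻¹ = a ^ r) (hb2 : b ^ 2 = a ^ t)
    (hb : ∀ i < n, b ≠ a ^ i) (hd : ¬ 2 ∣ d) (hG : Nat.card G = 2 * n * d)
    (hcond : ∀ j : ℤ, (n : ℤ) ∣ ((r : ℤ) - 1) * j →
      ∀ k : ℤ, k ∣ (n : ℤ) → k ∣ (t : ℤ) → k ∣ (r : ℤ) + 1 → k ∣ j) :
    NoMultiplierAt 2 G := by
  obtain ⟨v, rfl⟩ := hn
  let A := zpowers a
  have hconj : ∀ x ∈ A, b * x * b⁻¹ ∈ A := fun x hx => by
    obtain ⟨i, rfl⟩ := mem_zpowers_iff.mp hx
    have := map_zpow (MulAut.conj b) a i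
    simp only [MulAut.conj_apply] at this
    rw [this, hr]
    exact zpow_mem (pow_mem (mem_zpowers a) r) i
  have hb2A : b ^ 2 ∈ A := hb2 ▸ pow_mem (mem_zpowers a) t
  let H : Subgroup G :=
    { carrier := {g | ∃ x ∈ A, ∃ e : Bool, g = x * cond e b 1}
      mul_mem' := by
        rintro _ _ ⟨x, hx, e, rfl⟩ ⟨y, hy, f, rfl⟩
        cases e
        · exact ⟨x * y, mul_mem hx hy, f, by simp [mul_assoc]⟩
        · cases f
          · exact ⟨x * (b * y * b⁻¹), mul_mem hx (hconj y hy), true, by simp [mul_assoc]⟩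
          · exact ⟨x * (b * y * b⁻¹) * b ^ 2, mul_mem (mul_mem hx (hconj y hy)) hb2A, false, by
              simp [pow_two, mul_assoc]⟩
      one_mem' := ⟨1, one_mem A, false, by simp⟩
      inv_mem' := by
        rintro _ ⟨x, hx, e, rfl⟩
        cases e
        · exact ⟨x⁻¹, inv_mem hx, false, by simp⟩
        · refine ⟨(b ^ 2)⁻¹ * (b * x⁻¹ * b⁻¹), mul_mem (inv_mem hb2A) (hconj _ (inv_mem hx)),
            true, ?_⟩
          simp only [cond_true]
          group }
  have hbA : b ∉ A := fun h => by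
    obtain ⟨i, hi⟩ := (mem_powers_iff_mem_zpowers.mpr h)
    have hmod := pow_mod_orderOf a i
    rw [ha] at hmod
    exact hb (i % 2 ^ v) (Nat.mod_lt _ (by positivity)) ((hmod.trans hi).symm)
  have hcard : Nat.card H = 2 ^ (Nat.card G).factorization 2 := by
    have hbij : Function.Bijective (fun q : A × Bool =>
        (⟨(q.1 : G) * cond q.2 b 1, _, q.1.2, q.2, rfl⟩ : H)) := by
      refine ⟨?_, ?_⟩
      · rintro ⟨⟨x, hx⟩, e⟩ ⟨⟨y, hy⟩, f⟩ he
        have he' : x * cond e b 1 = y * cond f b 1 := congrArg Subtype.val he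
        cases e <;> cases f <;> simp only [cond_true, cond_false, mul_one] at he'
        · subst he'; rfl
        · exact absurd (show b ∈ A by
            rw [show b = y⁻¹ * x by rw [he']; group]; exact mul_mem (inv_mem hy) hx) hbA
        · exact absurd (show b ∈ A by
            rw [show b = x⁻¹ * y by rw [← he']; group]; exact mul_mem (inv_mem hx) hy) hbA
        · obtain rfl := mul_right_cancel he'; rfl
      · rintro ⟨_, x, hx, e, rfl⟩
        exact ⟨(⟨x, hx⟩, e), rfl⟩
    rw [card_sylow_of_split hd (v := v + 1) (by rw [hG, pow_succ']),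
      ← Nat.card_eq_of_bijective _ hbij, Nat.card_prod, Nat.card_zpowers, ha,
      Nat.card_eq_fintype_card, Fintype.card_bool, pow_succ]
  refine noMultiplierAt_of_metacyclic (Sylow.ofCard H hcard) a b (r : ℤ) (t : ℤ)
    ⟨a, mem_zpowers a, false, by simp⟩ ⟨1, one_mem A, true, by simp⟩ ?_
    (by rw [hr, zpow_natCast]) (by rw [hb2, zpow_natCast]) ?_
  · rintro _ ⟨x, hx, e, rfl⟩
    obtain ⟨i, rfl⟩ := mem_zpowers_iff.mp hx
    exact ⟨i, if e then 1 else 0, by cases e <;> simp⟩
  · intro j hj K hK1 hK2 hK3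
    rw [ha] at hj hK1
    exact hcond j hj K hK1 hK2 hK3

/-- Elementary abelian Sylow subgroup of rank two with a normalising element whose determinant
is not one. -/
theorem noMultiplierAt_of_rank_two {p : ℕ} [hp : Fact p.Prime] (x y g : G) (α β γ δ : ℕ)
    (hx : x ^ p = 1) (hy : y ^ p = 1) (hxy : Commute x y)
    (hindep : ∀ i < p, ∀ j < p, x ^ i * y ^ j = 1 → i = 0 ∧ j = 0)
    (hgx : g * x * g⁻¹ = x ^ α * y ^ γ) (hgy : g * y * g⁻¹ = x ^ β * y ^ δ)
    (hdet : (α * δ) % p ≠ (1 + β * γ) % p) (d : ℕ) (hd : ¬ p ∣ d)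
    (hG : Nat.card G = p ^ 2 * d) : NoMultiplierAt p G := by
  let H : Subgroup G :=
    { carrier := {z | ∃ i j : ℕ, z = x ^ i * y ^ j}
      mul_mem' := by
        rintro _ _ ⟨i, j, rfl⟩ ⟨k, l, rfl⟩
        exact ⟨i + k, j + l, by
          rw [pow_add, pow_add]
          exact Commute.mul_mul_mul_comm (hxy.symm.pow_pow j k) _ _⟩
      one_mem' := ⟨0, 0, by simp⟩
      inv_mem' := by
        rintro _ ⟨i, j, rfl⟩
        refine ⟨i * (p - 1), j * (p - 1), inv_eq_of_mul_eq_one_right ?_⟩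
        rw [Commute.mul_mul_mul_comm (hxy.symm.pow_pow j _), ← pow_add, ← pow_add,
          show i + i * (p - 1) = p * i by
            obtain ⟨q, hq⟩ : ∃ q, p = q + 1 := ⟨p - 1, by have := hp.out.one_le; omega⟩
            rw [hq, Nat.add_sub_cancel]; ring,
          show j + j * (p - 1) = p * j by
            obtain ⟨q, hq⟩ : ∃ q, p = q + 1 := ⟨p - 1, by have := hp.out.one_le; omega⟩
            rw [hq, Nat.add_sub_cancel]; ring,
          pow_mul, pow_mul, hx, hy, one_pow, one_pow, one_mul] }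
  have hxH : x ∈ H := ⟨1, 0, by simp⟩
  have hyH : y ∈ H := ⟨0, 1, by simp⟩
  have hcard : Nat.card H = p ^ (Nat.card G).factorization p := by
    have hbij : Function.Bijective (fun q : Fin p × Fin p =>
        (⟨x ^ (q.1 : ℕ) * y ^ (q.2 : ℕ), _, _, rfl⟩ : H)) := by
      refine ⟨?_, ?_⟩
      · rintro ⟨i, j⟩ ⟨k, l⟩ he
        have he' : x ^ (i : ℕ) * y ^ (j : ℕ) = x ^ (k : ℕ) * y ^ (l : ℕ) := congrArg Subtype.val he
        have h1 : x ^ ((i : ℕ) + (p - (k : ℕ))) * y ^ ((j : ℕ) + (p - (l : ℕ))) = 1 := by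
          rw [pow_add, pow_add, ← Commute.mul_mul_mul_comm (hxy.symm.pow_pow _ _), he',
            Commute.mul_mul_mul_comm (hxy.symm.pow_pow _ _), ← pow_add, ← pow_add,
            Nat.add_sub_cancel' k.isLt.le, Nat.add_sub_cancel' l.isLt.le, hx, hy, one_mul]
        rw [pow_eq_pow_mod _ hx, pow_eq_pow_mod _ hy] at h1
        obtain ⟨h2, h3⟩ := hindep _ (Nat.mod_lt _ hp.out.pos) _ (Nat.mod_lt _ hp.out.pos) h1
        have hfix : ∀ a b : Fin p, ((a : ℕ) + (p - (b : ℕ))) % p = 0 → a = b := fun a b h => by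
          have := a.isLt; have := b.isLt
          obtain ⟨c, hc⟩ := Nat.dvd_of_mod_eq_zero h
          apply Fin.ext
          rcases c with _ | _ | c <;> simp only [Nat.mul_add, Nat.mul_zero, Nat.mul_one] at hc <;> omega
        exact Prod.ext (hfix _ _ h2) (hfix _ _ h3)
      · rintro ⟨_, i, j, rfl⟩
        exact ⟨(⟨i % p, Nat.mod_lt _ hp.out.pos⟩, ⟨j % p, Nat.mod_lt _ hp.out.pos⟩),
          Subtype.ext (by simp [← pow_eq_pow_mod _ hx, ← pow_eq_pow_mod _ hy])⟩
    rw [card_sylow_of_split hd hG, ← Nat.card_eq_of_bijective _ hbij, Nat.card_prod, Nat.card_fin,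
      pow_two]
  have hab : IsMulCommutative H := ⟨⟨by
    rintro ⟨_, i, j, rfl⟩ ⟨_, k, l, rfl⟩
    exact Subtype.ext (((Commute.pow_pow (Commute.refl x) i k).mul_right (hxy.pow_pow i l)).mul_left
      ((hxy.symm.pow_pow j k).mul_right (Commute.pow_pow (Commute.refl y) j l))).eq⟩⟩
  refine noMultiplierAt_of_forms (Sylow.ofCard H hcard) hab {g} ?_ ?_
  · rintro t rfl _ ⟨i, j, rfl⟩
    show t * (x ^ i * y ^ j) * t⁻¹ ∈ H
    rw [← conj_mul, ← conj_pow, ← conj_pow, hgx, hgy]
    exact mul_mem (pow_mem (mul_mem (pow_mem hxH _) (pow_mem hyH _)) _)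
      (pow_mem (mul_mem (pow_mem hxH _) (pow_mem hyH _)) _)
  · intro M _ B hbil halt hinv
    have hB1 : ∀ z ∈ H, B 1 z = 1 ∧ B z 1 = 1 := fun z hz => by
      have h := hbil 1 (one_mem H) 1 (one_mem H) z hz
      rw [one_mul] at h
      exact ⟨mul_eq_left.mp h.1.symm, mul_eq_left.mp h.2.symm⟩
    have hl : ∀ (w : G), w ∈ H → ∀ (i : ℕ) (z : G), z ∈ H →
        B (w ^ i) z = B w z ^ i ∧ B z (w ^ i) = B z w ^ i := by
      intro w hw i z hz
      induction i with
      | zero => simp [hB1 z hz]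
      | succ i ih =>
        have h := hbil (w ^ i) (pow_mem hw i) w hw z hz
        exact ⟨by rw [pow_succ, h.1, ih.1, pow_succ], by rw [pow_succ, h.2, ih.2, pow_succ]⟩
    have hskew : B y x = (B x y)⁻¹ := by
      have h := halt (x * y) (mul_mem hxH hyH)
      rw [(hbil x hxH y hyH _ (mul_mem hxH hyH)).1, (hbil x hxH y hyH x hxH).2,
        (hbil x hxH y hyH y hyH).2, halt x hxH, halt y hyH, one_mul, mul_one] at h
      exact eq_inv_of_mul_eq_one_right h
    have hexp : ∀ i j k l : ℕ, B (x ^ i * y ^ j) (x ^ k * y ^ l) = B x y ^ ((i * l : ℤ) - j * k) := by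
      intro i j k l
      have hi := pow_mem hxH i
      have hj := pow_mem hyH j
      have hk := pow_mem hxH k
      have hl' := pow_mem hyH l
      rw [(hbil _ hi _ hj _ (mul_mem hk hl')).1, (hbil _ hk _ hl' _ hi).2, (hbil _ hk _ hl' _ hj).2,
        (hl x hxH i _ hk).1, (hl x hxH k _ hxH).2, (hl x hxH i _ hl').1, (hl y hyH l _ hxH).2,
        (hl y hyH j _ hk).1, (hl x hxH k _ hyH).2, (hl y hyH j _ hl').1, (hl y hyH l _ hyH).2,
        halt x hxH, halt y hyH, hskew, one_pow, one_pow, one_pow, one_pow, one_mul, mul_one,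
        ← zpow_natCast, ← zpow_natCast, ← zpow_natCast, ← zpow_natCast, inv_zpow', ← zpow_mul,
        ← zpow_mul, ← zpow_add]
      congr 1
      ring
    have hzero : B x y = 1 := by
      have hpw : B x y ^ (p : ℤ) = 1 := by
        rw [zpow_natCast, ← (hl x hxH p y hyH).1, hx, (hB1 y hyH).1]
      have hdt : B x y ^ (((α * δ : ℤ) - γ * β) - 1) = 1 := by
        have h := hinv g rfl x hxH y hyH
        rw [hgx, hgy, hexp] at h
        rw [zpow_sub_one, h, mul_inv_cancel]
      rw [← orderOf_dvd_iff_zpow_eq_one] at hpw hdt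
      rcases (Nat.dvd_prime hp.out).mp (Int.natCast_dvd_natCast.mp hpw) with h | h
      · exact orderOf_eq_one_iff.mp h
      · exfalso
        rw [h] at hdt
        apply hdet
        have hz : ((α * δ : ℕ) : ZMod p) = ((1 + β * γ : ℕ) : ZMod p) := by
          have h0 := (ZMod.intCast_zmod_eq_zero_iff_dvd _ p).mpr hdt
          push_cast at h0 ⊢
          linear_combination h0
        exact (ZMod.natCast_eq_natCast_iff' _ _ _).mp hz
    rintro _ ⟨i, j, rfl⟩ _ ⟨k, l, rfl⟩
    rw [hexp, hzero, one_zpow]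

/-- Elementary abelian Sylow 2-subgroup of order 8 with an element of order seven acting. -/
theorem noMultiplierAt_two_of_rank_three (S : Sylow 2 G) (hab : IsMulCommutative (S : Subgroup G))
    (hsq : ∀ s ∈ (S : Subgroup G), s ^ 2 = 1) (x g : G) (hx : x ∈ (S : Subgroup G))
    (hg : ∀ s ∈ (S : Subgroup G), g * s * g⁻¹ ∈ (S : Subgroup G))
    (hpoly : g * (g * (g * x * g⁻¹) * g⁻¹) * g⁻¹ = x * (g * x * g⁻¹))
    (hgen : (S : Subgroup G) ≤ closure {x, g * x * g⁻¹, g * (g * x * g⁻¹) * g⁻¹}) :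
    NoMultiplierAt 2 G := by
  refine noMultiplierAt_of_forms S hab {g} (by rintro t rfl; exact hg) ?_
  intro M _ B hbil halt hinv
  have hy := hg x hx
  have hz := hg _ hy
  set y := g * x * g⁻¹ with hydef
  set z := g * y * g⁻¹ with hzdef
  set K : Subgroup G := S.toSubgroup with hK
  have hB1 : ∀ w ∈ K, B 1 w = 1 ∧ B w 1 = 1 := fun w hw => by
    have h := hbil 1 (one_mem K) 1 (one_mem K) w hw
    rw [one_mul] at h
    exact ⟨mul_eq_left.mp h.1.symm, mul_eq_left.mp h.2.symm⟩
  have h2 : ∀ u ∈ K, ∀ w ∈ K, B u w * B u w = 1 := fun u hu w hw => by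
    rw [← (hbil u hu u hu w hw).1, ← pow_two, hsq u hu, (hB1 w hw).1]
  have hsym : ∀ u ∈ K, ∀ w ∈ K, B w u = B u w := fun u hu w hw => by
    have h := halt (u * w) (mul_mem hu hw)
    rw [(hbil u hu w hw _ (mul_mem hu hw)).1, (hbil u hu w hw u hu).2, (hbil u hu w hw w hw).2,
      halt u hu, halt w hw, one_mul, mul_one] at h
    calc B w u = (B u w * B w u) * B u w := by rw [mul_comm (B u w) (B w u), mul_assoc, h2 u hu w hw, mul_one]
      _ = B u w := by rw [h, one_mul]
  have e1 : B y z = B x y := hinv g rfl x hx y hy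
  have e2 : B z (x * y) = B y z := by rw [← hpoly]; exact hinv g rfl y hy z hz
  rw [(hbil x hx y hy z hz).2, hsym y hy z hz] at e2
  have exz : B z x = 1 := mul_eq_right.mp e2
  have e3 : B y (x * y) = B x z := by rw [← hpoly]; exact hinv g rfl x hx z hz
  rw [(hbil x hx y hy y hy).2, halt y hy, mul_one, hsym x hx y hy, hsym z hz x hx, exz] at e3
  rw [e3] at e1
  have hgens : ∀ u ∈ ({x, y, z} : Set G), ∀ w ∈ ({x, y, z} : Set G), B u w = 1 := by
    rintro u (rfl | rfl | rfl) w (rfl | rfl | rfl)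
    exacts [halt _ hx, e3, (hsym _ hz _ hx).trans exz, (hsym _ hx _ hy).trans e3, halt _ hy, e1,
      exz, (hsym _ hy _ hz).trans e1, halt _ hz]
  have hsub : ({x, y, z} : Set G) ⊆ K := by rintro w (rfl | rfl | rfl) <;> assumption
  have hcl : closure {x, y, z} ≤ K := (closure_le K).mpr hsub
  have hone : ∀ u ∈ ({x, y, z} : Set G), ∀ w ∈ closure ({x, y, z} : Set G), B u w = 1 := by
    intro u hu w hw
    induction hw using closure_induction with
    | mem v hv => exact hgens u hu v hv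
    | one => exact (hB1 u (hsub hu)).2
    | mul v v' hv hv' h h' => rw [(hbil v (hcl hv) v' (hcl hv') u (hsub hu)).2, h, h', one_mul]
    | inv v hv h =>
      rw [show v⁻¹ = v from inv_eq_of_mul_eq_one_right (by rw [← pow_two]; exact hsq v (hcl hv))]
      exact h
  intro u hu w hw
  induction hgen hu using closure_induction with
  | mem v hv => exact hone v hv w (hgen hw)
  | one => exact (hB1 w hw).1
  | mul v v' hv hv' h h' => rw [(hbil v (hcl hv) v' (hcl hv') w hw).1, h (hcl hv), h' (hcl hv'), one_mul]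
  | inv v hv h =>
    rw [show v⁻¹ = v from inv_eq_of_mul_eq_one_right (by rw [← pow_two]; exact hsq v (hcl hv))]
    exact h (hcl hv)

end CfsgLib.Schur
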