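/-
Certificates bounding the `p`-part of a Schur multiplier from a polycyclic presentation of a
Sylow subgroup and fusion between its elements: the computable part.
-/
import Mathlib.Data.List.Basic
import Mathlib.Data.Int.Basic

set_option autoImplicit false

namespace CfsgLib.Schur.Pc

/-- A word in the polycyclic generators. -/
abbrev Word := List ℕ

/-- A polycyclic presentation on `n` generators: `g i ^ p = pw i` and `g j * g i = g i * g j * cm i j`
for `i < j`; the generators from `d` on are meant to generate the derived subgroup. -/
structure Rules where
  /-- The prime. -/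
  p : ℕ
  /-- The number of generators. -/
  n : ℕ
  /-- The number of generators outside the derived subgroup. -/
  d : ℕ
  /-- The power relations. -/
  pw : List Word
  /-- The commutator relations. -/
  cm : List (List Word)

/-- The right hand side of a power relation. -/
def Rules.pwW (R : Rules) (i : ℕ) : Word := R.pw.getD i []

/-- The correction word of a commutator relation. -/
def Rules.cmW (R : Rules) (i j : ℕ) : Word := (R.cm.getD i []).getD j []

/-- The index of the tail of a commutator relation. -/
def Rules.tix (R : Rules) (i j : ℕ) : ℕ := R.n + (i * R.n + j)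

/-- The left hand side of the relation with a given tail index. -/
def Rules.lhs (R : Rules) (t : ℕ) : Word :=
  if t < R.n then List.replicate R.p t else [(t - R.n) % R.n, (t - R.n) / R.n]

/-- The right hand side of the relation with a given tail index. -/
def Rules.rhs (R : Rules) (t : ℕ) : Word :=
  if t < R.n then R.pwW t
  else (t - R.n) / R.n :: (t - R.n) % R.n :: R.cmW ((t - R.n) / R.n) ((t - R.n) % R.n)

/-- One step of collection from the left. -/
def Rules.step (R : Rules) : Word → Option (Word × ℕ)
  | [] => none
  | x :: w =>
    if Nat.blt x R.n && w.take (R.p - 1) == List.replicate (R.p - 1) x then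
      some (R.pwW x ++ w.drop (R.p - 1), x)
    else
      match w with
      | [] => none
      | y :: r =>
        if Nat.blt y x && Nat.blt x R.n then some (y :: x :: (R.cmW y x ++ r), R.tix y x)
        else (Rules.step R (y :: r)).map fun e => (x :: e.1, e.2)

/-- Collection with a bound on the number of steps; the tails used are listed. -/
def Rules.collect (R : Rules) : ℕ → Word → Word × List ℕ
  | 0, w => (w, [])
  | k + 1, w =>
    match R.step w with
    | none => (w, [])
    | some e => let r := Rules.collect R k e.1; (r.1, e.2 :: r.2)

/-- The equations used: associativity of collection and invariance under conjugation. -/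
inductive Eqn where
  /-- The two ways of collecting a product of three words. -/
  | assoc (a b c : Word)
  /-- Two orders of a product of words, before and after conjugation by the element `g`. -/
  | fuse (g : ℕ) (xs ys : List Word) (u v : List ℕ)

/-- The concatenation named by a list of positions. -/
def pick (xs : List Word) (u : List ℕ) : Word := (u.map fun k => xs.getD k []).flatten

/-- Add a multiple of a unit vector. -/
def bump : ℕ → ℤ → List ℤ → List ℤ
  | 0, c, [] => [c]
  | 0, c, y :: l => (y + c) :: l
  | t + 1, c, [] => 0 :: bump t c []
  | t + 1, c, y :: l => y :: bump t c l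

/-- Add a multiple of a vector. -/
def addS (c : ℤ) : List ℤ → List ℤ → List ℤ
  | [], acc => acc
  | x :: r, [] => c * x :: addS c r []
  | x :: r, y :: acc => (y + c * x) :: addS c r acc

/-- The vector counting positive and negative tails. -/
def tailVec (pos neg : List ℕ) : List ℤ :=
  neg.foldr (fun t l => bump t (-1) l) (pos.foldr (fun t l => bump t 1 l) [])

/-- Two vectors agree. -/
def vecEq (a b : List ℤ) : Bool := (addS (-1) b a).all fun x => x == 0

/-- An equation collects consistently and has the stated vector. -/
def eqnOK (R : Rules) (fuel : ℕ) : Eqn → List ℤ → Bool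
  | .assoc a b c, lit =>
    let r₁ := R.collect fuel (a ++ b)
    let r₂ := R.collect fuel (r₁.1 ++ c)
    let s₁ := R.collect fuel (b ++ c)
    let s₂ := R.collect fuel (a ++ s₁.1)
    r₂.1 == s₂.1 && vecEq (tailVec (r₁.2 ++ r₂.2) (s₁.2 ++ s₂.2)) lit
  | .fuse _ xs ys u v, lit =>
    let p₁ := R.collect fuel (pick xs u)
    let q₁ := R.collect fuel (pick xs v)
    let p₂ := R.collect fuel (pick ys u)
    let q₂ := R.collect fuel (pick ys v)
    List.isPerm u v && p₁.1 == q₁.1 && p₂.1 == q₂.1 &&
      vecEq (tailVec (q₁.2 ++ p₂.2) (p₁.2 ++ q₂.2)) lit

/-- A linear combination of rows. -/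
def comb (rows : List (List ℤ)) (cs : List (ℕ × ℤ)) : List ℤ :=
  cs.foldr (fun e acc => addS e.2 (rows.getD e.1 []) acc) []

/-- The sum of the shifts along a word. -/
def shiftSum (shifts : List (List ℤ)) (w : Word) : List ℤ :=
  w.foldr (fun k acc => addS 1 (shifts.getD k []) acc) []

/-- The full certificate. -/
structure Cert where
  /-- The equations. -/
  eqns : List Eqn
  /-- Their vectors. -/
  rows : List (List ℤ)
  /-- Vectors of the elements spanning what is left of the multiplier. -/
  us : List (List ℤ)
  /-- Their orders. -/
  ords : List ℕ
  /-- Combinations of equations showing the orders. -/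
  ordComb : List (List (ℕ × ℤ))
  /-- The changes of the lifts. -/
  shifts : List (List ℤ)
  /-- Combinations for the power relations. -/
  pwComb : List (List (ℕ × ℤ))
  /-- Combinations for the commutator relations. -/
  cmComb : List (List (List (ℕ × ℤ)))

/-- The relations have the required shape. -/
def Rules.shapeOK (R : Rules) : Bool :=
  Nat.blt 0 R.p && Nat.ble R.d R.n &&
  (List.range R.n).all (fun i => (R.pwW i).all fun k => Nat.blt i k && Nat.blt k R.n) &&
  (List.range R.n).all (fun j => (List.range j).all fun i =>
    (R.cmW i j).all fun k => Nat.blt j k && Nat.ble R.d k && Nat.blt k R.n)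

/-- The equations are as stated. -/
def Cert.eqnsOK (C : Cert) (R : Rules) (fuel : ℕ) : Bool :=
  C.eqns.length == C.rows.length &&
    (List.range C.eqns.length).all fun k =>
      eqnOK R fuel (C.eqns.getD k (.assoc [] [] [])) (C.rows.getD k [])

/-- The relations become exact modulo the spanning elements. -/
def Cert.solveOK (C : Cert) (R : Rules) : Bool :=
  (List.range C.us.length).all (fun k =>
    vecEq (comb C.rows (C.ordComb.getD k [])) (addS (C.ords.getD k 0) (C.us.getD k []) [])) &&
  (List.range R.d).all (fun i => (C.shifts.getD i []).all fun x => x == 0) &&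
  (List.range R.n).all (fun i => Nat.blt i R.d ||
    vecEq (comb (C.rows ++ C.us) (C.pwComb.getD i []))
      (addS (-1) (shiftSum C.shifts (R.pwW i)) (addS R.p (C.shifts.getD i []) (bump i 1 [])))) &&
  (List.range R.n).all (fun j => (List.range j).all fun i =>
    vecEq (comb (C.rows ++ C.us) ((C.cmComb.getD i []).getD j []))
      (addS (-1) (shiftSum C.shifts (R.cmW i j)) (bump (R.tix i j) 1 [])))

end CfsgLib.Schur.Pc
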