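/-
Bounds for the `p`-part of a Schur multiplier from a polycyclic presentation of a Sylow subgroup
and fusion between its elements.
-/
import Cfsg.Agent.Lib.Schur.Criteria
import Cfsg.Agent.Lib.Schur.PcData
import Mathlib.Data.List.Perm.Basic
import Mathlib.Data.List.GetD
import Mathlib.Algebra.Group.Subgroup.Pointwise
import Mathlib.Algebra.BigOperators.Group.List.Basic
import Mathlib.GroupTheory.Index
import Mathlib.Tactic.Group

set_option autoImplicit false

namespace CfsgLib.Schur.Pc

open Subgroup Cfsg
open scoped commutatorElement Pointwise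

universe u v

/-- The value of a word. -/
def ev {M : Type u} [Monoid M] (X : ℕ → M) (w : Word) : M := (w.map X).prod

theorem ev_nil {M : Type u} [Monoid M] (X : ℕ → M) : ev X [] = 1 := rfl

theorem ev_cons {M : Type u} [Monoid M] (X : ℕ → M) (x : ℕ) (w : Word) :
    ev X (x :: w) = X x * ev X w := by simp [ev]

theorem ev_append {M : Type u} [Monoid M] (X : ℕ → M) (v w : Word) :
    ev X (v ++ w) = ev X v * ev X w := by simp [ev]

theorem ev_replicate {M : Type u} [Monoid M] (X : ℕ → M) (k x : ℕ) :
    ev X (List.replicate k x) = X x ^ k := by simp [ev]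

theorem map_ev {M : Type u} {N : Type v} [Monoid M] [Monoid N] (f : M →* N) (X : ℕ → M)
    (w : Word) : f (ev X w) = ev (fun i => f (X i)) w := by
  rw [ev, map_list_prod, List.map_map]
  rfl

theorem ev_mem {G : Type u} [Group G] {X : ℕ → G} {S : Subgroup G} {w : Word}
    (h : ∀ k ∈ w, X k ∈ S) : ev X w ∈ S :=
  list_prod_mem fun _ hx => by
    obtain ⟨k, hk, rfl⟩ := List.mem_map.1 hx
    exact h k hk

section Chain

variable {G : Type u} [Group G] [Finite G] (X : ℕ → G) (U : Subgroup G)

/-- The subgroup generated by `U` and the generators from `k` on. -/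
def tailGroup (n k : ℕ) : Subgroup G := closure (X '' Set.Ico k n) ⊔ U

theorem tailGroup_mono {n k l : ℕ} (h : k ≤ l) : tailGroup X U n l ≤ tailGroup X U n k :=
  sup_le_sup_right (closure_mono (Set.image_mono (Set.Ico_subset_Ico_left h))) _

theorem mem_tailGroup {n k i : ℕ} (h : k ≤ i) (hi : i < n) : X i ∈ tailGroup X U n k :=
  mem_sup_left (subset_closure ⟨i, ⟨h, hi⟩, rfl⟩)

theorem card_mul_cyclic_le {K : Subgroup G} {x : G} {p : ℕ} (hp : 0 < p)
    (hnorm : ∀ y ∈ K, x * y * x⁻¹ ∈ K) (hpow : x ^ p ∈ K) :
    Nat.card (closure {x} ⊔ K : Subgroup G) ≤ p * Nat.card K := by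
  have hx : x ∈ normalizer (K : Set G) := by
    rw [mem_normalizer_iff]
    intro y
    refine ⟨hnorm y, fun h => ?_⟩
    let f : K → K := fun z => ⟨x * z * x⁻¹, hnorm z z.2⟩
    have hf : Function.Injective f := fun a b hab => by
      simpa [f] using hab
    obtain ⟨z, hz⟩ := (Finite.injective_iff_surjective.1 hf) ⟨_, h⟩
    have : (z : G) = y := by simpa [f] using hz
    exact this ▸ z.2
  have hle : closure {x} ≤ normalizer (K : Set G) := by
    rw [closure_le, Set.singleton_subset_iff]; exact hx
  let f : Fin p × K → G := fun e => x ^ (e.1 : ℕ) * e.2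
  have hsub : ((closure {x} ⊔ K : Subgroup G) : Set G) ⊆ Set.range f := by
    rw [coe_mul_of_left_le_normalizer_right _ _ hle]
    rintro _ ⟨a, ha, k, hk, rfl⟩
    rw [SetLike.mem_coe, ← zpowers_eq_closure, ← mem_powers_iff_mem_zpowers] at ha
    obtain ⟨m, rfl⟩ := ha
    refine ⟨(⟨m % p, Nat.mod_lt _ hp⟩, ⟨(x ^ p) ^ (m / p) * k, mul_mem (pow_mem hpow _) hk⟩), ?_⟩
    show x ^ (m % p) * ((x ^ p) ^ (m / p) * k) = x ^ m * k
    rw [← mul_assoc, ← pow_mul, ← pow_add, Nat.mod_add_div]
  calc Nat.card (closure {x} ⊔ K : Subgroup G)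
      = ((closure {x} ⊔ K : Subgroup G) : Set G).ncard := Nat.card_coe_set_eq _
    _ ≤ (Set.range f).ncard := Set.ncard_le_ncard hsub (Set.toFinite _)
    _ = Nat.card (Set.range f) := (Nat.card_coe_set_eq _).symm
    _ ≤ Nat.card (Fin p × K) := Nat.card_le_card_of_surjective _ Set.rangeFactorization_surjective
    _ = p * Nat.card K := by rw [Nat.card_prod, Nat.card_fin]

variable {X U}

/-- The order of a subgroup with a polycyclic generating sequence is bounded. -/
theorem card_tailGroup_le (hU : U ≤ center G) {p n : ℕ} (hp : 0 < p) {lo : ℕ}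
    (hconj : ∀ i, lo ≤ i → ∀ j, i < j → j < n → (X i)⁻¹ * X j * X i ∈ tailGroup X U n (i + 1))
    (hpow : ∀ i, lo ≤ i → i < n → X i ^ p ∈ tailGroup X U n (i + 1)) :
    ∀ m k, lo ≤ k → k + m = n → Nat.card (tailGroup X U n k) ≤ p ^ m * Nat.card U := by
  intro m
  induction m with
  | zero =>
    intro k _ hk
    rw [show tailGroup X U n k = U by simp [tailGroup, show k = n by omega]]
    simp
  | succ m ih =>
    intro k hlo hk
    have hsplit : tailGroup X U n k = closure {X k} ⊔ tailGroup X U n (k + 1) := by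
      rw [tailGroup, tailGroup, ← sup_assoc, ← closure_union, ← Set.image_singleton,
        ← Set.image_union]
      congr 3
      ext i
      simp only [Set.mem_Ico, Set.mem_union, Set.mem_singleton_iff]
      omega
    have hnorm : ∀ y ∈ tailGroup X U n (k + 1), (X k)⁻¹ * y * X k ∈ tailGroup X U n (k + 1) := by
      suffices h : (tailGroup X U n (k + 1)).map (MulAut.conj (X k)⁻¹).toMonoidHom ≤
          tailGroup X U n (k + 1) by
        intro y hy
        simpa using h (mem_map_of_mem _ hy)
      rw [map_le_iff_le_comap]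
      refine sup_le ((closure_le _).2 ?_) ?_
      · rintro _ ⟨j, ⟨hj, hjn⟩, rfl⟩
        simpa using hconj k hlo j hj hjn
      · intro u hu
        have hc := mem_center_iff.1 (hU hu) (X k)⁻¹
        have : (X k)⁻¹ * u * X k = u := by rw [hc, mul_assoc, inv_mul_cancel, mul_one]
        simp only [mem_comap, MulEquiv.coe_toMonoidHom, MulAut.conj_apply, inv_inv, this]
        exact mem_sup_right hu
    have hinv : closure {X k} = closure {(X k)⁻¹} := by
      rw [← zpowers_eq_closure, ← zpowers_eq_closure, zpowers_inv]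
    rw [hsplit, hinv]
    refine (card_mul_cyclic_le hp (fun y hy => by simpa using hnorm y hy) ?_).trans ?_
    · rw [inv_pow]; exact inv_mem (hpow k hlo (by omega))
    · rw [pow_succ', mul_assoc]
      exact Nat.mul_le_mul_left _ (ih (k + 1) (by omega) (by omega))

end Chain

section Vectors

variable {A : Type u} [CommGroup A]

/-- The value of a vector. -/
def lval (τ : ℕ → A) : List ℤ → A
  | [] => 1
  | x :: l => τ 0 ^ x * lval (fun i => τ (i + 1)) l

theorem lval_bump (c : ℤ) : ∀ (t : ℕ) (τ : ℕ → A) (l : List ℤ),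
    lval τ (bump t c l) = lval τ l * τ t ^ c
  | 0, τ, [] => by simp [bump, lval]
  | 0, τ, y :: l => by simp [bump, lval, zpow_add, mul_right_comm]
  | t + 1, τ, [] => by
    simp [bump, lval, lval_bump c t]
  | t + 1, τ, y :: l => by
    simp [bump, lval, lval_bump c t, mul_assoc]

theorem lval_addS (c : ℤ) : ∀ (τ : ℕ → A) (r acc : List ℤ),
    lval τ (addS c r acc) = lval τ acc * lval τ r ^ c
  | τ, [], acc => by simp [addS, lval]
  | τ, x :: r, [] => by
    simp [addS, lval, lval_addS c _ r [], mul_zpow, ← zpow_mul, mul_comm c x]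
  | τ, x :: r, y :: acc => by
    rw [addS, lval, lval, lval, lval_addS c _ r acc, mul_zpow, zpow_add, mul_comm c x, zpow_mul]
    simp only [mul_comm, mul_left_comm, mul_assoc]

theorem lval_eq_one : ∀ (τ : ℕ → A) (l : List ℤ), (l.all fun x => x == 0) = true → lval τ l = 1
  | _, [], _ => rfl
  | τ, x :: l, h => by
    simp only [List.all_cons, Bool.and_eq_true, beq_iff_eq] at h
    rw [lval, h.1, zpow_zero, one_mul, lval_eq_one _ l h.2]

theorem lval_eq {τ : ℕ → A} {a b : List ℤ} (h : vecEq a b = true) : lval τ a = lval τ b := by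
  have h1 := lval_eq_one τ _ h
  rw [lval_addS, zpow_neg_one, mul_inv_eq_one] at h1
  exact h1

theorem lval_tailVec (τ : ℕ → A) (pos neg : List ℕ) :
    lval τ (tailVec pos neg) = (pos.map τ).prod * ((neg.map τ).prod)⁻¹ := by
  have h1 : lval τ (pos.foldr (fun t l => bump t 1 l) []) = (pos.map τ).prod := by
    induction pos with
    | nil => rfl
    | cons t ts ih => simp [lval_bump, ih, mul_comm]
  induction neg with
  | nil => simp [tailVec, h1]
  | cons t ts ih =>
    simp only [tailVec] at ih
    simp [tailVec, lval_bump, ih, mul_comm, mul_left_comm, mul_assoc]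

theorem lval_comb_mem (τ : ℕ → A) (rows : List (List ℤ)) (W : Subgroup A)
    (h : ∀ r ∈ rows, lval τ r ∈ W) : ∀ cs, lval τ (comb rows cs) ∈ W
  | [] => one_mem W
  | e :: cs => by
    show lval τ (addS e.2 (rows.getD e.1 []) (comb rows cs)) ∈ W
    rw [lval_addS]
    refine mul_mem (lval_comb_mem τ rows W h cs) (zpow_mem ?_ _)
    rcases Nat.lt_or_ge e.1 rows.length with hlt | hge
    · rw [List.getD_eq_getElem _ _ hlt]; exact h _ (List.getElem_mem hlt)
    · rw [List.getD_eq_default _ _ hge]; exact one_mem W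

theorem lval_shiftSum (τ : ℕ → A) (shifts : List (List ℤ)) : ∀ w : Word,
    lval τ (shiftSum shifts w) = (w.map fun k => lval τ (shifts.getD k [])).prod
  | [] => rfl
  | k :: w => by
    show lval τ (addS 1 (shifts.getD k []) (shiftSum shifts w)) = _
    rw [lval_addS, zpow_one, lval_shiftSum τ shifts w, List.map_cons, List.prod_cons, mul_comm]

end Vectors

variable {G : Type u} [Group G]

/-- The hypotheses on a group: the relations and the conjugations of the equations hold. -/
structure Holds (R : Rules) (C : Cert) (gs : ℕ → G) (cg : ℕ → G) : Prop where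
  pow : ∀ i < R.n, gs i ^ R.p = ev gs (R.pwW i)
  comm : ∀ j < R.n, ∀ i < j, gs j * gs i = gs i * gs j * ev gs (R.cmW i j)
  fuse : ∀ g xs ys u v, Eqn.fuse g xs ys u v ∈ C.eqns → ∀ k ∈ u,
    cg g * ev gs (xs.getD k []) = ev gs (ys.getD k []) * cg g

/-- Every element of the kernel in the derived subgroup of the preimage of the Sylow subgroup lies
in the span of the listed elements, whose orders divide the listed ones. -/
theorem exists_span {R : Rules} {C : Cert} {gs cg : ℕ → G} (hG : Holds R C gs cg)
    (hshape : R.shapeOK = true) {fuel : ℕ} (heqs : C.eqnsOK R fuel = true)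
    (hsolve : C.solveOK R = true)
    (hcard : R.p ^ R.n ≤ Nat.card (closure (gs '' Set.Iio R.n)))
    {Γ : Type u} [Group Γ] [Finite Γ] {σ : Γ →* G} (hσ : IsStemExtension σ) :
    ∃ us : ℕ → Γ, (∀ k, us k ∈ σ.ker ∧ (k < C.us.length → us k ^ (C.ords.getD k 0) = 1)) ∧
      ∀ z ∈ σ.ker, z ∈ ⁅(closure (gs '' Set.Iio R.n)).comap σ,
        (closure (gs '' Set.Iio R.n)).comap σ⁆ → z ∈ closure (us '' Set.Iio C.us.length) := by
  classical
  have : Finite G := Finite.of_surjective σ hσ.1
  choose X hX using fun i => hσ.1 (gs i)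
  choose T hT using fun i => hσ.1 (cg i)
  let _ : CommGroup σ.ker :=
    { (inferInstance : Group σ.ker) with
      mul_comm := fun a b => Subtype.ext (mem_center_iff.1 (hσ.2.1 b.2) a) }
  have hcen : ∀ (a : σ.ker) (g : Γ), g * a = a * g := fun a g => mem_center_iff.1 (hσ.2.1 a.2) g
  simp only [Rules.shapeOK, Bool.and_eq_true, Nat.blt_eq, Nat.ble_eq, List.all_eq_true,
    List.mem_range] at hshape
  obtain ⟨⟨⟨hp, hdn⟩, hpwshape⟩, hcmshape⟩ := hshape
  -- the tails
  let disc : ℕ → Γ := fun t => (ev X (R.rhs t))⁻¹ * ev X (R.lhs t)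
  let τ : ℕ → σ.ker := fun t => if h : disc t ∈ σ.ker then ⟨disc t, h⟩ else 1
  have hσX : ∀ w : Word, σ (ev X w) = ev gs w := fun w => by
    rw [map_ev]; exact congrArg (fun f => ev f w) (funext hX)
  have hpowrule : ∀ i < R.n, X i ^ R.p = ev X (R.pwW i) * τ i := by
    intro i hi
    have hl : R.lhs i = List.replicate R.p i := by simp [Rules.lhs, hi]
    have hr : R.rhs i = R.pwW i := by simp [Rules.rhs, hi]
    have hd : disc i ∈ σ.ker := by
      rw [MonoidHom.mem_ker, map_mul, map_inv, hσX, hσX, hl, hr, ev_replicate, hG.pow i hi,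
        inv_mul_cancel]
    show _ = _ * ((if h : disc i ∈ σ.ker then ⟨disc i, h⟩ else 1 : σ.ker) : Γ)
    rw [dif_pos hd]
    show _ = _ * ((ev X (R.rhs i))⁻¹ * ev X (R.lhs i))
    rw [hl, hr, mul_inv_cancel_left, ev_replicate]
  have hcommrule : ∀ j < R.n, ∀ i < j,
      X j * X i = X i * X j * ev X (R.cmW i j) * τ (R.tix i j) := by
    intro j hj i hij
    have hnot : ¬ R.tix i j < R.n := by simp [Rules.tix]
    have h1 : (R.tix i j - R.n) % R.n = j := by
      simp [Rules.tix, Nat.mul_comm i R.n, Nat.mod_eq_of_lt hj]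
    have h2 : (R.tix i j - R.n) / R.n = i := by
      simp [Rules.tix, Nat.mul_comm i R.n, Nat.mul_add_div (show 0 < R.n by omega),
        Nat.div_eq_of_lt hj]
    have hl : R.lhs (R.tix i j) = [j, i] := by simp [Rules.lhs, hnot, h1, h2]
    have hr : R.rhs (R.tix i j) = i :: j :: R.cmW i j := by simp [Rules.rhs, hnot, h1, h2]
    have hd : disc (R.tix i j) ∈ σ.ker := by
      rw [MonoidHom.mem_ker, map_mul, map_inv, hσX, hσX, hl, hr]
      simp only [ev_cons, ev_nil, mul_one]
      rw [hG.comm j hj i hij]
      group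
    show _ = _ * ((if h : disc (R.tix i j) ∈ σ.ker then ⟨_, h⟩ else 1 : σ.ker) : Γ)
    rw [dif_pos hd]
    show _ = _ * ((ev X (R.rhs (R.tix i j)))⁻¹ * ev X (R.lhs (R.tix i j)))
    rw [hl, hr]
    simp only [ev_cons, ev_nil, mul_one]
    group
  -- collection
  have hstep : ∀ (w : Word) (e : Word × ℕ), R.step w = some e → ev X w = ev X e.1 * τ e.2 := by
    intro w
    induction w with
    | nil => intro e h; simp [Rules.step] at h
    | cons x w ih =>
      intro e h
      rw [Rules.step.eq_def] at h
      simp only at h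
      split at h
      · next hc =>
        simp only [Bool.and_eq_true, Nat.blt_eq, beq_iff_eq] at hc
        obtain rfl := Option.some.inj h
        conv_lhs => rw [ev_cons, ← List.take_append_drop (R.p - 1) w, ev_append, hc.2,
          ev_replicate, ← mul_assoc, ← pow_succ', Nat.sub_add_cancel hp, hpowrule x hc.1]
        rw [ev_append, mul_assoc, ← hcen, ← mul_assoc]
      · split at h
        · simp at h
        · next y r _ =>
          split at h
          · next hc =>
            simp only [Bool.and_eq_true, Nat.blt_eq] at hc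
            obtain rfl := Option.some.inj h
            simp only [ev_cons, ev_append]
            rw [← mul_assoc, hcommrule x hc.2 y hc.1, mul_assoc _ (τ _ : Γ), ← hcen]
            group
          · obtain ⟨e', he', rfl⟩ := Option.map_eq_some_iff.1 h
            rw [ev_cons, ih e' he', ev_cons, mul_assoc]
  have hcol : ∀ (k : ℕ) (w : Word),
      ev X w = ev X (R.collect k w).1 * ((((R.collect k w).2.map τ).prod : σ.ker) : Γ) := by
    intro k
    induction k with
    | zero => intro w; simp [Rules.collect]
    | succ k ih =>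
      intro w
      rw [Rules.collect]
      split
      · simp
      · next e he =>
        rw [hstep w e he, ih e.1, mul_assoc, ← Subgroup.coe_mul, mul_comm, List.map_cons,
          List.prod_cons]
  -- the equations
  have heqn : ∀ r ∈ C.rows, lval τ r = 1 := by
    intro r hr
    simp only [Cert.eqnsOK, Bool.and_eq_true, beq_iff_eq, List.all_eq_true, List.mem_range] at heqs
    obtain ⟨k, hk, rfl⟩ := List.getElem_of_mem hr
    have hk' : k < C.eqns.length := heqs.1 ▸ hk
    have he := heqs.2 k hk'
    rw [List.getD_eq_getElem _ _ hk, List.getD_eq_getElem _ _ hk'] at he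
    have hmem := List.getElem_mem hk'
    generalize C.eqns[k] = E at he hmem
    rcases E with ⟨a, b, c⟩ | ⟨g, xs, ys, u, v⟩
    · simp only [eqnOK, Bool.and_eq_true, beq_iff_eq] at he
      rw [← lval_eq he.2, lval_tailVec, mul_inv_eq_one, List.map_append, List.prod_append,
        List.map_append, List.prod_append]
      refine Subtype.ext (mul_left_cancel (a := ev X (R.collect fuel
        ((R.collect fuel (a ++ b)).1 ++ c)).1) ?_)
      have h1 : ev X (a ++ b ++ c) = ev X (R.collect fuel ((R.collect fuel (a ++ b)).1 ++ c)).1 *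
          ((((R.collect fuel (a ++ b)).2.map τ).prod *
            ((R.collect fuel ((R.collect fuel (a ++ b)).1 ++ c)).2.map τ).prod : σ.ker) : Γ) := by
        rw [ev_append, hcol fuel (a ++ b), mul_assoc (ev X _), ← hcen, ← mul_assoc, ← ev_append,
          hcol fuel ((R.collect fuel (a ++ b)).1 ++ c), mul_comm (List.map τ _).prod,
          Subgroup.coe_mul, mul_assoc]
      have h2 : ev X (a ++ b ++ c) = ev X (R.collect fuel (a ++ (R.collect fuel (b ++ c)).1)).1 *
          ((((R.collect fuel (b ++ c)).2.map τ).prod *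
            ((R.collect fuel (a ++ (R.collect fuel (b ++ c)).1)).2.map τ).prod : σ.ker) : Γ) := by
        rw [List.append_assoc, ev_append, hcol fuel (b ++ c), ← mul_assoc, ← ev_append,
          hcol fuel (a ++ (R.collect fuel (b ++ c)).1), mul_comm (List.map τ _).prod,
          Subgroup.coe_mul, mul_assoc]
      exact h1.symm.trans (h2.trans (by rw [he.1]))
    · simp only [eqnOK, Bool.and_eq_true, beq_iff_eq] at he
      obtain ⟨⟨⟨hperm, hp1⟩, hp2⟩, hv⟩ := he
      rw [List.isPerm_iff] at hperm
      rw [← lval_eq hv, lval_tailVec, mul_inv_eq_one, List.map_append, List.prod_append,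
        List.map_append, List.prod_append]
      -- the change of the lifts under conjugation
      let b : ℕ → σ.ker := fun m =>
        if h : (ev X (ys.getD m []))⁻¹ * (T g * ev X (xs.getD m []) * (T g)⁻¹) ∈ σ.ker
        then ⟨_, h⟩ else 1
      have hb : ∀ m ∈ u, T g * ev X (xs.getD m []) * (T g)⁻¹ = ev X (ys.getD m []) * b m := by
        intro m hm
        have h : (ev X (ys.getD m []))⁻¹ * (T g * ev X (xs.getD m []) * (T g)⁻¹) ∈ σ.ker := by
          rw [MonoidHom.mem_ker]
          simp only [map_mul, map_inv, hσX, hT]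
          rw [hG.fuse g xs ys u v hmem m hm]
          group
        show _ = _ * ((if h : (ev X (ys.getD m []))⁻¹ * (T g * ev X (xs.getD m []) * (T g)⁻¹) ∈
          σ.ker then ⟨_, h⟩ else 1 : σ.ker) : Γ)
        rw [dif_pos h, mul_inv_cancel_left]
      have hconj : ∀ l : List ℕ, (∀ m ∈ l, m ∈ u) →
          T g * ev X (pick xs l) * (T g)⁻¹ = ev X (pick ys l) * ((l.map b).prod : σ.ker) := by
        intro l
        induction l with
        | nil => intro _; simp [pick, ev_nil]
        | cons m l ih =>
          intro hl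
          have h1 := hb m (hl m List.mem_cons_self)
          have h2 := ih fun m' hm' => hl m' (List.mem_cons_of_mem _ hm')
          simp only [pick, List.map_cons, List.flatten_cons, List.prod_cons, ev_append,
            Subgroup.coe_mul] at h2 ⊢
          rw [show T g * (ev X (xs.getD m []) * ev X (List.map (fun k => xs.getD k []) l).flatten)
              * (T g)⁻¹ = (T g * ev X (xs.getD m []) * (T g)⁻¹) *
              (T g * ev X (List.map (fun k => xs.getD k []) l).flatten * (T g)⁻¹) by group, h1, h2]
          rw [mul_assoc, ← mul_assoc ((b m : σ.ker) : Γ), ← hcen]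
          simp only [mul_assoc]
      have hu := hconj u fun _ h => h
      have hv' := hconj v fun m h => hperm.mem_iff.2 h
      rw [hcol fuel, hcol fuel (pick ys u)] at hu
      rw [hcol fuel, hcol fuel (pick ys v), ← hp1, ← hp2, ← (hperm.map b).prod_eq] at hv'
      generalize ev X (R.collect fuel (pick xs u)).1 = W at hu hv'
      generalize ev X (R.collect fuel (pick ys u)).1 = W' at hu hv'
      generalize ((R.collect fuel (pick xs u)).2.map τ).prod = α at hu hv' ⊢
      generalize ((R.collect fuel (pick xs v)).2.map τ).prod = β at hu hv' ⊢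
      generalize ((R.collect fuel (pick ys u)).2.map τ).prod = γ at hu hv' ⊢
      generalize ((R.collect fuel (pick ys v)).2.map τ).prod = δ at hu hv' ⊢
      generalize (u.map b).prod = B at hu hv'
      have hu' : T g * W * (T g)⁻¹ = W' * ((γ * B * α⁻¹ : σ.ker) : Γ) := by
        calc T g * W * (T g)⁻¹ = T g * (W * α) * (T g)⁻¹ * ((α⁻¹ : σ.ker) : Γ) := by
              simp only [mul_assoc, ← hcen α (T g)⁻¹, Subgroup.coe_inv]; group
          _ = W' * ((γ * B * α⁻¹ : σ.ker) : Γ) := by
              rw [hu]; simp only [Subgroup.coe_mul, mul_assoc]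
      have hv'' : T g * W * (T g)⁻¹ = W' * ((δ * B * β⁻¹ : σ.ker) : Γ) := by
        calc T g * W * (T g)⁻¹ = T g * (W * β) * (T g)⁻¹ * ((β⁻¹ : σ.ker) : Γ) := by
              simp only [mul_assoc, ← hcen β (T g)⁻¹, Subgroup.coe_inv]; group
          _ = W' * ((δ * B * β⁻¹ : σ.ker) : Γ) := by
              rw [hv']; simp only [Subgroup.coe_mul, mul_assoc]
      have h3 : γ * B * α⁻¹ = δ * B * β⁻¹ := Subtype.ext (mul_left_cancel (hu'.symm.trans hv''))
      rw [mul_right_comm, mul_right_comm δ B] at h3
      have h4 := mul_inv_eq_iff_eq_mul.1 (mul_right_cancel h3)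
      rw [h4, mul_assoc δ, mul_left_comm β δ, mul_inv_cancel_left, mul_comm δ]
  -- the span
  simp only [Cert.solveOK, Bool.and_eq_true, List.all_eq_true, List.mem_range,
    Bool.or_eq_true, Nat.blt_eq] at hsolve
  obtain ⟨⟨⟨hord, hzero⟩, hpw⟩, hcm⟩ := hsolve
  let us : ℕ → Γ := fun k => ((lval τ (C.us.getD k []) : σ.ker) : Γ)
  refine ⟨us, fun k => ⟨(lval τ (C.us.getD k [])).2, fun hk => ?_⟩, ?_⟩
  · show ((lval τ (C.us.getD k []) : σ.ker) : Γ) ^ _ = 1
    have h := lval_eq (τ := τ) (hord k hk)
    rw [lval_addS, zpow_natCast] at h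
    have h1 := lval_comb_mem τ C.rows ⊥ (fun r hr => mem_bot.2 (heqn r hr)) (C.ordComb.getD k [])
    rw [mem_bot, h] at h1
    rw [← Subgroup.coe_pow]
    simpa [lval] using congrArg Subtype.val h1
  set U : Subgroup Γ := closure (us '' Set.Iio C.us.length) with hUdef
  have hUker : U ≤ σ.ker := (closure_le _).2 (by
    rintro _ ⟨k, -, rfl⟩; exact (lval τ (C.us.getD k [])).2)
  have hUc : U ≤ center Γ := hUker.trans hσ.2.1
  have hcombU : ∀ cs, ((lval τ (comb (C.rows ++ C.us) cs) : σ.ker) : Γ) ∈ U := fun cs => by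
    refine lval_comb_mem τ _ (U.subgroupOf σ.ker) (fun r hr => ?_) cs
    rcases List.mem_append.1 hr with hr | hr
    · rw [heqn r hr]; exact one_mem _
    · obtain ⟨k, hk, rfl⟩ := List.getElem_of_mem hr
      rw [mem_subgroupOf]
      exact subset_closure ⟨k, hk, by simp only [us, List.getD_eq_getElem _ _ hk]⟩
  -- the corrected lifts
  let s : ℕ → σ.ker := fun i => lval τ (C.shifts.getD i [])
  let Y : ℕ → Γ := fun i => X i * s i
  have hevY : ∀ w : Word, ev Y w = ev X w * ((lval τ (shiftSum C.shifts w) : σ.ker) : Γ) := by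
    intro w
    rw [lval_shiftSum]
    induction w with
    | nil => simp [ev_nil]
    | cons k w ih =>
      rw [ev_cons, ev_cons, ih, List.map_cons, List.prod_cons, Subgroup.coe_mul]
      show X k * _ * (ev X w * _) = _
      rw [mul_assoc, ← mul_assoc ((s k : σ.ker) : Γ), ← hcen]
      simp only [mul_assoc, s]
  have hsw : ∀ (a b : Γ) (x y : σ.ker), a * x * (b * y) = a * b * ((x * y : σ.ker) : Γ) := by
    intro a b x y
    rw [mul_assoc a, ← mul_assoc (x : Γ), ← hcen x b, Subgroup.coe_mul]
    simp only [mul_assoc]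
  have hsw1 : ∀ (a b : Γ) (x : σ.ker), a * x * b = a * b * (x : Γ) := by
    intro a b x
    rw [mul_assoc, ← hcen x b, mul_assoc]
  have hYcomm : ∀ j < R.n, ∀ i < j,
      ∃ e ∈ U, Y j * Y i = Y i * Y j * ev Y (R.cmW i j) * e := by
    intro j hj i hij
    refine ⟨_, hcombU ((C.cmComb.getD i []).getD j []), ?_⟩
    rw [lval_eq (hcm j hj i hij), lval_addS, lval_bump, show lval τ ([] : List ℤ) = 1 from rfl,
      one_mul, zpow_one, zpow_neg_one, hevY]
    show X j * s j * (X i * s i) = X i * s i * (X j * s j) * _ * _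
    generalize hS : lval τ (shiftSum C.shifts (R.cmW i j)) = S
    have key : τ (R.tix i j) * (s j * s i) = s i * s j * S * (τ (R.tix i j) * S⁻¹) := by
      rw [mul_comm (τ _) S⁻¹, mul_assoc (s i * s j) S, mul_inv_cancel_left, mul_comm,
        mul_comm (s j)]
    rw [hsw, hcommrule j hj i hij, hsw, hsw, mul_assoc _ (τ _ : Γ), ← Subgroup.coe_mul, key,
      Subgroup.coe_mul _ (s i * s j * S), ← mul_assoc]
  have hYpow : ∀ i, R.d ≤ i → i < R.n → ∃ e ∈ U, Y i ^ R.p = ev Y (R.pwW i) * e := by
    intro i hdi hi
    refine ⟨_, hcombU (C.pwComb.getD i []), ?_⟩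
    rcases hpw i hi with h | h
    · omega
    rw [lval_eq h, lval_addS, lval_addS, lval_bump, show lval τ ([] : List ℤ) = 1 from rfl,
      one_mul, zpow_one, zpow_neg_one, zpow_natCast, hevY]
    show (X i * s i) ^ R.p = _
    generalize hS : lval τ (shiftSum C.shifts (R.pwW i)) = S
    have key : τ i * s i ^ R.p = S * (τ i * s i ^ R.p * S⁻¹) := by
      rw [mul_comm _ S⁻¹, mul_inv_cancel_left]
    rw [(show Commute (X i) (s i : Γ) from hcen _ _).mul_pow, hpowrule i hi, ← Subgroup.coe_pow,
      mul_assoc, ← Subgroup.coe_mul]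
    conv_lhs => rw [key, Subgroup.coe_mul _ S, ← mul_assoc]
  have hconjY : ∀ i j, i < j → j < R.n →
      ∃ e ∈ U, (Y i)⁻¹ * Y j * Y i = Y j * ev Y (R.cmW i j) * e := by
    intro i j hij hj
    obtain ⟨e, he, heq⟩ := hYcomm j hj i hij
    exact ⟨e, he, by rw [mul_assoc, heq]; group⟩
  set D := tailGroup Y U R.n R.d with hDdef
  have hcmD : ∀ i j, i < j → j < R.n →
      ev Y (R.cmW i j) ∈ tailGroup Y U R.n (max R.d (i + 1)) := fun i j hij hj =>
    ev_mem fun k hk => by
      have h := hcmshape j hj i hij k hk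
      exact mem_tailGroup Y U (by omega) h.2
  have hDcard : Nat.card D ≤ R.p ^ (R.n - R.d) * Nat.card U := by
    refine card_tailGroup_le hUc hp ?_ ?_ (R.n - R.d) R.d le_rfl (by omega)
    · intro i hi j hij hj
      obtain ⟨e, he, heq⟩ := hconjY i j hij hj
      rw [heq]
      exact mul_mem (mul_mem (mem_tailGroup Y U hij hj)
        (tailGroup_mono Y U (le_max_right _ _) (hcmD i j hij hj))) (mem_sup_right he)
    · intro i hi hin
      obtain ⟨e, he, heq⟩ := hYpow i hi hin
      rw [heq]
      refine mul_mem (ev_mem fun k hk => ?_) (mem_sup_right he)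
      have h := hpwshape i hin k hk
      exact mem_tailGroup Y U h.1 h.2
  -- the image
  have hσY : ∀ i, σ (Y i) = gs i := fun i => by
    rw [map_mul, hX, (s i).2, mul_one]
  have hGimage : closure (gs '' Set.Iio R.n) = tailGroup gs ⊥ R.n 0 := by
    rw [tailGroup, sup_bot_eq]
    congr 2
    ext i; simp
  have hNcard : R.p ^ (R.n - R.d) ≤ Nat.card (tailGroup gs ⊥ R.n R.d) := by
    have hgo : ∀ m k, k + m = R.d → Nat.card (tailGroup gs ⊥ R.n k) ≤
        R.p ^ m * Nat.card (tailGroup gs ⊥ R.n R.d) := by
      intro m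
      induction m with
      | zero => intro k hk; obtain rfl : k = R.d := by omega
                simp
      | succ m ih =>
        intro k hk
        have hk' : k < R.n := by omega
        have hsplit : tailGroup gs ⊥ R.n k = closure {gs k} ⊔ tailGroup gs ⊥ R.n (k + 1) := by
          rw [tailGroup, tailGroup, ← sup_assoc, ← closure_union, ← Set.image_singleton,
            ← Set.image_union]
          congr 3
          ext i
          simp only [Set.mem_Ico, Set.mem_union, Set.mem_singleton_iff]
          omega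
        have hinv : closure {gs k} = closure {(gs k)⁻¹} := by
          rw [← zpowers_eq_closure, ← zpowers_eq_closure, zpowers_inv]
        rw [hsplit, hinv]
        refine (card_mul_cyclic_le hp ?_ ?_).trans ?_
        · suffices h : (tailGroup gs ⊥ R.n (k + 1)).map (MulAut.conj (gs k)⁻¹).toMonoidHom ≤
              tailGroup gs ⊥ R.n (k + 1) by
            intro y hy
            simpa using h (mem_map_of_mem _ hy)
          rw [map_le_iff_le_comap]
          refine sup_le ((closure_le _).2 ?_) bot_le
          rintro _ ⟨j, ⟨hj, hjn⟩, rfl⟩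
          have h := hG.comm j hjn k (by omega)
          have : (gs k)⁻¹ * gs j * gs k = gs j * ev gs (R.cmW k j) := by
            rw [mul_assoc, h]; group
          simp only [SetLike.mem_coe, mem_comap, MulEquiv.coe_toMonoidHom, MulAut.conj_apply,
            inv_inv, this]
          refine mul_mem (mem_tailGroup gs ⊥ hj hjn) (ev_mem fun l hl => ?_)
          have hs := hcmshape j hjn k (by omega) l hl
          exact mem_tailGroup gs ⊥ (by omega) hs.2
        · rw [inv_pow]
          refine inv_mem ?_
          rw [hG.pow k hk']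
          refine ev_mem fun l hl => ?_
          have hs := hpwshape k hk' l hl
          exact mem_tailGroup gs ⊥ hs.1 hs.2
        · rw [pow_succ', mul_assoc]
          exact Nat.mul_le_mul_left _ (ih (k + 1) (by omega))
    have h := hgo R.d 0 (by omega)
    rw [← hGimage] at h
    have h2 := hcard.trans h
    rw [show R.p ^ R.n = R.p ^ R.d * R.p ^ (R.n - R.d) by
      rw [← pow_add, Nat.add_sub_cancel' hdn]] at h2
    exact Nat.le_of_mul_le_mul_left h2 (pow_pos hp _)
  have hmap : D.map σ = tailGroup gs ⊥ R.n R.d := by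
    rw [hDdef, tailGroup, tailGroup, Subgroup.map_sup, MonoidHom.map_closure, Set.image_image,
      (map_eq_bot_iff U).2 hUker]
    simp only [hσY]
  have hinf : ∀ z ∈ σ.ker, z ∈ D → z ∈ U := by
    intro z hz hzD
    let φ : D →* G := σ.comp D.subtype
    have h1 : Nat.card φ.ker * Nat.card φ.range = Nat.card D := by
      rw [← index_ker φ, card_mul_index]
    have h2 : φ.range = D.map σ := by
      rw [MonoidHom.range_comp, Subgroup.range_subtype]
    rw [h2, hmap] at h1
    have hUD : U.subgroupOf D ≤ φ.ker := fun x hx => hUker (mem_subgroupOf.1 hx)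
    have h3 : Nat.card (U.subgroupOf D) = Nat.card U :=
      Nat.card_congr (subgroupOfEquivOfLe (le_sup_right : U ≤ D)).toEquiv
    have h4 : Nat.card φ.ker * R.p ^ (R.n - R.d) ≤ Nat.card U * R.p ^ (R.n - R.d) :=
      calc Nat.card φ.ker * R.p ^ (R.n - R.d)
          ≤ Nat.card φ.ker * Nat.card (tailGroup gs ⊥ R.n R.d) := Nat.mul_le_mul_left _ hNcard
        _ = Nat.card D := h1
        _ ≤ _ := by rw [mul_comm (Nat.card U)]; exact hDcard
    have h5 : Nat.card φ.ker ≤ Nat.card (U.subgroupOf D) := by
      rw [h3]; exact Nat.le_of_mul_le_mul_right h4 (pow_pos hp _)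
    have h6 : (⟨z, hzD⟩ : D) ∈ φ.ker := hz
    rw [← eq_of_le_of_card_ge hUD h5] at h6
    exact mem_subgroupOf.1 h6
  intro z hz hzc
  refine hinf z hz ?_
  -- the derived subgroup of the preimage
  set L := tailGroup Y U R.n 0 with hLdef
  have hPre : (closure (gs '' Set.Iio R.n)).comap σ = L ⊔ σ.ker := by
    rw [← comap_map_eq, hLdef, tailGroup, Subgroup.map_sup, MonoidHom.map_closure, Set.image_image,
      (map_eq_bot_iff U).2 hUker, sup_bot_eq]
    simp only [hσY]
    congr 3
    ext i; simp
  rw [hPre] at hzc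
  have hDnorm : ∀ i < R.n, ∀ y ∈ D, (Y i)⁻¹ * y * Y i ∈ D := by
    intro i hi
    suffices h : D.map (MulAut.conj (Y i)⁻¹).toMonoidHom ≤ D by
      intro y hy
      simpa using h (mem_map_of_mem _ hy)
    rw [map_le_iff_le_comap]
    refine sup_le ((closure_le _).2 ?_) ?_
    · rintro _ ⟨j, ⟨hj, hjn⟩, rfl⟩
      simp only [SetLike.mem_coe, mem_comap, MulEquiv.coe_toMonoidHom, MulAut.conj_apply, inv_inv]
      rcases Nat.lt_or_ge i j with h | h
      · obtain ⟨e, he, heq⟩ := hconjY i j h hjn
        rw [heq]
        exact mul_mem (mul_mem (mem_tailGroup Y U hj hjn)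
          (tailGroup_mono Y U (le_max_left _ _) (hcmD i j h hjn))) (mem_sup_right he)
      · have hi' : Y i ∈ D := mem_tailGroup Y U (by omega) hi
        exact mul_mem (mul_mem (inv_mem hi') (mem_tailGroup Y U hj hjn)) hi'
    · intro u hu
      simp only [mem_comap, MulEquiv.coe_toMonoidHom, MulAut.conj_apply, inv_inv]
      rw [mul_assoc, ← mem_center_iff.1 (hUc hu) (Y i), inv_mul_cancel_left]
      exact mem_sup_right hu
  have hLnorm : L ≤ normalizer (D : Set Γ) := by
    refine sup_le ((closure_le _).2 ?_) (le_sup_right.trans le_normalizer)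
    rintro _ ⟨i, hi, rfl⟩
    have hmem : (Y i)⁻¹ ∈ normalizer (D : Set Γ) := by
      rw [mem_normalizer_iff]
      intro y
      refine ⟨fun hy => by simpa using hDnorm i hi.2 y hy, fun hy => ?_⟩
      let f : D → D := fun w => ⟨(Y i)⁻¹ * w * Y i, hDnorm i hi.2 w w.2⟩
      have hf : Function.Injective f := fun a b hab => by simpa [f] using hab
      obtain ⟨w, hw⟩ := (Finite.injective_iff_surjective.1 hf)
        ⟨_, by simpa using hy⟩
      have : (w : Γ) = y := by simpa [f] using hw
      exact this ▸ w.2
    simpa using inv_mem hmem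
  have hgenc : ∀ i < R.n, ∀ j < R.n, ⁅Y i, Y j⁆ ∈ D := by
    have key : ∀ i j, i < j → j < R.n → ⁅Y i, Y j⁆ ∈ D := by
      intro i j hij hj
      obtain ⟨e, he, heq⟩ := hYcomm j hj i hij
      have hN : Y i * Y j ∈ normalizer (D : Set Γ) :=
        mul_mem (hLnorm (mem_tailGroup Y U (Nat.zero_le _) (by omega)))
          (hLnorm (mem_tailGroup Y U (Nat.zero_le _) hj))
      have hce : ev Y (R.cmW i j) * e ∈ D :=
        mul_mem (tailGroup_mono Y U (le_max_left _ _) (hcmD i j hij hj)) (mem_sup_right he)
      have : ⁅Y i, Y j⁆ = (Y i * Y j) * (ev Y (R.cmW i j) * e)⁻¹ * (Y i * Y j)⁻¹ := by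
        rw [commutatorElement_def, show Y i * Y j * (Y i)⁻¹ * (Y j)⁻¹ =
          Y i * Y j * (Y j * Y i)⁻¹ by group, heq]
        group
      rw [this]
      exact (mem_normalizer_iff.1 hN _).1 (inv_mem hce)
    intro i hi j hj
    rcases lt_trichotomy i j with h | rfl | h
    · exact key i j h hj
    · rw [commutatorElement_self]; exact one_mem _
    · rw [← commutatorElement_inv]; exact inv_mem (key j i h hi)
  have hLL : ⁅L, L⁆ ≤ D := by
    have : (D.subgroupOf L).Normal :=
      ⟨fun x hx g => mem_subgroupOf.2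
        ((mem_normalizer_iff.1 (hLnorm g.2) x).1 (mem_subgroupOf.1 hx))⟩
    let π : L →* L ⧸ D.subgroupOf L := QuotientGroup.mk' _
    have hcomm : ∀ a b : L, π a * π b = π b * π a := by
      have hgens : closure ((↑) ⁻¹' (Y '' Set.Iio R.n ∪ U) : Set L) = ⊤ := by
        have hL : L = closure (Y '' Set.Iio R.n ∪ U) := by
          rw [closure_union, closure_eq, hLdef, tailGroup]
          congr 3
          ext i; simp
        rw [eq_top_iff]
        rintro ⟨x, hx⟩ -
        rw [hL] at hx
        induction hx using closure_induction with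
        | mem y hy => exact subset_closure hy
        | one => exact one_mem _
        | mul a b ha hb h1 h2 =>
          exact mul_mem (h1 (hL ▸ ha)) (h2 (hL ▸ hb))
        | inv a ha h1 => exact inv_mem (h1 (hL ▸ ha))
      have hU1 : ∀ a : L, (a : Γ) ∈ U → π a = 1 := fun a ha =>
        (QuotientGroup.eq_one_iff _).2 (mem_subgroupOf.2 (mem_sup_right ha))
      intro a b
      have hb : ∀ c : L, (c : Γ) ∈ Y '' Set.Iio R.n ∪ U → Commute (π c) (π b) := by
        intro c hc
        induction (hgens ▸ mem_top b : b ∈ closure _) using closure_induction with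
        | mem e he =>
          rcases hc with ⟨i, hi, hci⟩ | hc
          · rcases he with ⟨j, hj, hej⟩ | he
            · refine commutatorElement_eq_one_iff_commute.1 ?_
              rw [← map_commutatorElement, ← MonoidHom.mem_ker, QuotientGroup.ker_mk',
                mem_subgroupOf]
              show ⁅(c : Γ), (e : Γ)⁆ ∈ D
              rw [← hci, ← hej]
              exact hgenc i hi j hj
            · rw [hU1 e he]; exact Commute.one_right _
          · rw [hU1 c hc]; exact Commute.one_left _
        | one => rw [map_one]; exact Commute.one_right _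
        | mul e e' _ _ h h' => rw [map_mul]; exact h.mul_right h'
        | inv e _ h => rw [map_inv]; exact h.inv_right
      have ha : Commute (π a) (π b) := by
        induction (hgens ▸ mem_top a : a ∈ closure _) using closure_induction with
        | mem e he => exact hb e he
        | one => rw [map_one]; exact Commute.one_left _
        | mul e e' _ _ h h' => rw [map_mul]; exact h.mul_left h'
        | inv e _ h => rw [map_inv]; exact h.inv_left
      exact ha
    rw [commutator_le]
    intro x hx y hy
    have h := commutatorElement_eq_one_iff_mul_comm.2 (hcomm ⟨x, hx⟩ ⟨y, hy⟩)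
    rw [← map_commutatorElement, ← MonoidHom.mem_ker, QuotientGroup.ker_mk'] at h
    exact mem_subgroupOf.1 h
  have hnorm : ∀ x ∈ L ⊔ σ.ker, ∃ a ∈ L, σ x = σ a := by
    intro x hx
    have : σ.ker.Normal := inferInstance
    obtain ⟨a, ha, k, hk, rfl⟩ := mem_sup_of_normal_right.1 hx
    exact ⟨a, ha, by rw [map_mul, MonoidHom.mem_ker.1 hk, mul_one]⟩
  revert hzc
  suffices h : ⁅L ⊔ σ.ker, L ⊔ σ.ker⁆ ≤ D from fun hzc => h hzc
  rw [commutator_le]
  intro x hx y hy
  obtain ⟨a, ha, hax⟩ := hnorm x hx
  obtain ⟨b, hb, hby⟩ := hnorm y hy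
  rw [Schur.commutator_congr hσ.2.1 hax hby]
  exact hLL (commutator_mem_commutator ha hb)

end CfsgLib.Schur.Pc
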