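/-
Using the polycyclic certificates: Sylow subgroups given by coded elements, and the assembly of
the primes.
-/
import Cfsg.Agent.Lib.Schur.PcSylow
import Mathlib.GroupTheory.Sylow
import Mathlib.Data.List.Chain
import Mathlib.Data.ZMod.Basic
import Mathlib.GroupTheory.SpecificGroups.Cyclic

set_option autoImplicit false

namespace CfsgLib.Schur.Pc

open Subgroup Cfsg
open scoped commutatorElement

universe u v

/-- The `p`-power torsion of every stem kernel is spanned by `r` elements with orders dividing
those listed. -/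
def SpanAt (p : ℕ) (G : Type u) [Group G] (ords : List ℕ) : Prop :=
  ∀ (Γ : Type u) [Group Γ] [Finite Γ] (σ : Γ →* G), IsStemExtension σ →
    ∃ us : ℕ → Γ, (∀ k, us k ∈ σ.ker ∧ (k < ords.length → us k ^ ords.getD k 0 = 1)) ∧
      ∀ z ∈ σ.ker, (∃ e : ℕ, z ^ p ^ e = 1) → z ∈ closure (us '' Set.Iio ords.length)

theorem noMultiplierAt_of_spanAt {p : ℕ} {G : Type u} [Group G] (h : SpanAt p G []) :
    NoMultiplierAt p G := by
  intro Γ _ _ σ hσ z hz hzp
  obtain ⟨us, -, hus⟩ := h Γ σ hσ
  have := hus z hz ⟨1, by rwa [pow_one]⟩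
  simpa using this

theorem spanAt_of_noMultiplierAt {p : ℕ} (hp : p.Prime) {G : Type u} [Group G]
    (h : NoMultiplierAt p G) : SpanAt p G [] := by
  intro Γ _ _ σ hσ
  refine ⟨fun _ => 1, fun k => ⟨one_mem _, by simp⟩, fun z hz ⟨e, he⟩ => ?_⟩
  suffices hall : ∀ (e : ℕ) (w : Γ), w ∈ σ.ker → w ^ p ^ e = 1 → w = 1 by
    rw [hall e z hz he]; exact one_mem _
  intro e
  induction e with
  | zero => intro w _ hw; simpa using hw
  | succ e ih =>
    intro w hw hwe
    exact ih w hw (h Γ σ hσ _ (pow_mem hw _) (by rw [← pow_mul, ← pow_succ, hwe]))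

theorem center_mem_sylow_of_pow {Γ : Type u} [Group Γ] [Finite Γ] {p : ℕ} [Fact p.Prime]
    (P : Sylow p Γ) {z : Γ} (hc : z ∈ center Γ) {e : ℕ} (hz : z ^ p ^ e = 1) : z ∈ P := by
  have hpg : IsPGroup p (zpowers z) := by
    rintro ⟨x, k, rfl⟩
    refine ⟨e, Subtype.ext ?_⟩
    simp only [SubmonoidClass.coe_pow, coe_one]
    rw [← zpow_natCast, ← zpow_mul, mul_comm, zpow_mul, zpow_natCast, hz, one_zpow]
  obtain ⟨Q, hQ⟩ := hpg.exists_le_sylow
  obtain ⟨g, hg⟩ := MulAction.exists_smul_eq Γ Q P
  rw [← hg]
  refine Set.mem_smul_set.mpr ⟨z, hQ (mem_zpowers z), ?_⟩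
  simp [MulAut.smul_def, mem_center_iff.mp hc g, mul_inv_cancel_right]

section Coded

variable {G : Type u} [Group G] {α : Type v} [DecidableEq α] (cmul : α → α → α) (cone : α)

/-- The code of a word. -/
def evC (cs : List α) (w : Word) : α := w.foldr (fun i acc => cmul (cs.getD i cone) acc) cone

/-- The relations and conjugations hold for the codes. -/
def holdsOK (R : Rules) (C : Cert) (cs ks : List α) : Bool :=
  (List.range R.n).all (fun i =>
    decide (evC cmul cone cs (List.replicate R.p i) = evC cmul cone cs (R.pwW i))) &&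
  (List.range R.n).all (fun j => (List.range j).all fun i =>
    decide (evC cmul cone cs [j, i] = evC cmul cone cs (i :: j :: R.cmW i j))) &&
  C.eqns.all (fun e => match e with
    | .assoc _ _ _ => true
    | .fuse g xs ys u _ => u.all fun k =>
        decide (cmul (ks.getD g cone) (evC cmul cone cs (xs.getD k [])) =
          cmul (evC cmul cone cs (ys.getD k [])) (ks.getD g cone)))

/-- The codes of all elements in normal form with letters from `k` on. -/
def pcElems (p n : ℕ) (cs : List α) : ℕ → List α
  | 0 => [cone]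
  | m + 1 =>
    let rest := pcElems p n cs m
    let g := cs.getD (n - (m + 1)) cone
    (List.range p).flatMap fun e => rest.map fun r => evC cmul cone [g, r] (List.replicate e 0 ++ [1])

variable {cmul cone} (Rep : α → G → Prop) (rep_one : Rep cone 1)
  (rep_mul : ∀ {a b : α} {x y : G}, Rep a x → Rep b y → Rep (cmul a b) (x * y))

include rep_one rep_mul

theorem rep_evC {cs : List α} {gs : ℕ → G} (h : ∀ i, Rep (cs.getD i cone) (gs i)) :
    ∀ w : Word, Rep (evC cmul cone cs w) (ev gs w)
  | [] => rep_one
  | i :: w => by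
    rw [ev_cons]
    exact rep_mul (h i) (rep_evC h w)

variable (rep_uniq : ∀ {a : α} {x y : G}, Rep a x → Rep a y → x = y)
include rep_uniq

theorem holds_of_check {R : Rules} {C : Cert} {cs ks : List α} {gs cg : ℕ → G}
    (hgs : ∀ i, Rep (cs.getD i cone) (gs i)) (hcg : ∀ i, Rep (ks.getD i cone) (cg i))
    (h : holdsOK cmul cone R C cs ks = true) : Holds R C gs cg := by
  simp only [holdsOK, Bool.and_eq_true, List.all_eq_true, List.mem_range, decide_eq_true_eq] at h
  obtain ⟨⟨hp, hc⟩, hf⟩ := h
  have hev := rep_evC Rep rep_one rep_mul hgs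
  refine ⟨fun i hi => ?_, fun j hj i hij => ?_, fun g xs ys u v hm k hk => ?_⟩
  · have h1 := hev (List.replicate R.p i)
    rw [hp i hi, ev_replicate] at h1
    exact rep_uniq h1 (hev _)
  · have h1 := hev [j, i]
    rw [hc j hj i hij] at h1
    have h2 := rep_uniq h1 (hev _)
    simpa [ev_cons, ev_nil, mul_assoc] using h2
  · have h0 := hf _ hm
    simp only [List.all_eq_true, decide_eq_true_eq] at h0
    have h1 := rep_mul (hcg g) (hev (xs.getD k []))
    rw [h0 k hk] at h1
    exact rep_uniq h1 (rep_mul (hev _) (hcg g))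

omit rep_uniq in
theorem rep_pcElems {cs : List α} {gs : ℕ → G} (h : ∀ i, Rep (cs.getD i cone) (gs i))
    (p n : ℕ) : ∀ m ≤ n, ∀ a ∈ pcElems cmul cone p n cs m,
      ∃ x ∈ closure (gs '' Set.Iio n), Rep a x := by
  intro m
  induction m with
  | zero =>
    intro _ a ha
    rw [pcElems, List.mem_singleton] at ha
    exact ⟨1, one_mem _, ha ▸ rep_one⟩
  | succ m ih =>
    intro hm a ha
    simp only [pcElems, List.mem_flatMap, List.mem_map, List.mem_range] at ha
    obtain ⟨e, -, r, hr, rfl⟩ := ha
    obtain ⟨x, hx, hrx⟩ := ih (by omega) r hr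
    refine ⟨gs (n - (m + 1)) ^ e * x, mul_mem (pow_mem (subset_closure
      (Set.mem_image_of_mem gs (Set.mem_Iio.2 (show n - (m + 1) < n by omega)))) _) hx, ?_⟩
    have h2 : ∀ i, Rep (([cs.getD (n - (m + 1)) cone, r]).getD i cone)
        (([gs (n - (m + 1)), x]).getD i 1) := by
      rintro (_ | _ | i)
      · exact h _
      · exact hrx
      · simpa using rep_one
    have h3 := rep_evC Rep rep_one rep_mul h2 (List.replicate e 0 ++ [1])
    rw [ev_append, ev_replicate, ev_cons, ev_nil, mul_one] at h3
    exact h3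

omit rep_uniq in
/-- A lower bound for the order from distinct codes. -/
theorem le_card_of_elems [Finite G] (rep_code : ∀ {a b : α} {x : G}, Rep a x → Rep b x → a = b)
    {cs : List α} {gs : ℕ → G} (h : ∀ i, Rep (cs.getD i cone) (gs i)) (p n : ℕ)
    (hnd : (pcElems cmul cone p n cs n).Nodup) :
    (pcElems cmul cone p n cs n).length ≤ Nat.card (closure (gs '' Set.Iio n)) := by
  have h1 := fun a : {a // a ∈ pcElems cmul cone p n cs n} =>
    rep_pcElems Rep rep_one rep_mul h p n n le_rfl a a.2
  choose f hf hfr using h1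
  have hinj : Function.Injective (fun a => (⟨f a, hf a⟩ : closure (gs '' Set.Iio n))) := by
    intro a b hab
    have e : f a = f b := congrArg Subtype.val hab
    exact Subtype.ext (rep_code (hfr a) (e ▸ hfr b))
  have := Nat.card_le_card_of_injective _ hinj
  rw [Nat.card_eq_fintype_card, Fintype.card_of_subtype (pcElems cmul cone p n cs n).toFinset
    (fun x => List.mem_toFinset), List.toFinset_card_of_nodup hnd] at this
  exact this

end Coded

/-- Distinctness by a list of positions sorting the values. -/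
def sortedBy (l : List ℕ) (idx : List ℕ) : Bool :=
  idx.length == l.length && idx.all (fun i => Nat.blt i l.length) &&
    (List.range (idx.length - 1)).all fun k =>
      Nat.blt (l.getD (idx.getD k 0) 0) (l.getD (idx.getD (k + 1) 0) 0)

theorem nodup_of_sortedBy {l idx : List ℕ} (h : sortedBy l idx = true) : l.Nodup := by
  simp only [sortedBy, Bool.and_eq_true, beq_iff_eq, List.all_eq_true, List.mem_range,
    Nat.blt_eq] at h
  obtain ⟨⟨hlen, hbd⟩, hlt⟩ := h
  have hmono : ∀ i j, i < j → j < idx.length →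
      l.getD (idx.getD i 0) 0 < l.getD (idx.getD j 0) 0 := by
    intro i j hij hj
    induction j with
    | zero => omega
    | succ j ih =>
      rcases Nat.lt_or_ge i j with hlt' | hge
      · exact (ih hlt' (by omega)).trans (hlt j (by omega))
      · obtain rfl : i = j := by omega
        exact hlt i (by omega)
  let f : Fin idx.length → ℕ := fun k => l.getD (idx.getD k 0) 0
  have hf : Function.Injective f := by
    intro a b hab
    rcases lt_trichotomy a.1 b.1 with h | h | h
    · exact absurd hab (hmono _ _ h b.2).ne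
    · exact Fin.ext h
    · exact absurd hab (hmono _ _ h a.2).ne'
  have hsub : Finset.univ.image f ⊆ l.toFinset := by
    intro x hx
    obtain ⟨k, -, rfl⟩ := Finset.mem_image.1 hx
    have hk : idx.getD k 0 < l.length := by
      refine hbd _ ?_
      rw [List.getD_eq_getElem _ _ k.2]
      exact List.getElem_mem k.2
    refine List.mem_toFinset.2 ?_
    show l.getD _ 0 ∈ l
    rw [List.getD_eq_getElem _ _ hk]
    exact List.getElem_mem hk
  rw [← List.dedup_eq_self]
  refine (List.dedup_sublist l).eq_of_length (le_antisymm (List.dedup_sublist l).length_le ?_)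
  rw [← List.card_toFinset]
  have := Finset.card_le_card hsub
  rwa [Finset.card_image_of_injective _ hf, Finset.card_univ, Fintype.card_fin, hlen] at this

section Main

variable {G : Type u} [Group G] [Finite G]

theorem card_closure_eq {R : Rules} {C : Cert} {gs cg : ℕ → G} (hG : Holds R C gs cg)
    (hshape : R.shapeOK = true) (hcard : R.p ^ R.n ≤ Nat.card (closure (gs '' Set.Iio R.n))) :
    Nat.card (closure (gs '' Set.Iio R.n)) = R.p ^ R.n := by
  simp only [Rules.shapeOK, Bool.and_eq_true, Nat.blt_eq, Nat.ble_eq, List.all_eq_true,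
    List.mem_range] at hshape
  obtain ⟨⟨⟨hp, -⟩, hpw⟩, hcm⟩ := hshape
  refine le_antisymm ?_ hcard
  have h := card_tailGroup_le (X := gs) (U := ⊥) (p := R.p) (n := R.n) bot_le hp (lo := 0)
    (fun i _ j hij hj => by
      rw [mul_assoc, hG.comm j hj i hij, mul_assoc, inv_mul_cancel_left]
      refine mul_mem (mem_tailGroup gs ⊥ hij hj) (ev_mem fun k hk => ?_)
      have hs := hcm j hj i hij k hk
      exact mem_tailGroup gs ⊥ (by omega) hs.2)
    (fun i _ hi => by
      rw [hG.pow i hi]
      refine ev_mem fun k hk => ?_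
      have hs := hpw i hi k hk
      exact mem_tailGroup gs ⊥ hs.1 hs.2) R.n 0 le_rfl (Nat.zero_add _)
  rw [Subgroup.card_bot, mul_one, tailGroup, sup_bot_eq] at h
  rwa [show Set.Ico 0 R.n = Set.Iio R.n by ext; simp] at h

/-- The bound on the `p`-part given by a certificate. -/
theorem spanAt_of_cert {p : ℕ} [Fact p.Prime] {R : Rules} {C : Cert} {gs cg : ℕ → G}
    (hG : Holds R C gs cg) (hshape : R.shapeOK = true) {fuel : ℕ}
    (heqs : C.eqnsOK R fuel = true) (hsolve : C.solveOK R = true) (hRp : R.p = p)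
    (hcard : p ^ R.n ≤ Nat.card (closure (gs '' Set.Iio R.n)))
    {d : ℕ} (hd : ¬ p ∣ d) (hord : Nat.card G = p ^ R.n * d) {ords : List ℕ}
    (hlen : C.us.length = ords.length) (hords : C.ords = ords) : SpanAt p G ords := by
  subst hRp hords
  have hp := (Fact.out : R.p.Prime)
  have hceq := card_closure_eq hG hshape hcard
  have hsylcard : Nat.card (closure (gs '' Set.Iio R.n)) =
      R.p ^ (Nat.card G).factorization R.p := by
    rw [hceq, hord, Nat.factorization_mul (pow_ne_zero _ hp.ne_zero)
      (fun h0 => hd (by rw [h0]; exact dvd_zero _)), Finsupp.add_apply, hp.factorization_pow,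
      Finsupp.single_eq_same, Nat.factorization_eq_zero_of_not_dvd hd, add_zero]
  intro Γ _ _ σ hσ
  obtain ⟨us, hus, hspan⟩ := exists_span hG hshape heqs hsolve hcard hσ
  rw [hlen] at hus hspan
  refine ⟨us, hus, fun z hz ⟨e, he⟩ => hspan z hz ?_⟩
  obtain ⟨Q, hQ⟩ := exists_sylow_map_eq hσ.1 (Sylow.ofCard _ hsylcard)
  have hle : (Q : Subgroup Γ) ≤ (closure (gs '' Set.Iio R.n)).comap σ := by
    rw [← map_le_iff_le_comap, hQ]; exact le_rfl
  exact commutator_mono hle hle (center_commutator_sylow Q (hσ.2.1 hz) (hσ.2.2 hz)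
    (center_mem_sylow_of_pow Q (hσ.2.1 hz) he))

end Main

end CfsgLib.Schur.Pc
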