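/-
From bounds at the primes to the multiplier.
-/
import Cfsg.Agent.Lib.Schur.PcCriteria
import Mathlib.RingTheory.Int.Basic

set_option autoImplicit false

namespace CfsgLib.Schur.Pc

open Subgroup Cfsg

universe u

theorem spanAt_one_of_spanAt_nil {p : ℕ} {G : Type u} [Group G] (h : SpanAt p G []) :
    SpanAt p G [1] := by
  intro Γ _ _ σ hσ
  obtain ⟨us, -, hus⟩ := h Γ σ hσ
  refine ⟨fun _ => 1, fun k => ⟨one_mem _, fun _ => by simp⟩, fun z hz he => ?_⟩
  have h1 := hus z hz he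
  simp only [List.length_nil] at h1
  rw [show Set.Iio (0 : ℕ) = ∅ by simp, Set.image_empty, closure_empty, mem_bot] at h1
  rw [h1]
  exact one_mem _

/-- A finite commutative group is covered by subgroups holding all prime power torsion. -/
theorem eq_top_of_primary {A : Type u} [CommGroup A] [Finite A] (W : Subgroup A)
    (h : ∀ p : ℕ, p.Prime → ∀ z : A, (∃ e : ℕ, z ^ p ^ e = 1) → z ∈ W) : W = ⊤ := by
  refine eq_top_of_card_eq W (Nat.dvd_antisymm W.card_subgroup_dvd_card ?_)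
  refine (Nat.dvd_iff_prime_pow_dvd_dvd _ _).2 fun p k hp hk => ?_
  have : Fact p.Prime := ⟨hp⟩
  obtain ⟨S, hS⟩ := Sylow.exists_subgroup_card_pow_prime p hk
  rw [← hS]
  refine card_dvd_of_le fun z hz => h p hp z ⟨k, ?_⟩
  have h1 : (⟨z, hz⟩ : S) ^ Nat.card S = 1 := pow_card_eq_one'
  rw [hS] at h1
  exact congrArg Subtype.val h1

/-- Two coprime cyclic bounds and a cover give a cyclic multiplier. -/
theorem hasCyclicSchurMultiplier_of_spans {G : Type u} [Group G] [Finite G] {n a b pa pb : ℕ}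
    (hn : n = a * b) (hab : Nat.Coprime a b) (ha : SpanAt pa G [a]) (hb : SpanAt pb G [b])
    (hrest : ∀ p : ℕ, p.Prime → p ≠ pa → p ≠ pb → SpanAt p G [])
    (hcover : ∃ (Γ : Type u) (_ : Group Γ) (_ : Finite Γ) (σ : Γ →* G),
      IsStemExtension σ ∧ Nonempty (σ.ker ≃* Multiplicative (ZMod n))) :
    HasCyclicSchurMultiplier G n := by
  refine ⟨hcover, fun Γ _ _ σ hσ => ?_⟩
  obtain ⟨ua, hua, hsa⟩ := ha Γ σ hσ
  obtain ⟨ub, hub, hsb⟩ := hb Γ σ hσ
  have hA : ua 0 ^ a = 1 := by simpa using (hua 0).2 (by simp)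
  have hB : ub 0 ^ b = 1 := by simpa using (hub 0).2 (by simp)
  set w := ua 0 * ub 0 with hwdef
  have hw : w ∈ σ.ker := mul_mem (hua 0).1 (hub 0).1
  have hc : Commute (ua 0) (ub 0) := (mem_center_iff.1 (hσ.2.1 (hua 0).1) _).symm
  have hwn : w ^ n = 1 := by
    rw [hwdef, hc.mul_pow, hn, pow_mul, hA, one_pow, one_mul, mul_comm, pow_mul, hB, one_pow]
  obtain ⟨x, y, hxy⟩ : ∃ x y : ℤ, x * a + y * b = 1 := Nat.isCoprime_iff_coprime.2 hab
  have hA' : ua 0 ^ (a : ℤ) = 1 := by rw [zpow_natCast, hA]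
  have hB' : ub 0 ^ (b : ℤ) = 1 := by rw [zpow_natCast, hB]
  have hamem : ua 0 ∈ zpowers w := by
    refine mem_zpowers_iff.2 ⟨y * b, ?_⟩
    rw [hwdef, hc.mul_zpow, show y * (b : ℤ) = 1 - x * a by linarith [hxy], zpow_sub, zpow_one,
      mul_comm x, zpow_mul, hA', one_zpow, inv_one, mul_one,
      show (1 : ℤ) - (a : ℤ) * x = y * b by linarith [hxy], mul_comm y, zpow_mul, hB', one_zpow,
      mul_one]
  have hbmem : ub 0 ∈ zpowers w := by
    refine mem_zpowers_iff.2 ⟨x * a, ?_⟩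
    rw [hwdef, hc.mul_zpow, mul_comm x, zpow_mul, hA', one_zpow, one_mul,
      show (a : ℤ) * x = 1 - b * y by linarith [hxy], zpow_sub, zpow_one, zpow_mul, hB', one_zpow,
      inv_one, mul_one]
  let _ : CommGroup σ.ker :=
    { (inferInstance : Group σ.ker) with
      mul_comm := fun s t => Subtype.ext (mem_center_iff.1 (hσ.2.1 t.2) s) }
  have : Finite σ.ker := inferInstance
  have htop : zpowers (⟨w, hw⟩ : σ.ker) = ⊤ := by
    refine eq_top_of_primary _ fun p hp z hz => ?_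
    have hz' : ∃ e : ℕ, (z : Γ) ^ p ^ e = 1 := by
      obtain ⟨e, he⟩ := hz
      exact ⟨e, by rw [← SubmonoidClass.coe_pow, he]; rfl⟩
    have hmem : (z : Γ) ∈ zpowers w := by
      by_cases h1 : p = pa
      · subst h1
        refine (closure_le _).2 ?_ (hsa z z.2 hz')
        rintro _ ⟨k, hk, rfl⟩
        obtain rfl : k = 0 := by simpa using hk
        exact hamem
      by_cases h2 : p = pb
      · subst h2
        refine (closure_le _).2 ?_ (hsb z z.2 hz')
        rintro _ ⟨k, hk, rfl⟩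
        obtain rfl : k = 0 := by simpa using hk
        exact hbmem
      obtain ⟨us, -, hus⟩ := hrest p hp h1 h2 Γ σ hσ
      have h := hus z z.2 hz'
      rw [List.length_nil, show Set.Iio (0 : ℕ) = ∅ by simp, Set.image_empty, closure_empty,
        mem_bot] at h
      rw [h]
      exact one_mem _
    obtain ⟨k, hk⟩ := mem_zpowers_iff.1 hmem
    exact mem_zpowers_iff.2 ⟨k, Subtype.ext (by rw [← hk]; rfl)⟩
  let f : ℤ →+ Additive σ.ker := zmultiplesHom _ (Additive.ofMul ⟨w, hw⟩)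
  have hf : f n = 0 := by
    show (n : ℤ) • Additive.ofMul (⟨w, hw⟩ : σ.ker) = 0
    rw [← ofMul_zpow, zpow_natCast]
    exact congrArg Additive.ofMul (Subtype.ext hwn)
  refine ⟨AddMonoidHom.toMultiplicativeLeft (ZMod.lift n ⟨f, hf⟩), fun z => ?_⟩
  obtain ⟨k, hk⟩ := mem_zpowers_iff.1 (show z ∈ zpowers (⟨w, hw⟩ : σ.ker) from htop ▸ mem_top z)
  refine ⟨Multiplicative.ofAdd (k : ZMod n), ?_⟩
  show Additive.toMul (ZMod.lift n ⟨f, hf⟩ (k : ZMod n)) = z
  rw [ZMod.lift_coe]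
  exact hk

end CfsgLib.Schur.Pc
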