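/-
Every automorphism of `Aₙ`, `n ≥ 4`, `n ≠ 6`, is conjugation by a unique permutation.
-/
import Mathlib.GroupTheory.SpecificGroups.Alternating
import Mathlib.GroupTheory.Perm.ViaEmbedding
import Mathlib.Data.Fin.Tuple.Basic
import Mathlib.Tactic.FinCases
import Mathlib.Tactic.IntervalCases
import Mathlib.Tactic.Group

set_option autoImplicit false

namespace CfsgLib.Schur

open Equiv Equiv.Perm

section

variable {α : Type*} [DecidableEq α] [Fintype α]

theorem three_cycle_pow {s : Perm α} (hs : s.IsThreeCycle) (x : α) : s (s (s x)) = x := by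
  have h := pow_orderOf_eq_one s
  rw [hs.orderOf, pow_succ, pow_succ, pow_one] at h
  simpa [Perm.mul_apply] using DFunLike.congr_fun h x

theorem three_cycle_distinct {s : Perm α} (hs : s.IsThreeCycle) {x : α} (hx : s x ≠ x) :
    s (s x) ≠ x ∧ s (s x) ≠ s x := by
  refine ⟨fun h => hx ?_, fun h => hx (s.injective h)⟩
  have := three_cycle_pow hs x
  rwa [h] at this

/-- The support of a three-cycle is the orbit of any moved point. -/
theorem three_cycle_support {s : Perm α} (hs : s.IsThreeCycle) {x y : α} (hx : s x ≠ x)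
    (hy : s y ≠ y) : y = x ∨ y = s x ∨ y = s (s x) := by
  have hd := three_cycle_distinct hs hx
  have hsub : ({x, s x, s (s x)} : Finset α) ⊆ s.support := by
    intro z hz
    simp only [Finset.mem_insert, Finset.mem_singleton] at hz
    rw [Perm.mem_support]
    rcases hz with rfl | rfl | rfl
    · exact hx
    · exact hd.2
    · exact fun h => hd.2 (s.injective h)
  have hcard : ({x, s x, s (s x)} : Finset α).card = 3 :=
    Finset.card_eq_three.mpr ⟨x, s x, s (s x), hx.symm, hd.1.symm, hd.2.symm, rfl⟩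
  have heq := Finset.eq_of_subset_of_card_le hsub (by rw [hcard, hs.card_support])
  have hy' : y ∈ ({x, s x, s (s x)} : Finset α) := heq ▸ Perm.mem_support.mpr hy
  simpa using hy'

/-- Two three-cycles agreeing at two moved points of the first are equal. -/
theorem three_cycle_ext {s t : Perm α} (hs : s.IsThreeCycle) (ht : t.IsThreeCycle) {x : α}
    (hx : s x ≠ x) (h1 : t x = s x) (h2 : t (s x) = s (s x)) : s = t := by
  have hx' : t x ≠ x := h1 ▸ hx
  have h3 : t (s (s x)) = x := by
    have := three_cycle_pow ht x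
    rwa [h1, h2] at this
  ext y
  by_cases hy : s y = y
  · by_cases hy' : t y = y
    · rw [hy, hy']
    · rcases three_cycle_support ht hx' hy' with rfl | rfl | rfl
      · exact h1.symm
      · rw [h1, h2]
      · rw [h1, h2, h3, three_cycle_pow hs]
  · rcases three_cycle_support hs hx hy with rfl | rfl | rfl
    · exact h1.symm
    · exact h2.symm
    · rw [three_cycle_pow hs, h3]

/-- Two three-cycles whose product has order two share an arrow. -/
theorem three_cycle_agree {s t : Perm α} (hs : s.IsThreeCycle) (ht : t.IsThreeCycle)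
    (h : (s * t) ^ 2 = 1) (h1 : s * t ≠ 1) : ∃ q, s q ≠ q ∧ t q = s q := by
  have hrel : ∀ x, s (t (s (t x))) = x := fun x => by
    simpa [pow_two, Perm.mul_apply] using DFunLike.congr_fun h x
  by_cases hw : ∃ w, s w = w ∧ t w ≠ w
  · obtain ⟨w, hsw, htw⟩ := hw
    have hd := three_cycle_distinct ht htw
    have h2 : s (t w) = t (t w) := by
      have := hrel (t (t w))
      rwa [three_cycle_pow ht, hsw] at this
    exact ⟨t w, h2 ▸ hd.2, h2.symm⟩
  push Not at hw
  obtain ⟨x, hx⟩ : ∃ x, t x ≠ x := by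
    by_contra! hc
    exact ht.isCycle.ne_one (Perm.ext hc)
  have hsx : s x ≠ x := fun hc => hx (hw x hc)
  have hd := three_cycle_distinct hs hsx
  have htx : s (t x) ≠ t x := fun hc => hx (t.injective (hw (t x) hc))
  rcases three_cycle_support hs hsx htx with h2 | h2 | h2
  · exact absurd h2 hx
  · exact ⟨x, hsx, h2⟩
  · exfalso
    have hd' := three_cycle_distinct ht hx
    have h4 : t (s (s x)) = s x := by
      have hm : s (t (s (s x))) ≠ t (s (s x)) := fun hc => by
        have := t.injective (hw _ hc)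
        rw [← h2] at this
        exact hd'.2 (by rw [this])
      rcases three_cycle_support hs hsx hm with h5 | h5 | h5
      · rw [← h2] at h5; exact absurd h5 hd'.1
      · exact h5
      · rw [← h2] at h5; exact absurd h5 hd'.2
    have h6 : t (s x) = x := by
      have := three_cycle_pow ht x
      rwa [h2, h4] at this
    refine h1 (Perm.ext fun y => ?_)
    rw [Perm.mul_apply, Perm.one_apply]
    by_cases hy : s y = y
    · rw [hw y hy, hy]
    · rcases three_cycle_support hs hsx hy with rfl | rfl | rfl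
      · rw [h2, three_cycle_pow hs]
      · rw [h6]
      · rw [h4]

end

section

variable {n : ℕ}

/-- `(a y b)`. -/
def starCycle (a b y : Fin n) : Perm (Fin n) := swap a b * swap a y

theorem starCycle_apply {a b y : Fin n} (hab : a ≠ b) (hya : y ≠ a) (hyb : y ≠ b) :
    starCycle a b y a = y ∧ starCycle a b y y = b ∧ starCycle a b y b = a := by
  refine ⟨?_, ?_, ?_⟩ <;>
    simp [starCycle, Perm.mul_apply, swap_apply_def, hab, hab.symm, hya, hya.symm, hyb, hyb.symm]

theorem starCycle_isThreeCycle {a b y : Fin n} (hab : a ≠ b) (hya : y ≠ a) (hyb : y ≠ b) :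
    (starCycle a b y).IsThreeCycle :=
  isThreeCycle_swap_mul_swap_same hab hya.symm hyb.symm

theorem starCycle_fix {a b y z : Fin n} (h1 : z ≠ a) (h2 : z ≠ b) (h3 : z ≠ y) :
    starCycle a b y z = z := by
  simp [starCycle, Perm.mul_apply, swap_apply_def, h1, h2, h3]

/-- `Aₙ` is generated by the `(a y b)`. -/
theorem alternating_le_closure_star {a b : Fin n} (hab : a ≠ b) :
    alternatingGroup (Fin n) ≤
      Subgroup.closure {g | ∃ y, y ≠ a ∧ y ≠ b ∧ g = starCycle a b y} := by
  classical
  set H := Subgroup.closure {g | ∃ y, y ≠ a ∧ y ≠ b ∧ g = starCycle a b y}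
  have hb : ∀ y, swap a b * swap a y ∈ H ∨ y = a := by
    intro y
    by_cases hya : y = a
    · exact Or.inr hya
    left
    by_cases hyb : y = b
    · subst hyb; rw [swap_mul_self]; exact one_mem H
    · exact Subgroup.subset_closure ⟨y, hya, hyb, rfl⟩
  have hpair : ∀ x y, x ≠ a → y ≠ a → swap a x * swap a y ∈ H := by
    intro x y hx hy
    have h1 := (hb x).resolve_right hx
    have h2 := (hb y).resolve_right hy
    have : swap a x * swap a y = (swap a b * swap a x)⁻¹ * (swap a b * swap a y) := by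
      rw [mul_inv_rev, swap_inv, swap_inv, mul_assoc, ← mul_assoc (swap a b) (swap a b),
        swap_mul_self, one_mul]
    rw [this]
    exact mul_mem (inv_mem h1) h2
  rw [← Equiv.Perm.closure_three_cycles_eq_alternating, Subgroup.closure_le]
  intro g hg
  have hs : ∀ x y, x ≠ a → y ≠ a → x ≠ y → swap x y = swap a x * swap a y * swap a x := by
    intro x y hx hy hxy
    rw [show swap a x * swap a y * swap a x = swap a x * swap a y * (swap a x)⁻¹ by rw [swap_inv],
      ← swap_apply_apply, swap_apply_left, swap_apply_of_ne_of_ne hy hxy.symm]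
  obtain ⟨x, hx⟩ : ∃ x, g x ≠ x := by
    by_contra! hc
    exact hg.isCycle.ne_one (Perm.ext hc)
  obtain ⟨y, z, hxy, hxz, hyz, rfl⟩ :
      ∃ y z, x ≠ y ∧ x ≠ z ∧ y ≠ z ∧ g = swap x y * swap x z := by
    have hd := three_cycle_distinct hg hx
    refine ⟨g (g x), g x, hd.1.symm, Ne.symm hx, hd.2, ?_⟩
    have hd2 : g (g x) ≠ g x := hd.2
    ext w
    rw [Perm.mul_apply]
    by_cases hw : g w = w
    · have h1 : w ≠ x := fun h => hx (h ▸ hw)
      have h2 : w ≠ g x := fun h => hd.2 (h ▸ hw)
      have h3 : w ≠ g (g x) := fun h => hd.2 (g.injective (h ▸ hw))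
      rw [swap_apply_of_ne_of_ne h1 h2, swap_apply_of_ne_of_ne h1 h3, hw]
    · rcases three_cycle_support hg hx hw with rfl | rfl | rfl
      · rw [swap_apply_left, swap_apply_of_ne_of_ne hx hd.2.symm]
      · rw [swap_apply_right, swap_apply_left]
      · rw [swap_apply_of_ne_of_ne hd.1 hd.2, swap_apply_right, three_cycle_pow hg]
  show swap x y * swap x z ∈ H
  by_cases hxa : x = a
  · subst hxa; exact hpair y z hxy.symm hxz.symm
  by_cases hya : y = a
  · subst hya
    rw [hs x z hxa hyz.symm hxz, swap_comm x y, ← mul_assoc, ← mul_assoc, swap_mul_self, one_mul]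
    exact hpair z x hyz.symm hxa
  by_cases hza : z = a
  · subst hza
    rw [hs x y hxa hya hxy, swap_comm x z, mul_assoc, swap_mul_self, mul_one]
    exact hpair x y hxa hya
  rw [hs x y hxa hya hxy, hs x z hxa hza hxz,
    show ∀ p q r : Perm (Fin n), p * q * p * (p * r * p) = (p * q) * ((p * p) * (r * p)) from
      fun p q r => by simp only [mul_assoc],
    swap_mul_self, one_mul]
  exact mul_mem (hpair x y hxa hya) (hpair z x hza hxa)

end

section

variable {n : ℕ}

/-- The automorphism-invariant property that singles out the three-cycles among elements of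
order three. -/
def SmallPair (x : alternatingGroup (Fin n)) : Prop :=
  ∀ a : alternatingGroup (Fin n), ∃ j, 1 ≤ j ∧ j ≤ 5 ∧ (x * a * (x * a⁻¹)) ^ j = 1

theorem fin_six_even_pow : ∀ w : Perm (Fin 6), Perm.sign w = 1 →
    ∃ j ∈ ({3, 4, 5} : Finset ℕ), w ^ j = 1 := by decide +kernel

theorem smallPair_of_threeCycle (x : alternatingGroup (Fin n))
    (hx : (x : Perm (Fin n)).IsThreeCycle) : SmallPair x := by
  classical
  intro a
  set s : Perm (Fin n) := x.1 with hs
  set t : Perm (Fin n) := a * x * (a : Perm (Fin n))⁻¹ with ht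
  set U : Finset (Fin n) := s.support ∪ t.support
  set w : Perm (Fin n) := s * t with hw
  have hwU : ∀ i, w i ≠ i → i ∈ U := fun i hi => by
    by_contra hc
    simp only [U, Finset.mem_union, Perm.mem_support, not_or, not_not] at hc
    exact hi (by rw [hw, Perm.mul_apply, hc.2, hc.1])
  have hcard : U.card ≤ 6 := by
    refine (Finset.card_union_le _ _).trans ?_
    rw [ht, Perm.card_support_conj, hx.card_support]
  obtain ⟨e⟩ : Nonempty ({i // i ∈ U} ↪ Fin 6) :=
    Function.Embedding.nonempty_of_card_le (by simpa using hcard)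
  have hmap : ∀ i, w i ∈ U ↔ i ∈ U := fun i => by
    refine ⟨fun h => ?_, fun h => ?_⟩
    · by_contra hc
      have h1 : w i = i := by_contra fun h2 => hc (hwU i h2)
      exact hc (h1 ▸ h)
    · by_contra hc
      have h1 : w i ≠ i := fun h2 => hc (h2.symm ▸ h)
      exact hc (hwU _ (fun h2 => h1 (w.injective h2)))
  let w' : Perm {i // i ∈ U} := w.subtypePerm hmap
  let W : Perm (Fin 6) := Perm.extendDomainHom (Equiv.ofInjective e e.injective) w'
  have hsign : Perm.sign W = 1 := by
    show Perm.sign (w'.extendDomain _) = 1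
    rw [Perm.sign_extendDomain]
    have h1 : Perm.sign w = 1 := by
      rw [hw, Perm.sign_mul, ht, hs, Perm.sign_mul, Perm.sign_mul, Perm.sign_inv, hx.sign]
      simp [Perm.mem_alternatingGroup.mp a.2]
    convert (Perm.sign_subtypePerm w hmap hwU).trans h1 using 3
  obtain ⟨j, hj, hpow⟩ := fin_six_even_pow W hsign
  have hw' : w' ^ j = 1 := by
    apply Perm.extendDomainHom_injective (Equiv.ofInjective e e.injective)
    rw [map_pow, map_one]; exact hpow
  simp only [Finset.mem_insert, Finset.mem_singleton] at hj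
  refine ⟨j, by omega, by omega, Subtype.ext ?_⟩
  rw [SubmonoidClass.coe_pow, Subgroup.coe_mul, Subgroup.coe_mul, Subgroup.coe_mul, Subgroup.coe_inv,
    show s * (a : Perm (Fin n)) * (s * (a : Perm (Fin n))⁻¹) = w by rw [hw, ht, hs]; group]
  ext i
  by_cases hi : i ∈ U
  · have := congrArg Subtype.val (DFunLike.congr_fun hw' ⟨i, hi⟩)
    simp only [w', Perm.subtypePerm_pow, Perm.subtypePerm_apply, Perm.one_apply] at this
    rw [OneMemClass.coe_one, Perm.one_apply, this]
  · rw [OneMemClass.coe_one, Perm.one_apply,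
      Perm.pow_apply_eq_self_of_apply_eq_self (by_contra fun h => hi (hwU i h)) j]

theorem not_smallPair_of_block {k : ℕ} (c a' : Perm (Fin k)) (ha : Perm.sign a' = 1)
    (hc : ∀ j, 1 ≤ j → j ≤ 5 → (c * a' * (c * a'⁻¹)) ^ j ≠ 1)
    (x : alternatingGroup (Fin n)) (e : Fin k → Fin n) (he : Function.Injective e)
    (hx : ∀ i, (x : Perm (Fin n)) (e i) = e (c i)) : ¬ SmallPair x := by
  classical
  intro hsmall
  let A : Perm (Fin n) := a'.extendDomain (Equiv.ofInjective e he)
  have hA : ∀ i, A (e i) = e (a' i) := fun i =>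
    Perm.extendDomain_apply_image a' (Equiv.ofInjective e he) i
  have hA' : ∀ i, A⁻¹ (e i) = e (a'⁻¹ i) := fun i => by
    rw [Perm.inv_eq_iff_eq, hA]; simp
  obtain ⟨j, h1, h5, hj⟩ := hsmall ⟨A, Perm.mem_alternatingGroup.mpr (by
    rw [Perm.sign_extendDomain, ha])⟩
  refine hc j h1 h5 (Perm.ext fun i => he ?_)
  have hstep : ∀ i, ((x : Perm (Fin n)) * A * ((x : Perm (Fin n)) * A⁻¹)) (e i) =
      e ((c * a' * (c * a'⁻¹)) i) := fun i => by
    simp only [Perm.mul_apply, hA', hx, hA]
  have hiter : ∀ (m : ℕ) i, (((x : Perm (Fin n)) * A * ((x : Perm (Fin n)) * A⁻¹)) ^ m) (e i) =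
      e (((c * a' * (c * a'⁻¹)) ^ m) i) := by
    intro m
    induction m with
    | zero => intro i; simp
    | succ m ih => intro i; rw [pow_succ, pow_succ, Perm.mul_apply, hstep, ih]; rfl
  have h := congrArg Subtype.val hj
  rw [SubmonoidClass.coe_pow, Subgroup.coe_mul, Subgroup.coe_mul, Subgroup.coe_mul,
    Subgroup.coe_inv] at h
  rw [← hiter, h]
  rfl

/-- `(0 1 2)(3 4 5)` on seven points. -/
def blockSeven : Perm (Fin 7) :=
  ⟨![1, 2, 0, 4, 5, 3, 6], ![2, 0, 1, 5, 3, 4, 6], by decide, by decide⟩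

/-- `(0 1 2)(3 4 5)(6 7 8)`. -/
def blockNine : Perm (Fin 9) :=
  ⟨![1, 2, 0, 4, 5, 3, 7, 8, 6], ![2, 0, 1, 5, 3, 4, 8, 6, 7], by decide, by decide⟩

theorem blockSeven_bad : ∀ j, 1 ≤ j → j ≤ 5 →
    (blockSeven * (swap 2 3 * swap 5 6) * (blockSeven * (swap 2 3 * swap 5 6)⁻¹)) ^ j ≠ 1 := by
  intro j h1 h5; interval_cases j <;> decide +kernel

theorem blockNine_bad : ∀ j, 1 ≤ j → j ≤ 5 →
    (blockNine * (swap 5 6 * swap 7 8) * (blockNine * (swap 5 6 * swap 7 8)⁻¹)) ^ j ≠ 1 := by
  intro j h1 h5; interval_cases j <;> decide +kernel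

theorem threeCycle_of_smallPair (h6 : n ≠ 6) (x : alternatingGroup (Fin n))
    (hord : orderOf x = 3) (hsmall : SmallPair x) : (x : Perm (Fin n)).IsThreeCycle := by
  classical
  set s : Perm (Fin n) := x.1 with hs
  have ho : orderOf s = 3 := by rw [hs, Subgroup.orderOf_coe, hord]
  have hs3 : ∀ i, s (s (s i)) = i := fun i => by
    have h := pow_orderOf_eq_one s
    rw [ho, pow_succ, pow_succ, pow_one] at h
    simpa [Perm.mul_apply] using DFunLike.congr_fun h i
  have hinj : ∀ {i j : Fin n}, s i = s j ↔ i = j := s.injective.eq_iff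
  by_contra hnot
  obtain ⟨p, hp⟩ : ∃ p, s p ≠ p := by
    by_contra! hc
    rw [show s = 1 from Perm.ext hc, orderOf_one] at ho
    omega
  have hp2 : s (s p) ≠ p ∧ s (s p) ≠ s p :=
    ⟨fun h => hp (by have := hs3 p; rwa [h] at this), fun h => hp (hinj.mp h)⟩
  obtain ⟨q, hq, hq1⟩ : ∃ q, s q ≠ q ∧ q ∉ ({p, s p, s (s p)} : Finset (Fin n)) := by
    by_contra! hc
    refine hnot (card_support_eq_three_iff.mp ?_)
    have : s.support = {p, s p, s (s p)} := by
      refine Finset.Subset.antisymm (fun q hq => hc q (Perm.mem_support.mp hq)) ?_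
      intro q hq
      simp only [Finset.mem_insert, Finset.mem_singleton] at hq
      rw [Perm.mem_support]
      rcases hq with rfl | rfl | rfl
      · exact hp
      · exact hp2.2
      · exact fun h => hp2.2 (hinj.mp h)
    rw [this]
    exact Finset.card_eq_three.mpr ⟨p, s p, s (s p), hp.symm, hp2.1.symm, hp2.2.symm, rfl⟩
  simp only [Finset.mem_insert, Finset.mem_singleton, not_or] at hq1
  have hq2 : s (s q) ≠ q ∧ s (s q) ≠ s q :=
    ⟨fun h => hq (by have := hs3 q; rwa [h] at this), fun h => hq (hinj.mp h)⟩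
  have horb : ∀ {i j : Fin n}, i ≠ j → i ≠ s j → i ≠ s (s j) →
      s i ≠ j ∧ s i ≠ s j ∧ s i ≠ s (s j) ∧
        s (s i) ≠ j ∧ s (s i) ≠ s j ∧ s (s i) ≠ s (s j) := by
    intro i j h1 h2 h3
    refine ⟨fun h => h3 ?_, fun h => h1 (hinj.mp h), fun h => h2 (hinj.mp h),
      fun h => h2 ?_, fun h => h3 ?_, fun h => h1 (hinj.mp (hinj.mp h))⟩
    · rw [← h, hs3]
    · rw [← h, hs3]
    · rw [← hinj.mp h, hs3]
  obtain ⟨a1, a2, a3, a4, a5, a6⟩ := horb hq1.1 hq1.2.1 hq1.2.2
  set U : Finset (Fin n) := {p, s p, s (s p), q, s q, s (s q)} with hU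
  have hUcard : U.card = 6 := by
    rw [hU]
    simp [hp.symm, hp2.1.symm, hp2.2.symm, hq.symm, hq2.1.symm, hq2.2.symm, Ne.symm hq1.1,
      Ne.symm hq1.2.1, Ne.symm hq1.2.2, a1.symm, a2.symm, a3.symm, a4.symm, a5.symm, a6.symm]
  obtain ⟨r, hr⟩ : ∃ r, r ∉ U := by
    by_contra! hc
    have : U = Finset.univ := Finset.eq_univ_of_forall hc
    rw [this, Finset.card_univ, Fintype.card_fin] at hUcard
    exact h6 hUcard
  simp only [hU, Finset.mem_insert, Finset.mem_singleton, not_or] at hr
  by_cases hrs : s r = r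
  · refine not_smallPair_of_block blockSeven (swap 2 3 * swap 5 6) (by decide) blockSeven_bad x
      ![p, s p, s (s p), q, s q, s (s q), r] ?_ ?_ hsmall
    · intro i j
      fin_cases i <;> fin_cases j <;>
        simp [hp, hp.symm, hp2.1, hp2.1.symm, hp2.2, hp2.2.symm, hq, hq.symm, hq2.1, hq2.1.symm,
          hq2.2, hq2.2.symm, hq1, Ne.symm hq1.1, Ne.symm hq1.2.1, Ne.symm hq1.2.2, a1, a1.symm,
          a2, a2.symm, a3, a3.symm, a4, a4.symm, a5, a5.symm, a6, a6.symm, hr, Ne.symm hr.1,
          Ne.symm hr.2.1, Ne.symm hr.2.2.1, Ne.symm hr.2.2.2.1, Ne.symm hr.2.2.2.2.1,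
          Ne.symm hr.2.2.2.2.2]
    · intro i
      rw [← hs]
      fin_cases i <;> simp [blockSeven, hs3, hrs]
  · have hr2 : s (s r) ≠ r ∧ s (s r) ≠ s r :=
      ⟨fun h => hrs (by have := hs3 r; rwa [h] at this), fun h => hrs (hinj.mp h)⟩
    obtain ⟨b1, b2, b3, b4, b5, b6⟩ := horb hr.1 hr.2.1 hr.2.2.1
    obtain ⟨c1, c2, c3, c4, c5, c6⟩ := horb hr.2.2.2.1 hr.2.2.2.2.1 hr.2.2.2.2.2
    refine not_smallPair_of_block blockNine (swap 5 6 * swap 7 8) (by decide) blockNine_bad x
      ![p, s p, s (s p), q, s q, s (s q), r, s r, s (s r)] ?_ ?_ hsmall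
    · intro i j
      fin_cases i <;> fin_cases j <;>
        simp [hp, hp.symm, hp2.1, hp2.1.symm, hp2.2, hp2.2.symm, hq, hq.symm, hq2.1, hq2.1.symm,
          hq2.2, hq2.2.symm, hq1, Ne.symm hq1.1, Ne.symm hq1.2.1, Ne.symm hq1.2.2, a1, a1.symm,
          a2, a2.symm, a3, a3.symm, a4, a4.symm, a5, a5.symm, a6, a6.symm, hr, Ne.symm hr.1,
          Ne.symm hr.2.1, Ne.symm hr.2.2.1, Ne.symm hr.2.2.2.1, Ne.symm hr.2.2.2.2.1,
          Ne.symm hr.2.2.2.2.2, hrs, Ne.symm hrs, hr2.1, hr2.1.symm, hr2.2, hr2.2.symm,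
          b1, b1.symm, b2, b2.symm, b3, b3.symm, b4, b4.symm, b5, b5.symm, b6, b6.symm,
          c1, c1.symm, c2, c2.symm, c3, c3.symm, c4, c4.symm, c5, c5.symm, c6, c6.symm]
    · intro i
      rw [← hs]
      fin_cases i <;> simp [blockNine, hs3]

theorem smallPair_map (φ : MulAut (alternatingGroup (Fin n))) (x : alternatingGroup (Fin n))
    (h : SmallPair x) : SmallPair (φ x) := by
  intro a
  obtain ⟨j, h1, h5, hj⟩ := h (φ.symm a)
  refine ⟨j, h1, h5, ?_⟩
  have := congrArg φ hj
  simpa using this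

theorem isThreeCycle_map (h6 : n ≠ 6) (φ : MulAut (alternatingGroup (Fin n)))
    (x : alternatingGroup (Fin n)) (hx : (x : Perm (Fin n)).IsThreeCycle) :
    ((φ x : alternatingGroup (Fin n)) : Perm (Fin n)).IsThreeCycle := by
  refine threeCycle_of_smallPair h6 _ ?_ (smallPair_map φ x (smallPair_of_threeCycle x hx))
  rw [← Subgroup.orderOf_coe, ← hx.orderOf, Subgroup.orderOf_coe, Subgroup.orderOf_coe]
  exact orderOf_injective φ.toMonoidHom φ.injective x

theorem conjNormal_bijective (hn : 4 ≤ n) (h6 : n ≠ 6) :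
    Function.Bijective
      (MulAut.conjNormal : Perm (Fin n) →* MulAut ↥(alternatingGroup (Fin n))) := by
  classical
  constructor
  · rw [injective_iff_map_eq_one]
    intro σ hσ
    by_contra hne
    obtain ⟨a, ha⟩ : ∃ a, σ a ≠ a := by
      by_contra! hc
      exact hne (Perm.ext hc)
    obtain ⟨c, hc, d, hd, hcd⟩ : ∃ c ∈ ({a, σ a} : Finset (Fin n))ᶜ,
        ∃ d ∈ ({a, σ a} : Finset (Fin n))ᶜ, c ≠ d :=
      Finset.one_lt_card.mp (by
        rw [Finset.card_compl, Fintype.card_fin]
        have := Finset.card_le_two (a := a) (b := σ a)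
        omega)
    simp only [Finset.mem_compl, Finset.mem_insert, Finset.mem_singleton, not_or] at hc hd
    have hac : a ≠ c := Ne.symm hc.1
    have had : a ≠ d := Ne.symm hd.1
    have h3 := starCycle_isThreeCycle hac had.symm (Ne.symm hcd)
    let t : alternatingGroup (Fin n) := ⟨starCycle a c d, h3.mem_alternatingGroup⟩
    have h := congrArg Subtype.val (DFunLike.congr_fun hσ t)
    simp only [MulAut.conjNormal_apply, MulAut.one_apply, t] at h
    rw [mul_inv_eq_iff_eq_mul] at h
    have h1 := DFunLike.congr_fun h a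
    rw [Perm.mul_apply, Perm.mul_apply, (starCycle_apply hac had.symm hcd.symm).1,
      starCycle_fix ha (Ne.symm hc.2) (Ne.symm hd.2)] at h1
    exact had (σ.injective h1).symm
  · intro φ
    let a : Fin n := ⟨0, by omega⟩
    let b : Fin n := ⟨1, by omega⟩
    have hab : a ≠ b := by simp [a, b]
    let T : ∀ y, y ≠ a → y ≠ b → alternatingGroup (Fin n) := fun y h1 h2 =>
      ⟨starCycle a b y, (starCycle_isThreeCycle hab h1 h2).mem_alternatingGroup⟩
    let u : ∀ y, y ≠ a → y ≠ b → Perm (Fin n) := fun y h1 h2 => ↑(φ (T y h1 h2))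
    have hu3 : ∀ y h1 h2, (u y h1 h2).IsThreeCycle := fun y h1 h2 =>
      isThreeCycle_map h6 φ _ (starCycle_isThreeCycle hab h1 h2)
    have huinj : ∀ y h1 h2 z h3 h4, u y h1 h2 = u z h3 h4 → y = z := by
      intro y h1 h2 z h3 h4 h
      have := congrArg Subtype.val (φ.injective (Subtype.ext h))
      have := DFunLike.congr_fun this a
      rwa [(starCycle_apply hab h1 h2).1, (starCycle_apply hab h3 h4).1] at this
    have hagree : ∀ y h1 h2 z h3 h4, y ≠ z →
        ∃ q, u y h1 h2 q ≠ q ∧ u z h3 h4 q = u y h1 h2 q := by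
      intro y h1 h2 z h3 h4 hyz
      obtain ⟨ty1, ty2, ty3⟩ := starCycle_apply hab h1 h2
      obtain ⟨tz1, tz2, tz3⟩ := starCycle_apply hab h3 h4
      have fyz : starCycle a b y z = z := starCycle_fix h3 h4 (Ne.symm hyz)
      have fzy : starCycle a b z y = y := starCycle_fix h1 h2 hyz
      refine three_cycle_agree (hu3 y h1 h2) (hu3 z h3 h4) ?_ ?_
      · have hsq : (T y h1 h2 * T z h3 h4) ^ 2 = 1 := by
          refine Subtype.ext (Perm.ext fun i => ?_)
          simp only [T, SubmonoidClass.coe_pow, Subgroup.coe_mul, pow_two, Perm.mul_apply,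
            OneMemClass.coe_one, Perm.one_apply]
          by_cases hia : i = a
          · subst hia; rw [tz1, fyz, tz2, ty3]
          by_cases hib : i = b
          · subst hib; rw [tz3, ty1, fzy, ty2]
          by_cases hiy : i = y
          · subst hiy; rw [fzy, ty2, tz3, ty1]
          by_cases hiz : i = z
          · subst hiz; rw [tz2, ty3, tz1, fyz]
          rw [starCycle_fix hia hib hiz, starCycle_fix hia hib hiy, starCycle_fix hia hib hiz,
            starCycle_fix hia hib hiy]
        have := congrArg (fun g => ((φ g : alternatingGroup (Fin n)) : Perm (Fin n))) hsq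
        simpa [u] using this
      · intro h
        have h' : φ (T y h1 h2 * T z h3 h4) = φ 1 := by
          rw [map_mul, map_one]; exact Subtype.ext h
        have := DFunLike.congr_fun (congrArg Subtype.val (φ.injective h')) a
        simp only [T, Subgroup.coe_mul, Perm.mul_apply, tz1, fyz, OneMemClass.coe_one,
          Perm.one_apply] at this
        exact h3 this
    let c2 : Fin n := ⟨2, by omega⟩
    let c3 : Fin n := ⟨3, by omega⟩
    have hc2 : c2 ≠ a ∧ c2 ≠ b := by simp [c2, a, b]
    have hc3 : c3 ≠ a ∧ c3 ≠ b := by simp [c3, a, b]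
    obtain ⟨q, hq, hq'⟩ := hagree c2 hc2.1 hc2.2 c3 hc3.1 hc3.2 (by simp [c2, c3])
    have hall : ∀ y h1 h2, u y h1 h2 q = u c2 hc2.1 hc2.2 q := by
      intro y h1 h2
      by_cases hy2 : y = c2
      · subst hy2; rfl
      by_cases hy3 : y = c3
      · subst hy3; exact hq'
      set s := u c2 hc2.1 hc2.2 with hs
      set t := u c3 hc3.1 hc3.2 with ht
      set v := u y h1 h2 with hv
      have hst : s ≠ t := fun h => by
        have := huinj c2 hc2.1 hc2.2 c3 hc3.1 hc3.2 h
        simp [c2, c3] at this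
      have hvs : s ≠ v := fun h => hy2 (huinj c2 hc2.1 hc2.2 y h1 h2 h).symm
      have hvt : t ≠ v := fun h => hy3 (huinj c3 hc3.1 hc3.2 y h1 h2 h).symm
      have hds := three_cycle_distinct (hu3 c2 hc2.1 hc2.2) hq
      have htq : t q ≠ q := hq'.symm ▸ hq
      have hdt := three_cycle_distinct (hu3 c3 hc3.1 hc3.2) htq
      rw [← hs] at hds
      rw [← ht] at hdt
      have h3s := three_cycle_pow (hu3 c2 hc2.1 hc2.2) q
      have h3t := three_cycle_pow (hu3 c3 hc3.1 hc3.2) q
      rw [← hs] at h3s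
      rw [← ht] at h3t
      have hrs : t (t q) ≠ s (s q) := fun h => hst (three_cycle_ext (hu3 c2 hc2.1 hc2.2)
        (hu3 c3 hc3.1 hc3.2) hq hq' (by rw [← hq']; exact h.trans (by rw [hq'])))
      by_contra hne
      obtain ⟨q1, hq1, hv1⟩ := hagree c2 hc2.1 hc2.2 y h1 h2 (Ne.symm hy2)
      obtain ⟨q2, hq2, hv2⟩ := hagree c3 hc3.1 hc3.2 y h1 h2 (Ne.symm hy3)
      rw [← hs, ← hv] at hv1
      rw [← ht, ← hv] at hv2
      rw [← hs] at hq1
      rw [← ht] at hq2
      rcases three_cycle_support (hu3 c2 hc2.1 hc2.2) hq hq1 with h | h | h <;> subst h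
      · exact hne hv1
      · rcases three_cycle_support (hu3 c3 hc3.1 hc3.2) htq hq2 with h | h | h <;> subst h
        · exact hne (hv2.trans hq')
        · rw [hq'] at hv2
          exact hrs (by rw [← hv1, hv2, hq'])
        · rw [h3t] at hv2
          -- `v (s q) = s (s q)` and `v (t (t q)) = q`
          have hm1 : v (s q) ≠ s q := hv1 ▸ hds.2
          have hm2 : v (t (t q)) ≠ t (t q) := by rw [hv2]; exact Ne.symm hdt.1
          rcases three_cycle_support (hu3 y h1 h2) hm1 hm2 with h | h | h
          · exact hdt.2 (h.trans hq'.symm)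
          · rw [hv1] at h; exact hrs h
          · rw [h, hv1, ← hv1, three_cycle_pow (hu3 y h1 h2)] at hv2
            exact hq hv2
      · rcases three_cycle_support (hu3 c3 hc3.1 hc3.2) htq hq2 with h | h | h <;> subst h
        · exact hne (hv2.trans hq')
        · rw [h3s] at hv1
          have hm1 : v (s (s q)) ≠ s (s q) := by rw [hv1]; exact Ne.symm hds.1
          have hm2 : v (t q) ≠ t q := hv2 ▸ hdt.2
          rcases three_cycle_support (hu3 y h1 h2) hm2 hm1 with h | h | h
          · exact hds.2 (h.trans hq')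
          · rw [hv2] at h; exact hrs h.symm
          · rw [h, three_cycle_pow (hu3 y h1 h2)] at hv1
            exact htq hv1
        · rw [h3t] at hv2
          rw [h3s] at hv1
          exact hrs (v.injective (hv2.trans hv1.symm))
    set p := u c2 hc2.1 hc2.2 q with hp
    let f : Fin n → Fin n := fun y =>
      if h : y = a then p else if h' : y = b then q else u y h h' p
    have hf : ∀ y (h1 : y ≠ a) (h2 : y ≠ b), f y = u y h1 h2 p := fun y h1 h2 => by
      simp [f, h1, h2]
    have hfa : f a = p := by simp [f]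
    have hfb : f b = q := by simp [f, hab.symm]
    have hne : ∀ y h1 h2, u y h1 h2 p ≠ q ∧ u y h1 h2 p ≠ p ∧ u y h1 h2 (u y h1 h2 p) = q := by
      intro y h1 h2
      have hmq : u y h1 h2 q ≠ q := (hall y h1 h2).symm ▸ hq
      have hd := three_cycle_distinct (hu3 y h1 h2) hmq
      have h3 := three_cycle_pow (hu3 y h1 h2) q
      rw [hall y h1 h2] at hd h3
      exact ⟨hd.1, hd.2, h3⟩
    have hfinj : Function.Injective f := by
      intro y z h
      by_cases hya : y = a
      · subst hya
        by_cases hza : z = a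
        · exact hza.symm
        by_cases hzb : z = b
        · subst hzb; rw [hfa, hfb] at h; exact absurd h hq
        rw [hfa, hf z hza hzb] at h; exact absurd h.symm (hne z hza hzb).2.1
      by_cases hyb : y = b
      · subst hyb
        by_cases hza : z = a
        · subst hza; rw [hfa, hfb] at h; exact absurd h.symm hq
        by_cases hzb : z = b
        · exact hzb.symm
        rw [hfb, hf z hza hzb] at h; exact absurd h.symm (hne z hza hzb).1
      rw [hf y hya hyb] at h
      by_cases hza : z = a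
      · subst hza; rw [hfa] at h; exact absurd h (hne y hya hyb).2.1
      by_cases hzb : z = b
      · subst hzb; rw [hfb] at h; exact absurd h (hne y hya hyb).1
      rw [hf z hza hzb] at h
      refine huinj y hya hyb z hza hzb (three_cycle_ext (hu3 y hya hyb) (hu3 z hza hzb)
        ((hall y hya hyb).symm ▸ hq) ?_ ?_)
      · rw [hall z hza hzb, hall y hya hyb]
      · rw [hall y hya hyb]; exact h.symm
    let σ : Perm (Fin n) := Equiv.ofBijective f (Finite.injective_iff_bijective.mp hfinj)
    have hσ : ∀ i, σ i = f i := fun i => rfl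
    refine ⟨σ, MulEquiv.ext fun g => ?_⟩
    let M : Subgroup (Perm (Fin n)) := Subgroup.map (alternatingGroup (Fin n)).subtype
      (MonoidHom.eqLocus (MulAut.conjNormal σ : MulAut _).toMonoidHom φ.toMonoidHom)
    have hle : alternatingGroup (Fin n) ≤ M := by
      refine (alternating_le_closure_star hab).trans ((Subgroup.closure_le _).mpr ?_)
      rintro _ ⟨y, h1, h2, rfl⟩
      refine ⟨T y h1 h2, Subtype.ext ?_, rfl⟩
      show σ * starCycle a b y * σ⁻¹ = u y h1 h2
      rw [mul_inv_eq_iff_eq_mul]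
      obtain ⟨s1, s2, s3⟩ := starCycle_apply hab h1 h2
      refine Perm.ext fun i => ?_
      rw [Perm.mul_apply, Perm.mul_apply, hσ, hσ]
      by_cases hia : i = a
      · subst hia; rw [s1, hfa, hf y h1 h2]
      by_cases hib : i = b
      · subst hib; rw [s3, hfb, hfa, hall y h1 h2]
      by_cases hiy : i = y
      · subst hiy; rw [s2, hf i h1 h2, hfb, (hne i h1 h2).2.2]
      rw [starCycle_fix hia hib hiy]
      symm
      by_contra hc
      have hmq : u y h1 h2 q ≠ q := (hall y h1 h2).symm ▸ hq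
      rcases three_cycle_support (hu3 y h1 h2) hmq hc with h | h | h
      · exact hib (hfinj (h.trans hfb.symm))
      · rw [hall y h1 h2] at h; exact hia (hfinj (h.trans hfa.symm))
      · rw [hall y h1 h2, ← hf y h1 h2] at h; exact hiy (hfinj h)
    obtain ⟨g', hg', hgg⟩ := hle g.2
    rw [Subtype.ext hgg] at hg'
    exact hg'

end

end CfsgLib.Schur
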