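/-
Complete searches in the group of the length-24 code: elements carrying one permutation to
another by conjugation, and generation from a chain of base points.
-/
import Cfsg.Agent.Lib.Golay.M24Group

set_option autoImplicit false

namespace CfsgLib.Schur.GolaySearch

open Cfsg CfsgLib.Golay
open scoped Pointwise

/-- A stage of the search: a cycle, code words within the points placed so far, and the allowed
images of the first point of the cycle. -/
abbrev Stage : Type := List ℕ × List ℕ × List ℕ

/-- The mask of a list of positions. -/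
def cycMask : List ℕ → ℕ
  | [] => 0
  | c :: cs => 2 ^ c ||| cycMask cs

/-- Place a cycle, following the target permutation. -/
def setImg (lt : List ℕ) : List ℕ → List ℕ → ℕ → List ℕ
  | st, [], _ => st
  | st, c :: cs, y => setImg lt (st.set c y) cs (lt.getD y 0)

/-- A partial map passes the tests on a mask. -/
def okPartial (F : ℕ) (ws : List ℕ) (st : List ℕ) : Bool :=
  Nat.beq (popc (pmap st F)) (popc F) && ws.all fun w => isCode (pmap st w)

/-- The search. -/
def searchImg (lt : List ℕ) : ℕ → List Stage → List ℕ → List (List ℕ)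
  | _, [], st => [st]
  | F, s :: ss, st =>
    ((s.2.2.map (setImg lt st s.1)).filter (okPartial (F ||| cycMask s.1) s.2.1)).flatMap
      (searchImg lt (F ||| cycMask s.1) ss)

/-- Consecutive entries are related by `lx`. -/
def chainOK (lx : List ℕ) : List ℕ → Bool
  | [] => true
  | [c] => decide (c < 24)
  | c :: d :: cs => decide (c < 24) && Nat.beq (lx.getD c 0) d && chainOK lx (d :: cs)

/-- The static conditions on the stages. -/
def stagesOK (lx : List ℕ) : ℕ → List Stage → Bool
  | F, [] => Nat.beq F 16777215
  | F, s :: ss =>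
    chainOK lx s.1 && !s.1.isEmpty &&
      (s.2.1.all fun w => decide (w < 2 ^ 24) && isCode w &&
        Nat.beq (w &&& (F ||| cycMask s.1)) w) &&
      stagesOK lx (F ||| cycMask s.1) ss

/-- `st` agrees with `L` on the positions of `F`. -/
def Agree (L st : List ℕ) (F : ℕ) : Prop :=
  st.length = 24 ∧ F < 2 ^ 24 ∧ ∀ i, F.testBit i = true → st.getD i 0 = L.getD i 0

theorem spanWord_congr : ∀ (l l' : List ℕ) (n : ℕ), l.length = l'.length →
    (∀ i, n.testBit i = true → l.getD i 0 = l'.getD i 0) → spanWord l n = spanWord l' n := by
  intro l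
  induction l with
  | nil => intro l' n h _; rw [List.eq_nil_of_length_eq_zero h.symm]
  | cons g gs ih =>
    intro l' n h hag
    cases l' with
    | nil => simp at h
    | cons g' gs' =>
      rw [spanWord_cons, spanWord_cons]
      congr 1
      · by_cases h0 : n.testBit 0 = true
        · have := hag 0 h0
          simp only [List.getD_cons_zero] at this
          rw [this]
        · simp only [Bool.not_eq_true] at h0
          rw [h0]; rfl
      · refine ih gs' _ (by simpa using h) fun i hi => ?_
        rw [Nat.testBit_shiftRight, Nat.add_comm] at hi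
        simpa using hag (i + 1) hi

theorem pmap_congr {L st : List ℕ} {F : ℕ} (hL : L.length = 24) (h : Agree L st F) {w : ℕ}
    (hw : w &&& F = w) : pmap st w = pmap L w := by
  refine spanWord_congr _ _ _ (by simp [hL, h.1]) fun i hi => ?_
  have hFi : F.testBit i = true := by
    have := congrArg (fun m => m.testBit i) hw
    simp only [Nat.testBit_and, hi, Bool.true_and] at this
    exact this
  have hi24 : i < 24 := by
    by_contra hh
    rw [testBit_eq_false_of_lt h.2.1 (by omega)] at hFi
    cases hFi
  have hlen := h.1
  have := h.2.2 i hFi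
  rw [List.getD_eq_getElem _ _ (by omega), List.getD_eq_getElem _ _ (by omega)] at this
  rw [List.getD_eq_getElem _ _ (by simp [h.1, hi24]), List.getD_eq_getElem _ _ (by simp [hL, hi24]),
    List.getElem_map, List.getElem_map, this]

theorem setImg_agree {σ : Equiv.Perm GolayPt} {lx lt : List ℕ}
    (hcomm : comp (toList σ) lx = comp lt (toList σ)) (hlx : lx.length = 24) :
    ∀ (cs : List ℕ) (st : List ℕ) (F y : ℕ), Agree (toList σ) st F → chainOK lx cs = true →
      (∀ c, cs.head? = some c → y = (toList σ).getD c 0) →
      Agree (toList σ) (setImg lt st cs y) (F ||| cycMask cs) := by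
  intro cs
  induction cs with
  | nil => intro st F y h _ _; simpa [setImg, cycMask] using h
  | cons c cs ih =>
    intro st F y h hch hy
    have hy' := hy c rfl
    have hc : c < 24 := by
      cases cs with
      | nil => simpa [chainOK] using hch
      | cons d ds =>
        simp only [chainOK, Bool.and_eq_true, decide_eq_true_eq] at hch
        exact hch.1.1
    rw [setImg, cycMask, ← Nat.lor_assoc]
    refine ih _ _ _ ⟨by simp [h.1], Nat.or_lt_two_pow h.2.1 (Nat.pow_lt_pow_right (by norm_num) hc),
      fun i hi => ?_⟩ ?_ ?_
    · rw [Nat.testBit_or, Bool.or_eq_true, Nat.testBit_two_pow, decide_eq_true_eq] at hi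
      by_cases hci : c = i
      · subst hci
        rw [List.getD_eq_getElem _ _ (by simp [h.1, hc]), List.getElem_set_self, hy']
      · have hFi : F.testBit i = true := hi.resolve_right hci
        rw [← h.2.2 i hFi]
        simp [List.getD_eq_getElem?_getD, List.getElem?_set, hci]
    · cases cs with
      | nil => rfl
      | cons d ds =>
        simp only [chainOK, Bool.and_eq_true] at hch
        exact hch.2
    · intro d hd
      cases cs with
      | nil => simp at hd
      | cons d' ds =>
        simp only [List.head?_cons, Option.some.injEq] at hd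
        subst hd
        simp only [chainOK, Bool.and_eq_true] at hch
        have hcd := Nat.eq_of_beq_eq_true hch.1.2
        have := congrArg (fun l => l.getD c 0) hcomm
        simp only [comp] at this
        rw [List.getD_eq_getElem _ _ (by simp [hlx, hc]),
          List.getD_eq_getElem _ _ (by simp [toList_length, hc]), List.getElem_map,
          List.getElem_map, ← List.getD_eq_getElem lx 0 (by omega), hcd,
          ← List.getD_eq_getElem (toList σ) 0 (by rw [toList_length]; exact hc), ← hy'] at this
        exact this.symm

/-- The search finds every element of `M24` that carries `lx` to `lt` and meets the candidate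
lists. -/
theorem mem_searchImg {σ : Equiv.Perm GolayPt} (hσ : σ ∈ M24) {lx lt : List ℕ}
    (hcomm : comp (toList σ) lx = comp lt (toList σ)) (hlx : lx.length = 24) :
    ∀ (ss : List Stage) (F : ℕ) (st : List ℕ), Agree (toList σ) st F →
      stagesOK lx F ss = true →
      (∀ s ∈ ss, ∀ c, s.1.head? = some c → (toList σ).getD c 0 ∈ s.2.2) →
      toList σ ∈ searchImg lt F ss st := by
  intro ss
  induction ss with
  | nil =>
    intro F st h hok _
    have hF := Nat.eq_of_beq_eq_true hok
    subst hF
    rw [searchImg, List.mem_singleton]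
    refine List.ext_getElem (by rw [h.1, toList_length]) fun i h1 h2 => ?_
    have hb : Nat.testBit 16777215 i = true := by
      rw [show (16777215 : ℕ) = 2 ^ 24 - 1 by norm_num, Nat.testBit_two_pow_sub_one]
      rw [toList_length] at h1
      simpa using h1
    have := h.2.2 i hb
    rw [List.getD_eq_getElem _ _ h2, List.getD_eq_getElem _ _ h1] at this
    exact this.symm
  | cons s ss ih =>
    intro F st h hok hc
    simp only [stagesOK, Bool.and_eq_true] at hok
    obtain ⟨⟨⟨hch, hne⟩, hws⟩, hrest⟩ := hok
    obtain ⟨c, hhead⟩ : ∃ c, s.1.head? = some c := by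
      cases hs : s.1 with
      | nil => rw [hs] at hne; simp at hne
      | cons a b => exact ⟨a, rfl⟩
    have hag := setImg_agree hcomm hlx s.1 st F ((toList σ).getD c 0) h hch
      (fun d hd => by rw [hhead] at hd; cases hd; rfl)
    rw [searchImg, List.mem_flatMap]
    refine ⟨_, List.mem_filter.mpr ⟨List.mem_map.mpr ⟨_, hc s List.mem_cons_self c hhead, rfl⟩, ?_⟩,
      ih _ _ hag hrest fun t ht => hc t (List.mem_cons_of_mem _ ht)⟩
    rw [okPartial, Bool.and_eq_true]
    refine ⟨?_, List.all_eq_true.mpr fun w hw => ?_⟩
    · rw [pmap_congr (toList_length σ) hag (Nat.and_self _)]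
      have h24 := hag.2.1
      conv_lhs => rw [← encS_decS h24]
      rw [← encS_smul, popc_encS, popc_encS, Finset.card_smul_finset]
      exact Nat.beq_refl _
    · have hw' := List.all_eq_true.mp hws w hw
      simp only [Bool.and_eq_true, decide_eq_true_eq] at hw'
      rw [pmap_congr (toList_length σ) hag (Nat.eq_of_beq_eq_true hw'.2)]
      have h1 := smul_mem_supports hσ (b := decS w)
        (mem_supports.mpr (by rw [encS_decS hw'.1.1]; exact hw'.1.2))
      rwa [mem_supports, encS_smul, encS_decS hw'.1.1] at h1

/-- The search started on nothing. -/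
theorem mem_searchImg_start {σ x t : Equiv.Perm GolayPt} (hσ : σ ∈ M24) (hx : σ * x * σ⁻¹ = t)
    {lx lt : List ℕ} (hlx : toList x = lx) (hlt : toList t = lt) {ss : List Stage}
    (hok : stagesOK lx 0 ss = true)
    (hc : ∀ s ∈ ss, ∀ c, s.1.head? = some c → (toList σ).getD c 0 ∈ s.2.2) :
    toList σ ∈ searchImg lt 0 ss (List.replicate 24 0) := by
  refine mem_searchImg hσ ?_ (hlx ▸ toList_length x) ss 0 _
    ⟨by simp, by norm_num, fun i hi => ?_⟩ hok hc
  · rw [← hlx, ← hlt, ← toList_mul, ← toList_mul, ← hx, inv_mul_cancel_right]
  · simp at hi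

/-- The image list of an element of `H`. -/
def InSub (H : Subgroup (Equiv.Perm GolayPt)) (l : List ℕ) : Prop := ∃ σ ∈ H, toList σ = l

theorem inSub_runProg {H : Subgroup (Equiv.Perm GolayPt)} :
    ∀ (P : List (ℕ × ℕ)) (acc : List (List ℕ)), (∀ l ∈ acc, InSub H l) →
      ∀ l ∈ runProg P acc, InSub H l := by
  have hg : ∀ (acc : List (List ℕ)), (∀ l ∈ acc, InSub H l) → ∀ a : ℕ,
      InSub H (acc.getD a (List.range 24)) := fun acc h a => by
    by_cases ha : a < acc.length
    · rw [List.getD_eq_getElem _ _ ha]; exact h _ (List.getElem_mem _)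
    · rw [List.getD_eq_default _ _ (not_lt.mp ha)]; exact ⟨1, one_mem _, toList_one⟩
  intro P
  induction P with
  | nil => intro acc h; exact h
  | cons x P ih =>
    intro acc h
    apply ih
    intro l hl
    rcases List.mem_cons.mp hl with rfl | hl
    · obtain ⟨σ, hσ, hσ'⟩ := hg acc h x.1
      obtain ⟨τ, hτ, hτ'⟩ := hg acc h x.2
      exact ⟨σ * τ, mul_mem hσ hτ, by rw [toList_mul, hσ', hτ']⟩
    · exact h l hl

/-- Check of a chain: at level `k` the listed entries fix the earlier base positions and carry
this one to the listed targets. -/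
def chainCheck (base : List ℕ) (lev tg : List (List ℕ)) (P : List (List ℕ)) (k : ℕ) : Bool :=
  (((lev.getD k []).map fun i => P.getD i (List.range 24)).all fun l =>
      (base.take k).all fun b => Nat.beq (l.getD b 0) b) &&
    (((lev.getD k []).map fun i => (P.getD i (List.range 24)).getD (base.getD k 0) 0) == tg.getD k [])

/-- A subgroup with the same orbits along a base as an overgroup is the whole overgroup. -/
theorem eq_of_chain {G H : Subgroup (Equiv.Perm GolayPt)} (hHG : H ≤ G) (base : List ℕ)
    (lev tg : List (List ℕ)) (P : List (List ℕ)) (hP : ∀ l ∈ P, InSub H l)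
    (hcheck : ((List.range base.length).all fun k => chainCheck base lev tg P k) = true)
    (htarget : ∀ k < base.length, ∀ σ ∈ G, (∀ b ∈ base.take k, (toList σ).getD b 0 = b) →
      (toList σ).getD (base.getD k 0) 0 ∈ tg.getD k [])
    (hlt : ∀ b ∈ base, b < 24)
    (hterm : ∀ σ ∈ G, (∀ b ∈ base, (toList σ).getD b 0 = b) → σ ∈ H) : H = G := by
  refine le_antisymm hHG fun σ hσ => ?_
  suffices ∀ j ≤ base.length, ∀ τ ∈ G,
      (∀ b ∈ base.take (base.length - j), (toList τ).getD b 0 = b) → τ ∈ H from
    this base.length le_rfl σ hσ (by simp)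
  intro j
  induction j with
  | zero =>
    intro _ τ hτ hfix
    rw [Nat.sub_zero, List.take_length] at hfix
    exact hterm τ hτ hfix
  | succ j ih =>
    intro hj τ hτ hfix
    set k := base.length - (j + 1) with hk
    have hk' : k < base.length := by omega
    have ht := htarget k hk' τ hτ hfix
    have hc := List.all_eq_true.mp hcheck k (List.mem_range.mpr hk')
    rw [chainCheck, Bool.and_eq_true, beq_iff_eq] at hc
    rw [← hc.2, List.mem_map] at ht
    obtain ⟨i, hi, hiv⟩ := ht
    have hPi : InSub H (P.getD i (List.range 24)) := by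
      by_cases ha : i < P.length
      · rw [List.getD_eq_getElem _ _ ha]; exact hP _ (List.getElem_mem _)
      · rw [List.getD_eq_default _ _ (not_lt.mp ha)]; exact ⟨1, one_mem _, toList_one⟩
    obtain ⟨ρ, hρ, hρl⟩ := hPi
    rw [← hρl] at hiv
    have hfixρ : ∀ b ∈ base.take k, (toList ρ).getD b 0 = b := fun b hb => by
      have := List.all_eq_true.mp hc.1 _ (List.mem_map.mpr ⟨i, hi, rfl⟩)
      rw [← hρl] at this
      exact Nat.eq_of_beq_eq_true (List.all_eq_true.mp this b hb)
    have hval : ∀ (π : Equiv.Perm GolayPt) (b : ℕ) (hb : b < 24),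
        (toList π).getD b 0 = (idx (π (pt ⟨b, hb⟩))).val := fun π b hb => by
      rw [← toList_getD π (pt ⟨b, hb⟩), idx_pt]
    have hnext : ∀ b ∈ base.take (k + 1), (toList (ρ⁻¹ * τ)).getD b 0 = b := by
      intro b hb
      have hb24 := hlt b (List.mem_of_mem_take hb)
      have heq : (toList τ).getD b 0 = (toList ρ).getD b 0 := by
        rw [List.take_succ_eq_append_getElem hk', List.mem_append, List.mem_singleton] at hb
        rcases hb with hb | rfl
        · rw [hfix b hb, hfixρ b hb]
        · rw [← List.getD_eq_getElem base 0 hk']; exact hiv.symm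
      rw [hval _ b hb24, hval _ b hb24] at heq
      rw [hval _ b hb24, Equiv.Perm.mul_apply, idx_injective (Fin.ext heq),
        ← Equiv.Perm.mul_apply, inv_mul_cancel, Equiv.Perm.one_apply, idx_pt]
    have hmem : ρ⁻¹ * τ ∈ H := ih (by omega) _ (mul_mem (inv_mem (hHG hρ)) hτ)
      (by rwa [show base.length - j = k + 1 by omega])
    have := mul_mem hρ hmem
    rwa [mul_inv_cancel_left] at this

end CfsgLib.Schur.GolaySearch
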