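/-
Bounds for the outer automorphism group from a cyclic Sylow subgroup and a centraliser.
-/
import Cfsg.Prelude.Def_KGroupFacts
import Mathlib.GroupTheory.Sylow
import Mathlib.GroupTheory.OrderOfElement
import Mathlib.Data.Nat.ModEq
import Mathlib.Data.ZMod.Basic
import Mathlib.RingTheory.Coprime.Lemmas
import Mathlib.RingTheory.Int.Basic
import Mathlib.Tactic.LinearCombination
import Mathlib.Tactic.Group

set_option autoImplicit false

namespace CfsgLib.Schur

open Subgroup Cfsg
open scoped Pointwise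

universe u

/-- The product of the entries named by a word in three elements. -/
def evalThree {M : Type u} [Mul M] [One M] (x y z : M) : List ℕ → M
  | [] => 1
  | i :: w => [x, y, z].getD i 1 * evalThree x y z w

theorem evalThree_map {M : Type u} [MulOneClass M] {N : Type*} [MulOneClass N] (f : M →* N)
    (x y z : M) : ∀ w : List ℕ, f (evalThree x y z w) = evalThree (f x) (f y) (f z) w
  | [] => map_one f
  | i :: w => by
    rw [evalThree, evalThree, map_mul, evalThree_map f x y z w]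
    congr 1
    rcases i with _ | _ | _ | i <;> simp

theorem two_le_card_out {G : Type u} [Group G] [Finite G] (φ : MulAut G)
    (h : φ ∉ Cfsg.Inn G) : 2 ≤ Nat.card (Cfsg.Out G) := by
  have : Nontrivial (Cfsg.Out G) :=
    ⟨⟨(φ : Cfsg.Out G), 1, fun he => h ((QuotientGroup.eq_one_iff φ).mp he)⟩⟩
  exact Finite.one_lt_card

/-- If every automorphism agrees up to an inner one with one of the listed assignments on three
generators, the outer automorphism group has at most as many elements as the list.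

The listed assignments are `a ↦ a ^ j`, `b ↦ b`, `c ↦ x`; here `⟨a⟩` is a self-centralising Sylow
subgroup of prime order normalised by `b`, and `Lc` holds the elements acting on `b` like `c`. -/
theorem card_out_le {G : Type u} [Group G] [Finite G] [DecidableEq G] (a b c : G) (p s k : ℕ)
    [hp : Fact p.Prime] (hpord : orderOf a = p) (hpp : ¬ p * p ∣ Nat.card G)
    (hC : ∀ x : G, x * a * x⁻¹ = a → ∃ i : ℕ, x = a ^ i)
    (hb : b * a * b⁻¹ = a ^ s) (hs : ¬ s % p = 1)
    (reps : List ℕ) (hreps : ∀ j < p, j ≠ 0 → ∃ i, j * s ^ i % p ∈ reps)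
    (hc : c * b * c⁻¹ = b ^ k) (Lc : List G)
    (hLc : ∀ x : G, x * b * x⁻¹ = b ^ k → x ∈ Lc)
    (hgen : closure {a, b, c} = ⊤)
    (R : List (List ℕ × ℕ)) (hR : ∀ r ∈ R, evalThree a b c r.1 ^ r.2 = 1)
    (surv : List (ℕ × G))
    (hsurv : ∀ j ∈ reps, ∀ x ∈ Lc, (∀ r ∈ R, evalThree (a ^ j) b x r.1 ^ r.2 = 1) →
      (j, x) ∈ surv) :
    Nat.card (Cfsg.Out G) ≤ surv.length := by
  classical
  -- normalisation by an inner automorphism
  have hnorm : ∀ φ : MulAut G, ∃ (g : G) (i : Fin surv.length),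
      g * φ a * g⁻¹ = a ^ (surv.get i).1 ∧ g * φ b * g⁻¹ = b ∧
        g * φ c * g⁻¹ = (surv.get i).2 := by
    intro φ
    have hcard : Nat.card (zpowers a) = p ^ (Nat.card G).factorization p := by
      rw [Nat.card_zpowers, hpord]
      have h1 : p ∣ Nat.card G := hpord ▸ orderOf_dvd_natCard a
      have h0 : (Nat.card G).factorization p ≠ 0 :=
        ((hp.out.factorization_pos_of_dvd Nat.card_pos.ne' h1)).ne'
      have h2 : (Nat.card G).factorization p < 2 := by
        by_contra hge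
        refine hpp ?_
        rw [← pow_two]
        exact (pow_dvd_pow p (not_lt.mp hge)).trans (Nat.ordProj_dvd _ _)
      rw [show (Nat.card G).factorization p = 1 by omega, pow_one]
    have hcard' : Nat.card (zpowers (φ a)) = p ^ (Nat.card G).factorization p := by
      rw [← hcard, Nat.card_zpowers, Nat.card_zpowers]
      exact orderOf_injective φ.toMonoidHom φ.injective a
    obtain ⟨g0, hg0⟩ := MulAction.exists_smul_eq G (Sylow.ofCard _ hcard') (Sylow.ofCard _ hcard)
    have hmem : g0 * φ a * g0⁻¹ ∈ zpowers a := by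
      have h1 : φ a ∈ (Sylow.ofCard _ hcard' : Sylow p G) := mem_zpowers (φ a)
      have h2 : MulAut.conj g0 • φ a ∈ (g0 • Sylow.ofCard _ hcard' : Sylow p G) :=
        Set.smul_mem_smul_set h1
      rw [hg0] at h2
      have h3 : g0 * φ a * g0⁻¹ ∈ (Sylow.ofCard _ hcard : Sylow p G) := by
        simpa [MulAut.smul_def] using h2
      exact h3
    obtain ⟨j0, hj0p, hj0⟩ : ∃ j0 < p, g0 * φ a * g0⁻¹ = a ^ j0 := by
      obtain ⟨n, hn⟩ := mem_zpowers_iff.mp hmem
      refine ⟨(n % p).toNat, ?_, ?_⟩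
      · have := Int.emod_lt_of_pos n (show (0 : ℤ) < p by exact_mod_cast hp.out.pos)
        have := Int.emod_nonneg n (show (p : ℤ) ≠ 0 by exact_mod_cast hp.out.ne_zero)
        omega
      · rw [← hn, ← zpow_natCast, Int.toNat_of_nonneg
          (Int.emod_nonneg _ (by exact_mod_cast hp.out.ne_zero)), ← hpord, zpow_mod_orderOf]
    have hj00 : j0 ≠ 0 := by
      intro h0
      rw [h0, pow_zero, mul_inv_eq_one, mul_eq_left] at hj0
      rw [φ.map_eq_one_iff.mp hj0, orderOf_one] at hpord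
      exact hp.out.one_lt.ne hpord
    obtain ⟨i0, hi0⟩ := hreps j0 hj0p hj00
    set j := j0 * s ^ i0 % p with hj
    have hbi : ∀ i : ℕ, b ^ i * a * (b ^ i)⁻¹ = a ^ (s ^ i) := by
      intro i
      induction i with
      | zero => simp
      | succ i ih =>
        calc b ^ (i + 1) * a * (b ^ (i + 1))⁻¹
            = b * (b ^ i * a * (b ^ i)⁻¹) * b⁻¹ := by rw [pow_succ']; group
          _ = (b * a * b⁻¹) ^ (s ^ i) := by rw [ih, conj_pow]
          _ = a ^ (s ^ (i + 1)) := by rw [hb, ← pow_mul, pow_succ']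
    set g1 := b ^ i0 * g0 with hg1
    have hj1 : g1 * φ a * g1⁻¹ = a ^ j := by
      calc g1 * φ a * g1⁻¹ = b ^ i0 * (g0 * φ a * g0⁻¹) * (b ^ i0)⁻¹ := by rw [hg1]; group
        _ = (b ^ i0 * a * (b ^ i0)⁻¹) ^ j0 := by rw [hj0, conj_pow]
        _ = a ^ j := by
          rw [hbi, ← pow_mul, hj, ← hpord, pow_mod_orderOf, mul_comm]
    have hjp : ¬ p ∣ j := by
      intro hd
      have h0 : j = 0 := Nat.eq_zero_of_dvd_of_lt hd (Nat.mod_lt _ hp.out.pos)
      rw [h0, pow_zero, mul_inv_eq_one, mul_eq_left] at hj1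
      rw [φ.map_eq_one_iff.mp hj1, orderOf_one] at hpord
      exact hp.out.one_lt.ne hpord
    set y := g1 * φ b * g1⁻¹ with hy
    have hya : y * a ^ j * y⁻¹ = (a ^ j) ^ s := by
      rw [← hj1, hy, conj_pow, ← map_pow, ← hb, map_mul, map_mul, map_inv]; group
    have hya' : (b⁻¹ * y) * a * (b⁻¹ * y)⁻¹ = a := by
      have h2 : b⁻¹ * y * a ^ j * (b⁻¹ * y)⁻¹ = a ^ j := by
        calc b⁻¹ * y * a ^ j * (b⁻¹ * y)⁻¹ = b⁻¹ * (y * a ^ j * y⁻¹) * b := by group
          _ = b⁻¹ * (b * a * b⁻¹) ^ j * b := by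
            rw [hya, hb, ← pow_mul, ← pow_mul, mul_comm j s]
          _ = a ^ j := by rw [conj_pow]; group
      have hcop : Nat.Coprime j (orderOf a) := by
        rw [hpord]; exact (hp.out.coprime_iff_not_dvd.mpr hjp).symm
      obtain ⟨l, hl⟩ := exists_pow_eq_self_of_coprime hcop
      have h3 : ((b⁻¹ * y) * a ^ j * (b⁻¹ * y)⁻¹) ^ l = (a ^ j) ^ l := by rw [h2]
      rwa [conj_pow, hl] at h3
    obtain ⟨i1, hi1⟩ := hC _ hya'
    have hyb : y = b * a ^ i1 := by rw [← hi1]; group
    -- remove the power of `a`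
    obtain ⟨u, hu⟩ : ∃ u : ℤ, a ^ u * y * (a ^ u)⁻¹ = b := by
      have hns : ¬ ((p : ℤ) ∣ (s : ℤ) - 1) := by
        intro hd
        apply hs
        have h1 : ((s : ℕ) : ZMod p) = ((1 : ℕ) : ZMod p) := by
          have h2 : (((s : ℤ) - 1 : ℤ) : ZMod p) = 0 := (ZMod.intCast_zmod_eq_zero_iff_dvd _ p).mpr hd
          push_cast at h2 ⊢
          exact sub_eq_zero.mp h2
        have h3 := (ZMod.natCast_eq_natCast_iff' _ _ _).mp h1
        rwa [Nat.one_mod_eq_one.mpr hp.out.one_lt.ne'] at h3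
      obtain ⟨v, w, hvw⟩ : IsCoprime ((s : ℤ) - 1) (p : ℤ) :=
        (Nat.prime_iff_prime_int.mp hp.out).coprime_iff_not_dvd.mpr hns |>.symm
      refine ⟨(i1 : ℤ) * s * v, ?_⟩
      set u : ℤ := (i1 : ℤ) * s * v with hu
      have h1 : ∀ m : ℤ, b * a ^ m = a ^ ((s : ℤ) * m) * b := fun m => by
        have := map_zpow (MulAut.conj b) a m
        simp only [MulAut.conj_apply] at this
        rw [← mul_inv_eq_iff_eq_mul, this, hb, ← zpow_natCast, ← zpow_mul]
      calc a ^ u * y * (a ^ u)⁻¹ = a ^ u * (b * a ^ ((i1 : ℤ) + -u)) := by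
            rw [hyb, ← zpow_natCast, ← zpow_neg, zpow_add, mul_assoc, mul_assoc]
        _ = a ^ (u + (s : ℤ) * ((i1 : ℤ) + -u)) * b := by rw [h1, zpow_add, mul_assoc]
        _ = b := by
          have h2 : u + (s : ℤ) * ((i1 : ℤ) + -u) = (p : ℤ) * ((i1 : ℤ) * s * w) := by
            rw [hu]; linear_combination (-((i1 : ℤ) * s)) * hvw
          rw [h2, zpow_mul, zpow_natCast, ← hpord, pow_orderOf_eq_one, one_zpow, one_mul]
    set g := a ^ u * g1 with hg
    have hga : g * φ a * g⁻¹ = a ^ j := by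
      calc g * φ a * g⁻¹ = a ^ u * (g1 * φ a * g1⁻¹) * (a ^ u)⁻¹ := by rw [hg]; group
        _ = a ^ j := by rw [hj1, ← zpow_natCast, ← zpow_add, ← zpow_neg, ← zpow_add]; congr 1; omega
    have hgb : g * φ b * g⁻¹ = b := by
      calc g * φ b * g⁻¹ = a ^ u * y * (a ^ u)⁻¹ := by rw [hg, hy]; group
        _ = b := hu
    have hx : g * φ c * g⁻¹ ∈ Lc := by
      refine hLc _ ?_
      calc g * φ c * g⁻¹ * b * (g * φ c * g⁻¹)⁻¹
          = g * φ c * g⁻¹ * (g * φ b * g⁻¹) * (g * φ c * g⁻¹)⁻¹ := by rw [hgb]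
        _ = g * φ (c * b * c⁻¹) * g⁻¹ := by rw [map_mul, map_mul, map_inv]; group
        _ = b ^ k := by rw [hc, map_pow, ← conj_pow, hgb]
    have hjx := hsurv j hi0 _ hx (fun r hr => by
      have he := congrArg (fun z => g * φ z * g⁻¹) (hR r hr)
      simp only [map_pow, map_one, mul_one, mul_inv_cancel, ← conj_pow] at he
      have h1 := evalThree_map ((MulAut.conj g : MulAut G).toMonoidHom.comp φ.toMonoidHom) a b c r.1
      simp only [MonoidHom.coe_comp, MulEquiv.coe_toMonoidHom, Function.comp_apply,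
        MulAut.conj_apply, hga, hgb] at h1
      rwa [h1] at he)
    obtain ⟨i, hi, he⟩ := List.getElem_of_mem hjx
    exact ⟨g, ⟨i, hi⟩, by simp [he, hga], hgb, by simp [he]⟩
  choose g i hga hgb hgc using hnorm
  let f : Cfsg.Out G → Fin surv.length := fun q => i q.out
  have hf : Function.Injective f := by
    intro q q' hqq
    set φ := q.out with hφ
    set ψ := q'.out with hψ
    have hi : i φ = i ψ := hqq
    have heq : MulAut.conj (g φ) * φ = MulAut.conj (g ψ) * ψ := by
      apply MulEquiv.toMonoidHom_injective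
      apply MonoidHom.eq_of_eqOn_dense hgen
      rintro z (rfl | rfl | rfl)
      · show g φ * φ z * (g φ)⁻¹ = g ψ * ψ z * (g ψ)⁻¹
        rw [hga, hga, hi]
      · show g φ * φ z * (g φ)⁻¹ = g ψ * ψ z * (g ψ)⁻¹
        rw [hgb, hgb]
      · show g φ * φ z * (g φ)⁻¹ = g ψ * ψ z * (g ψ)⁻¹
        rw [hgc, hgc, hi]
    rw [← Quotient.out_eq q, ← Quotient.out_eq q', ← hφ, ← hψ]
    have h1 : ((MulAut.conj (g φ) * φ : MulAut G) : Cfsg.Out G) = (φ : Cfsg.Out G) := by
      rw [QuotientGroup.mk_mul, (QuotientGroup.eq_one_iff _).mpr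
        (show MulAut.conj (g φ) ∈ Cfsg.Inn G from ⟨g φ, rfl⟩), one_mul]
    have h2 : ((MulAut.conj (g ψ) * ψ : MulAut G) : Cfsg.Out G) = (ψ : Cfsg.Out G) := by
      rw [QuotientGroup.mk_mul, (QuotientGroup.eq_one_iff _).mpr
        (show MulAut.conj (g ψ) ∈ Cfsg.Inn G from ⟨g ψ, rfl⟩), one_mul]
    show (φ : Cfsg.Out G) = (ψ : Cfsg.Out G)
    rw [← h1, ← h2, heq]
  simpa using Nat.card_le_card_of_injective f hf

theorem card_out_eq_one {G : Type u} [Group G] [Finite G] (h : Nat.card (Cfsg.Out G) ≤ 1) :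
    Nat.card (Cfsg.Out G) = 1 :=
  le_antisymm h Nat.card_pos

end CfsgLib.Schur
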