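/-
Outer automorphism bounds for subgroups of the group of the length-24 code, by searches.
-/
import Cfsg.Agent.Lib.Schur.OutRigid
import Cfsg.Agent.Lib.Schur.GolaySearch

set_option autoImplicit false

namespace CfsgLib.Schur.GolayOut

open Cfsg CfsgLib.Golay CfsgLib.Schur.GolaySearch
open scoped Pointwise

/-- The map of points given by an image list. -/
def imgFun (l : List ℕ) (p : GolayPt) : GolayPt :=
  pt ⟨l.getD (idx p).val 0 % 24, Nat.mod_lt _ (by norm_num)⟩

/-- Powers of image lists. -/
def powList (l : List ℕ) : ℕ → List ℕ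
  | 0 => List.range 24
  | n + 1 => comp (powList l n) l

/-- Evaluation of words on image lists. -/
def evalList (la lb lc : List ℕ) : List ℕ → List ℕ
  | [] => List.range 24
  | i :: w => comp ([la, lb, lc].getD i (List.range 24)) (evalList la lb lc w)

theorem toList_pow (σ : Equiv.Perm GolayPt) : ∀ n : ℕ, toList (σ ^ n) = powList (toList σ) n
  | 0 => by rw [pow_zero, toList_one, powList]
  | n + 1 => by rw [pow_succ, toList_mul, toList_pow σ n, powList]

theorem toList_evalThree (x y z : Equiv.Perm GolayPt) : ∀ w : List ℕ,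
    toList (evalThree x y z w) = evalList (toList x) (toList y) (toList z) w
  | [] => toList_one
  | i :: w => by
    rw [evalThree, evalList, toList_mul, toList_evalThree x y z w]
    congr 1
    rcases i with _ | _ | _ | i <;> simp [toList_one]

/-- Membership test for image lists: the code is preserved and the side condition holds. -/
def inG (side : List ℕ → Bool) (l : List ℕ) : Bool := isPres l && side l

/-- The elements found by a search that pass the test. -/
def found (side : List ℕ → Bool) (lt : List ℕ) (ss : List Stage) : List (List ℕ) :=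
  (searchImg lt 0 ss (List.replicate 24 0)).filter (inG side)

/-- The candidate lists are the prescribed ones. -/
def candsOK (cand : ℕ → List ℕ) (ss : List Stage) : Bool :=
  ss.all fun s => match s.1 with
    | [] => true
    | c :: _ => decide (c < 24) && (s.2.2 == cand c)

theorem mem_found {side : List ℕ → Bool} {cand : ℕ → List ℕ} {σ x t : Equiv.Perm GolayPt}
    (hσ : σ ∈ M24) (hside : side (toList σ) = true)
    (hcand : ∀ i < 24, (toList σ).getD i 0 ∈ cand i) (hx : σ * x * σ⁻¹ = t)
    {lx lt : List ℕ} (hlx : toList x = lx) (hlt : toList t = lt) {ss : List Stage}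
    (hok : stagesOK lx 0 ss = true) (hc : candsOK cand ss = true) :
    toList σ ∈ found side lt ss := by
  refine List.mem_filter.mpr ⟨mem_searchImg_start hσ hx hlx hlt hok fun s hs c hc' => ?_, ?_⟩
  · have h := List.all_eq_true.mp hc s hs
    rcases hs1 : s.1 with _ | ⟨d, ds⟩
    · rw [hs1] at hc'; simp at hc'
    · rw [hs1] at hc' h
      simp only [List.head?_cons, Option.some.injEq] at hc'
      subst hc'
      simp only [Bool.and_eq_true, decide_eq_true_eq, beq_iff_eq] at h
      rw [h.2]; exact hcand d h.1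
  · rw [inG, Bool.and_eq_true]
    exact ⟨mem_M24_iff_isPres.mp hσ, hside⟩

/-- The checks for `card_out_le_golay`. -/
def outCheck (side : List ℕ → Bool) (cand : ℕ → List ℕ) (la lb lc : List ℕ) (p s k : ℕ)
    (ssA ssB : List Stage) (reps : List ℕ) (R : List (List ℕ × ℕ)) (survJ : List ℕ) : Bool :=
  (powList la p == List.range 24) && !(la == List.range 24) &&
    (comp lb la == comp (powList la s) lb) && !(s % p == 1) &&
    ((List.range p).all fun j => j == 0 || (List.range p).any fun i => reps.contains (j * s ^ i % p)) &&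
    (comp lc lb == comp (powList lb k) lc) &&
    stagesOK la 0 ssA && candsOK cand ssA && stagesOK lb 0 ssB && candsOK cand ssB &&
    ((found side la ssA).all fun l => (List.range p).any fun i => l == powList la i) &&
    (R.all fun r => powList (evalList la lb lc r.1) r.2 == List.range 24) &&
    (reps.all fun j => (found side (powList lb k) ssB).all fun l =>
      (l == lc && survJ.contains j) ||
        R.any fun r => !(powList (evalList (powList la j) lb l r.1) r.2 == List.range 24))

theorem card_out_le_golay {G : Subgroup (Equiv.Perm GolayPt)} (side : List ℕ → Bool)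
    (cand : ℕ → List ℕ) (hG : ∀ σ, σ ∈ G ↔ σ ∈ M24 ∧ side (toList σ) = true)
    (hcand : ∀ σ ∈ G, ∀ i < 24, (toList σ).getD i 0 ∈ cand i)
    {a b c : Equiv.Perm GolayPt} {la lb lc : List ℕ} (ha : toList a = la) (hb : toList b = lb)
    (hc : toList c = lc) (hgen : Subgroup.closure {a, b, c} = G) (p s k : ℕ) [Fact p.Prime]
    (hp : ¬ p * p ∣ 244823040) (ssA ssB : List Stage) (reps : List ℕ) (R : List (List ℕ × ℕ))
    (survJ : List ℕ) (hcheck : outCheck side cand la lb lc p s k ssA ssB reps R survJ = true) :
    Nat.card (Cfsg.Out G) ≤ survJ.length := by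
  classical
  simp only [outCheck, Bool.and_eq_true, Bool.not_eq_true', beq_iff_eq, List.all_eq_true,
    List.any_eq_true, Bool.or_eq_true, List.mem_range, beq_eq_false_iff_ne, List.contains_iff_mem,
    bne_iff_ne] at hcheck
  obtain ⟨⟨⟨⟨⟨⟨⟨⟨⟨⟨⟨⟨hap, ha1⟩, hba⟩, hs1⟩, hreps⟩, hcb⟩, hA⟩, hA'⟩, hB⟩, hB'⟩, hfA⟩, hR⟩, hfB⟩ :=
    hcheck
  have hmem : ∀ x ∈ ({a, b, c} : Set (Equiv.Perm GolayPt)), x ∈ G := fun x hx => by
    rw [← hgen]; exact Subgroup.subset_closure hx
  let A : G := ⟨a, hmem a (by simp)⟩
  let B : G := ⟨b, hmem b (by simp)⟩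
  let C : G := ⟨c, hmem c (by simp)⟩
  have hgen' : Subgroup.closure ({A, B, C} : Set G) = ⊤ := by
    apply Subgroup.map_injective (Subgroup.subtype_injective G)
    rw [MonoidHom.map_closure, ← MonoidHom.range_eq_map, Subgroup.range_subtype, Set.image_insert_eq,
      Set.image_insert_eq, Set.image_singleton]
    exact hgen
  have hinj : ∀ x y : G, toList x.1 = toList y.1 → x = y := fun x y h =>
    Subtype.ext (toList_injective h)
  have hord : orderOf A = p := by
    refine orderOf_eq_prime (hinj _ _ ?_) ?_
    · rw [SubmonoidClass.coe_pow, toList_pow, ha, hap, OneMemClass.coe_one, toList_one]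
    · intro h
      apply ha1
      rw [← ha, show a = 1 from congrArg Subtype.val h, toList_one]
  have hcard : ¬ p * p ∣ Nat.card G := fun h => hp <| h.trans <| by
    rw [← natCard_M24]
    exact Subgroup.card_dvd_of_le fun σ hσ => ((hG σ).mp hσ).1
  have hsearch : ∀ {x y : G} {lx ly : List ℕ} {ss : List Stage}, toList x.1 = lx →
      toList y.1 = ly → stagesOK lx 0 ss = true → candsOK cand ss = true →
      ∀ g : G, g * x * g⁻¹ = y → toList g.1 ∈ found side ly ss := fun hlx hly hok hcok g hg =>
    mem_found ((hG g.1).mp g.2).1 ((hG g.1).mp g.2).2 (hcand g.1 g.2)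
      (by have := congrArg Subtype.val hg; simpa using this) hlx hly hok hcok
  let Lc : List G := (found side (powList lb k) ssB).filterMap fun l =>
    if h : ∃ x : G, toList x.1 = l then some h.choose else none
  have hLc : ∀ x ∈ Lc, toList x.1 ∈ found side (powList lb k) ssB := by
    intro x hx
    obtain ⟨l, hl, hlx⟩ := List.mem_filterMap.mp hx
    by_cases h : ∃ y : G, toList y.1 = l
    · rw [dif_pos h, Option.some.injEq] at hlx
      subst hlx
      rwa [h.choose_spec]
    · rw [dif_neg h] at hlx; cases hlx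
  have hbk : toList (B ^ k).1 = powList lb k := by
    rw [SubmonoidClass.coe_pow, toList_pow, hb]
  have hbaG : B * A * B⁻¹ = A ^ s := by
    rw [mul_inv_eq_iff_eq_mul]
    refine hinj _ _ ?_
    rw [Subgroup.coe_mul, Subgroup.coe_mul, SubmonoidClass.coe_pow, toList_mul, toList_mul,
      toList_pow, ha, hb, hba]
  have hcbG : C * B * C⁻¹ = B ^ k := by
    rw [mul_inv_eq_iff_eq_mul]
    refine hinj _ _ ?_
    rw [Subgroup.coe_mul, Subgroup.coe_mul, SubmonoidClass.coe_pow, toList_mul, toList_mul,
      toList_pow, hb, hc, hcb]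
  have heval : ∀ (x : G) (j : ℕ) (w : List ℕ) (o : ℕ),
      toList ((evalThree (A ^ j) B x w ^ o : G) : Equiv.Perm GolayPt) =
        powList (evalList (powList la j) lb (toList x.1) w) o := by
    intro x j w o
    rw [SubmonoidClass.coe_pow, toList_pow]
    congr 1
    have h := evalThree_map G.subtype (A ^ j) B x w
    simp only [Subgroup.coe_subtype] at h
    rw [h, toList_evalThree, SubmonoidClass.coe_pow, toList_pow, ha, hb]
  have h := card_out_le A B C p s k hord hcard (fun x hx => ?_) hbaG (by exact hs1) reps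
    (fun j hj hj0 => ?_) hcbG Lc (fun x hx => ?_) hgen' R (fun r hr => ?_)
    (survJ.map fun j => (j, C)) (fun j hj x hx hrel => ?_)
  · simpa using h
  · obtain ⟨i, -, hi⟩ := hfA _ (hsearch ha ha hA hA' x hx)
    exact ⟨i, hinj _ _ (by rw [SubmonoidClass.coe_pow, toList_pow, ha, hi])⟩
  · rcases hreps j hj with h0 | ⟨i, -, hi⟩
    · exact absurd h0 hj0
    · exact ⟨i, hi⟩
  · have hl := hsearch hb hbk hB hB' x hx
    refine List.mem_filterMap.mpr ⟨_, hl, ?_⟩
    have hex : ∃ y : G, toList y.1 = toList x.1 := ⟨x, rfl⟩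
    rw [dif_pos hex]
    exact congrArg some (hinj _ _ hex.choose_spec)
  · refine hinj _ _ ?_
    have := heval C 1 r.1 r.2
    rw [pow_one] at this
    rw [this, OneMemClass.coe_one, toList_one]
    rw [show powList la 1 = la by rw [← ha, ← toList_pow, pow_one], hc]
    exact hR r hr
  · rcases hfB j hj _ (hLc x hx) with ⟨hl, hjs⟩ | ⟨r, hr, hne⟩
    · exact List.mem_map.mpr ⟨j, hjs, Prod.ext rfl (hinj _ _ (by rw [hl, hc]))⟩
    · refine absurd ?_ hne
      rw [← heval, hrel r hr, OneMemClass.coe_one, toList_one]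

/-- The checks for `two_le_card_out_golay`. -/
def outerCheck (side : List ℕ → Bool) (cand : ℕ → List ℕ) (la lb lc lπ : List ℕ)
    (ssF : List Stage) : Bool :=
  isPres lπ && !side lπ && stagesOK la 0 ssF && candsOK cand ssF &&
    ((found (fun _ => true) la ssF).all fun l =>
      !(comp l lb == comp lb l) || !(comp l lc == comp lc l) || (l == List.range 24))

theorem two_le_card_out_golay {G : Subgroup (Equiv.Perm GolayPt)} (side : List ℕ → Bool)
    (hG : ∀ σ, σ ∈ G ↔ σ ∈ M24 ∧ side (toList σ) = true)
    {a b c π : Equiv.Perm GolayPt} {la lb lc lπ : List ℕ} (ha : toList a = la) (hb : toList b = lb)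
    (hc : toList c = lc) (hπ : toList π = lπ) (hgen : Subgroup.closure {a, b, c} = G)
    (hnorm : ∀ x ∈ ({a, b, c} : Set (Equiv.Perm GolayPt)), side (toList (π * x * π⁻¹)) = true)
    (ssF : List Stage)
    (hcheck : outerCheck side (fun _ => List.range 24) la lb lc lπ ssF = true) :
    2 ≤ Nat.card (Cfsg.Out G) := by
  simp only [outerCheck, Bool.and_eq_true, Bool.not_eq_true', beq_iff_eq, List.all_eq_true,
    Bool.or_eq_true, beq_eq_false_iff_ne] at hcheck
  obtain ⟨⟨⟨⟨hπ24, hπG⟩, hok⟩, hcok⟩, hcomm⟩ := hcheck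
  have hπ' : π ∈ M24 := mem_M24_iff_isPres.mpr (by rw [hπ]; exact hπ24)
  have hle : G.map (MulAut.conj π).toMonoidHom ≤ G := by
    conv_lhs => rw [← hgen]
    rw [MonoidHom.map_closure, Subgroup.closure_le]
    rintro _ ⟨x, hx, rfl⟩
    have hxG : x ∈ G := by rw [← hgen]; exact Subgroup.subset_closure hx
    rw [SetLike.mem_coe, hG]
    exact ⟨mul_mem (mul_mem hπ' ((hG x).mp hxG).1) (inv_mem hπ'), hnorm x hx⟩
  have heq : G.map (MulAut.conj π).toMonoidHom = G :=
    Subgroup.eq_of_le_of_card_ge hle
      (by rw [Subgroup.card_map_of_injective (MulAut.conj π).injective])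
  let φ : MulAut G := (G.equivMapOfInjective _ (MulAut.conj π).injective).trans
    (MulEquiv.subgroupCongr heq)
  refine two_le_card_out φ ?_
  rintro ⟨g, hg⟩
  have hval : ∀ x : G, π * (x : Equiv.Perm GolayPt) * π⁻¹ =
      (g : Equiv.Perm GolayPt) * x * (g : Equiv.Perm GolayPt)⁻¹ := fun x => by
    have h : ((MulAut.conj g x : G) : Equiv.Perm GolayPt) = ((φ x : G) : Equiv.Perm GolayPt) := by
      rw [hg]
    simp only [MulAut.conj_apply, Subgroup.coe_mul, InvMemClass.coe_inv] at h
    exact h.symm
  set h := (g : Equiv.Perm GolayPt)⁻¹ * π with hh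
  have hcx : ∀ x ∈ ({a, b, c} : Set (Equiv.Perm GolayPt)), h * x * h⁻¹ = x := by
    intro x hx
    have hxG : x ∈ G := by rw [← hgen]; exact Subgroup.subset_closure hx
    calc h * x * h⁻¹ = (g : Equiv.Perm GolayPt)⁻¹ * (π * x * π⁻¹) * g := by rw [hh]; group
      _ = x := by rw [hval ⟨x, hxG⟩]; group
  have h24 : h ∈ M24 := mul_mem (inv_mem ((hG g.1).mp g.2).1) hπ'
  have hl := mem_found (side := fun _ => true) (cand := fun _ => List.range 24) h24 rfl
    (fun i hi => ?_) (hcx a (by simp)) ha ha hok hcok
  · have hcomm' : ∀ x ∈ ({a, b, c} : Set (Equiv.Perm GolayPt)),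
        comp (toList h) (toList x) = comp (toList x) (toList h) := fun x hx => by
      rw [← toList_mul, ← toList_mul]
      congr 1
      exact mul_inv_eq_iff_eq_mul.mp (hcx x hx)
    rcases hcomm _ hl with (h1 | h1) | h1
    · exact h1 (by rw [← hb]; exact hcomm' b (by simp))
    · exact h1 (by rw [← hc]; exact hcomm' c (by simp))
    · have h0 : h = 1 := toList_injective (h1.trans toList_one.symm)
      have : π = g := by rw [hh, inv_mul_eq_one] at h0; exact h0.symm
      have := ((hG π).mp (this ▸ g.2)).2
      rw [hπ, hπG] at this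
      cases this
  · have hlt : i < (toList h).length := by rw [toList_length]; exact hi
    rw [List.getD_eq_getElem _ _ hlt, toList_getElem, List.mem_range]
    exact (idx _).isLt

end CfsgLib.Schur.GolayOut
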