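/-
The Mathieu groups as tests on image lists, and criteria for generation.
-/
import Cfsg.Agent.Lib.Schur.GolayOutBase
import Cfsg.Prelude.Def_Spor_Mathieu

set_option autoImplicit false

namespace CfsgLib.Schur.GolayOut

open Cfsg CfsgLib.Golay CfsgLib.Schur.GolaySearch
open scoped Pointwise

/-- The mask of the dodecad of squares. -/
def dodMask : ℕ := 340831

theorem encS_squareDodecad : encS Cfsg.Spor.squareDodecad = dodMask := by decide +kernel

/-- Side condition for `M24`. -/
def side24 : List ℕ → Bool := fun _ => true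

/-- Side condition for `M23`. -/
def side23 (l : List ℕ) : Bool := Nat.beq (l.getD 23 0) 23

/-- Side condition for `M22`. -/
def side22 (l : List ℕ) : Bool := Nat.beq (l.getD 23 0) 23 && Nat.beq (l.getD 0 0) 0

/-- Side condition for `M12`. -/
def side12 (l : List ℕ) : Bool := Nat.beq (pmap l dodMask) dodMask

/-- Side condition for `M11`. -/
def side11 (l : List ℕ) : Bool := Nat.beq (pmap l dodMask) dodMask && Nat.beq (l.getD 0 0) 0

theorem getD_none (σ : Equiv.Perm GolayPt) : (toList σ).getD 23 0 = (idx (σ none)).val := by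
  have := toList_getD σ none
  exact this

theorem getD_zero (σ : Equiv.Perm GolayPt) : (toList σ).getD 0 0 = (idx (σ (some 0))).val := by
  have := toList_getD σ (some 0)
  exact this

theorem fix_none_iff (σ : Equiv.Perm GolayPt) : side23 (toList σ) = true ↔ σ none = none := by
  rw [side23, getD_none]
  constructor
  · intro h; exact idx_injective (Fin.ext (Nat.eq_of_beq_eq_true h))
  · intro h; rw [h]; rfl

theorem fix_zero_iff (σ : Equiv.Perm GolayPt) :
    Nat.beq ((toList σ).getD 0 0) 0 = true ↔ σ (some 0) = some 0 := by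
  rw [getD_zero]
  constructor
  · intro h; exact idx_injective (Fin.ext (Nat.eq_of_beq_eq_true h))
  · intro h; rw [h]; rfl

theorem fix_dod_iff (σ : Equiv.Perm GolayPt) :
    side12 (toList σ) = true ↔ σ • Cfsg.Spor.squareDodecad = Cfsg.Spor.squareDodecad := by
  rw [side12, ← encS_squareDodecad, ← encS_smul]
  constructor
  · intro h; exact encS_injective (Nat.eq_of_beq_eq_true h)
  · intro h; rw [h]; exact Nat.beq_refl _

theorem mem_M24_side (σ : Equiv.Perm GolayPt) :
    σ ∈ Cfsg.M24 ↔ σ ∈ M24 ∧ side24 (toList σ) = true :=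
  ⟨fun h => ⟨h, rfl⟩, fun h => h.1⟩

theorem mem_M23_side (σ : Equiv.Perm GolayPt) :
    σ ∈ Cfsg.Spor.M23 ↔ σ ∈ M24 ∧ side23 (toList σ) = true := by
  rw [fix_none_iff, Cfsg.Spor.M23, Subgroup.mem_inf]
  exact Iff.rfl

theorem mem_M22_side (σ : Equiv.Perm GolayPt) :
    σ ∈ Cfsg.Spor.M22 ↔ σ ∈ M24 ∧ side22 (toList σ) = true := by
  rw [side22, Bool.and_eq_true, fix_zero_iff, Cfsg.Spor.M22, Subgroup.mem_inf, mem_M23_side, and_assoc]
  exact Iff.rfl

theorem mem_M12_side (σ : Equiv.Perm GolayPt) :
    σ ∈ Cfsg.Spor.M12 ↔ σ ∈ M24 ∧ side12 (toList σ) = true := by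
  rw [fix_dod_iff, Cfsg.Spor.M12, Subgroup.mem_inf]
  exact Iff.rfl

theorem mem_M11_side (σ : Equiv.Perm GolayPt) :
    σ ∈ Cfsg.Spor.M11 ↔ σ ∈ M24 ∧ side11 (toList σ) = true := by
  rw [side11, Bool.and_eq_true, fix_zero_iff, Cfsg.Spor.M11, Subgroup.mem_inf, mem_M12_side, and_assoc]
  exact Iff.rfl

/-- Positions of the dodecad of squares and of its complement, with position `0` or without. -/
def sideCand (useZero : Bool) (i : ℕ) : List ℕ :=
  (List.range 24).filter fun t => (dodMask.testBit t == dodMask.testBit i) &&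
    (!useZero || (Nat.beq t 0 == Nat.beq i 0))

/-- Candidates for `M23` and `M22`. -/
def fixCand (fixed : List ℕ) (i : ℕ) : List ℕ :=
  bif fixed.contains i then [i] else (List.range 24).filter fun t => !fixed.contains t

theorem getD_lt (σ : Equiv.Perm GolayPt) {i : ℕ} (hi : i < 24) :
    (toList σ).getD i 0 = (idx (σ (pt ⟨i, hi⟩))).val := by
  rw [← toList_getD σ (pt ⟨i, hi⟩), idx_pt]

theorem mem_fixCand {σ : Equiv.Perm GolayPt} {fixed : List ℕ}
    (h : ∀ b ∈ fixed, b < 24 → (toList σ).getD b 0 = b) {i : ℕ} (hi : i < 24) :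
    (toList σ).getD i 0 ∈ fixCand fixed i := by
  rw [fixCand]
  cases hc : fixed.contains i
  · rw [cond_false, List.mem_filter]
    refine ⟨?_, ?_⟩
    · rw [getD_lt σ hi, List.mem_range]; exact (idx _).isLt
    · simp only [Bool.not_eq_true', ← Bool.not_eq_true, List.contains_iff_mem] at hc ⊢
      intro hmem
      have h1 := h _ hmem (by rw [getD_lt σ hi]; exact (idx _).isLt)
      rw [getD_lt σ hi] at h1 hmem
      rw [getD_lt σ (idx _).isLt] at h1
      have h2 : σ (pt ⟨(idx (σ (pt ⟨i, hi⟩))).val, (idx _).isLt⟩) = σ (pt ⟨i, hi⟩) :=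
        idx_injective (Fin.ext h1)
      have h3 := congrArg (fun q => (idx q).val) (σ.injective h2)
      simp only [idx_pt] at h3
      exact hc (h3 ▸ hmem)
  · rw [cond_true, List.mem_singleton]
    exact h i (by simpa using hc) hi

theorem cand_M24 (σ : Equiv.Perm GolayPt) (i : ℕ) (hi : i < 24) :
    (toList σ).getD i 0 ∈ (fun _ => List.range 24) i := by
  rw [getD_lt σ hi, List.mem_range]; exact (idx _).isLt

theorem cand_M23 {σ : Equiv.Perm GolayPt} (hσ : σ ∈ Cfsg.Spor.M23) (i : ℕ) (hi : i < 24) :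
    (toList σ).getD i 0 ∈ fixCand [23] i :=
  mem_fixCand (fun b hb _ => by
    rw [List.mem_singleton] at hb; subst hb
    exact Nat.eq_of_beq_eq_true ((mem_M23_side σ).mp hσ).2) hi

theorem cand_M22 {σ : Equiv.Perm GolayPt} (hσ : σ ∈ Cfsg.Spor.M22) (i : ℕ) (hi : i < 24) :
    (toList σ).getD i 0 ∈ fixCand [23, 0] i :=
  mem_fixCand (fun b hb _ => by
    have h := ((mem_M22_side σ).mp hσ).2
    rw [side22, Bool.and_eq_true] at h
    simp only [List.mem_cons, List.not_mem_nil, or_false] at hb
    rcases hb with rfl | rfl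
    · exact Nat.eq_of_beq_eq_true h.1
    · exact Nat.eq_of_beq_eq_true h.2) hi

theorem testBit_image {σ : Equiv.Perm GolayPt} (h : side12 (toList σ) = true) {i : ℕ} (hi : i < 24) :
    dodMask.testBit ((toList σ).getD i 0) = dodMask.testBit i := by
  have hD := (fix_dod_iff σ).mp h
  rw [getD_lt σ hi, ← encS_squareDodecad, testBit_encS]
  have h2 : (encS Cfsg.Spor.squareDodecad).testBit i =
      decide (pt ⟨i, hi⟩ ∈ Cfsg.Spor.squareDodecad) := by
    rw [← testBit_encS, idx_pt]
  rw [h2, decide_eq_decide]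
  conv_lhs => rw [← hD, ← Equiv.Perm.smul_def, Finset.smul_mem_smul_finset_iff]

theorem cand_M12 {σ : Equiv.Perm GolayPt} (hσ : σ ∈ Cfsg.Spor.M12) (i : ℕ) (hi : i < 24) :
    (toList σ).getD i 0 ∈ sideCand false i := by
  rw [sideCand, List.mem_filter]
  refine ⟨cand_M24 σ i hi, ?_⟩
  rw [testBit_image ((mem_M12_side σ).mp hσ).2 hi]
  simp

theorem cand_M11 {σ : Equiv.Perm GolayPt} (hσ : σ ∈ Cfsg.Spor.M11) (i : ℕ) (hi : i < 24) :
    (toList σ).getD i 0 ∈ sideCand true i := by
  have h := ((mem_M11_side σ).mp hσ).2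
  rw [side11, Bool.and_eq_true] at h
  rw [sideCand, List.mem_filter]
  refine ⟨cand_M24 σ i hi, ?_⟩
  simp only [Bool.not_true, Bool.false_or, Bool.and_eq_true, beq_iff_eq]
  refine ⟨testBit_image h.1 hi, ?_⟩
  have hz := (fix_zero_iff σ).mp h.2
  rw [getD_lt σ hi, Bool.eq_iff_iff]
  constructor
  · intro h1
    have h2 : σ (pt ⟨i, hi⟩) = σ (some 0) := by
      rw [hz]; exact idx_injective (Fin.ext (Nat.eq_of_beq_eq_true h1))
    have h3 := congrArg (fun q => (idx q).val) (σ.injective h2)
    simp only [idx_pt] at h3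
    rw [h3]; rfl
  · intro h1
    have h2 := Nat.eq_of_beq_eq_true h1
    subst h2
    rw [show pt ⟨0, hi⟩ = some 0 from rfl, hz]
    rfl

/-! ### Generation -/

/-- The hypothesis that generators lie in the subgroup gives the bottom of the stack. -/
theorem inSub_stack {H : Subgroup (Equiv.Perm GolayPt)} {a b c : Equiv.Perm GolayPt}
    {la lb lc : List ℕ} (ha : toList a = la) (hb : toList b = lb) (hc : toList c = lc)
    (hH : Subgroup.closure {a, b, c} = H) {stk : List (List ℕ)}
    (hstk : ∀ l ∈ stk, l = List.range 24 ∨ l = la ∨ l = lb ∨ l = lc ∨ comp l la = List.range 24 ∨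
      comp l lb = List.range 24 ∨ comp l lc = List.range 24)
    (hinv : ∀ l ∈ stk, ∃ σ : Equiv.Perm GolayPt, toList σ = l) :
    ∀ l ∈ stk, InSub H l := by
  subst hH
  intro l hl
  obtain ⟨σ, rfl⟩ := hinv l hl
  refine ⟨σ, ?_, rfl⟩
  have hm : ∀ x ∈ ({a, b, c} : Set (Equiv.Perm GolayPt)),
      x ∈ Subgroup.closure ({a, b, c} : Set (Equiv.Perm GolayPt)) :=
    fun x hx => Subgroup.subset_closure hx
  have hi : ∀ x ∈ ({a, b, c} : Set (Equiv.Perm GolayPt)), comp (toList σ) (toList x) = List.range 24 →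
      σ ∈ Subgroup.closure ({a, b, c} : Set (Equiv.Perm GolayPt)) := fun x hx h => by
    have : σ * x = 1 := toList_injective (by rw [toList_mul, h, toList_one])
    rw [eq_inv_of_mul_eq_one_left this]
    exact inv_mem (hm x hx)
  rcases hstk _ hl with h | h | h | h | h | h | h
  · rw [← toList_one] at h; rw [toList_injective h]; exact one_mem _
  · rw [← ha] at h; rw [toList_injective h]; exact hm a (by simp)
  · rw [← hb] at h; rw [toList_injective h]; exact hm b (by simp)
  · rw [← hc] at h; rw [toList_injective h]; exact hm c (by simp)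
  · exact hi a (by simp) (by rw [ha]; exact h)
  · exact hi b (by simp) (by rw [hb]; exact h)
  · exact hi c (by simp) (by rw [hc]; exact h)

/-- Generation of the stabiliser of the first `lo` base points. -/
theorem closure_eq_part {G H : Subgroup (Equiv.Perm GolayPt)} (lo : ℕ)
    (hHG : H ≤ G) (hG : ∀ σ ∈ G, σ ∈ M24 ∧ ∀ b ∈ basePts.take lo, σ b = b)
    {base : List ℕ} (hbase : base = basePos.drop lo) {lev tg : List (List ℕ)}
    (htg : tg = targets.drop lo) {P : List (List ℕ)} (hP : ∀ l ∈ P, InSub H l)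
    (hcheck : ((List.range base.length).all fun k => chainCheck base lev tg P k) = true) :
    H = G := by
  subst hbase htg
  have hlt : ∀ b ∈ basePos, b < 24 := by decide +kernel
  have hlen : basePos.length = 7 := by decide +kernel
  have hfix : ∀ (m : ℕ) (σ : Equiv.Perm GolayPt), σ ∈ G →
      (∀ b ∈ (basePos.drop lo).take m, (toList σ).getD b 0 = b) →
      ∀ q ∈ basePts.take (lo + m), σ q = q := by
    intro m σ hσ h q hq
    rw [List.take_add, List.mem_append] at hq
    rcases hq with hq | hq
    · exact (hG σ hσ).2 q hq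
    · have h1 : (idx q).val ∈ (basePos.drop lo).take m := by
        rw [← basePts_spec, ← List.map_drop, ← List.map_take]
        exact List.mem_map.mpr ⟨q, hq, rfl⟩
      have := h _ h1
      rw [toList_getD] at this
      exact idx_injective (Fin.ext this)
  refine eq_of_chain hHG _ lev _ P hP hcheck (fun k hk σ hσ hk' => ?_)
    (fun b hb => hlt b (List.mem_of_mem_drop hb)) (fun σ hσ h => ?_)
  · rw [List.length_drop, hlen] at hk
    have h7 : lo + k < 7 := by omega
    have ht := apply_basePt_mem_targetPts h7 (hG σ hσ).1 (hfix k σ hσ hk')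
    rw [mem_targets_iff, ← toList_getD, idx_basePt h7] at ht
    simpa [List.getD_eq_getElem?_getD, List.getElem?_drop] using ht
  · have : σ = 1 := by
      refine eq_one_of_fix_base (hG σ hσ).1 fun q hq => ?_
      refine hfix 7 σ hσ (fun b hb => h b (List.mem_of_mem_take hb)) q ?_
      rw [List.take_of_length_le (by rw [show basePts.length = 7 from rfl]; omega)]
      exact hq
    rw [this]; exact one_mem _

/-- An element of `M24` carrying five points of the dodecad to the first five base points. -/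
def moveL : List ℕ :=
  [23, 0, 1, 2, 3, 19, 22, 5, 15, 4, 17, 16, 14, 8, 21, 9, 10, 7, 11, 20, 12, 18, 13, 6]

/-- Its inverse. -/
def moveInvL : List ℕ := (List.range 24).map fun i => moveL.idxOf i

/-- That element. -/
def movePerm : Equiv.Perm GolayPt :=
  ⟨imgFun moveL, imgFun moveInvL, by decide +kernel, by decide +kernel⟩

theorem toList_movePerm : toList movePerm = moveL := by decide +kernel

theorem movePerm_mem : movePerm ∈ M24 := by
  rw [mem_M24_iff_isPres, toList_movePerm]; decide +kernel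

/-- The 48 image lists fixing the first five base points. -/
def fiveStab : List (List ℕ) :=
  (levelElts perms 5).flatMap fun l => (levelElts perms 6).map fun m => comp l m

theorem toList_mem_fiveStab {σ : Equiv.Perm GolayPt} (hσ : σ ∈ M24)
    (hfix : ∀ q ∈ basePts.take 5, σ q = q) : toList σ ∈ fiveStab := by
  have hlev : ∀ k < 7, ∀ τ ∈ M24, (∀ q ∈ basePts.take k, τ q = q) →
      ∃ ρ ∈ M24, toList ρ ∈ levelElts perms k ∧ (∀ q ∈ basePts.take (k + 1), (ρ⁻¹ * τ) q = q) := by
    intro k hk τ hτ hτf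
    have ht := mem_targets_iff.mp (apply_basePt_mem_targetPts hk hτ hτf)
    have h := List.all_eq_true.mp levelCheck_perms k (List.mem_range.mpr hk)
    rw [levelCheck, Bool.and_eq_true, beq_iff_eq] at h
    rw [← h.2, List.mem_map] at ht
    obtain ⟨l, hl, hlv⟩ := ht
    have hl0 : InG0 l := by
      rw [levelElts, List.mem_map] at hl
      obtain ⟨i, -, rfl⟩ := hl
      exact inG0_getD inG0_perms i
    obtain ⟨ρ, hρ, rfl⟩ := hl0
    refine ⟨ρ, G0_le_M24 hρ, hl, fun q hq => ?_⟩
    rw [take_succ_basePts hk, List.mem_append, List.mem_singleton] at hq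
    rw [Equiv.Perm.mul_apply, Equiv.Perm.inv_eq_iff_eq]
    rcases hq with hq | rfl
    · rw [hτf q hq]
      have := Nat.eq_of_beq_eq_true
        (List.all_eq_true.mp (List.all_eq_true.mp h.1 _ hl) _ (mem_basePos_take.mpr hq))
      rw [toList_getD] at this
      exact (idx_injective (Fin.ext this)).symm
    · rw [← idx_basePt hk, toList_getD] at hlv
      exact idx_injective (Fin.ext hlv.symm)
  obtain ⟨ρ, hρ, hρl, hρf⟩ := hlev 5 (by norm_num) σ hσ hfix
  obtain ⟨μ, hμ, hμl, hμf⟩ := hlev 6 (by norm_num) (ρ⁻¹ * σ) (mul_mem (inv_mem hρ) hσ) hρf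
  have h1 : μ⁻¹ * (ρ⁻¹ * σ) = 1 :=
    eq_one_of_fix_base (mul_mem (inv_mem hμ) (mul_mem (inv_mem hρ) hσ)) fun q hq => hμf q hq
  have h2 : σ = ρ * μ := by
    rw [inv_mul_eq_one] at h1
    rw [h1, mul_inv_cancel_left]
  rw [h2, toList_mul]
  exact List.mem_flatMap.mpr ⟨_, hρl, List.mem_map.mpr ⟨_, hμl, rfl⟩⟩

/-- The only element of `M24` fixing the dodecad and five of its points is the identity. -/
theorem eq_one_of_fix_five {σ : Equiv.Perm GolayPt} (hσ : σ ∈ M24)
    (hD : side12 (toList σ) = true) (hfix : ∀ b ∈ [0, 1, 2, 3, 4], (toList σ).getD b 0 = b) :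
    σ = 1 := by
  set τ := movePerm * σ * movePerm⁻¹ with hτ
  have hτm : τ ∈ M24 := mul_mem (mul_mem movePerm_mem hσ) (inv_mem movePerm_mem)
  have hfix' : ∀ q ∈ basePts.take 5, τ q = q := by
    intro q hq
    have h0 : ∀ i : Fin 5, basePts.getD i.val none = movePerm (pt ⟨i.val, by omega⟩) := by
      decide +kernel
    obtain ⟨i, hi, rfl⟩ := List.getElem_of_mem hq
    rw [List.length_take] at hi
    have hi5 : i < 5 := by omega
    rw [List.getElem_take, ← List.getD_eq_getElem _ none, h0 ⟨i, hi5⟩]
    have hfi : σ (pt ⟨i, by omega⟩) = pt ⟨i, by omega⟩ := by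
      have := hfix i (by interval_cases i <;> simp)
      rw [getD_lt σ (by omega : i < 24)] at this
      exact idx_injective (Fin.ext (by rw [this, idx_pt]))
    rw [hτ, Equiv.Perm.mul_apply, Equiv.Perm.mul_apply, ← Equiv.Perm.mul_apply movePerm⁻¹,
      inv_mul_cancel, Equiv.Perm.one_apply, hfi]
  have hmem := toList_mem_fiveStab hτm hfix'
  have hD' : Nat.beq (pmap (toList τ) (pmap moveL dodMask)) (pmap moveL dodMask) = true := by
    rw [← toList_movePerm, ← encS_squareDodecad, ← encS_smul, ← encS_smul, hτ, smul_smul,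
      inv_mul_cancel_right, mul_smul, (fix_dod_iff σ).mp hD]
    exact Nat.beq_refl _
  have hall : (fiveStab.all fun l =>
      !Nat.beq (pmap l (pmap moveL dodMask)) (pmap moveL dodMask) || l == List.range 24) = true := by
    decide +kernel
  have h := List.all_eq_true.mp hall _ hmem
  rw [hD', Bool.not_true, Bool.false_or, beq_iff_eq, ← toList_one] at h
  exact conj_eq_one_iff.mp (toList_injective h)

/-- Generation of a subgroup of the dodecad stabiliser with five fixed base points `0,1,2,3,4`
from position `lo` on. -/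
theorem closure_eq_dodecad {G H : Subgroup (Equiv.Perm GolayPt)} (lo : ℕ) (useZero : Bool)
    (hHG : H ≤ G) (hG : ∀ σ ∈ G, σ ∈ M24 ∧ side12 (toList σ) = true ∧
      ∀ b ∈ [0, 1, 2, 3, 4].take lo, (toList σ).getD b 0 = b)
    (hcand : ∀ σ ∈ G, ∀ i < 24, (toList σ).getD i 0 ∈ sideCand useZero i)
    {base : List ℕ} (hbase : base = [0, 1, 2, 3, 4].drop lo) {lev tg : List (List ℕ)}
    {P : List (List ℕ)} (hP : ∀ l ∈ P, InSub H l)
    (hcheck : ((List.range base.length).all fun k => chainCheck base lev tg P k &&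
      ((sideCand useZero (base.getD k 0)).all fun t =>
        (base.take k).contains t || (tg.getD k []).contains t)) = true)
    (hnodup : ((List.range base.length).all fun k => !(base.take k).contains (base.getD k 0)) = true) :
    H = G := by
  subst hbase
  simp only [List.all_eq_true, Bool.and_eq_true] at hcheck
  have hlt : ∀ b ∈ ([0, 1, 2, 3, 4] : List ℕ), b < 24 := by decide
  refine eq_of_chain hHG _ lev tg P hP (List.all_eq_true.mpr fun k hk => (hcheck k hk).1)
    (fun k hk σ hσ hk' => ?_) (fun b hb => hlt b (List.mem_of_mem_drop hb)) (fun σ hσ h => ?_)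
  · have hb24 : (([0, 1, 2, 3, 4] : List ℕ).drop lo).getD k 0 < 24 := by
      rw [List.getD_eq_getElem _ _ hk]
      exact hlt _ (List.mem_of_mem_drop (List.getElem_mem hk))
    have h1 := hcand σ hσ _ hb24
    have h2 := (hcheck k (List.mem_range.mpr hk)).2 _ h1
    rw [Bool.or_eq_true] at h2
    rcases h2 with h2 | h2
    · exfalso
      have hmem : (toList σ).getD ((([0, 1, 2, 3, 4] : List ℕ).drop lo).getD k 0) 0 ∈
          (([0, 1, 2, 3, 4] : List ℕ).drop lo).take k := by simpa using h2
      have h3 := hk' _ hmem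
      have hy : (idx (σ (pt ⟨_, hb24⟩))).val < 24 := (idx _).isLt
      rw [getD_lt σ hb24] at h3 hmem
      rw [getD_lt σ hy] at h3
      have h4 := congrArg (fun q => (idx q).val) (σ.injective (idx_injective (Fin.ext h3)))
      simp only [idx_pt] at h4
      have h5 := List.all_eq_true.mp hnodup k (List.mem_range.mpr hk)
      rw [h4] at hmem
      rw [List.contains_iff_mem.mpr hmem] at h5
      simp at h5
    · simpa using h2
  · have : σ = 1 := by
      refine eq_one_of_fix_five (hG σ hσ).1 (hG σ hσ).2.1 fun b hb => ?_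
      rw [← List.take_append_drop lo [0, 1, 2, 3, 4], List.mem_append] at hb
      rcases hb with hb | hb
      · exact (hG σ hσ).2.2 b hb
      · exact h b hb
    rw [this]; exact one_mem _

end CfsgLib.Schur.GolayOut
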