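import Cfsg.Agent.Lib.Schur.GolayOutBase

/-! Generated data for the automorphisms of M22. -/

set_option autoImplicit false

namespace CfsgLib.Schur.OutM22

open Cfsg CfsgLib.Golay CfsgLib.Schur.GolaySearch CfsgLib.Schur.GolayOut

/-- `genA` -/
def genAL : List ℕ := [0,11,18,16,14,20,8,2,22,17,3,15,4,5,10,21,19,13,9,1,6,12,7,23]

/-- The permutation with image list `genAL`. -/
def genA : Equiv.Perm GolayPt :=
  ⟨imgFun genAL, imgFun [0,19,7,10,12,13,20,22,6,18,14,1,21,17,4,11,3,9,2,16,5,15,8,23], by decide +kernel, by decide +kernel⟩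

theorem toList_genA : toList genA = genAL := by decide +kernel

/-- `genB` -/
def genBL : List ℕ := [0,1,9,15,12,20,18,7,13,8,19,21,11,17,10,14,4,2,5,3,22,16,6,23]

/-- The permutation with image list `genBL`. -/
def genB : Equiv.Perm GolayPt :=
  ⟨imgFun genBL, imgFun [0,1,17,19,16,18,22,7,9,2,14,12,4,8,15,3,21,13,6,10,5,11,20,23], by decide +kernel, by decide +kernel⟩

theorem toList_genB : toList genB = genBL := by decide +kernel

/-- `genC` -/
def genCL : List ℕ := [0,7,2,15,22,11,21,1,17,8,14,20,18,9,3,10,5,13,4,19,16,6,12,23]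

/-- The permutation with image list `genCL`. -/
def genC : Equiv.Perm GolayPt :=
  ⟨imgFun genCL, imgFun [0,7,2,14,18,16,21,1,9,13,15,5,22,17,10,3,20,8,12,19,11,6,4,23], by decide +kernel, by decide +kernel⟩

theorem toList_genC : toList genC = genCL := by decide +kernel

/-- The straight-line program. -/
def prog : List (ℕ × ℕ) :=
  [(3,4),(2,1),(0,0),(8,1),(8,9),(1,5),(8,0),(1,7),(7,10),(0,1),(12,11),(6,5),
    (10,7),(0,8),(9,2),(7,19),(20,20),(12,1),(4,1),(8,18),(9,0),(22,22),(17,9),(21,0),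
    (9,1),(5,0),(8,21),(18,0),(31,10),(31,0),(23,0),(35,13),(0,5),(24,0),(8,0),(10,12),
    (27,0),(10,36),(18,0),(3,20),(7,0),(19,20),(22,31),(46,34),(0,33),(0,34),(3,0),(4,0),
    (6,0),(0,8),(21,9),(34,15),(51,11),(33,0),(1,14),(32,19),(58,0),(17,2),(49,0),(36,21),
    (49,0),(64,17),(63,0),(0,52),(53,0),(63,0),(0,53),(0,6),(8,17),(11,18),(68,0),(31,15),
    (74,0),(9,74),(9,0),(26,0),(12,76),(1,0),(2,76),(30,0),(0,31),(3,0),(0,81),(0,10),
    (83,14),(37,42),(0,91),(0,2),(7,84),(0,1),(13,95),(0,84),(0,2),(8,41),(46,72),(0,1),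
    (93,0),(3,101),(3,0),(56,98),(0,1),(29,78),(38,0),(51,63),(38,61),(27,0),(0,2),(24,0),
    (107,57),(0,15),(108,0),(24,0),(8,2),(35,111),(0,1),(29,66),(73,0),(0,99),(0,3),(44,115),
    (0,94),(0,2),(20,18),(125,0),(45,111),(0,1),(24,32),(4,58),(33,0),(103,0),(14,135),(0,60),
    (0,2),(41,0),(94,6),(114,0),(1,42),(68,65),(117,0),(3,0),(8,0),(22,106),(0,1),(5,30),
    (146,0),(62,0),(19,33),(138,0),(13,4),(54,0),(74,110),(0,1),(15,25),(108,0),(5,82),(81,0),
    (20,0),(147,0),(16,0),(108,10),(13,32),(115,0),(37,0),(8,2),(58,0),(100,161),(0,1),(118,72),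
    (0,51),(0,174),(0,116),(0,4),(30,0),(12,75),(110,0),(69,6),(94,174),(82,0),(0,64),(0,11),
    (2,63),(1,0),(6,0),(0,168),(0,130),(0,10),(94,0),(26,40),(177,0),(167,0),(98,0),(3,44),
    (112,0),(186,0),(16,142),(0,192),(0,2),(105,0),(63,34),(135,0),(193,0),(54,74),(200,0),(136,0),
    (51,5),(45,31),(186,0),(58,72),(32,159),(31,0),(0,2),(19,3),(6,13),(1,21),(168,0),(167,211),
    (0,1),(207,0),(76,0),(13,84),(114,0),(40,11),(0,210),(0,2),(103,0),(78,19),(52,34),(21,22),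
    (148,0),(27,1),(0,10),(115,125),(52,0),(0,24),(118,0),(52,0),(0,27),(0,15),(4,160),(65,0),
    (2,0),(0,186),(0,11),(30,69),(149,0),(109,0),(12,194),(0,197),(0,2),(107,0),(24,30),(45,24),
    (188,0),(250,0),(2,80),(4,53),(82,1),(43,0),(20,0),(8,28),(2,46),(187,0),(4,42),(36,8),
    (8,6),(56,31),(22,1),(23,36),(1,0),(8,9),(190,0),(204,0),(12,9),(3,4),(47,4),(255,0),
    (10,139),(0,1),(45,283),(0,208),(0,2),(25,17),(18,14),(56,0),(1,9),(0,3),(4,23),(14,3),
    (0,1),(15,0),(0,8),(5,4),(3,24),(1,0),(4,63),(27,8),(204,154),(2,4),(2,67),(5,8),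
    (5,27),(6,1),(71,1),(0,1),(73,6),(1,18),(4,7),(2,1),(33,4),(11,3),(1,19),(0,3),
    (1,5),(11,9),(5,7),(3,0),(12,4),(8,19),(1,23),(0,3),(7,8),(226,0),(235,0),(13,2),
    (0,11),(7,11),(6,2),(6,1),(1,10),(11,3),(35,5),(3,22),(2,23),(2,13),(25,8),(1,16),
    (3,41),(1,0),(29,9),(30,7),(5,9),(10,2),(2,10),(9,0),(2,0),(6,7),(1,0),(6,0),
    (327,0),(346,0),(70,0),(259,0)]

/-- Bottom of the stack. -/
def stack : List (List ℕ) :=
  [[0,7,2,14,18,16,21,1,9,13,15,5,22,17,10,3,20,8,12,19,11,6,4,23],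
    [0,1,17,19,16,18,22,7,9,2,14,12,4,8,15,3,21,13,6,10,5,11,20,23],
    [0,19,7,10,12,13,20,22,6,18,14,1,21,17,4,11,3,9,2,16,5,15,8,23],
    [0,7,2,15,22,11,21,1,17,8,14,20,18,9,3,10,5,13,4,19,16,6,12,23],
    [0,1,9,15,12,20,18,7,13,8,19,21,11,17,10,14,4,2,5,3,22,16,6,23],
    [0,11,18,16,14,20,8,2,22,17,3,15,4,5,10,21,19,13,9,1,6,12,7,23],
    [0,1,2,3,4,5,6,7,8,9,10,11,12,13,14,15,16,17,18,19,20,21,22,23]]

/-- Levels. -/
def lev : List (List ℕ) :=
  [[358,348,52,69,334,297,351,300,301,283,357,215,225,340,147,312,243,338,337,320,347,339],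
    [358,281,145,324,204,302,335,349,90,123,298,326,315,198,141,345,328,295,216,249,313],
    [358,98,255,317,284,148,151,342,293,268,29,93,226,200,206,240,189,251,244,80],
    [358,230,321],
    [358,109,161,218,165,127,179,55,193,259,154,102,209,71,133,0]]

/-- Targets. -/
def tg : List (List ℕ) :=
  [[1,2,3,4,5,6,7,8,9,10,11,12,13,14,15,16,17,18,19,20,21,22],
    [2,3,4,5,6,7,8,9,10,11,12,13,14,15,16,17,18,19,20,21,22],
    [3,4,5,6,7,8,9,10,11,12,13,14,15,16,17,18,19,20,21,22],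
    [5,14,17],
    [4,6,7,8,9,10,11,12,13,15,16,18,19,20,21,22]]

/-- Base. -/
def base : List ℕ := [1,2,3,5,4]

/-- Stages for the centraliser of `genA`. -/
def stagesA : List Stage :=
  [([0], [], [0]),
  ([23], [], [23]),
  ([1,11,15,21,12,4,14,10,3,16,19], [2743323], [1,2,3,4,5,6,7,8,9,10,11,12,13,14,15,16,17,18,19,20,21,22]),
  ([2,18,9,17,13,5,20,6,8,22,7], [3277413,6053905,6554826,42232,705094,1337732], [1,2,3,4,5,6,7,8,9,10,11,12,13,14,15,16,17,18,19,20,21,22])]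

/-- Stages for the elements acting on `genB` like `genC`. -/
def stagesB : List Stage :=
  [([0], [], [0]),
  ([23], [], [23]),
  ([4,12,11,21,16], [], [1,2,3,4,5,6,7,8,9,10,11,12,13,14,15,16,17,18,19,20,21,22]),
  ([7], [10557585], [1,2,3,4,5,6,7,8,9,10,11,12,13,14,15,16,17,18,19,20,21,22]),
  ([2,9,8,13,17], [], [1,2,3,4,5,6,7,8,9,10,11,12,13,14,15,16,17,18,19,20,21,22]),
  ([5,20,22,6,18], [3277413,1384564,2564625,5640752,6557781,4403780], [1,2,3,4,5,6,7,8,9,10,11,12,13,14,15,16,17,18,19,20,21,22]),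
  ([1], [4264387,140167,3154402,2425238,4459426,1186194], [1,2,3,4,5,6,7,8,9,10,11,12,13,14,15,16,17,18,19,20,21,22]),
  ([3,15,14,10,19], [6053905,6554826,42232,705094,1337732,2702848], [1,2,3,4,5,6,7,8,9,10,11,12,13,14,15,16,17,18,19,20,21,22])]

/-- `outer` -/
def outerL : List ℕ := [23,2,1,21,20,6,18,12,16,17,5,22,4,15,19,3,10,7,13,11,14,8,9,0]

/-- The permutation with image list `outerL`. -/
def outer : Equiv.Perm GolayPt :=
  ⟨imgFun outerL, imgFun [23,2,1,15,12,10,5,17,21,22,16,19,7,18,20,13,8,9,6,14,4,3,11,0], by decide +kernel, by decide +kernel⟩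

theorem toList_outer : toList outer = outerL := by decide +kernel

/-- Stages for the centraliser of `genA` in the whole group. -/
def stagesFull : List Stage :=
  [([1,11,15,21,12,4,14,10,3,16,19], [], [0,1,2,3,4,5,6,7,8,9,10,11,12,13,14,15,16,17,18,19,20,21,22,23]),
  ([2,18,9,17,13,5,20,6,8,22,7], [6554826,42232,705094,1337732,2702848,5476616], [0,1,2,3,4,5,6,7,8,9,10,11,12,13,14,15,16,17,18,19,20,21,22,23]),
  ([0], [3277413,6053905,3719203,4721045,924689,4424227], [0,1,2,3,4,5,6,7,8,9,10,11,12,13,14,15,16,17,18,19,20,21,22,23]),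
  ([23], [8414120,9045270,12717187,10881097,8439632,9701932], [0,1,2,3,4,5,6,7,8,9,10,11,12,13,14,15,16,17,18,19,20,21,22,23])]

end CfsgLib.Schur.OutM22
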