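/-
The Schur multiplier and the outer automorphism group of the Janko group J1.
-/
import Cfsg.Agent.Lib.Sporadic.J1
import Cfsg.Agent.Lib.Schur.JankoOneData
import Cfsg.Agent.Lib.Schur.CriteriaElements
import Cfsg.Agent.Lib.Schur.OutRigid
import Cfsg.Agent.Lib.Sporadic.GenWord

set_option autoImplicit false
set_option Elab.async false

namespace CfsgLib.Schur.JankoOne

open CfsgLib.Sporadic CfsgLib.Sporadic.J1
open Cfsg.Spor (jankoX jankoY)

/-- The transposed code. -/
noncomputable def trCode (c : ℕ) : ℕ := pack 12 (fun k => dig 12 c (k % 7 * 7 + k / 7)) 49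

/-- The code of a power. -/
noncomputable def powCode (c k : ℕ) : ℕ := genWord mul one [c] (List.replicate k 0)

/-- Every entry of the row that equals `v` sits at a listed position. -/
def hitRow (hits : List (ℕ × ℕ)) (v i : ℕ) : List ℕ → ℕ → Bool
  | [], _ => true
  | r :: rs, j => (!(v == r) || hits.contains (i, j)) && hitRow hits v i rs (j + 1)

/-- All coincidences of two lists are listed. -/
def hitAll (hits : List (ℕ × ℕ)) (rights : List ℕ) : List ℕ → ℕ → Bool
  | [], _ => true
  | l :: ls, i => hitRow hits l i rights 0 && hitAll hits rights ls (i + 1)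

theorem hitRow_mem {hits : List (ℕ × ℕ)} {v i : ℕ} : ∀ {rs : List ℕ} {j₀ : ℕ},
    hitRow hits v i rs j₀ = true → ∀ j < rs.length, rs.getD j 0 = v → (i, j₀ + j) ∈ hits
  | [], _, _, j, hj, _ => absurd hj (Nat.not_lt_zero j)
  | r :: rs, j₀, h, 0, _, he => by
    rw [hitRow, Bool.and_eq_true, Bool.or_eq_true] at h
    rw [List.getD_cons_zero] at he
    rcases h.1 with h' | h'
    · simp [he] at h'
    · exact List.contains_iff_mem.1 h'
  | r :: rs, j₀, h, j + 1, hj, he => by
    rw [hitRow, Bool.and_eq_true] at h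
    rw [List.getD_cons_succ] at he
    have := hitRow_mem h.2 j (Nat.lt_of_succ_lt_succ hj) he
    rwa [Nat.add_right_comm] at this

theorem hitAll_mem {hits : List (ℕ × ℕ)} {rights : List ℕ} : ∀ {ls : List ℕ} {i₀ : ℕ},
    hitAll hits rights ls i₀ = true → ∀ i < ls.length, ∀ j < rights.length,
      ls.getD i 0 = rights.getD j 0 → (i₀ + i, j) ∈ hits
  | [], _, _, i, hi, _, _, _ => absurd hi (Nat.not_lt_zero i)
  | l :: ls, i₀, h, 0, _, j, hj, he => by
    rw [hitAll, Bool.and_eq_true] at h
    rw [List.getD_cons_zero] at he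
    simpa using hitRow_mem h.1 j hj he.symm
  | l :: ls, i₀, h, i + 1, hi, j, hj, he => by
    rw [hitAll, Bool.and_eq_true] at h
    rw [List.getD_cons_succ] at he
    have := hitAll_mem h.2 i (Nat.lt_of_succ_lt_succ hi) j hj he
    rwa [Nat.add_right_comm] at this

theorem factor_mem {g : GL (Fin 7) (ZMod 11)} (hg : g ∈ Cfsg.Spor.J1) :
    ∃ i < 266, ∃ j < 660, emb g = dec (topT.get i) * dec (kT.get j) := by
  have hsub := exists_factor (emb := emb) (dec := dec) hmul hone
    (S := ({jankoX, jankoY} : Set (GL (Fin 7) (ZMod 11)))) (K := kGroup) (T := topT) (fac := topFac)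
    (gens := gens) (lower := [(660, kT)]) (by norm_num : 0 < 266) (by decide +kernel)
    (by
      rintro s (rfl | rfl)
      · exact ⟨_, by simp [gens], emb_X⟩
      · exact ⟨_, by simp [gens], emb_Y⟩)
    (by
      intro q hq
      obtain rfl := List.mem_singleton.1 hq
      exact ⟨by norm_num, card_kGroup.2⟩)
    top_fac
  obtain ⟨t, ⟨i, hi, ht⟩, k, hk, rfl⟩ := hsub hg
  have hsubK := exists_factor (emb := emb) (dec := dec) hmul hone (S := genSet emb dec kGens)
    (K := (⊥ : Subgroup (GL (Fin 7) (ZMod 11)))) (T := kT) (fac := kFac) (lower := [])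
    (by norm_num : 0 < 660) (by decide +kernel) (fun s hs => hs) (by simp) k_fac
  obtain ⟨t', ⟨j, hj, ht'⟩, b, hb, rfl⟩ := hsubK hk
  rw [SetLike.mem_coe, Subgroup.mem_bot] at hb
  exact ⟨i, hi, j, hj, by simp only [hb, mul_one, map_mul, ht, ht']⟩

theorem top_mem {i : ℕ} (hi : i < 266) : CodeMem emb dec Cfsg.Spor.J1 (topT.get i) :=
  table_mem hmul hone gens_mem gens_par i hi

theorem k_mem {j : ℕ} (hj : j < 660) : CodeMem emb dec Cfsg.Spor.J1 (kT.get j) :=
  (card_kGroup.2 j hj).mono kGroup_le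

/-- The code named by a position in the two tables. -/
noncomputable def hitCode (q : ℕ × ℕ) : ℕ := mul (topT.get q.1) (kT.get q.2)

/-- The checks on the left list of a search. -/
noncomputable def leftOK (z : ℕ) (L : List ℕ) (i : ℕ) : Bool :=
  mul (trCode (topT.get i)) (topT.get i) == one &&
    mul (trCode (topT.get i)) (mul z (topT.get i)) == L.getD i 0 && canon (L.getD i 0)

/-- The checks on the right list of a search. -/
noncomputable def rightOK (y : ℕ) (R : List ℕ) (j : ℕ) : Bool :=
  mul (kT.get j) (trCode (kT.get j)) == one &&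
    mul (kT.get j) (mul y (trCode (kT.get j))) == R.getD j 0 && canon (R.getD j 0)

theorem mem_hits {y z : ℕ} {L R : List ℕ} {H : List (ℕ × ℕ)}
    (hL : allFrom 0 266 (leftOK z L) = true) (hR : allFrom 0 660 (rightOK y R) = true)
    (hall : hitAll H R L 0 = true) (hLn : L.length = 266) (hRn : R.length = 660)
    {g : GL (Fin 7) (ZMod 11)} (hg : g ∈ Cfsg.Spor.J1) (h : emb g * dec y = dec z * emb g) :
    ∃ q ∈ H, q.1 < 266 ∧ q.2 < 660 ∧ emb g = dec (hitCode q) := by
  obtain ⟨i, hi, j, hj, he⟩ := factor_mem hg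
  have hl := of_allFrom_zero hL hi
  have hr := of_allFrom_zero hR hj
  simp only [leftOK, rightOK, Bool.and_eq_true, beq_iff_eq] at hl hr
  set T := dec (topT.get i) with hT
  set K := dec (kT.get j) with hK
  set T' := dec (trCode (topT.get i)) with hT'
  set K' := dec (trCode (kT.get j)) with hK'
  have hTT : T' * T = 1 := by rw [hT', hT, ← hmul, hl.1.1, hone]
  have hKK : K * K' = 1 := by rw [hK', hK, ← hmul, hr.1.1, hone]
  have e1 : dec (L.getD i 0) = T' * (dec z * T) := by rw [← hl.1.2, hmul, hmul]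
  have e2 : dec (R.getD j 0) = K * (dec y * K') := by rw [← hr.1.2, hmul, hmul]
  have e3 : L.getD i 0 = R.getD j 0 := hinj _ _ hl.2 hr.2 (by
    calc dec (L.getD i 0) = T' * (dec z * T) * (K * K') := by rw [hKK, mul_one, e1]
      _ = T' * (dec z * (T * K)) * K' := by simp only [mul_assoc]
      _ = T' * ((T * K) * dec y) * K' := by rw [← he, ← h]
      _ = (T' * T) * (K * (dec y * K')) := by simp only [mul_assoc]
      _ = dec (R.getD j 0) := by rw [hTT, one_mul, e2])
  have hm := hitAll_mem hall i (hLn ▸ hi) j (hRn ▸ hj) e3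
  rw [Nat.zero_add] at hm
  exact ⟨(i, j), hm, hi, hj, by rw [he, hitCode, hmul]⟩

theorem hitAll_append {hits : List (ℕ × ℕ)} {rights : List ℕ} : ∀ (l₁ l₂ : List ℕ) (i : ℕ),
    hitAll hits rights (l₁ ++ l₂) i =
      (hitAll hits rights l₁ i && hitAll hits rights l₂ (i + l₁.length))
  | [], l₂, i => by simp [hitAll]
  | x :: xs, l₂, i => by
    simp [hitAll, hitAll_append xs l₂ (i + 1), Bool.and_assoc, Nat.add_assoc, Nat.add_comm 1]

theorem hitAll_split {hits : List (ℕ × ℕ)} {rights L : List ℕ} (k : ℕ) {n : ℕ}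
    (hn : L.length = n) (hk : k ≤ n)
    (h₁ : hitAll hits rights (L.take k) 0 = true) (h₂ : hitAll hits rights (L.drop k) k = true) :
    hitAll hits rights L 0 = true := by
  have h := hitAll_append (hits := hits) (rights := rights) (L.take k) (L.drop k) 0
  rw [List.take_append_drop, List.length_take, min_eq_left (hn ▸ hk), Nat.zero_add, h₁, h₂] at h
  exact h

theorem allFrom_three {p : ℕ → Bool} {a b n : ℕ} (hb : b = a + a) (hn : n = a + a + a)
    (h₀ : allFrom 0 a p = true) (h₁ : allFrom a a p = true) (h₂ : allFrom b a p = true) :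
    allFrom 0 n p = true := by
  subst hb hn
  refine allFrom_append (allFrom_append h₀ ?_) ?_
  · rwa [Nat.zero_add]
  · rwa [Nat.zero_add]

theorem leftA_ok : allFrom 0 266 (leftOK aEltC searchALeft) = true := by decide +kernel

theorem rightA_0 : allFrom 0 220 (rightOK aEltC searchARight) = true := by decide +kernel

theorem rightA_1 : allFrom 220 220 (rightOK aEltC searchARight) = true := by decide +kernel

theorem rightA_2 : allFrom 440 220 (rightOK aEltC searchARight) = true := by decide +kernel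

theorem lenA_ok : (searchALeft.length == 266 && searchARight.length == 660) = true := by
  decide +kernel

theorem hitA_0 : hitAll searchAHits searchARight (searchALeft.take 133) 0 = true := by
  decide +kernel

theorem hitA_1 : hitAll searchAHits searchARight (searchALeft.drop 133) 133 = true := by
  decide +kernel

theorem searchA_ok :
    (allFrom 0 266 (leftOK aEltC searchALeft) && allFrom 0 660 (rightOK aEltC searchARight) &&
      hitAll searchAHits searchARight searchALeft 0 && searchALeft.length == 266 &&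
      searchARight.length == 660) = true := by
  have hl := lenA_ok
  simp only [Bool.and_eq_true, beq_iff_eq] at hl ⊢
  exact ⟨⟨⟨⟨leftA_ok, allFrom_three rfl rfl rightA_0 rightA_1 rightA_2⟩,
    hitAll_split 133 hl.1 (by norm_num) hitA_0 hitA_1⟩, hl.1⟩, hl.2⟩

theorem leftB_ok : allFrom 0 266 (leftOK (powCode bEltC 5) searchBLeft) = true := by decide +kernel

theorem rightB_0 : allFrom 0 220 (rightOK bEltC searchBRight) = true := by decide +kernel

theorem rightB_1 : allFrom 220 220 (rightOK bEltC searchBRight) = true := by decide +kernel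

theorem rightB_2 : allFrom 440 220 (rightOK bEltC searchBRight) = true := by decide +kernel

theorem lenB_ok : (searchBLeft.length == 266 && searchBRight.length == 660) = true := by
  decide +kernel

theorem hitB_0 : hitAll searchBHits searchBRight (searchBLeft.take 133) 0 = true := by
  decide +kernel

theorem hitB_1 : hitAll searchBHits searchBRight (searchBLeft.drop 133) 133 = true := by
  decide +kernel

theorem searchB_ok :
    (allFrom 0 266 (leftOK (powCode bEltC 5) searchBLeft) && allFrom 0 660 (rightOK bEltC searchBRight) &&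
      hitAll searchBHits searchBRight searchBLeft 0 && searchBLeft.length == 266 &&
      searchBRight.length == 660) = true := by
  have hl := lenB_ok
  simp only [Bool.and_eq_true, beq_iff_eq] at hl ⊢
  exact ⟨⟨⟨⟨leftB_ok, allFrom_three rfl rfl rightB_0 rightB_1 rightB_2⟩,
    hitAll_split 133 hl.1 (by norm_num) hitB_0 hitB_1⟩, hl.1⟩, hl.2⟩

theorem words_ok :
    (genWord mul one gens aEltW == aEltC && genWord mul one gens bEltW == bEltC &&
      genWord mul one gens threeEltW == threeEltC && genWord mul one gens fiveEltW == fiveEltC &&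
      genWord mul one gens sevenEltW == sevenEltC &&
      genWord mul one gens elevenEltW == elevenEltC &&
      genWord mul one gens tEltW == tEltC) = true := by
  decide +kernel

theorem exists_elt (w : List ℕ) :
    ∃ g : Cfsg.Spor.J1, emb g.1 = dec (genWord mul one gens w) :=
  let ⟨g, hg, e⟩ := codeMem_genWord hmul hone gens_mem w
  ⟨⟨g, hg⟩, e⟩

/-- The element given by a word. -/
noncomputable def elt (w : List ℕ) : Cfsg.Spor.J1 := (exists_elt w).choose

theorem emb_elt (w : List ℕ) : emb (elt w).1 = dec (genWord mul one gens w) :=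
  (exists_elt w).choose_spec

theorem exists_hit (q : ℕ × ℕ) :
    ∃ g : Cfsg.Spor.J1, q.1 < 266 → q.2 < 660 → emb g.1 = dec (hitCode q) := by
  by_cases h : q.1 < 266 ∧ q.2 < 660
  · obtain ⟨g, hg, e⟩ := (top_mem h.1).mul hmul (k_mem h.2)
    exact ⟨⟨g, hg⟩, fun _ _ => e⟩
  · exact ⟨1, fun h1 h2 => absurd ⟨h1, h2⟩ h⟩

/-- The element at a position in the two tables. -/
noncomputable def hitElt (q : ℕ × ℕ) : Cfsg.Spor.J1 := (exists_hit q).choose

theorem emb_hit {q : ℕ × ℕ} (h1 : q.1 < 266) (h2 : q.2 < 660) :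
    emb (hitElt q).1 = dec (hitCode q) :=
  (exists_hit q).choose_spec h1 h2

/-- The element of order 19. -/
noncomputable def aElt : Cfsg.Spor.J1 := elt aEltW

/-- The element of order 6 normalising it. -/
noncomputable def bElt : Cfsg.Spor.J1 := elt bEltW

/-- The third generator. -/
noncomputable def cElt : Cfsg.Spor.J1 := hitElt cEltIdx

theorem emb_a : emb aElt.1 = dec aEltC := by
  have h := words_ok
  simp only [Bool.and_eq_true, beq_iff_eq] at h
  rw [aElt, emb_elt, h.1.1.1.1.1.1]

theorem emb_b : emb bElt.1 = dec bEltC := by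
  have h := words_ok
  simp only [Bool.and_eq_true, beq_iff_eq] at h
  rw [bElt, emb_elt, h.1.1.1.1.1.2]

theorem emb_c : emb cElt.1 = dec cEltC := by
  rw [cElt, emb_hit (by decide) (by decide),
    show hitCode cEltIdx = cEltC by decide +kernel]

theorem eq_of_emb {x y : Cfsg.Spor.J1} (h : emb x.1 = emb y.1) : x = y := Subtype.ext (hemb h)

theorem emb_mul (x y : Cfsg.Spor.J1) : emb (x * y).1 = emb x.1 * emb y.1 :=
  map_mul (emb.comp (Cfsg.Spor.J1).subtype) x y

theorem emb_pow_code {x : Cfsg.Spor.J1} {c : ℕ} (h : emb x.1 = dec c) (k : ℕ) :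
    emb (x ^ k).1 = dec (powCode c k) :=
  emb_pow h k

theorem conj_code {g x : Cfsg.Spor.J1} {t cx cy : ℕ} (hg : emb g.1 = dec t)
    (hx : emb x.1 = dec cx) (h : mul t cx = mul cy t) : emb (g * x * g⁻¹).1 = dec cy := by
  rw [emb_mul, emb_mul, hg, hx, ← hmul, h, hmul, ← hg, mul_assoc, ← emb_mul, mul_inv_cancel,
    OneMemClass.coe_one, map_one, mul_one]

theorem emb_three {x y z : Cfsg.Spor.J1} {cx cy cz : ℕ} (hx : emb x.1 = dec cx)
    (hy : emb y.1 = dec cy) (hz : emb z.1 = dec cz) : ∀ w : List ℕ,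
    emb (evalThree x y z w).1 = dec (genWord mul one [cx, cy, cz] w)
  | [] => by rw [evalThree, CfsgLib.Sporadic.genWord_nil, OneMemClass.coe_one, map_one, hone]
  | i :: w => by
    rw [evalThree, CfsgLib.Sporadic.genWord_cons, hmul, emb_mul, emb_three hx hy hz w]
    congr 1
    rcases i with _ | _ | _ | i
    · exact hx
    · exact hy
    · exact hz
    · show emb (1 : Cfsg.Spor.J1).1 = dec one
      rw [OneMemClass.coe_one, map_one, hone]

theorem evalThree_mem {x y z : Cfsg.Spor.J1} : ∀ w : List ℕ,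
    evalThree x y z w ∈ Subgroup.closure {x, y, z}
  | [] => one_mem _
  | i :: w => by
    refine mul_mem ?_ (evalThree_mem w)
    rcases i with _ | _ | _ | i
    · exact Subgroup.subset_closure (by simp)
    · exact Subgroup.subset_closure (by simp)
    · exact Subgroup.subset_closure (by simp)
    · exact one_mem _

theorem ne_one_of_code {x : Cfsg.Spor.J1} {c : ℕ} (h : emb x.1 = dec c)
    (hc : (canon c && canon one && !(c == one)) = true) : x ≠ 1 := by
  rintro rfl
  simp only [Bool.and_eq_true, Bool.not_eq_true', beq_eq_false_iff_ne] at hc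
  refine hc.2 (hinj _ _ hc.1.1 hc.1.2 ?_)
  rw [← h, OneMemClass.coe_one, map_one, hone]

theorem orderOf_code {p : ℕ} [Fact p.Prime] {x : Cfsg.Spor.J1} {c : ℕ} (h : emb x.1 = dec c)
    (hp : (powCode c p == one && (canon c && canon one && !(c == one))) = true) :
    orderOf x = p := by
  rw [Bool.and_eq_true, beq_iff_eq] at hp
  exact orderOf_eq_prime (pow_eq_one_of_code h hp.1) (ne_one_of_code h hp.2)

theorem closure_eq : Subgroup.closure {aElt, bElt, cElt} = ⊤ := by
  have hb : backWords.map (genWord mul one [aEltC, bEltC, cEltC]) = gens := by decide +kernel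
  have hmem : ∀ c ∈ gens, ∀ x : Cfsg.Spor.J1, emb x.1 = dec c →
      x ∈ Subgroup.closure {aElt, bElt, cElt} := by
    rw [← hb]
    intro c hc x hx
    obtain ⟨w, -, rfl⟩ := List.mem_map.1 hc
    rw [eq_of_emb (hx.trans (emb_three emb_a emb_b emb_c w).symm)]
    exact evalThree_mem w
  rw [eq_top_iff]
  have hJ : (⊤ : Subgroup Cfsg.Spor.J1) = Subgroup.closure
      (((↑) : Cfsg.Spor.J1 → GL (Fin 7) (ZMod 11)) ⁻¹' {jankoX, jankoY}) :=
    Subgroup.closure_closure_coe_preimage.symm
  rw [hJ, Subgroup.closure_le]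
  rintro x (hx | hx)
  · exact hmem _ (by simp [gens]) x ((congrArg emb hx).trans emb_X)
  · exact hmem _ (by simp [gens]) x ((congrArg emb hx).trans emb_Y)

theorem centraliser_a (x : Cfsg.Spor.J1) (h : x * aElt * x⁻¹ = aElt) :
    ∃ i : ℕ, x = aElt ^ i := by
  have hs := searchA_ok
  simp only [Bool.and_eq_true, beq_iff_eq] at hs
  have hcomm : x * aElt = aElt * x := mul_inv_eq_iff_eq_mul.1 h
  have he : emb x.1 * dec aEltC = dec aEltC * emb x.1 := by
    rw [← emb_a, ← emb_mul, ← emb_mul, hcomm]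
  obtain ⟨q, hq, -, -, e⟩ := mem_hits hs.1.1.1.1 hs.1.1.1.2 hs.1.1.2 hs.1.2 hs.2 x.2 he
  have hall : searchAHits.all (fun q => (List.range 19).any
      (fun k => hitCode q == powCode aEltC k)) = true := by decide +kernel
  obtain ⟨k, -, hk⟩ := List.any_eq_true.1 (List.all_eq_true.1 hall q hq)
  exact ⟨k, eq_of_emb (e.trans (by rw [eq_of_beq hk, emb_pow_code emb_a]))⟩

theorem mem_Lc (x : Cfsg.Spor.J1) (h : x * bElt * x⁻¹ = bElt ^ 5) :
    x ∈ searchBHits.map hitElt := by
  have hs := searchB_ok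
  simp only [Bool.and_eq_true, beq_iff_eq] at hs
  have hcomm : x * bElt = bElt ^ 5 * x := mul_inv_eq_iff_eq_mul.1 h
  have he : emb x.1 * dec bEltC = dec (powCode bEltC 5) * emb x.1 := by
    rw [← emb_pow_code emb_b, ← emb_b, ← emb_mul, ← emb_mul, hcomm]
  obtain ⟨q, hq, h1, h2, e⟩ := mem_hits hs.1.1.1.1 hs.1.1.1.2 hs.1.1.2 hs.1.2 hs.2 x.2 he
  exact List.mem_map.2 ⟨q, hq, eq_of_emb ((emb_hit h1 h2).trans e.symm)⟩

/-- The check excluding all candidates but one. -/
noncomputable def survOK (j : ℕ) (q : ℕ × ℕ) : Bool :=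
  Nat.blt q.1 266 && Nat.blt q.2 660 &&
    ((j == 1 && q == cEltIdx) ||
      (let c := powCode (genWord mul one [powCode aEltC j, bEltC, hitCode q] [0, 1, 2]) 5
       canon c && canon one && !(c == one)))

theorem surv_ok : ([1, 2, 4] : List ℕ).all (fun j => searchBHits.all (survOK j)) = true := by
  decide +kernel

theorem card_out : Nat.card (Cfsg.Out Cfsg.Spor.J1) = 1 := by
  classical
  have : Fact (Nat.Prime 19) := ⟨by norm_num⟩
  refine card_out_eq_one (card_out_le aElt bElt cElt 19 12 5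
    (orderOf_code emb_a (by decide +kernel)) (by rw [card_J1]; norm_num) centraliser_a ?_
    (by norm_num) [1, 2, 4] ?_ ?_ (searchBHits.map hitElt) mem_Lc closure_eq [([0, 1, 2], 5)] ?_
    [(1, cElt)] ?_)
  · exact eq_of_emb ((conj_code emb_b emb_a (cy := powCode aEltC 12) (by decide +kernel)).trans
      (emb_pow_code emb_a 12).symm)
  · intro j hj hj0
    have h : ∀ j < 19, j ≠ 0 → ∃ i < 6, j * 12 ^ i % 19 ∈ ([1, 2, 4] : List ℕ) := by decide
    obtain ⟨i, -, hi⟩ := h j hj hj0
    exact ⟨i, hi⟩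
  · exact eq_of_emb ((conj_code emb_c emb_b (cy := powCode bEltC 5) (by decide +kernel)).trans
      (emb_pow_code emb_b 5).symm)
  · intro r hr
    obtain rfl := List.mem_singleton.1 hr
    exact pow_eq_one_of_code (emb_three emb_a emb_b emb_c _) (by decide +kernel)
  · intro j hj x hx hrel
    obtain ⟨q, hq, rfl⟩ := List.mem_map.1 hx
    have hb := List.all_eq_true.1 (List.all_eq_true.1 surv_ok j hj) q hq
    rw [survOK, Bool.and_eq_true, Bool.and_eq_true, Bool.or_eq_true, Nat.blt_eq, Nat.blt_eq] at hb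
    rcases hb.2 with h | h
    · rw [Bool.and_eq_true, beq_iff_eq, beq_iff_eq] at h
      rw [h.1, h.2]
      exact List.mem_singleton.2 rfl
    · refine absurd (hrel _ (List.mem_singleton.2 rfl)) (ne_one_of_code ?_ h)
      exact emb_pow_code
        (emb_three (emb_pow_code emb_a j) emb_b (emb_hit hb.1.1 hb.1.2) [0, 1, 2]) 5

theorem noMultiplier_odd {p : ℕ} [Fact p.Prime] (w : List ℕ) (c d : ℕ)
    (hw : genWord mul one gens w = c)
    (hp : (powCode c p == one && (canon c && canon one && !(c == one))) = true)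
    (hd : ¬ p ∣ d) (hG : 175560 = p ^ 1 * d) : NoMultiplierAt p Cfsg.Spor.J1 :=
  noMultiplierAt_of_sylow_element (elt w) 1 d
    (by rw [pow_one]; exact orderOf_code (by rw [emb_elt, hw]) hp) hd (by rw [card_J1, hG])

/-- The checks on the elements used at the prime 2. -/
noncomputable def twoOK : Bool :=
  allFrom 0 8 (fun i => mul (s2T.get i) (s2T.get i) == one &&
    allFrom 0 8 (fun j => mul (s2T.get i) (s2T.get j) == mul (s2T.get j) (s2T.get i)) &&
    (List.range 8).any (fun j => mul tEltC (s2T.get i) == mul (s2T.get j) tEltC) &&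
    genWord mul one [s2T.get 1, yEltC, zEltC] (threeSpan.getD i []) == s2T.get i) &&
  mul tEltC (s2T.get 1) == mul yEltC tEltC && mul tEltC yEltC == mul zEltC tEltC &&
  mul tEltC zEltC == mul (mul (s2T.get 1) yEltC) tEltC

theorem two_ok : twoOK = true := by decide +kernel

theorem noMultiplier_two : NoMultiplierAt 2 Cfsg.Spor.J1 := by
  have hb := two_ok
  simp only [twoOK, Bool.and_eq_true, beq_iff_eq] at hb
  obtain ⟨⟨⟨hall, htx⟩, hty⟩, htz⟩ := hb
  have hrow : ∀ i < 8, mul (s2T.get i) (s2T.get i) = one ∧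
      (∀ j < 8, mul (s2T.get i) (s2T.get j) = mul (s2T.get j) (s2T.get i)) ∧
      (∃ j < 8, mul tEltC (s2T.get i) = mul (s2T.get j) tEltC) ∧
      genWord mul one [s2T.get 1, yEltC, zEltC] (threeSpan.getD i []) = s2T.get i := by
    intro i hi
    have h := of_allFrom_zero hall hi
    simp only [Bool.and_eq_true, beq_iff_eq, List.any_eq_true, List.mem_range] at h
    obtain ⟨⟨⟨h1, h2⟩, h3⟩, h4⟩ := h
    exact ⟨h1, fun j hj => eq_of_beq (of_allFrom_zero h2 hj), h3, h4⟩
  have hP : Nat.card (s2Group.subgroupOf Cfsg.Spor.J1) =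
      2 ^ (Nat.card Cfsg.Spor.J1).factorization 2 := by
    rw [Nat.card_congr (Subgroup.subgroupOfEquivOfLe s2Group_le).toEquiv, card_s2Group.1,
      card_sylow_of_split (p := 2) (v := 3) (d := 21945) (by norm_num) (by rw [card_J1]; norm_num)]
    norm_num
  let S : Sylow 2 Cfsg.Spor.J1 := Sylow.ofCard (s2Group.subgroupOf Cfsg.Spor.J1) hP
  have hin : ∀ s : Cfsg.Spor.J1, ∀ i < 8, emb s.1 = dec (s2T.get i) → s ∈ (S : Subgroup _) := by
    intro s i hi e
    obtain ⟨g, hg, eg⟩ := card_s2Group.2 i hi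
    show s.1 ∈ s2Group
    rwa [hemb (e.trans eg.symm)]
  have hcodes : ∀ s ∈ (S : Subgroup Cfsg.Spor.J1), ∃ i < 8, emb s.1 = dec (s2T.get i) := by
    have hsub := exists_factor (emb := emb) (dec := dec) hmul hone (S := genSet emb dec s2Gens)
      (K := (⊥ : Subgroup (GL (Fin 7) (ZMod 11)))) (T := s2T) (fac := s2Fac) (lower := [])
      (by norm_num : 0 < 8) (by decide +kernel) (fun s hs => hs) (by simp) s2_fac
    intro s hs
    obtain ⟨a, ⟨i, hi, ha⟩, b, hb, he⟩ := hsub (show s.1 ∈ s2Group from hs)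
    rw [SetLike.mem_coe, Subgroup.mem_bot] at hb
    exact ⟨i, hi, by rw [← he]; simp only [hb, mul_one, ha]⟩
  obtain ⟨X, hXmem, hX⟩ := card_s2Group.2 1 (by norm_num)
  let x : Cfsg.Spor.J1 := ⟨X, s2Group_le hXmem⟩
  let t : Cfsg.Spor.J1 := elt tEltW
  have ht : emb t.1 = dec tEltC := by
    have h := words_ok
    simp only [Bool.and_eq_true, beq_iff_eq] at h
    rw [show t = elt tEltW from rfl, emb_elt, h.2]
  have hx : emb x.1 = dec (s2T.get 1) := hX
  have hy : emb (t * x * t⁻¹).1 = dec yEltC := conj_code ht hx htx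
  have hz : emb (t * (t * x * t⁻¹) * t⁻¹).1 = dec zEltC := conj_code ht hy hty
  refine noMultiplierAt_two_of_rank_three S ?_ ?_ x t (hin x 1 (by norm_num) hx) ?_ ?_ ?_
  · refine ⟨⟨fun u v => Subtype.ext (eq_of_emb ?_)⟩⟩
    obtain ⟨i, hi, ei⟩ := hcodes u.1 u.2
    obtain ⟨j, hj, ej⟩ := hcodes v.1 v.2
    show emb (u.1 * v.1).1 = emb (v.1 * u.1).1
    rw [emb_mul, emb_mul, ei, ej, ← hmul, ← hmul, (hrow i hi).2.1 j hj]
  · intro s hs
    obtain ⟨i, hi, ei⟩ := hcodes s hs
    refine eq_of_emb ?_
    rw [pow_two, emb_mul, ei, ← hmul, (hrow i hi).1, hone, OneMemClass.coe_one, map_one]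
  · intro s hs
    obtain ⟨i, hi, ei⟩ := hcodes s hs
    obtain ⟨j, hj, hc⟩ := (hrow i hi).2.2.1
    exact hin _ j hj (conj_code ht ei hc)
  · refine eq_of_emb ((conj_code ht hz htz).trans ?_)
    rw [hmul, emb_mul, hx, hy]
  · intro s hs
    obtain ⟨i, hi, ei⟩ := hcodes s hs
    rw [eq_of_emb (ei.trans ((congrArg dec (hrow i hi).2.2.2).symm.trans
      (emb_three hx hy hz _).symm))]
    exact evalThree_mem _

theorem multiplier : Cfsg.HasCyclicSchurMultiplier Cfsg.Spor.J1 1 := by
  refine hasCyclicSchurMultiplier_one fun p hp => ?_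
  have : Fact p.Prime := ⟨hp⟩
  by_cases hd : p ∣ Nat.card Cfsg.Spor.J1
  · rw [card_J1, show (175560 : ℕ) = 2 ^ 3 * 3 * 5 * 7 * 11 * 19 by norm_num] at hd
    have hw := words_ok
    simp only [Bool.and_eq_true, beq_iff_eq] at hw
    obtain ⟨⟨⟨⟨⟨⟨ha, -⟩, h3⟩, h5⟩, h7⟩, h11⟩, -⟩ := hw
    rcases hp.dvd_mul.mp hd with hd | hd
    rcases hp.dvd_mul.mp hd with hd | hd
    rcases hp.dvd_mul.mp hd with hd | hd
    rcases hp.dvd_mul.mp hd with hd | hd
    rcases hp.dvd_mul.mp hd with hd | hd
    · obtain rfl := (Nat.prime_dvd_prime_iff_eq hp Nat.prime_two).mp (hp.dvd_of_dvd_pow hd)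
      exact noMultiplier_two
    · obtain rfl := (Nat.prime_dvd_prime_iff_eq hp (by norm_num)).mp hd
      exact noMultiplier_odd _ _ 58520 h3 (by decide +kernel) (by norm_num) (by norm_num)
    · obtain rfl := (Nat.prime_dvd_prime_iff_eq hp (by norm_num)).mp hd
      exact noMultiplier_odd _ _ 35112 h5 (by decide +kernel) (by norm_num) (by norm_num)
    · obtain rfl := (Nat.prime_dvd_prime_iff_eq hp (by norm_num)).mp hd
      exact noMultiplier_odd _ _ 25080 h7 (by decide +kernel) (by norm_num) (by norm_num)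
    · obtain rfl := (Nat.prime_dvd_prime_iff_eq hp (by norm_num)).mp hd
      exact noMultiplier_odd _ _ 15960 h11 (by decide +kernel) (by norm_num) (by norm_num)
    · obtain rfl := (Nat.prime_dvd_prime_iff_eq hp (by norm_num)).mp hd
      exact noMultiplier_odd _ _ 9240 ha (by decide +kernel) (by norm_num) (by norm_num)
  · exact noMultiplierAt_of_not_dvd hd

end CfsgLib.Schur.JankoOne
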