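import Cfsg.Agent.Lib.Schur.PcJankoThree

/-! Generated polycyclic certificates for the multiplier of J3. -/

set_option autoImplicit false
set_option maxRecDepth 20000

namespace CfsgLib.Schur.MultiplierJ3

open CfsgLib.Schur

/-- The relations. -/
def twoRules : Pc.Rules where
  p := 2
  n := 7
  d := 3
  pw := [[],[],[],[6],[6],[],[]]
  cm := [[[],[3],[4],[6],[6],[6],[]],[[],[],[5],[6],[5],[],[]],[[],[],[],[5],[6],[],[]],[[],[],[],[],[6],[],[]],[[],[],[],[],[],[],[]],[[],[],[],[],[],[],[]],[[],[],[],[],[],[],[]]]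

/-- The certificate. -/
def twoCert : Pc.Cert where
  eqns := [.assoc [1] [1] [0],
    .assoc [1] [0] [0],
    .assoc [2] [1] [0],
    .assoc [3] [1] [0],
    .assoc [4] [1] [0],
    .assoc [5] [1] [0],
    .assoc [6] [1] [0],
    .assoc [2] [2] [0],
    .assoc [2] [0] [0],
    .assoc [3] [2] [0],
    .assoc [4] [2] [0],
    .assoc [5] [2] [0],
    .assoc [6] [2] [0],
    .assoc [3] [3] [0],
    .assoc [3] [0] [0],
    .assoc [4] [3] [0],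
    .assoc [5] [3] [0],
    .assoc [4] [4] [0],
    .assoc [2] [2] [1],
    .assoc [2] [1] [1],
    .assoc [3] [2] [1],
    .assoc [4] [4] [1],
    .fuse 0 [[6],[5]] [[2,6],[1,2,3,5]] [0,1] [1,0],
    .fuse 1 [[3,4,6],[1,2,3,4,5,6]] [[4,5,6],[2,3,5,6]] [0,1] [1,0],
    .fuse 1 [[0],[0,4,5,6]] [[0,4],[0,3,4]] [0,1] [1,0]]
  rows := [[0,0,0,(-1),0,0,(-1),0,(-2),0,0,0,0,0,0,0,0,(-1),0,0,0,0,0,0,0,0,0,0,0,0,0,0,0,0,(-1)],
    [0,0,0,1,0,0,1,0,2,0,1],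
    [0,0,0,0,0,0,0,0,0,0,0,0,1,0,0,0,0,0,(-1),0,0,0,0,0,1,0,0,0,0,0,0,0,(-1)],
    [0,0,0,0,0,0,0,0,0,0,0,0,0,1,0,0,0,0,0,0,(-1)],
    [0,0,0,0,0,0,0,0,0,0,0,0,1,0,0,0,0,0,0,0,(-1),0,0,0,0,0,0,0,0,0,0,0,(-1),(-1),(-1)],
    [0,0,0,0,0,0,0,0,0,0,0,0,0,0,0,0,0,0,0,0,(-1),0,0,0,0,0,0,0,0,0,0,0,0,(-1),(-1)],
    [0,0,0,0,0,0,0,0,0,0,0,0,0,0,0,0,0,0,0,0,0,0,0,0,0,0,0,0,0,0,0,0,0,0,(-1)],
    [0,0,0,0,(-1),0,(-1),0,0,(-2),0,0,0,0,0,0,0,0,0,0,0,0,0,0,0,(-1),0,0,0,0,0,0,0,0,0,0,0,0,0,0,0,(-1)],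
    [0,0,0,0,1,0,1,0,0,2,0,1],
    [0,0,0,0,0,0,1,0,0,0,0,0,1,0,0,0,0,0,0,0,0,0,0,0,0,0,0,(-1),0,0,0,0,1,0,0,0,0,0,0,0,(-1),(-1)],
    [0,0,0,0,0,0,0,0,0,0,0,0,0,1,0,0,0,0,0,0,0,0,0,0,0,0,0,(-1)],
    [0,0,0,0,0,0,0,0,0,0,0,0,0,0,0,0,0,0,0,0,0,0,0,0,0,0,0,(-1),0,0,0,0,0,0,0,0,0,0,0,0,(-1),(-1)],
    [0,0,0,0,0,0,0,0,0,0,0,0,0,0,0,0,0,0,0,0,0,0,0,0,0,0,0,0,0,0,0,0,0,0,0,0,0,0,0,0,0,(-1)],
    [0,0,0,0,0,0,(-1),0,0,0,(-2),0,0,1,0,0,0,0,0,0,0,0,0,0,0,0,0,0,0,0,0,0,0,0,(-1)],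
    [0,0,0,0,0,0,1,0,0,0,2,0,0,1],
    [0,0,0,0,0,0,0,0,0,0,0,0,0,1,0,0,0,0,0,0,0,0,0,0,0,0,0,0,0,0,0,0,0,0,(-1),0,0,0,0,0,0,1],
    [0,0,0,0,0,0,0,0,0,0,0,0,0,0,0,0,0,0,0,0,0,0,0,0,0,0,0,0,0,0,0,0,0,0,(-1),0,0,0,0,0,0,0,0,0,0,0,0,0,1],
    [0,0,0,0,0,0,(-1),0,0,0,0,(-2),0,1,0,0,0,0,0,0,0,0,0,0,0,0,0,0,0,0,0,0,0,0,0,0,0,0,0,0,0,(-1)],
    [0,0,0,0,0,(-1),0,0,0,0,0,0,0,0,0,0,(-2),0,0,0,0,0,0,0,0,0,(-1)],
    [0,0,0,0,0,1,0,0,0,0,0,0,0,0,0,0,2,0,0,1],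
    [0,0,0,0,0,0,0,0,0,0,0,0,0,0,0,0,0,0,0,1,0,0,0,0,0,0,0,(-1),0,0,0,0,0,1],
    [0,0,0,0,0,(-1),0,0,0,0,0,0,0,0,0,0,0,0,(-2),0,1,0,0,0,0,0,0,0,0,0,0,0,0,0,0,0,0,0,0,0,(-1),0,0,0,0,0,0,0,(-2)],
    [0,0,0,0,0,0,0,0,0,0,0,0,0,0,0,0,1,0,0,0,1,0,0,0,(-1),0,0,1,0,0,0,0,0,1,1],
    [0,0,0,0,0,(-1),0,0,0,0,0,0,0,0,0,0,0,(-1),(-1),0,(-1),0,0,0,(-1),0,0,1,0,0,0,0,1,2,0,0,0,0,0,0,(-1),(-2),0,0,0,0,0,0,1],
    [0,0,0,0,0,0,1,0,0,0,(-1),1,1,1,0,0,0,0,0,0,0,0,0,0,0,0,0,0,0,0,0,0,1,0,1,0,0,0,0,0,0,(-1),0,0,0,0,0,0,1]]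
  us := []
  ords := []
  ordComb := []
  shifts := [[],[],[],[0,0,0,0,0,0,0,0,1],[0,0,0,0,0,0,0,0,0,1],[0,0,0,0,0,0,0,0,0,0,0,0,0,0,0,0,0,0,0,0,0,0,0,0,1],[0,0,0,0,0,0,0,0,0,0,0,0,1]]
  pwComb := [[],[],[],[(0,-1),(2,1),(3,-4),(4,-1),(5,3),(6,1),(9,-1),(10,1),(11,1),(12,-3),(13,2),(14,2),(15,-1),(16,-3),(21,-1),(23,1)],[(0,-1),(1,-1),(2,1),(3,-4),(4,-1),(5,3),(6,5),(8,1),(9,-2),(10,1),(11,2),(12,-6),(13,1),(14,2),(15,-2),(16,-4),(17,1),(21,-1),(23,1),(24,1)],[(2,2),(3,-1),(4,-2),(5,2),(10,-1),(11,1),(12,1),(15,2),(16,-2),(21,-1)],[(4,1),(5,-1),(9,1),(11,-1)]]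
  cmComb := [[[],[],[],[(0,-1),(1,-1),(2,1),(3,-4),(4,-1),(5,3),(6,1),(9,-1),(10,1),(11,1),(12,-2),(13,1),(14,2),(16,-3),(21,-1),(23,1)],[(0,-1),(1,-1),(2,1),(3,-4),(4,-1),(5,3),(6,4),(9,-2),(10,1),(11,2),(12,-4),(13,1),(14,2),(15,-1),(16,-4),(21,-1),(23,1),(24,1)],[],[(6,-1),(12,1),(15,1)]],
    [[],[],[(5,1),(6,2),(10,1),(12,-3),(13,1),(14,1),(15,-3),(22,1)],[(2,-1),(3,4),(5,-2),(10,-1),(12,3),(13,-2),(14,-2),(15,1),(16,3),(21,1),(23,-1)],[(2,-1),(4,1),(5,-1)],[(3,-1),(5,1),(6,-2),(10,-1),(13,1),(14,1),(20,1)],[(3,-1),(6,-1),(12,1),(15,1)]],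
    [[],[],[],[],[(0,1),(1,1),(2,-1),(3,4),(5,-2),(6,-5),(7,-1),(8,-1),(9,1),(10,-1),(11,-1),(12,7),(13,-1),(14,-2),(15,2),(16,4),(17,-1),(21,1),(23,-1),(24,-1)],[(3,-1),(5,1),(6,-2),(10,-1),(13,1),(14,1),(18,-1),(19,-1),(20,1)],[(6,-1),(10,-1),(12,1),(15,1)]],
    [[],[],[],[],[(4,-1),(5,1)],[(3,1),(5,-1),(6,1),(12,1),(13,-1),(14,-1),(15,1)],[(6,-1)]],
    [[],[],[],[],[],[(6,1),(10,1),(11,-1),(15,-1)],[(12,-1)]],
    [[],[],[],[],[],[],[(6,-1),(16,1)]],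
    [[],[],[],[],[],[],[]]]

/-- Generators. -/
def twoGens : List ℕ := [0x4a1bf14da0c4fc232ae075e43bec026e0076147f8f3a94b8d7192fe5a7a7d79a799d79deaade556e7, 0x1cbdce1aee136a4cb542d9706df3a898951d868b935195c0cfe0227a9a795d7ef48a6b116e9eb65e5, 0x18bbcd19a5ea6fe576e4de272e430298805df834290b0b79d9b9eddb676db7bbd185acd3a335548bf, 0x50c03c20ff202a8424658737d053283c8515894fd1f4a897151f216584f7da5c297e05aa0c15420, 0x535b3cbd8e491671cf7ff23aa84f069e835eb1c0d8e020b228184534d80b2d0d0e9ec25ece0622434, 0x7ad9f96de8295905fdc25d607effd99eaddeb7449bb31550ebfc25db676db7b55393fc9cb6f41b6b0, 0x50403c30326b8875980b1d018e93fe1caa4273a878951fc20ea04934fdcb2a395cc9fe21c4f0e328]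

/-- Where they are. -/
def twoGensV : List ℕ := [2865832,109063993,79395029,73899248,67272201,136662253,24229069]

/-- Conjugating elements. -/
def twoConj : List ℕ := [0x7f9aba9d5bd835ad0b1142ccf067079f839e5ed77e6fb7053383c832698875d7fb33a9887596fbdf6, 0x7dea7ae5732da486d7eaa12554cf397289f88b855193f79cc79e2336718b78dcc9de21eebce8da252]

/-- Where they are. -/
def twoConjV : List ℕ := [35380029,1897564]

/-- The order of the elements. -/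
def twoIdx : List ℕ := [9,96,8,105,81,41,33,117,52,37,1,73,17,109,110,38,46,75,101,12,6,44,7,103,13,74,55,58,53,18,16,21,97,123,35,32,60,25,107,26,43,85,63,104,98,40,0,124,72,88,112,115,92,95,100,59,54,90,45,56,86,27,11,62,64,65,10,28,66,67,50,120,23,20,19,47,126,102,76,22,4,106,87,51,34,118,119,48,49,79,78,108,36,15,114,70,57,71,14,93,77,5,39,68,111,69,121,42,30,82,29,83,99,31,61,24,84,116,80,122,127,113,125,3,2,94,91,89]

theorem two_ok : PcJankoThree.certOK twoRules twoCert twoGens twoGensV twoConj twoConjV 35 twoIdx = true := by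
  decide +kernel

/-- The relations. -/
def threeRules : Pc.Rules where
  p := 3
  n := 5
  d := 2
  pw := [[4,4],[3],[],[],[]]
  cm := [[[],[2],[3],[],[]],[[],[],[4],[],[]],[[],[],[],[],[]],[[],[],[],[],[]],[[],[],[],[],[]]]

/-- The certificate. -/
def threeCert : Pc.Cert where
  eqns := [.assoc [0] [0,0] [0],
    .assoc [1,1] [1] [0],
    .assoc [1] [0] [0,0],
    .assoc [2] [1] [0],
    .assoc [3] [1] [0],
    .assoc [4] [1] [0],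
    .assoc [2,2] [2] [0],
    .assoc [2] [0] [0,0],
    .assoc [4] [2] [0],
    .assoc [4,4] [4] [0],
    .assoc [2,2] [2] [1]]
  rows := [[0,0,0,0,0,0,0,0,0,2],
    [0,0,(-1),0,(-1),0,(-3),0,1,0,0,0,(-3),0,(-1),0,0,0,(-3),(-2)],
    [0,0,1,1,0,0,3,3,1,0,0,0,0,0,2,0,0,0,1,6,0,0,0,0,6],
    [0,0,0,0,0,0,0,0,0,1,0,0,0,(-1),0,0,0,0,(-1),(-1),0,0,0,0,(-1)],
    [0,0,0,0,0,0,0,0,0,0,0,0,0,0,0,0,0,0,(-1)],
    [0,0,0,0,0,0,0,0,0,0,0,0,0,0,0,0,0,0,0,(-1)],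
    [0,0,0,(-1),0,0,0,(-3),0,0,0,0,0,0,0,0,0,0,(-3)],
    [0,0,0,1,0,0,0,3,3,0,0,0,0,0,0,0,0,0,0,2,0,0,0,0,6],
    [0,0,0,0,0,0,0,0,0,0,0,0,0,0,0,0,0,0,0,0,0,0,0,0,(-1)],
    [0,0,0,0,0,0,0,0,0,(-3)],
    [0,0,0,0,(-1),0,0,0,0,0,0,0,(-3),0,0,0,0,0,0,(-3)]]
  us := [[0,0,0,0,0,0,0,0,1]]
  ords := [3]
  ordComb := [[(4,-3),(5,2),(6,1),(7,1),(8,6)]]
  shifts := [[],[],[0,0,0,0,0,0,1],[0,0,0,0,0,0,0,1],[0,0,0,0,0,0,0,0,0,0,0,0,1]]
  pwComb := [[],[],[(1,-2),(2,-1),(4,5),(5,-6),(7,1),(10,2)],[(4,3),(6,-1)],[(5,3),(10,-1)]]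
  cmComb := [[[],[],[],[(4,3),(5,-2),(6,-1),(7,-1),(8,-6),(11,4)],[(0,-1),(9,-1)]],
    [[],[],[],[(0,2),(3,-1),(4,1),(5,1),(8,1),(9,1)],[(1,1),(2,1),(4,-5),(5,7),(6,1),(8,6),(10,-1),(11,-2)]],
    [[],[],[],[(4,-1)],[(5,-1)]],
    [[],[],[],[],[(8,-1)]],
    [[],[],[],[],[]]]

/-- Generators. -/
def threeGens : List ℕ := [0x4e45b273d088f81129e9dba5ed994cc1f220a894d51f29d7f9efa9247ec73a6ae46167349f5ddebee, 0x77ad7b96f315bc8fda2e254647fed6aa6f5582215044ffe44ea73241eef0e66e28e6452765a077d43, 0x6161f4f4e1c0ace01646e4f3672285ac53d649d271ec7a84fd532ae816a50f573ee38a6475583bfd0, 0x635534bfc0e9f825e92d5c86fe1b767dbb7a7a99795dfed2266c476392b49c5bd201ac408ef15268f, 0x18400d30c87ea13a57c973a1f8204e8432530d8c82d2e0c8a421114004f003d2d16c6cfd2196c4df]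

/-- Where they are. -/
def threeGensV : List ℕ := [40381491,83251431,140891342,37743259,28525458]

/-- Conjugating elements. -/
def threeConj : List ℕ := []

/-- Where they are. -/
def threeConjV : List ℕ := []

/-- The order of the elements. -/
def threeIdx : List ℕ := [122,24,1,103,207,46,44,16,111,83,73,106,221,41,54,30,174,149,136,42,77,26,216,12,39,215,74,140,124,99,112,76,200,164,199,148,33,70,21,171,183,2,23,45,227,178,225,71,13,57,15,91,0,228,240,108,165,60,38,6,84,212,63,153,156,18,159,7,210,49,80,120,52,177,241,208,61,220,150,202,98,123,179,48,4,147,186,163,113,82,66,218,93,206,78,104,232,5,181,131,10,115,81,129,118,96,85,95,158,142,204,146,237,29,175,184,97,192,67,211,219,170,135,68,217,233,100,213,86,160,194,155,121,109,195,197,19,25,162,191,101,51,116,169,50,119,145,114,222,110,128,37,92,55,53,102,236,198,172,137,239,9,151,133,196,3,188,8,238,189,89,161,173,214,187,35,65,79,144,167,127,231,166,154,223,69,22,126,88,90,134,130,234,14,205,242,20,141,28,62,72,58,56,209,176,32,193,185,235,203,132,201,157,226,47,27,229,139,59,152,138,143,180,43,40,87,94,117,36,105,125,190,17,64,182,224,31,107,75,34,230,11,168]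

theorem three_ok : PcJankoThree.certOK threeRules threeCert threeGens threeGensV threeConj threeConjV 52 threeIdx = true := by
  decide +kernel

/-- The relations. -/
def fiveRules : Pc.Rules where
  p := 5
  n := 1
  d := 1
  pw := [[]]
  cm := [[[]]]

/-- The certificate. -/
def fiveCert : Pc.Cert where
  eqns := []
  rows := []
  us := []
  ords := []
  ordComb := []
  shifts := [[]]
  pwComb := [[]]
  cmComb := [[[]]]

/-- Generators. -/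
def fiveGens : List ℕ := [0x646737378dc9f2e1e831fb48e9b72ff386a8720c78423054903f1c2f3046883186dcd36e40717038f]

/-- Where they are. -/
def fiveGensV : List ℕ := [122930178]

/-- Conjugating elements. -/
def fiveConj : List ℕ := []

/-- Where they are. -/
def fiveConjV : List ℕ := []

/-- The order of the elements. -/
def fiveIdx : List ℕ := [0,2,4,1,3]

theorem five_ok : PcJankoThree.certOK fiveRules fiveCert fiveGens fiveGensV fiveConj fiveConjV 2 fiveIdx = true := by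
  decide +kernel

/-- The relations. -/
def seventeenRules : Pc.Rules where
  p := 17
  n := 1
  d := 1
  pw := [[]]
  cm := [[[]]]

/-- The certificate. -/
def seventeenCert : Pc.Cert where
  eqns := []
  rows := []
  us := []
  ords := []
  ordComb := []
  shifts := [[]]
  pwComb := [[]]
  cmComb := [[[]]]

/-- Generators. -/
def seventeenGens : List ℕ := [0x5e0f7e42bf84fe932a50103c0c080259007d10154c0ff07cf03a287263b8749e1d864ed3a3cf94a29]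

/-- Where they are. -/
def seventeenGensV : List ℕ := [78268429]

/-- Conjugating elements. -/
def seventeenConj : List ℕ := []

/-- Where they are. -/
def seventeenConjV : List ℕ := []

/-- The order of the elements. -/
def seventeenIdx : List ℕ := [0,5,3,2,12,10,1,4,16,6,15,7,11,14,8,9,13]

theorem seventeen_ok : PcJankoThree.certOK seventeenRules seventeenCert seventeenGens seventeenGensV seventeenConj seventeenConjV 2 seventeenIdx = true := by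
  decide +kernel

/-- The relations. -/
def nineteenRules : Pc.Rules where
  p := 19
  n := 1
  d := 1
  pw := [[]]
  cm := [[[]]]

/-- The certificate. -/
def nineteenCert : Pc.Cert where
  eqns := []
  rows := []
  us := []
  ords := []
  ordComb := []
  shifts := [[]]
  pwComb := [[]]
  cmComb := [[[]]]

/-- Generators. -/
def nineteenGens : List ℕ := [0x18400d30c87ea13a5e87e253a410c94c21f20b4841b1704cf832214004f003d2d16c6cfb137d8cba]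

/-- Where they are. -/
def nineteenGensV : List ℕ := [33556584]

/-- Conjugating elements. -/
def nineteenConj : List ℕ := []

/-- Where they are. -/
def nineteenConjV : List ℕ := []

/-- The order of the elements. -/
def nineteenIdx : List ℕ := [1,17,9,6,10,18,2,13,0,8,11,4,3,14,12,5,15,7,16]

theorem nineteen_ok : PcJankoThree.certOK nineteenRules nineteenCert nineteenGens nineteenGensV nineteenConj nineteenConjV 2 nineteenIdx = true := by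
  decide +kernel

end CfsgLib.Schur.MultiplierJ3
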