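/-
The Schur multiplier of J3 has order three.
-/
import Cfsg.Agent.Lib.Schur.MultiplierJ3Data
import Cfsg.Agent.Lib.Schur.CriteriaElements

set_option autoImplicit false

namespace CfsgLib.Schur.MultiplierJ3

open Cfsg Cfsg.Spor CfsgLib.Sporadic CfsgLib.Sporadic.J3 CfsgLib.Schur

universe u

variable {F : Type u} [Field F] {ω : F} (h : FieldFour F ω)
include h

theorem span_three : Pc.SpanAt 3 (Cfsg.Spor.J3 F ω) [3] :=
  PcJankoThree.spanAt_of_certOK h (p := 3) three_ok rfl (d := 206720) (by norm_num)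
    (by norm_num [threeRules]) rfl rfl

theorem span_rest (p : ℕ) (hp : p.Prime) (h3 : p ≠ 3) : Pc.SpanAt p (Cfsg.Spor.J3 F ω) [] := by
  have : Fact p.Prime := ⟨hp⟩
  have := h.finite_threeJ3
  by_cases hd : p ∣ Nat.card (Cfsg.Spor.J3 F ω)
  · rw [h.card_J3, show (50232960 : ℕ) = 2 ^ 7 * 3 ^ 5 * 5 * 17 * 19 by norm_num] at hd
    rcases hp.dvd_mul.mp hd with hd | hd
    rcases hp.dvd_mul.mp hd with hd | hd
    rcases hp.dvd_mul.mp hd with hd | hd
    rcases hp.dvd_mul.mp hd with hd | hd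
    · obtain rfl := (Nat.prime_dvd_prime_iff_eq hp Nat.prime_two).mp (hp.dvd_of_dvd_pow hd)
      exact PcJankoThree.spanAt_of_certOK h (p := 2) two_ok rfl (d := 392445) (by norm_num)
        (by norm_num [twoRules]) rfl rfl
    · exact absurd ((Nat.prime_dvd_prime_iff_eq hp Nat.prime_three).mp (hp.dvd_of_dvd_pow hd)) h3
    · obtain rfl := (Nat.prime_dvd_prime_iff_eq hp (by norm_num)).mp hd
      exact PcJankoThree.spanAt_of_certOK h (p := 5) five_ok rfl (d := 10046592) (by norm_num)
        (by norm_num [fiveRules]) rfl rfl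
    · obtain rfl := (Nat.prime_dvd_prime_iff_eq hp (by norm_num)).mp hd
      exact PcJankoThree.spanAt_of_certOK h (p := 17) seventeen_ok rfl (d := 2954880) (by norm_num)
        (by norm_num [seventeenRules]) rfl rfl
    · obtain rfl := (Nat.prime_dvd_prime_iff_eq hp (by norm_num)).mp hd
      exact PcJankoThree.spanAt_of_certOK h (p := 19) nineteen_ok rfl (d := 2643840) (by norm_num)
        (by norm_num [nineteenRules]) rfl rfl
  · exact Pc.spanAt_of_noMultiplierAt hp (noMultiplierAt_of_not_dvd hd)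

theorem exists_cover : ∃ (Γ : Type u) (_ : Group Γ) (_ : Finite Γ) (σ : Γ →* Cfsg.Spor.J3 F ω),
    IsStemExtension σ ∧ Nonempty (σ.ker ≃* Multiplicative (ZMod 3)) := by
  have := h.finite_threeJ3
  have hk : (QuotientGroup.mk' (Subgroup.center (threeJ3 F ω))).ker =
      Subgroup.center (threeJ3 F ω) := QuotientGroup.ker_mk' _
  have hp : Fact (Nat.Prime 3) := ⟨Nat.prime_three⟩
  refine ⟨threeJ3 F ω, inferInstance, inferInstance,
    QuotientGroup.mk' (Subgroup.center (threeJ3 F ω)),
    ⟨QuotientGroup.mk'_surjective _, hk.le, hk.le.trans (PcJankoThree.center_le_commutator h)⟩,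
    ⟨mulEquivOfPrimeCardEq (p := 3) ?_ (by simp [Nat.card_eq_fintype_card])⟩⟩
  rw [hk, h.card_center]

theorem multiplier : Cfsg.HasCyclicSchurMultiplier (Cfsg.Spor.J3 F ω) 3 := by
  have := h.finite_threeJ3
  exact Pc.hasCyclicSchurMultiplier_of_spans (a := 3) (b := 1) (pa := 3) (pb := 2) rfl
    (by norm_num) (span_three h)
    (Pc.spanAt_one_of_spanAt_nil (span_rest h 2 Nat.prime_two (by norm_num)))
    (fun p hp h3 _ => span_rest h p hp h3) (exists_cover h)

end CfsgLib.Schur.MultiplierJ3
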