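import Cfsg.Agent.Lib.Spin.Basic
import Cfsg.Prelude.Def_KGroupFacts
import Mathlib.GroupTheory.Perm.Cycle.Type
import Mathlib.GroupTheory.Perm.Fin

/-!
# Double covers pulled back from the spin covers of the alternating groups

A simple group acting on a finite set, in which an involution moves `2 k` points with
`k (k - 1) / 2` odd, has a stem extension with kernel of order two.
-/

set_option autoImplicit false

noncomputable section

namespace CfsgLib.Schur.SpinPullback

open Cfsg CfsgLib.Spin CliffordAlgebra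

variable {n : ℕ}

theorem tr_anti {a b c d : Fin n} (hac : a ≠ c) (had : a ≠ d) (hbc : b ≠ c) (hbd : b ≠ d) :
    tr a b * tr c d = -(tr c d * tr a b) := by
  rw [tr, tr, smul_mul_smul_comm, smul_mul_smul_comm, ← smul_neg]
  congr 1
  rw [sub_mul, mul_sub, mul_sub, sub_mul, mul_sub, mul_sub, gen_anti hac, gen_anti had, gen_anti hbc,
    gen_anti hbd]
  abel

variable (n)

/-- The first point of the `j`-th pair. -/
def lft (k : ℕ) (h : 2 * k ≤ n) (j : Fin k) : Fin n := ⟨2 * j.val, by omega⟩

/-- The second point of the `j`-th pair. -/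
def rgt (k : ℕ) (h : 2 * k ≤ n) (j : Fin k) : Fin n := ⟨2 * j.val + 1, by omega⟩

/-- The product of the first `m` transpositions and of their lifts. -/
def pairPerm : ∀ m : ℕ, 2 * m ≤ n → Equiv.Perm (Fin n)
  | 0, _ => 1
  | m + 1, h => Equiv.swap (lft n (m + 1) h (Fin.last m)) (rgt n (m + 1) h (Fin.last m)) *
      pairPerm m (by omega)

/-- The lift. -/
def pairElt : ∀ m : ℕ, 2 * m ≤ n → Cl n
  | 0, _ => 1
  | m + 1, h => tr (lft n (m + 1) h (Fin.last m)) (rgt n (m + 1) h (Fin.last m)) *
      pairElt m (by omega)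

variable {n}

theorem lft_ne_rgt {k : ℕ} (h : 2 * k ≤ n) (j : Fin k) : lft n k h j ≠ rgt n k h j := by
  simp [lft, rgt, Fin.ext_iff]

theorem pairPerm_apply_of_ge : ∀ (m : ℕ) (h : 2 * m ≤ n) (i : Fin n), 2 * m ≤ i.val →
    pairPerm n m h i = i
  | 0, _, i, _ => rfl
  | m + 1, h, i, hi => by
    rw [pairPerm, Equiv.Perm.mul_apply, pairPerm_apply_of_ge m _ i (by omega),
      Equiv.swap_apply_of_ne_of_ne]
    · simp [lft, Fin.ext_iff]; omega
    · simp [rgt, Fin.ext_iff]; omega

theorem pairPerm_val : ∀ (m : ℕ) (h : 2 * m ≤ n) (i : Fin n), i.val < 2 * m →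
    (pairPerm n m h i).val = if i.val % 2 = 0 then i.val + 1 else i.val - 1
  | 0, _, i, hi => by omega
  | m + 1, h, i, hi => by
    rw [pairPerm, Equiv.Perm.mul_apply]
    rcases Nat.lt_or_ge i.val (2 * m) with hlt | hge
    · have hval := pairPerm_val m (by omega) i hlt
      rw [Equiv.swap_apply_of_ne_of_ne, hval]
      · intro e
        have := congrArg Fin.val e
        rw [hval] at this
        simp only [lft, Fin.val_last] at this
        split_ifs at this <;> omega
      · intro e
        have := congrArg Fin.val e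
        rw [hval] at this
        simp only [rgt, Fin.val_last] at this
        split_ifs at this <;> omega
    · rw [pairPerm_apply_of_ge m (by omega) i hge]
      rcases (show i.val = 2 * m ∨ i.val = 2 * m + 1 by omega) with e | e
      · rw [show i = lft n (m + 1) h (Fin.last m) from Fin.ext (by simp [lft, e]), Equiv.swap_apply_left]
        simp [lft, rgt]
      · rw [show i = rgt n (m + 1) h (Fin.last m) from Fin.ext (by simp [rgt, e]), Equiv.swap_apply_right]
        simp [lft, rgt]

theorem support_pairPerm (k : ℕ) (h : 2 * k ≤ n) :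
    (pairPerm n k h).support = Finset.univ.filter fun i : Fin n => i.val < 2 * k := by
  ext i
  simp only [Equiv.Perm.mem_support, Finset.mem_filter, Finset.mem_univ, true_and]
  refine ⟨fun hne => ?_, fun hlt e => ?_⟩
  · by_contra hge
    exact hne (pairPerm_apply_of_ge k h i (by omega))
  · have := pairPerm_val k h i hlt
    rw [e] at this
    split_ifs at this <;> omega

theorem card_support_pairPerm (k : ℕ) (h : 2 * k ≤ n) : (pairPerm n k h).support.card = 2 * k := by
  rw [support_pairPerm, Fin.card_filter_val_lt]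
  omega

theorem pairPerm_sq (k : ℕ) (h : 2 * k ≤ n) : pairPerm n k h ^ 2 = 1 := by
  rw [pow_two]
  refine Equiv.ext fun i => Fin.ext ?_
  rw [Equiv.Perm.mul_apply, Equiv.Perm.one_apply]
  rcases Nat.lt_or_ge i.val (2 * k) with hlt | hge
  · have h1 := pairPerm_val k h i hlt
    have h2 : (pairPerm n k h i).val < 2 * k := by rw [h1]; split_ifs <;> omega
    rw [pairPerm_val k h _ h2, h1]
    split_ifs <;> omega
  · rw [pairPerm_apply_of_ge k h i hge, pairPerm_apply_of_ge k h i hge]

theorem pairElt_mem_W : ∀ (m : ℕ) (h : 2 * m ≤ n), pairElt n m h ∈ W n m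
  | 0, _ => one_mem_W
  | m + 1, h => by
    rw [pairElt, W_congr (k := m + 1) (m := 1 + m) (by omega)]
    exact mul_mem_W (tr_mem_W _ _) (pairElt_mem_W m _)

theorem pairElt_reverse : ∀ (m : ℕ) (h : 2 * m ≤ n),
    reverse (pairElt n m h) * pairElt n m h = 1 ∧ pairElt n m h * reverse (pairElt n m h) = 1
  | 0, _ => by simp [pairElt]
  | m + 1, h => by
    obtain ⟨h1, h2⟩ := pairElt_reverse m (by omega)
    have ht := tr_sq (lft_ne_rgt h (Fin.last m))
    rw [pairElt, reverse.map_mul, reverse_tr]
    constructor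
    · rw [mul_assoc, ← mul_assoc (tr _ _), ht, one_mul, h1]
    · rw [mul_assoc, ← mul_assoc (pairElt n m _), h2, one_mul, ht]

theorem pairElt_mul_gen : ∀ (m : ℕ) (h : 2 * m ≤ n) (i : Fin n),
    pairElt n m h * gen i = (-1 : ℝ) ^ m • (gen (pairPerm n m h i) * pairElt n m h)
  | 0, _, i => by simp [pairElt, pairPerm]
  | m + 1, h, i => by
    rw [pairElt, mul_assoc, pairElt_mul_gen m (by omega) i, mul_smul_comm, ← mul_assoc,
      tr_mul_gen (lft_ne_rgt h _), pow_succ, mul_neg_one, neg_smul, neg_mul, smul_neg, mul_assoc]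
    rfl

/-- Later transpositions commute with the product up to a sign. -/
theorem pairElt_mul_tr : ∀ (m : ℕ) (h : 2 * m ≤ n) (a b : Fin n), 2 * m ≤ a.val → 2 * m ≤ b.val →
    pairElt n m h * tr a b = (-1 : ℝ) ^ m • (tr a b * pairElt n m h)
  | 0, _, a, b, _, _ => by simp [pairElt]
  | m + 1, h, a, b, ha, hb => by
    rw [pairElt, mul_assoc, pairElt_mul_tr m (by omega) a b (by omega) (by omega), mul_smul_comm,
      ← mul_assoc, tr_anti, pow_succ, mul_neg_one, neg_smul, neg_mul, smul_neg, mul_assoc]
    all_goals simp [lft, rgt, Fin.ext_iff]; omega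

theorem pairElt_sq : ∀ (m : ℕ) (h : 2 * m ≤ n),
    pairElt n m h * pairElt n m h = (-1 : ℝ) ^ (m * (m - 1) / 2) • (1 : Cl n)
  | 0, _ => by simp [pairElt]
  | m + 1, h => by
    have hm := pairElt_mul_tr m (show 2 * m ≤ n by omega) (lft n (m + 1) h (Fin.last m))
      (rgt n (m + 1) h (Fin.last m)) (by simp [lft]) (by simp [rgt])
    have ht := tr_sq (lft_ne_rgt h (Fin.last m))
    have e : (m + 1) * (m + 1 - 1) / 2 = m + m * (m - 1) / 2 := by
      rcases m with - | j
      · rfl
      · rw [show (j + 1 + 1) * (j + 1 + 1 - 1) = 2 * (j + 1) + (j + 1) * (j + 1 - 1) by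
          simp; ring, Nat.mul_add_div (by norm_num)]
    rw [pairElt, mul_assoc, ← mul_assoc (pairElt n m _), hm, smul_mul_assoc, mul_smul_comm, mul_assoc,
      ← mul_assoc (tr _ _), ht, one_mul, pairElt_sq m (by omega), smul_smul, e, pow_add]

/-- A lift of an involution with `2 k` moved points squares to the central involution. -/
theorem exists_lift_sq (k : ℕ) (h : 2 * k ≤ n) (hk : Even k) (hodd : Odd (k * (k - 1) / 2)) :
    ∃ u : spinAlt n, (toAlt n u : Equiv.Perm (Fin n)) = pairPerm n k h ∧ u * u = negOne n := by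
  obtain ⟨h1, h2⟩ := pairElt_reverse k h
  let v : (Cl n)ˣ := ⟨pairElt n k h, reverse (pairElt n k h), h2, h1⟩
  have hact : ∀ i, pairElt n k h * gen i = gen (pairPerm n k h i) * pairElt n k h := fun i => by
    rw [pairElt_mul_gen, hk.neg_one_pow, one_smul]
  have hW : pairElt n k h ∈ W n 0 := by
    rw [W_congr (k := 0) (m := k) (by rw [Nat.even_iff.1 hk])]
    exact pairElt_mem_W k h
  have hσ : pairPerm n k h ∈ alternatingGroup (Fin n) := by
    have hs : ∀ (m : ℕ) (hm : 2 * m ≤ n), Equiv.Perm.sign (pairPerm n m hm) = (-1) ^ m := by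
      intro m
      induction m with
      | zero => intro _; simp [pairPerm]
      | succ m ih =>
        intro hm
        rw [pairPerm, map_mul, Equiv.Perm.sign_swap (lft_ne_rgt hm _), ih, pow_succ, mul_comm]
    rw [Equiv.Perm.mem_alternatingGroup, hs, hk.neg_one_pow]
  refine ⟨⟨v, hW, h1, pairPerm n k h, hσ, hact⟩, permOf_eq _ hact, Subtype.ext (Units.ext ?_)⟩
  show pairElt n k h * pairElt n k h = -1
  rw [pairElt_sq, hodd.neg_one_pow, neg_one_smul]

/-- The same for every conjugate in the symmetric group, after relabelling. -/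
theorem exists_conj (k : ℕ) (h : 2 * k ≤ n) {π : Equiv.Perm (Fin n)} (h2 : π ^ 2 = 1)
    (hsupp : π.support.card = 2 * k) : ∃ s : Equiv.Perm (Fin n), s * π * s⁻¹ = pairPerm n k h := by
  refine isConj_iff.1 (Equiv.Perm.isConj_of_cycleType_eq ?_)
  have key : ∀ τ : Equiv.Perm (Fin n), τ ^ 2 = 1 → τ.support.card = 2 * k →
      τ.cycleType = Multiset.replicate k 2 := by
    intro τ ht hc
    have hall : ∀ b ∈ τ.cycleType, b = 2 := fun b hb => by
      have h3 : orderOf τ ∣ 2 := orderOf_dvd_of_pow_eq_one ht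
      have h4 := Nat.le_of_dvd (by norm_num) ((Equiv.Perm.dvd_of_mem_cycleType hb).trans h3)
      have h5 := Equiv.Perm.two_le_of_mem_cycleType hb
      omega
    rw [Multiset.eq_replicate]
    refine ⟨?_, hall⟩
    have h6 := τ.sum_cycleType
    rw [Multiset.eq_replicate_card.2 hall, Multiset.sum_replicate, hc, smul_eq_mul] at h6
    omega
  rw [key π h2 hsupp, key _ (pairPerm_sq k h) (card_support_pairPerm k h)]

section Pullback

variable {G : Type} [Group G] (φ : G →* alternatingGroup (Fin n))

/-- The pull back of the spin cover. -/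
def pullback : Subgroup (G × spinAlt n) :=
  MonoidHom.eqLocus (φ.comp (MonoidHom.fst _ _)) ((toAlt n).comp (MonoidHom.snd _ _))

/-- Its projection. -/
def proj : pullback φ →* G := (MonoidHom.fst _ _).comp (pullback φ).subtype

theorem proj_surjective : Function.Surjective (proj φ) := fun g => by
  obtain ⟨u, hu⟩ := toAlt_surjective n (φ g)
  exact ⟨⟨(g, u), hu.symm⟩, rfl⟩

/-- The central involution of the pull back. -/
def zed : pullback φ :=
  ⟨(1, negOne n), show φ 1 = toAlt n (negOne n) by
    rw [map_one, eq_comm, ← MonoidHom.mem_ker, ker_toAlt]; exact Subgroup.mem_zpowers _⟩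

theorem zed_sq : zed φ * zed φ = 1 := by
  have h2 : negOne n * negOne n = 1 := by
    rw [← pow_two, ← orderOf_negOne n]; exact pow_orderOf_eq_one _
  refine Subtype.ext (Prod.ext (one_mul 1) ?_)
  exact h2

theorem ker_cases {e : pullback φ} (he : e ∈ (proj φ).ker) : e = 1 ∨ e = zed φ := by
  have h1 : e.1.1 = 1 := he
  have h2 : e.1.2 ∈ (toAlt n).ker := by
    rw [MonoidHom.mem_ker, ← (show φ e.1.1 = toAlt n e.1.2 from e.2), h1, map_one]
  have := finite_spinAlt n
  classical
  rw [ker_toAlt, mem_zpowers_iff_mem_range_orderOf, orderOf_negOne] at h2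
  obtain ⟨i, hi, e2⟩ := Finset.mem_image.1 h2
  rw [Finset.mem_range] at hi
  interval_cases i
  · exact Or.inl (Subtype.ext (Prod.ext h1 (by simpa using e2.symm)))
  · exact Or.inr (Subtype.ext (Prod.ext h1 (by simpa [zed] using e2.symm)))

/-- **The cover.** -/
theorem exists_stem [Finite G] (hperf : commutator G = ⊤) {g : G} (hg : g * g = 1)
    {k : ℕ} (hsupp : (φ g : Equiv.Perm (Fin n)).support.card = 2 * k) (hk : Even k)
    (hodd : Odd (k * (k - 1) / 2))
    (hnorm : (φ g : Equiv.Perm (Fin n)) = pairPerm n k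
      (hsupp ▸ (Finset.card_le_univ _).trans_eq (Fintype.card_fin n))) :
    ∃ (Γ : Type) (_ : Group Γ) (_ : Finite Γ) (σ : Γ →* G),
      IsStemExtension σ ∧ Nonempty (σ.ker ≃* Multiplicative (ZMod 2)) := by
  obtain ⟨u0, hu0, hu2⟩ := exists_lift_sq k
    (hsupp ▸ (Finset.card_le_univ _).trans_eq (Fintype.card_fin n)) hk hodd
  have := finite_spinAlt n
  have hu : φ g = toAlt n u0 := Subtype.ext (hnorm.trans hu0.symm)
  let e0 : pullback φ := ⟨(g, u0), hu⟩
  have he : e0 * e0 = zed φ := Subtype.ext (Prod.ext hg hu2)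
  have hcomm : zed φ ∈ commutator (pullback φ) := by
    have hmap : (commutator (pullback φ)).map (proj φ) = ⊤ := by
      rw [map_commutator_eq, MonoidHom.range_eq_top.2 (proj_surjective φ)]
      exact hperf
    obtain ⟨c, hc, hcg⟩ := (hmap ▸ Subgroup.mem_top g : g ∈ (commutator (pullback φ)).map (proj φ))
    by_contra hz
    have hcc : c * c = 1 := by
      have hk2 : c * c ∈ (proj φ).ker := by
        rw [MonoidHom.mem_ker, map_mul, hcg, hg]
      rcases ker_cases φ hk2 with h | h
      · exact h
      · exact absurd (h ▸ mul_mem hc hc) hz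
    have hq : c⁻¹ * e0 ∈ (proj φ).ker := by
      rw [MonoidHom.mem_ker, map_mul, map_inv, hcg]
      exact inv_mul_cancel g
    have hzc : ∀ y : pullback φ, zed φ * y = y * zed φ := fun y =>
      Subtype.ext (Prod.ext ((one_mul _).trans (mul_one _).symm)
        ((Subgroup.mem_center_iff.1 (negOne_mem_center n) y.1.2).symm))
    rcases ker_cases φ hq with h | h
    · rw [inv_mul_eq_one] at h
      rw [← h, hcc] at he
      exact hz (he ▸ one_mem _)
    · rw [inv_mul_eq_iff_eq_mul] at h
      rw [h, mul_assoc, ← mul_assoc (zed φ), hzc c, mul_assoc c, zed_sq, mul_one, hcc] at he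
      exact hz (he ▸ one_mem _)
  have hker : Nat.card (proj φ).ker = 2 := by
    have hz : zed φ ∈ (proj φ).ker := rfl
    have hne : zed φ ≠ 1 := fun h =>
      negOne_ne_one n (congrArg (fun x : pullback φ => x.1.2) h)
    rw [Nat.card_eq_two_iff]
    refine ⟨1, ⟨zed φ, hz⟩, fun h => hne (congrArg Subtype.val h).symm,
      Set.eq_univ_iff_forall.2 fun y => ?_⟩
    rcases ker_cases φ y.2 with h | h
    · exact Or.inl (Subtype.ext h)
    · exact Or.inr (Subtype.ext h)
  have : Fact (Nat.Prime 2) := ⟨Nat.prime_two⟩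
  refine ⟨pullback φ, inferInstance, inferInstance, proj φ,
    ⟨proj_surjective φ, fun x hx => Subgroup.mem_center_iff.2 fun y => ?_, fun x hx => ?_⟩,
    ⟨mulEquivOfPrimeCardEq hker (by simp [Nat.card_eq_fintype_card])⟩⟩
  · rcases ker_cases φ hx with rfl | rfl
    · rw [mul_one, one_mul]
    · exact Subtype.ext (Prod.ext ((mul_one _).trans (one_mul _).symm)
        (Subgroup.mem_center_iff.1 (negOne_mem_center n) y.1.2))
  · rcases ker_cases φ hx with rfl | rfl
    · exact one_mem _
    · exact hcomm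

end Pullback

/-- **Double covers from actions.** -/
theorem exists_stem_of_action {G : Type} [Group G] [Finite G] (hperf : commutator G = ⊤)
    {α : Type*} [Fintype α] [DecidableEq α] (ψ : G →* Equiv.Perm α) {g : G} (hg : g * g = 1)
    {k : ℕ} (hsupp : (ψ g).support.card = 2 * k) (hk : Even k) (hodd : Odd (k * (k - 1) / 2)) :
    ∃ (Γ : Type) (_ : Group Γ) (_ : Finite Γ) (σ : Γ →* G),
      IsStemExtension σ ∧ Nonempty (σ.ker ≃* Multiplicative (ZMod 2)) := by
  classical
  set n := Fintype.card α with hn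
  let e : α ≃ Fin n := Fintype.equivFin α
  have hsupp' : (e.permCongr (ψ g)).support.card = 2 * k := by
    rw [← hsupp, ← Finset.card_map e.toEmbedding]
    congr 1
    ext i
    simp [Equiv.permCongr_apply, Equiv.apply_eq_iff_eq_symm_apply]
  have hle : 2 * k ≤ n := hsupp ▸ Finset.card_le_univ _
  have hsq : e.permCongr (ψ g) ^ 2 = 1 := by
    rw [pow_two, ← Equiv.permCongr_mul, ← map_mul, hg, map_one]
    ext i
    simp
  obtain ⟨s, hs⟩ := exists_conj k hle hsq hsupp'
  let Φ : G →* Equiv.Perm (Fin n) :=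
    (MulAut.conj s).toMonoidHom.comp (e.permCongrHom.toMonoidHom.comp ψ)
  have hΦg : Φ g = pairPerm n k hle := hs
  have halt : ∀ x, Φ x ∈ alternatingGroup (Fin n) := by
    intro x
    have h : commutator G ≤ (Equiv.Perm.sign.comp Φ).ker := by
      rw [_root_.commutator_def, Subgroup.commutator_le]
      intro a _ b _
      rw [MonoidHom.mem_ker, map_commutatorElement, commutatorElement_eq_one_iff_mul_comm]
      exact mul_comm _ _
    rw [hperf] at h
    exact Equiv.Perm.mem_alternatingGroup.2 (h (Subgroup.mem_top x))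
  have hle2 : ((Φ.codRestrict _ halt) g : Equiv.Perm (Fin n)).support.card = 2 * k := by
    show (Φ g).support.card = 2 * k
    rw [hΦg, card_support_pairPerm]
  exact exists_stem (Φ.codRestrict _ halt) hperf hg hle2 hk hodd hΦg

end CfsgLib.Schur.SpinPullback
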