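import Cfsg.Agent.Lib.Schur.MultiplierHSUpper
import Cfsg.Agent.Lib.Schur.SpinPullback
import Cfsg.Agent.Lib.Schur.PcAssemble
import Cfsg.Agent.S1642
import Cfsg.Agent.S1583
import Cfsg.Agent.Lib.Sporadic.ConwayPairOrders

/-!
# The multiplier of the Higman-Sims group
-/

set_option autoImplicit false

noncomputable section

namespace CfsgLib.Schur.MultiplierHS

open Cfsg CfsgLib.Golay CfsgLib.Schur CfsgLib.Golay.LeechOrbit CfsgLib.MonsterType
open scoped commutatorElement

/-- An element of the group as an automorphism. -/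
def toCo (x : Spor.HS) : Co0 := ⟨x.1, x.2.1.1⟩

theorem toCo_mem (x : Spor.HS) : toCo x ∈ consStab cs100 := by
  have h1 : toCo x • Spor.leechV = Spor.leechV := MulAction.mem_stabilizer_iff.1 x.2.1.2
  have h2 : toCo x • Spor.leechU' = Spor.leechU' := MulAction.mem_stabilizer_iff.1 x.2.2
  exact consStab2.2 ⟨h1, by rw [vecWL, smul_neg', smul_add', h1, h2]⟩

/-- The action on the hundred points. -/
def actHom : Spor.HS →* Equiv.Perm (consSet cs100) where
  toFun x := ⟨fun y => ⟨toCo x • y.1, smul_mem_consSet (toCo_mem x) y.2⟩,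
    fun y => ⟨(toCo x)⁻¹ • y.1, smul_mem_consSet (inv_mem (toCo_mem x)) y.2⟩,
    fun _ => Subtype.ext (inv_smul_smul _ _), fun _ => Subtype.ext (smul_inv_smul _ _)⟩
  map_one' := Equiv.ext fun y => Subtype.ext (show toCo 1 • y.1 = y.1 from one_smul Co0 y.1)
  map_mul' a b := Equiv.ext fun y =>
    Subtype.ext (show toCo (a * b) • y.1 = toCo a • toCo b • y.1 from mul_smul (toCo a) (toCo b) y.1)

theorem isSimpleGroup_HS : IsSimpleGroup Spor.HS := by
  have h : IsHS (Sporadic.ConwayPairs.pairStab Spor.leechU') :=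
    Sporadic.ConwayPairs.isHS_of_card Sporadic.PairOutApps.card_hs
  have := h.1
  have e : Spor.HS = (Sporadic.ConwayPairs.pairStab Spor.leechU').map Co0.subtype :=
    (Sporadic.PairOutApps.map_pairStab _).symm
  rw [e]
  exact ((Sporadic.ConwayPairs.pairStab Spor.leechU').equivMapOfInjective Co0.subtype
    Co0.subtype_injective).symm.isSimpleGroup

theorem commutator_HS : commutator Spor.HS = ⊤ := by
  have := isSimpleGroup_HS
  have := finite_HS
  rcases IsSimpleGroup.eq_bot_or_eq_top_of_normal (commutator Spor.HS)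
    inferInstance with h | h
  · exfalso
    have hc : IsMulCommutative Spor.HS := ⟨⟨fun a b => by
      have : ⁅a, b⁆ ∈ commutator Spor.HS :=
        Subgroup.commutator_mem_commutator (Subgroup.mem_top a) (Subgroup.mem_top b)
      rw [h, Subgroup.mem_bot, commutatorElement_eq_one_iff_mul_comm] at this
      exact this⟩⟩
    let _ : CommGroup Spor.HS := { (inferInstance : Group Spor.HS) with mul_comm := hc.is_comm.comm }
    have hp := IsSimpleGroup.prime_card (α := Spor.HS)
    rw [natCard_HS] at hp
    exact absurd hp (by norm_num)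
  · exact h

theorem exists_cover : ∃ (Γ : Type) (_ : Group Γ) (_ : Finite Γ) (σ : Γ →* Spor.HS),
    IsStemExtension σ ∧ Nonempty (σ.ker ≃* Multiplicative (ZMod 2)) := by
  classical
  have hV : sqNorm ((Spor.leechV : leechLattice) : GolayPt → ℤ) = 48 := by decide +kernel
  have hW : sqNorm ((vecWL : leechLattice) : GolayPt → ℤ) = 48 := by decide +kernel
  have hVW : dotInt ((Spor.leechV : leechLattice) : GolayPt → ℤ) (vecWL : GolayPt → ℤ) = -32 := by
    decide +kernel
  have hset : {x : leechLattice | sqNorm (x : GolayPt → ℤ) = 32 ∧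
      dotInt ((Spor.leechV : leechLattice) : GolayPt → ℤ) (x : GolayPt → ℤ) = 24 ∧
      dotInt ((vecWL : leechLattice) : GolayPt → ℤ) (x : GolayPt → ℤ) = -24} = consSet cs100 := by
    ext y
    rw [cs100, mem_cons2, Set.mem_ofPred_eq]
  have hcard : (consSet cs100).ncard = 100 := hset ▸ (Cfsg.Agent.S1583.result _ _ hV hW hVW).1
  obtain ⟨g, h1, h2, ho, hfree⟩ := Cfsg.Agent.S1642.result _ _ hV hW hVW
  have hU : g • Spor.leechU' = Spor.leechU' := by
    rw [vecWL, smul_neg', neg_inj, smul_add', h1] at h2
    exact add_left_cancel h2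
  let x : Spor.HS := ⟨g.1, ⟨g.2, MulAction.mem_stabilizer_iff.2 h1⟩, MulAction.mem_stabilizer_iff.2 hU⟩
  have hxx : x * x = 1 := by
    refine Subtype.ext ?_
    have := congrArg Subtype.val (pow_orderOf_eq_one g)
    rw [ho, pow_two] at this
    exact this
  have := finite_HS
  have : Finite (consSet cs100) := Nat.finite_of_card_ne_zero (by rw [Nat.card_coe_set_eq, hcard]; norm_num)
  let _ := Fintype.ofFinite (consSet cs100)
  refine SpinPullback.exists_stem_of_action commutator_HS actHom (g := x) hxx (k := 50) ?_ (by decide) (by decide)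
  have hall : (actHom x).support = Finset.univ := by
    refine Finset.eq_univ_of_forall fun y => Equiv.Perm.mem_support.2 fun e => ?_
    exact hfree y.1 (hset.symm ▸ y.2) (congrArg Subtype.val e)
  rw [hall, Finset.card_univ, ← Nat.card_eq_fintype_card, Nat.card_coe_set_eq, hcard]

/-- **The multiplier of the Higman-Sims group has order two.** -/
theorem multiplier : HasCyclicSchurMultiplier Spor.HS 2 := by
  have := finite_HS
  exact Pc.hasCyclicSchurMultiplier_of_spans (a := 2) (b := 1) (pa := 2) (pb := 3) rfl (Nat.coprime_one_right 2)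
    span_two (Pc.spanAt_one_of_spanAt_nil (span_rest 3 Nat.prime_three (by norm_num)))
    (fun p hp h2 _ => span_rest p hp h2) exists_cover

end CfsgLib.Schur.MultiplierHS
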