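/-
The Schur multiplier of M₁₁ is trivial.
-/
import Cfsg.Agent.Lib.Schur.CriteriaElements
import Cfsg.Agent.Lib.Schur.MathieuSubgroups
import Cfsg.Agent.Lib.Golay.Mathieu

set_option autoImplicit false

namespace CfsgLib.Schur.MultiplierM11

open Cfsg CfsgLib.Golay CfsgLib.Schur.GolayOut

/-- An element of `M11`. -/
def eltAPerm : Equiv.Perm GolayPt :=
  ⟨imgFun [0,18,12,4,3,17,8,5,16,9,23,7,13,6,10,20,1,11,2,15,21,22,14,19], imgFun [0,16,18,4,3,7,13,11,6,9,14,17,2,12,22,19,8,5,1,23,15,20,21,10], by decide +kernel, by decide +kernel⟩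

theorem eltA_mem : eltAPerm ∈ Cfsg.Spor.M11 := by
  rw [mem_M11_side, mem_M24_iff_isPres]
  decide +kernel

/-- The element as an element of the subgroup. -/
def eltA : Cfsg.Spor.M11 := ⟨eltAPerm, eltA_mem⟩

/-- An element of `M11`. -/
def eltBPerm : Equiv.Perm GolayPt :=
  ⟨imgFun [0,13,2,4,3,5,12,17,8,9,19,11,6,1,14,15,18,7,16,10,22,23,20,21], imgFun [0,13,2,4,3,5,12,17,8,9,19,11,6,1,14,15,18,7,16,10,22,23,20,21], by decide +kernel, by decide +kernel⟩

theorem eltB_mem : eltBPerm ∈ Cfsg.Spor.M11 := by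
  rw [mem_M11_side, mem_M24_iff_isPres]
  decide +kernel

/-- The element as an element of the subgroup. -/
def eltB : Cfsg.Spor.M11 := ⟨eltBPerm, eltB_mem⟩

/-- An element of `M11`. -/
def eltXPerm : Equiv.Perm GolayPt :=
  ⟨imgFun [0,1,4,3,12,20,8,7,13,18,10,22,2,6,19,14,9,11,16,15,21,5,17,23], imgFun [0,1,12,3,2,21,13,7,6,16,10,17,4,8,15,19,18,22,9,14,5,20,11,23], by decide +kernel, by decide +kernel⟩

theorem eltX_mem : eltXPerm ∈ Cfsg.Spor.M11 := by
  rw [mem_M11_side, mem_M24_iff_isPres]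
  decide +kernel

/-- The element as an element of the subgroup. -/
def eltX : Cfsg.Spor.M11 := ⟨eltXPerm, eltX_mem⟩

/-- An element of `M11`. -/
def eltYPerm : Equiv.Perm GolayPt :=
  ⟨imgFun [0,1,8,3,13,21,18,10,16,4,23,22,6,9,14,15,2,11,12,19,5,20,17,7], imgFun [0,1,16,3,9,20,12,23,2,13,7,17,18,4,14,15,8,22,6,19,21,5,11,10], by decide +kernel, by decide +kernel⟩

theorem eltY_mem : eltYPerm ∈ Cfsg.Spor.M11 := by
  rw [mem_M11_side, mem_M24_iff_isPres]
  decide +kernel

/-- The element as an element of the subgroup. -/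
def eltY : Cfsg.Spor.M11 := ⟨eltYPerm, eltY_mem⟩

/-- An element of `M11`. -/
def eltGPerm : Equiv.Perm GolayPt :=
  ⟨imgFun [0,3,8,1,12,14,6,20,4,13,5,23,9,16,11,17,18,7,2,22,15,19,10,21], imgFun [0,3,18,1,8,10,6,17,2,12,22,14,4,9,5,20,13,15,16,21,7,23,19,11], by decide +kernel, by decide +kernel⟩

theorem eltG_mem : eltGPerm ∈ Cfsg.Spor.M11 := by
  rw [mem_M11_side, mem_M24_iff_isPres]
  decide +kernel

/-- The element as an element of the subgroup. -/
def eltG : Cfsg.Spor.M11 := ⟨eltGPerm, eltG_mem⟩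

/-- An element of `M11`. -/
def eltFivePerm : Equiv.Perm GolayPt :=
  ⟨imgFun [0,6,16,2,1,5,12,17,8,3,10,23,18,9,22,11,13,14,4,21,7,15,20,19], imgFun [0,4,3,9,18,5,1,20,8,13,10,15,6,16,17,21,2,7,12,23,22,19,14,11], by decide +kernel, by decide +kernel⟩

theorem eltFive_mem : eltFivePerm ∈ Cfsg.Spor.M11 := by
  rw [mem_M11_side, mem_M24_iff_isPres]
  decide +kernel

/-- The element as an element of the subgroup. -/
def eltFive : Cfsg.Spor.M11 := ⟨eltFivePerm, eltFive_mem⟩

/-- An element of `M11`. -/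
def eltElevenPerm : Equiv.Perm GolayPt :=
  ⟨imgFun [0,12,3,16,18,5,9,10,2,4,21,22,8,1,15,20,6,7,13,23,17,11,19,14], imgFun [0,13,8,2,9,5,16,17,12,6,7,21,1,18,23,14,3,20,4,22,15,10,11,19], by decide +kernel, by decide +kernel⟩

theorem eltEleven_mem : eltElevenPerm ∈ Cfsg.Spor.M11 := by
  rw [mem_M11_side, mem_M24_iff_isPres]
  decide +kernel

/-- The element as an element of the subgroup. -/
def eltEleven : Cfsg.Spor.M11 := ⟨eltElevenPerm, eltEleven_mem⟩

theorem noMultiplier_two : NoMultiplierAt 2 Cfsg.Spor.M11 := by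
  refine noMultiplierAt_two_of_metacyclic_elements eltA eltB 3 0 8 495 ?_ ⟨3, rfl⟩
    (by decide +kernel) (by decide +kernel) (by decide +kernel) (by norm_num)
    (by rw [natCard_sporM11]) ?_
  · exact orderOf_eq_prime_pow (p := 2) (n := 2) (by decide +kernel) (by decide +kernel)
  · intro j hj k hk _ hk4
    push_cast at hj hk4 hk
    have h4 : (4 : ℤ) ∣ j := by
      obtain ⟨m, hm⟩ := hj
      exact ⟨m, by omega⟩
    exact dvd_trans hk4 (by norm_num; exact h4)

theorem noMultiplier_three : NoMultiplierAt 3 Cfsg.Spor.M11 := by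
  have : Fact (Nat.Prime 3) := ⟨by norm_num⟩
  exact noMultiplierAt_of_rank_two eltX eltY eltG 2 1 2 2 (by decide +kernel) (by decide +kernel)
    (show eltX * eltY = eltY * eltX by decide +kernel)
    (by
      intro i hi j hj h
      interval_cases i <;> interval_cases j <;>
        first
          | exact ⟨rfl, rfl⟩
          | (exfalso; revert h; decide +kernel))
    (by decide +kernel) (by decide +kernel) (by norm_num) 880 (by norm_num) (by rw [natCard_sporM11]; norm_num)

theorem noMultiplier_five : NoMultiplierAt 5 Cfsg.Spor.M11 := by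
  have : Fact (Nat.Prime 5) := ⟨by norm_num⟩
  refine noMultiplierAt_of_sylow_element eltFive 1 1584 ?_ (by norm_num) (by rw [natCard_sporM11]; norm_num)
  exact orderOf_eq_prime (by decide +kernel) (by decide +kernel)

theorem noMultiplier_eleven : NoMultiplierAt 11 Cfsg.Spor.M11 := by
  have : Fact (Nat.Prime 11) := ⟨by norm_num⟩
  refine noMultiplierAt_of_sylow_element eltEleven 1 720 ?_ (by norm_num) (by rw [natCard_sporM11]; norm_num)
  exact orderOf_eq_prime (by decide +kernel) (by decide +kernel)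

theorem multiplier : Cfsg.HasCyclicSchurMultiplier ↥Cfsg.Spor.M11 1 := by
  refine hasCyclicSchurMultiplier_one fun p hp => ?_
  have : Fact p.Prime := ⟨hp⟩
  by_cases hd : p ∣ Nat.card Cfsg.Spor.M11
  · rw [natCard_sporM11, show (7920 : ℕ) = 2 ^ 4 * 3 ^ 2 * 5 * 11 by norm_num] at hd
    rcases hp.dvd_mul.mp hd with hd | hd
    rcases hp.dvd_mul.mp hd with hd | hd
    rcases hp.dvd_mul.mp hd with hd | hd
    · rw [(Nat.prime_dvd_prime_iff_eq hp Nat.prime_two).mp (hp.dvd_of_dvd_pow hd)]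
      exact noMultiplier_two
    · rw [(Nat.prime_dvd_prime_iff_eq hp Nat.prime_three).mp (hp.dvd_of_dvd_pow hd)]
      exact noMultiplier_three
    · rw [(Nat.prime_dvd_prime_iff_eq hp (by norm_num)).mp hd]
      exact noMultiplier_five
    · rw [(Nat.prime_dvd_prime_iff_eq hp (by norm_num)).mp hd]
      exact noMultiplier_eleven
  · exact noMultiplierAt_of_not_dvd hd

end CfsgLib.Schur.MultiplierM11
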