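import Cfsg.Agent.Lib.Schur.GolayOutBase

/-! Generated data for the automorphisms of M11. -/

set_option autoImplicit false

namespace CfsgLib.Schur.OutM11

open Cfsg CfsgLib.Golay CfsgLib.Schur.GolaySearch CfsgLib.Schur.GolayOut

/-- `genA` -/
def genAL : List ℕ := [0,12,18,6,9,7,13,11,1,8,5,20,16,2,10,19,3,23,4,14,22,21,17,15]

/-- The permutation with image list `genAL`. -/
def genA : Equiv.Perm GolayPt :=
  ⟨imgFun genAL, imgFun [0,8,13,16,18,10,3,5,9,4,14,7,1,6,19,23,12,22,2,15,11,21,20,17], by decide +kernel, by decide +kernel⟩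

theorem toList_genA : toList genA = genAL := by decide +kernel

/-- `genB` -/
def genBL : List ℕ := [0,1,18,9,16,14,12,7,4,13,23,22,3,6,20,19,2,11,8,5,15,21,10,17]

/-- The permutation with image list `genBL`. -/
def genB : Equiv.Perm GolayPt :=
  ⟨imgFun genBL, imgFun [0,1,16,12,8,19,13,7,18,3,22,17,6,9,5,20,4,23,2,15,14,21,11,10], by decide +kernel, by decide +kernel⟩

theorem toList_genB : toList genB = genBL := by decide +kernel

/-- `genC` -/
def genCL : List ℕ := [0,1,2,13,18,11,6,21,16,12,20,15,3,9,10,22,4,14,8,23,17,7,5,19]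

/-- The permutation with image list `genCL`. -/
def genC : Equiv.Perm GolayPt :=
  ⟨imgFun genCL, imgFun [0,1,2,12,16,22,6,21,18,13,14,5,9,3,17,11,8,20,4,23,10,7,15,19], by decide +kernel, by decide +kernel⟩

theorem toList_genC : toList genC = genCL := by decide +kernel

/-- The straight-line program. -/
def prog : List (ℕ × ℕ) :=
  [(3,4),(2,1),(7,0),(7,8),(1,4),(0,5),(8,0),(6,0),(10,9),(5,4),(8,6),(0,7),
    (3,0),(11,0),(10,4),(9,19),(18,0),(21,21),(14,2),(18,21),(23,0),(0,12),(0,3),(11,5),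
    (15,0),(21,14),(17,25),(0,1),(13,2),(10,25),(33,11),(9,0),(36,13),(36,12),(35,0),(0,26),
    (27,0),(0,4),(37,0),(6,9),(11,14),(11,40),(1,18),(3,0),(22,0),(46,46),(37,19),(1,0),
    (0,44),(0,4),(19,6),(33,10),(54,0),(52,0),(53,10),(33,46),(29,47),(0,1),(1,0),(11,0),
    (24,61),(24,0),(2,0),(0,53),(0,39),(10,22),(30,66),(4,0),(0,2),(43,28),(35,75),(0,1),
    (25,68),(0,72),(0,2),(32,9),(9,66),(0,1),(52,36),(17,0),(3,0),(7,0),(23,25),(0,66),
    (0,70),(9,34),(88,0),(24,85),(28,0),(0,38),(0,3),(17,0),(49,22),(92,7),(35,0),(93,0),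
    (31,0),(3,45),(5,72),(72,0),(42,0),(27,0),(101,51),(35,0),(45,58),(0,110),(0,104),(0,3),
    (5,10),(72,0),(39,0)]

/-- Bottom of the stack. -/
def stack : List (List ℕ) :=
  [[0,1,2,12,16,22,6,21,18,13,14,5,9,3,17,11,8,20,4,23,10,7,15,19],
    [0,1,16,12,8,19,13,7,18,3,22,17,6,9,5,20,4,23,2,15,14,21,11,10],
    [0,8,13,16,18,10,3,5,9,4,14,7,1,6,19,23,12,22,2,15,11,21,20,17],
    [0,1,2,13,18,11,6,21,16,12,20,15,3,9,10,22,4,14,8,23,17,7,5,19],
    [0,1,18,9,16,14,12,7,4,13,23,22,3,6,20,19,2,11,8,5,15,21,10,17],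
    [0,12,18,6,9,7,13,11,1,8,5,20,16,2,10,19,3,23,4,14,22,21,17,15],
    [0,1,2,3,4,5,6,7,8,9,10,11,12,13,14,15,16,17,18,19,20,21,22,23]]

/-- Levels. -/
def lev : List (List ℕ) :=
  [[117,101,107,68,100,96,60,116,70,71,81],
    [117,42,88,86,110,79,82,83,109,94],
    [117,72,57,97,103,111,61,33,0],
    [117,14,19,29,9,36,3,26]]

/-- Targets. -/
def tg : List (List ℕ) :=
  [[1,2,3,4,6,8,9,12,13,16,18],
    [2,3,4,6,8,9,12,13,16,18],
    [3,4,6,8,9,12,13,16,18],
    [4,6,8,9,12,13,16,18]]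

/-- Base. -/
def base : List ℕ := [1,2,3,4]

/-- Stages for the centraliser of `genA`. -/
def stagesA : List Stage :=
  [([0], [], [0]),
  ([1,12,16,3,6,13,2,18,4,9,8], [340831], [1,2,3,4,6,8,9,12,13,16,18]),
  ([5,7,11,20,22,17,23,15,19,14,10], [6053905,42232,705094,1337732,5476616,4721045], [5,7,10,11,14,15,17,19,20,21,22,23]),
  ([21], [3277413,6554826,2702848,3719203,6594610,2675464], [5,7,10,11,14,15,17,19,20,21,22,23])]

/-- Stages for the elements acting on `genB` like `genC`. -/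
def stagesB : List Stage :=
  [([0], [], [0]),
  ([3,9,13,6,12], [], [1,2,3,4,6,8,9,12,13,16,18]),
  ([2,18,8,4,16], [], [1,2,3,4,6,8,9,12,13,16,18]),
  ([5,14,20,15,19], [1384564,361272,1090380,1839388,602472,1675812], [5,7,10,11,14,15,17,19,20,21,22,23]),
  ([10,23,17,11,22], [6053905,5476616,924689,5405696,126216,4800613], [5,7,10,11,14,15,17,19,20,21,22,23]),
  ([1], [705094,4424227,1053483,459847,1849378,4216883], [1,2,3,4,6,8,9,12,13,16,18]),
  ([7], [42232,1337732,4721045,84464,1410188,4593028], [5,7,10,11,14,15,17,19,20,21,22,23]),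
  ([21], [3277413,6554826,2702848,3719203,6594610,2675464], [5,7,10,11,14,15,17,19,20,21,22,23])]

end CfsgLib.Schur.OutM11
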