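/-
The outer automorphism group of M11: generation and rigidity.
-/
import Cfsg.Agent.Lib.Schur.MathieuSubgroups
import Cfsg.Agent.Lib.Schur.OutM11Data

set_option autoImplicit false

namespace CfsgLib.Schur.OutM11

open Cfsg CfsgLib.Golay CfsgLib.Schur.GolaySearch CfsgLib.Schur.GolayOut

theorem gens_side : (inG side11 genAL && inG side11 genBL && inG side11 genCL) = true := by
  decide +kernel

theorem gens_mem : ∀ x ∈ ({genA, genB, genC} : Set (Equiv.Perm GolayPt)), x ∈ Cfsg.Spor.M11 := by
  have h := gens_side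
  simp only [inG, Bool.and_eq_true] at h
  rintro x (rfl | rfl | rfl) <;>
    rw [mem_M11_side, mem_M24_iff_isPres] <;>
    simp only [toList_genA, toList_genB, toList_genC]
  exacts [h.1.1, h.1.2, h.2]

theorem stack_ok : ∀ l ∈ runProg prog stack,
    InSub (Subgroup.closure {genA, genB, genC}) l := by
  refine inSub_runProg _ _ (inSub_stack toList_genA toList_genB toList_genC rfl ?_ ?_)
  · decide +kernel
  · simp only [stack, List.forall_mem_cons]
    refine ⟨⟨genC⁻¹, ?_⟩, ⟨genB⁻¹, ?_⟩, ⟨genA⁻¹, ?_⟩, ⟨genC, ?_⟩, ⟨genB, ?_⟩, ⟨genA, ?_⟩, ⟨1, ?_⟩,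
      fun x hx => absurd hx List.not_mem_nil⟩ <;>
      decide +kernel

theorem closure_eq : Subgroup.closure {genA, genB, genC} = Cfsg.Spor.M11 := by
  refine closure_eq_dodecad 1 true ((Subgroup.closure_le _).mpr gens_mem) ?_
    (fun σ h => cand_M11 h) (base := base) (by decide +kernel) stack_ok (lev := lev) (tg := tg)
    (by decide +kernel) (by decide +kernel)
  exact fun σ hσ => by
    have h := (mem_M11_side σ).mp hσ
    rw [side11, Bool.and_eq_true] at h
    refine ⟨h.1, h.2.1, fun b hb => ?_⟩
    simp only [List.take_succ_cons, List.take_zero, List.mem_singleton] at hb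
    subst hb
    exact Nat.eq_of_beq_eq_true h.2.2

theorem out_check : outCheck side11 (sideCand true) genAL genBL genCL 11 3 2 stagesA stagesB
    [1, 10] [([0, 1, 1, 2], 3)] [1] = true := by
  decide +kernel

theorem card_out : Nat.card (Cfsg.Out Cfsg.Spor.M11) = 1 := by
  have : Fact (Nat.Prime 11) := ⟨by norm_num⟩
  have hle : Nat.card (Cfsg.Out Cfsg.Spor.M11) ≤ 1 :=
    card_out_le_golay side11 (sideCand true) mem_M11_side (fun σ h => cand_M11 h)
      toList_genA toList_genB toList_genC closure_eq 11 3 2 (by norm_num) stagesA stagesB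
      [1, 10] [([0, 1, 1, 2], 3)] [1] out_check
  exact card_out_eq_one hle

end CfsgLib.Schur.OutM11
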