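/-
Square matrices over the field of three elements packed in two bit planes.
-/
import Cfsg.Agent.Lib.Sporadic.MatF2

set_option autoImplicit false

namespace CfsgLib.Schur.MatFThree

open CfsgLib.Sporadic

variable (n : ℕ)

/-- Evaluate a number before using it: the kernel substitutes a literal. -/
def forceN {α : Sort*} (r : ℕ) (k : ℕ → α) : α := Nat.casesOn r (k 0) fun m => k (m + 1)

theorem forceN_eq {α : Sort*} (r : ℕ) (k : ℕ → α) : forceN r k = k r := by
  cases r <;> rfl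

/-- Put two planes together. -/
noncomputable def join (x y : ℕ) : ℕ := (x &&& (2 ^ (n * n) - 1)) ||| (y <<< (n * n))

/-- The plane of ones. -/
noncomputable def plane₁ (c : ℕ) : ℕ :=
  (c &&& (2 ^ (n * n) - 1)) ^^^ ((c &&& (2 ^ (n * n) - 1)) &&& (c >>> (n * n)))

/-- The plane of twos. -/
noncomputable def plane₂ (c : ℕ) : ℕ :=
  (c >>> (n * n)) ^^^ ((c >>> (n * n)) &&& (c &&& (2 ^ (n * n) - 1)))

/-- Entrywise sum. -/
noncomputable def add3 (r₁ r₂ y₁ y₂ : ℕ) : ℕ :=
  join n ((r₁ ^^^ (r₁ &&& (y₁ ||| y₂))) ||| (y₁ ^^^ (y₁ &&& (r₁ ||| r₂))) ||| (r₂ &&& y₂))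
    ((r₂ ^^^ (r₂ &&& (y₁ ||| y₂))) ||| (y₂ ^^^ (y₂ &&& (r₁ ||| r₂))) ||| (r₁ &&& y₁))

/-- Column `k` times row `k`, ones. -/
noncomputable def outer₁ (a₁ a₂ b₁ b₂ k : ℕ) : ℕ :=
  ((a₁ >>> k) &&& colMask n n) * ((b₁ >>> (n * k)) % 2 ^ n) |||
    ((a₂ >>> k) &&& colMask n n) * ((b₂ >>> (n * k)) % 2 ^ n)

/-- Column `k` times row `k`, twos. -/
noncomputable def outer₂ (a₁ a₂ b₁ b₂ k : ℕ) : ℕ :=
  ((a₁ >>> k) &&& colMask n n) * ((b₂ >>> (n * k)) % 2 ^ n) |||
    ((a₂ >>> k) &&& colMask n n) * ((b₁ >>> (n * k)) % 2 ^ n)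

/-- The partial products. -/
noncomputable def prodUpto (a₁ a₂ b₁ b₂ m : ℕ) : ℕ :=
  Nat.rec 0 (fun k r => forceN r fun r => forceN (outer₁ n a₁ a₂ b₁ b₂ k) fun y₁ =>
    forceN (outer₂ n a₁ a₂ b₁ b₂ k) fun y₂ =>
      add3 n (r &&& (2 ^ (n * n) - 1)) (r >>> (n * n)) y₁ y₂) m

/-- The packed product. -/
noncomputable def mulF3 (a b : ℕ) : ℕ :=
  forceN a fun a => forceN b fun b => forceN (plane₁ n a) fun a₁ => forceN (plane₂ n a) fun a₂ =>
    forceN (plane₁ n b) fun b₁ => forceN (plane₂ n b) fun b₂ => prodUpto n a₁ a₂ b₁ b₂ n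

/-- The value of a pair of bits. -/
def val3 (x y : Bool) : ZMod 3 := if x then (if y then 0 else 1) else (if y then 2 else 0)

/-- The matrix coded by `c`. -/
noncomputable def decF3 (c : ℕ) : Matrix (Fin n) (Fin n) (ZMod 3) :=
  Matrix.of fun i j => val3 (c.testBit (i.1 * n + j.1)) (c.testBit (n * n + (i.1 * n + j.1)))

/-- The code of the identity. -/
noncomputable def oneF3 : ℕ := oneF2 n

variable {n}

theorem pos_lt (i j : Fin n) : i.1 * n + j.1 < n * n := by
  have := i.2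
  have := j.2
  nlinarith

theorem testBit_low {m : ℕ} (hm : m < n * n) (c : ℕ) :
    (c &&& (2 ^ (n * n) - 1)).testBit m = c.testBit m := by
  rw [Nat.testBit_and, Nat.testBit_two_pow_sub_one, decide_eq_true hm, Bool.and_true]

theorem testBit_join_low {m : ℕ} (hm : m < n * n) (x y : ℕ) :
    (join n x y).testBit m = x.testBit m := by
  rw [join, Nat.testBit_or, testBit_low hm, Nat.testBit_shiftLeft, decide_eq_false (by omega),
    Bool.false_and, Bool.or_false]

theorem testBit_join_high {m : ℕ} (x y : ℕ) :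
    (join n x y).testBit (n * n + m) = y.testBit m := by
  rw [join, Nat.testBit_or, Nat.testBit_and, Nat.testBit_two_pow_sub_one,
    decide_eq_false (by omega), Bool.and_false, Bool.false_or, Nat.testBit_shiftLeft,
    decide_eq_true (by omega), Bool.true_and, Nat.add_sub_cancel_left]

theorem val3_xor_and : ∀ x y : Bool, val3 (x ^^ (x && y)) (y ^^ (y && x)) = val3 x y ∧
    ((x ^^ (x && y)) && (y ^^ (y && x))) = false := by
  decide

theorem plane_bits (c : ℕ) {m : ℕ} (hm : m < n * n) :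
    val3 ((plane₁ n c).testBit m) ((plane₂ n c).testBit m) =
      val3 (c.testBit m) (c.testBit (n * n + m)) ∧
      ((plane₁ n c).testBit m && (plane₂ n c).testBit m) = false := by
  simp only [plane₁, plane₂, Nat.testBit_xor, Nat.testBit_and, testBit_low hm,
    Nat.testBit_shiftRight, Nat.testBit_two_pow_sub_one, decide_eq_true hm, Bool.and_true]
  exact val3_xor_and _ _

theorem bit_step : ∀ r₁ r₂ a₁ a₂ b₁ b₂ : Bool, (r₁ && r₂) = false → (a₁ && a₂) = false →
    (b₁ && b₂) = false →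
    let y₁ := (a₁ && b₁) || (a₂ && b₂)
    let y₂ := (a₁ && b₂) || (a₂ && b₁)
    let s₁ := (r₁ ^^ (r₁ && (y₁ || y₂))) || (y₁ ^^ (y₁ && (r₁ || r₂))) || (r₂ && y₂)
    let s₂ := (r₂ ^^ (r₂ && (y₁ || y₂))) || (y₂ ^^ (y₂ && (r₁ || r₂))) || (r₁ && y₁)
    val3 s₁ s₂ = val3 r₁ r₂ + val3 a₁ a₂ * val3 b₁ b₂ ∧ (s₁ && s₂) = false := by
  decide

theorem testBit_outer (a b k : ℕ) (i j : Fin n) :
    (((a >>> k) &&& colMask n n) * ((b >>> (n * k)) % 2 ^ n)).testBit (i.1 * n + j.1) =
      (a.testBit (i.1 * n + k) && b.testBit (k * n + j.1)) := by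
  rw [testBit_spread_mul (Nat.mod_lt _ (Nat.two_pow_pos n)) _ _ _ ?_ j.2]
  · have hmask : (colMask n n).testBit (i.1 * n) = true := testBit_colMask.2 ⟨i.1, i.2, rfl⟩
    rw [Nat.testBit_and, Nat.testBit_shiftRight, hmask, Nat.testBit_mod_two_pow,
      Nat.testBit_shiftRight, Bool.and_true, Nat.add_comm k, Nat.mul_comm n k]
    simp [j.2]
  · intro m hm
    rw [Nat.testBit_and, Bool.and_eq_true] at hm
    obtain ⟨q, -, rfl⟩ := testBit_colMask.1 hm.2
    exact dvd_mul_left n q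

theorem prodUpto_bits (a₁ a₂ b₁ b₂ : ℕ)
    (ha : ∀ m < n * n, (a₁.testBit m && a₂.testBit m) = false)
    (hb : ∀ m < n * n, (b₁.testBit m && b₂.testBit m) = false) (i j : Fin n) :
    ∀ m ≤ n,
      val3 ((prodUpto n a₁ a₂ b₁ b₂ m).testBit (i.1 * n + j.1))
          ((prodUpto n a₁ a₂ b₁ b₂ m).testBit (n * n + (i.1 * n + j.1))) =
        ∑ k ∈ Finset.range m, val3 (a₁.testBit (i.1 * n + k)) (a₂.testBit (i.1 * n + k)) *
          val3 (b₁.testBit (k * n + j.1)) (b₂.testBit (k * n + j.1)) ∧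
      ((prodUpto n a₁ a₂ b₁ b₂ m).testBit (i.1 * n + j.1) &&
        (prodUpto n a₁ a₂ b₁ b₂ m).testBit (n * n + (i.1 * n + j.1))) = false := by
  have hp := pos_lt i j
  intro m
  induction m with
  | zero => intro _; simp [prodUpto, val3]
  | succ k ih =>
    intro hk
    obtain ⟨hval, hdis⟩ := ih (by omega)
    have hik : i.1 * n + k < n * n := by have := i.2; nlinarith
    have hkj : k * n + j.1 < n * n := by have := j.2; nlinarith
    rw [Finset.sum_range_succ, ← hval]
    have h := bit_step _ _ _ _ _ _ hdis (ha _ hik) (hb _ hkj)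
    rw [show prodUpto n a₁ a₂ b₁ b₂ (k + 1) = add3 n
        (prodUpto n a₁ a₂ b₁ b₂ k &&& (2 ^ (n * n) - 1)) (prodUpto n a₁ a₂ b₁ b₂ k >>> (n * n))
        (outer₁ n a₁ a₂ b₁ b₂ k) (outer₂ n a₁ a₂ b₁ b₂ k) by simp [prodUpto, forceN_eq]]
    simp only [add3, testBit_join_low hp, testBit_join_high, Nat.testBit_or, Nat.testBit_and,
      Nat.testBit_xor, testBit_low hp, Nat.testBit_shiftRight, outer₁, outer₂, testBit_outer,
      Nat.testBit_two_pow_sub_one, decide_eq_true hp, Bool.and_true]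
    exact h

theorem decF3_mulF3 (a b : ℕ) : decF3 n (mulF3 n a b) = decF3 n a * decF3 n b := by
  ext i j
  simp only [decF3, mulF3, forceN_eq, Matrix.of_apply, Matrix.mul_apply]
  rw [(prodUpto_bits _ _ _ _ (fun m hm => (plane_bits a hm).2) (fun m hm => (plane_bits b hm).2)
    i j n le_rfl).1, ← Fin.sum_univ_eq_sum_range]
  refine Finset.sum_congr rfl fun k _ => ?_
  rw [(plane_bits a (pos_lt i k)).1, (plane_bits b (pos_lt k j)).1]

theorem decF3_oneF3 : decF3 n (oneF3 n) = 1 := by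
  ext i j
  have h := congrFun (congrFun (decF2_oneF2 (n := n)) i) j
  have hhigh : (oneF2 n).testBit (n * n + (i.1 * n + j.1)) = false := by
    rw [Bool.eq_false_iff]
    intro hb
    obtain ⟨k, hk, e⟩ := testBit_colMask.1 hb
    have := i.2
    have := j.2
    nlinarith
  simp only [decF2, Matrix.of_apply, Matrix.one_apply] at h
  simp only [decF3, oneF3, Matrix.of_apply, Matrix.one_apply, hhigh]
  revert h
  by_cases hij : i = j <;> cases (oneF2 n).testBit (i.1 * n + j.1) <;> simp [hij, val3]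

end CfsgLib.Schur.MatFThree

namespace CfsgLib.Schur.MatFThree

open CfsgLib.Sporadic

variable {n : ℕ}

/-- A code that only depends on the matrix. -/
noncomputable def keyF3 (n c : ℕ) : ℕ := join n (plane₁ n c) (plane₂ n c &&& (2 ^ (n * n) - 1))

theorem bits_of_val3 : ∀ x y x' y' : Bool, val3 x y = val3 x' y' →
    ((x ^^ (x && y)) = (x' ^^ (x' && y')) ∧ (y ^^ (y && x)) = (y' ^^ (y' && x'))) := by
  decide

theorem keyF3_eq {a b : ℕ} (h : decF3 n a = decF3 n b) : keyF3 n a = keyF3 n b := by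
  have hb : ∀ m < n * n, (plane₁ n a).testBit m = (plane₁ n b).testBit m ∧
      (plane₂ n a).testBit m = (plane₂ n b).testBit m := by
    intro m hm
    have hn : 0 < n := by
      rcases Nat.eq_zero_or_pos n with rfl | hp
      · simp at hm
      · exact hp
    have h' := congrFun (congrFun h ⟨m / n, (Nat.div_lt_iff_lt_mul hn).2 hm⟩)
      ⟨m % n, Nat.mod_lt _ hn⟩
    simp only [decF3, Matrix.of_apply, Nat.div_add_mod'] at h'
    simp only [plane₁, plane₂, Nat.testBit_xor, Nat.testBit_and, testBit_low hm,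
      Nat.testBit_shiftRight, Nat.testBit_two_pow_sub_one, decide_eq_true hm, Bool.and_true]
    exact bits_of_val3 _ _ _ _ h'
  have hkey : ∀ x y : ℕ, (∀ m < n * n, x.testBit m = y.testBit m) →
      x &&& (2 ^ (n * n) - 1) = y &&& (2 ^ (n * n) - 1) := by
    intro x y hxy
    refine Nat.eq_of_testBit_eq fun m => ?_
    rw [Nat.testBit_and, Nat.testBit_and, Nat.testBit_two_pow_sub_one]
    by_cases hm : m < n * n
    · rw [hxy m hm]
    · simp [hm]
  simp only [keyF3, join, hkey _ _ fun m hm => (hb m hm).1, hkey _ _ fun m hm => (hb m hm).2]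

theorem key_ne {a b : ℕ} (h : keyF3 n a ≠ keyF3 n b) : decF3 n a ≠ decF3 n b :=
  fun e => h (keyF3_eq e)

end CfsgLib.Schur.MatFThree

namespace CfsgLib.Schur.MatFThree

variable {n : ℕ}

theorem decF3_keyF3 (c : ℕ) : decF3 n (keyF3 n c) = decF3 n c := by
  ext i j
  have hp := pos_lt i j
  simp only [decF3, keyF3, Matrix.of_apply, testBit_join_low hp, testBit_join_high, testBit_low hp]
  exact (plane_bits c hp).1

theorem decF3_eq_of_key {a b : ℕ} (h : keyF3 n a = keyF3 n b) : decF3 n a = decF3 n b := by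
  rw [← decF3_keyF3 a, h, decF3_keyF3]

end CfsgLib.Schur.MatFThree
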