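/-
The order of a subgroup given polycyclically, from separating invariants along its series.
-/
import Cfsg.Agent.Lib.Schur.PcCriteria
import Mathlib.RingTheory.Int.Basic
import Mathlib.RingTheory.Coprime.Lemmas

set_option autoImplicit false

namespace CfsgLib.Schur.Pc

open Subgroup

universe u

variable {G : Type u} [Group G] [Finite G]

/-- A property holding at one and kept under right multiplication by generators holds on the
subgroup they generate. -/
theorem closure_induction_right_finite {S : Set G} {P : G → Prop} (h1 : P 1)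
    (hstep : ∀ x, P x → ∀ s ∈ S, P (x * s)) {x : G} (hx : x ∈ closure S) : P x := by
  rw [← mem_toSubmonoid, closure_toSubmonoid_of_finite] at hx
  induction hx using Submonoid.closure_induction_right with
  | one => exact h1
  | mul_right x _ y hy hP => exact hstep x hP y hy

theorem pow_injOn_of_notMem {K : Subgroup G} {x : G} {p : ℕ} (hp : p.Prime) (hpow : x ^ p ∈ K)
    (hx : x ∉ K) : Function.Injective fun e : Fin p × K => x ^ e.1.1 * e.2.1 := by
  have key : ∀ a b : Fin p, a.1 ≤ b.1 → ∀ u v : K, x ^ a.1 * u.1 = x ^ b.1 * v.1 → a = b := by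
    intro a b hab u v e
    by_contra hne
    have hd : (b.1 - a.1) < p := by omega
    have hd0 : 0 < b.1 - a.1 := Nat.sub_pos_of_lt (lt_of_le_of_ne hab fun h => hne (Fin.ext h))
    have hmem : x ^ (b.1 - a.1) ∈ K := by
      have h1 : x ^ (b.1 - a.1) * v.1 = u.1 := by
        apply mul_left_cancel (a := x ^ a.1)
        rw [← mul_assoc, ← pow_add, Nat.add_sub_cancel' hab, e]
      rw [eq_mul_inv_of_mul_eq h1]
      exact mul_mem u.2 (inv_mem v.2)
    have hcop : Nat.Coprime (b.1 - a.1) p :=
      (hp.coprime_iff_not_dvd.mpr (Nat.not_dvd_of_pos_of_lt hd0 hd)).symm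
    obtain ⟨s, t, hst⟩ := (Nat.isCoprime_iff_coprime.mpr hcop : IsCoprime _ _)
    refine hx ?_
    have : x = (x ^ (b.1 - a.1)) ^ s * (x ^ p) ^ t := by
      rw [← zpow_natCast x (b.1 - a.1), ← zpow_natCast x p, ← zpow_mul, ← zpow_mul, ← zpow_add,
        mul_comm _ s, mul_comm _ t, hst, zpow_one]
    rw [this]
    exact mul_mem (zpow_mem hmem s) (zpow_mem hpow t)
  rintro ⟨a, u⟩ ⟨b, v⟩ e
  simp only at e
  have hab : a = b := by
    rcases le_total a.1 b.1 with h | h
    · exact key a b h u v e
    · exact (key b a h v u e.symm).symm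
  subst hab
  exact Prod.ext rfl (Subtype.ext (mul_left_cancel e))

/-- The generators span at least `p ^ n` elements when each is told apart from the later ones. -/
theorem le_card_of_separators {R : Rules} {C : Cert} {gs cg : ℕ → G} (hG : Holds R C gs cg)
    (hshape : R.shapeOK = true) (hp : R.p.Prime) (P : ℕ → G → Prop) (h1 : ∀ i < R.n, P i 1)
    (hstep : ∀ i j, i < j → j < R.n → ∀ x, P i x → P i (x * gs j))
    (hno : ∀ i < R.n, ¬ P i (gs i)) :
    R.p ^ R.n ≤ Nat.card (closure (gs '' Set.Iio R.n)) := by
  simp only [Rules.shapeOK, Bool.and_eq_true, Nat.blt_eq, Nat.ble_eq, List.all_eq_true,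
    List.mem_range] at hshape
  obtain ⟨⟨-, hpw⟩, -⟩ := hshape
  suffices h : ∀ m i, i + m = R.n →
      R.p ^ m ≤ Nat.card (closure (gs '' Set.Ico i R.n)) by
    have := h R.n 0 (Nat.zero_add _)
    rwa [show Set.Ico 0 R.n = Set.Iio R.n by ext; simp] at this
  intro m
  induction m with
  | zero => intro i _; simp only [pow_zero]; exact Nat.card_pos
  | succ m ih =>
    intro i hi
    have hin : i < R.n := by omega
    set K := closure (gs '' Set.Ico (i + 1) R.n)
    have hxK : gs i ∉ K := fun hmem => hno i hin (closure_induction_right_finite (S := gs '' Set.Ico (i + 1) R.n) (P := P i) (h1 i hin)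
      (fun x hx s hs => by
        obtain ⟨j, hj, rfl⟩ := hs
        exact hstep i j hj.1 hj.2 x hx) hmem)
    have hpow : gs i ^ R.p ∈ K := by
      rw [hG.pow i hin]
      exact ev_mem fun k hk => subset_closure (Set.mem_image_of_mem gs
        (show k ∈ Set.Ico (i + 1) R.n from hpw i hin k hk))
    have hle : K ≤ closure (gs '' Set.Ico i R.n) :=
      closure_mono (Set.image_mono (Set.Ico_subset_Ico_left (Nat.le_succ i)))
    have hinj := pow_injOn_of_notMem hp hpow hxK
    let f : Fin R.p × K → closure (gs '' Set.Ico i R.n) := fun e =>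
      ⟨gs i ^ e.1.1 * e.2.1, mul_mem (pow_mem (subset_closure
        (Set.mem_image_of_mem gs (show i ∈ Set.Ico i R.n from ⟨le_rfl, hin⟩))) _)
        (hle e.2.2)⟩
    have hf : Function.Injective f := fun a b e => hinj (congrArg Subtype.val e)
    have := Nat.card_le_card_of_injective f hf
    rw [Nat.card_prod, Nat.card_fin] at this
    calc R.p ^ (m + 1) = R.p * R.p ^ m := by ring
      _ ≤ R.p * Nat.card K := Nat.mul_le_mul_left _ (ih (i + 1) (by omega))
      _ ≤ _ := this

end CfsgLib.Schur.Pc
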