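import Cfsg.Agent.Lib.Schur.PcMathieu

/-! Generated polycyclic certificates for the multiplier of M24. -/

set_option autoImplicit false
set_option maxRecDepth 20000

namespace CfsgLib.Schur.MultiplierM24

open CfsgLib.Schur CfsgLib.Schur.GolayOut

/-- The relations. -/
def twoRules : Pc.Rules where
  p := 2
  n := 10
  d := 4
  pw := [[],[9],[5],[],[],[],[],[],[],[]]
  cm := [[[],[],[4],[6],[],[7,9],[],[],[],[]],[[],[],[5],[9],[7],[],[],[],[9],[]],[[],[],[],[],[7,9],[],[8],[9],[9],[]],[[],[],[],[],[8],[],[],[9],[],[]],[[],[],[],[],[],[9],[],[],[],[]],[[],[],[],[],[],[],[9],[],[],[]],[[],[],[],[],[],[],[],[],[],[]],[[],[],[],[],[],[],[],[],[],[]],[[],[],[],[],[],[],[],[],[],[]],[[],[],[],[],[],[],[],[],[],[]]]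

/-- The certificate. -/
def twoCert : Pc.Cert where
  eqns := [.assoc [1] [1] [0],
    .assoc [1] [0] [0],
    .assoc [2] [1] [0],
    .assoc [3] [1] [0],
    .assoc [4] [1] [0],
    .assoc [5] [1] [0],
    .assoc [2] [2] [0],
    .assoc [2] [0] [0],
    .assoc [3] [2] [0],
    .assoc [4] [2] [0],
    .assoc [5] [2] [0],
    .assoc [6] [2] [0],
    .assoc [8] [2] [0],
    .assoc [9] [2] [0],
    .assoc [3] [3] [0],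
    .assoc [3] [0] [0],
    .assoc [4] [3] [0],
    .assoc [5] [3] [0],
    .assoc [7] [3] [0],
    .assoc [8] [3] [0],
    .assoc [9] [3] [0],
    .assoc [4] [4] [0],
    .assoc [5] [4] [0],
    .assoc [5] [5] [0],
    .assoc [5] [0] [0],
    .assoc [8] [5] [0],
    .assoc [6] [6] [0],
    .assoc [1] [1] [1],
    .assoc [2] [2] [1],
    .assoc [2] [1] [1],
    .assoc [3] [2] [1],
    .assoc [4] [2] [1],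
    .assoc [6] [2] [1],
    .assoc [8] [2] [1],
    .assoc [9] [2] [1],
    .assoc [3] [3] [1],
    .assoc [4] [3] [1],
    .assoc [8] [3] [1],
    .assoc [4] [4] [1],
    .assoc [8] [4] [1],
    .assoc [5] [5] [1],
    .assoc [8] [8] [1],
    .assoc [3] [3] [2],
    .assoc [4] [3] [2],
    .assoc [6] [3] [2],
    .assoc [6] [6] [2],
    .fuse 0 [[0,1,6,7,8,9],[0,1,6,8]] [[1,2,3,9],[1,2,3,7]] [0,1] [1,0],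
    .fuse 0 [[0,1,8,9],[6,9]] [[4,6,8,9],[1,2,3,4,6,7,8,9]] [0,1] [1,0],
    .fuse 0 [[0],[0,1,8,9]] [[4,5,6,8],[4,6,8,9]] [0,1] [1,0],
    .fuse 0 [[6,7,9],[0]] [[1,2,3,4,5,6,7,8,9],[4,5,6,8]] [0,1] [1,0],
    .fuse 1 [[1,2,4,6,7],[3,4,6,9]] [[0,1,2,3,5],[0,1,2,3,4,5,6]] [0,1] [1,0],
    .fuse 1 [[1,2,3,7,9],[4,5,6,8,9]] [[8,9],[1,2,3,4,5,6,7,9]] [0,1] [1,0],
    .fuse 1 [[1,2,4,5,6,7,9],[1,2,3,5,7,8,9]] [[0,1,2,3,4,5,6,9],[7]] [0,1] [1,0],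
    .fuse 2 [[5,8],[1,6,9]] [[3,5,8,9],[1,5,6,7,8,9]] [0,1] [1,0]]
  rows := [[0,0,0,0,0,0,0,0,0,0,0,(-2),0,0,0,0,0,0,0,1],
    [0,0,0,0,0,0,0,0,0,0,0,2],
    [0,0,0,0,0,0,0,0,0,0,0,0,0,0,0,1,0,0,0,0,0,0,0,0,(-1),0,0,0,0,0,0,0,0,0,0,0,0,0,0,0,0,0,0,0,0,0,0,0,0,0,0,0,0,0,0,(-1),0,0,0,0,0,0,0,0,0,0,0,0,0,0,0,0,0,0,0,0,0,0,0,0,0,0,0,0,0,0,0,0,0,(-1)],
    [0,0,0,0,0,0,0,0,0,0,0,0,0,0,0,0,0,0,0,1,0,0,0,0,0,0,(-1),0,0,0,0,0,0,0,0,0,0,0,0,0,0,0,0,0,0,0,0,0,0,0,0,0,0,0,0,0,0,0,0,0,0,0,0,0,0,0,0,0,0,0,0,0,0,0,0,0,0,0,0,(-1)],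
    [0,0,0,0,0,0,0,0,0,0,0,0,0,0,0,0,0,1],
    [0,0,0,0,0,0,0,0,0,0,0,0,0,0,0,0,0,0,0,0,0,0,0,0,0,0,0,(-1),0,(-1)],
    [0,0,0,0,(-1),0,0,0,0,(-1),0,0,(-2),0,0,1,0,0,0,0,0,0,0,0,0,0,0,0,0,0,0,0,0,0,(-1),0,0,0,0,0,0,0,0,0,0,0,0,0,0,0,0,0,0,0,0,(-2),0,(-1),0,0,0,0,0,0,0,0,0,0,0,0,0,0,0,0,0,0,0,0,0,0,0,0,0,0,0,0,0,0,0,(-2)],
    [0,0,0,0,1,0,0,0,0,0,0,0,2,0,1],
    [0,0,0,0,0,0,0,0,0,0,0,0,0,0,0,0,0,0,0,0,0,0,0,0,0,0,0,0,0,0,0,0,0,0,0,0,(-1),0,0,0,0,0,0,0,1,0,0,0,0,0,0,0,0,0,0,0,(-1),0,(-1),0,0,0,0,0,0,0,0,0,0,0,0,0,0,0,0,0,0,0,1],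
    [0,0,0,0,0,0,0,0,0,0,0,0,0,0,0,0,0,1,0,1,0,0,0,0,0,0,0,0,0,0,0,0,0,0,0,0,0,0,0,0,0,0,0,0,0,0,0,0,0,0,0,0,0,0,0,0,0,(-1),0,(-1)],
    [0,0,0,0,0,0,0,0,0,(-1),0,0,0,0,0,0,0,0,0,0,0,0,0,0,0,0,0,0,0,0,0,0,0,0,0,0,0,(-1),0,(-1),0,0,0,0,0,0,0,0,0,0,0,0,0,0,0,(-1),0,(-1),0,0,0,0,0,0,0,0,0,0,0,0,0,0,0,0,0,0,0,0,0,0,0,0,0,0,0,0,0,0,0,(-1)],
    [0,0,0,0,0,0,0,0,0,0,0,0,0,0,0,0,0,0,1,0,0,0,0,0,0,0,0,0,0,0,0,0,0,0,0,0,0,0,0,0,0,0,0,0,0,0,0,0,0,0,0,0,0,0,0,0,(-1),0,(-1)],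
    [0,0,0,0,0,0,0,0,0,0,0,0,0,0,0,0,0,0,0,1,0,0,0,0,0,0,0,0,0,0,0,0,0,0,0,0,0,0,0,0,0,0,0,0,0,0,0,0,0,0,0,0,0,0,0,0,0,0,(-1),(-1)],
    [0,0,0,0,0,0,0,0,0,0,0,0,0,0,0,0,0,0,0,0,0,0,0,0,0,0,0,0,0,0,0,0,0,0,0,0,0,0,0,0,0,0,0,0,0,0,0,0,0,0,0,0,0,0,0,0,0,0,0,(-1)],
    [0,0,0,0,0,0,(-1),0,0,0,0,0,0,(-2),0,0,0,0,0,0,0,0,0,0,0,0,0,0,0,0,0,0,0,0,0,0,0,0,0,0,0,0,0,0,0,0,(-1)],
    [0,0,0,0,0,0,1,0,0,0,0,0,0,2,0,0,1],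
    [0,0,0,0,0,0,0,0,0,0,0,0,0,0,0,0,0,0,1,0,0,0,0,0,0,0,0,0,0,0,0,0,0,0,0,0,0,0,0,0,0,0,0,0,0,0,0,0,0,0,0,0,0,0,0,0,1,0,0,0,0,0,0,0,0,0,0,0,0,0,0,0,0,0,0,0,0,0,(-1)],
    [0,0,0,0,0,0,0,0,0,0,0,0,0,0,0,0,0,0,0,0,0,0,0,0,0,0,0,0,0,0,0,0,0,0,0,0,0,0,0,0,0,0,0,0,0,0,0,(-1),0,(-1),0,0,0,0,0,0,0,0,0,0,0,0,0,0,0,0,1,0,0,0,0,0,0,0,0,0,0,(-1),0,0,0,0,0,0,0,0,0,0,0,1],
    [0,0,0,0,0,0,0,0,0,0,0,0,0,0,0,0,0,0,0,1,0,0,0,0,0,0,0,0,0,0,0,0,0,0,0,0,0,0,0,0,0,0,0,0,0,0,0,0,0,0,0,0,0,0,0,0,0,0,0,0,0,0,0,0,0,0,0,0,0,0,0,0,0,0,0,0,0,(-1),0,(-1)],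
    [0,0,0,0,0,0,0,0,0,0,0,0,0,0,0,0,0,0,0,0,0,0,0,0,0,0,0,0,0,0,0,0,0,0,0,0,0,0,0,0,0,0,0,0,0,0,0,0,0,0,0,0,0,0,0,0,0,0,0,0,0,0,0,0,0,0,0,0,0,0,0,0,0,0,0,0,0,0,(-1)],
    [0,0,0,0,0,0,0,0,0,0,0,0,0,0,0,0,0,0,0,0,0,0,0,0,0,0,0,0,0,0,0,0,0,0,0,0,0,0,0,0,0,0,0,0,0,0,0,0,0,0,0,0,0,0,0,0,0,0,0,0,0,0,0,0,0,0,0,0,0,0,0,0,0,0,0,0,0,0,0,(-1)],
    [0,0,0,0,0,0,0,0,0,0,0,0,0,0,(-2)],
    [0,0,0,0,0,0,0,0,0,0,0,0,0,0,0,0,0,0,0,1,0,0,0,0,0,0,0,0,0,0,0,0,0,0,0,0,0,0,0,0,0,0,0,0,0,0,0,0,0,0,0,0,0,0,0,0,0,(-1),0,(-1),0,0,0,0,0,0,0,0,0,0,0,0,0,0,0,0,0,0,0,0,0,0,0,0,0,0,0,0,0,(-1)],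
    [0,0,0,0,0,0,0,(-1),0,(-1),0,0,0,0,0,(-2),0,0,0,0,0,0,0,0,0,0,0,0,0,0,0,0,0,0,0,0,0,0,0,0,0,0,0,0,0,0,0,0,0,0,0,0,0,0,0,0,0,0,0,0,0,0,0,0,0,0,0,(-1),0,(-1),0,0,0,0,0,0,0,0,0,0,0,0,0,0,0,0,0,0,0,(-1)],
    [0,0,0,0,0,0,0,1,0,1,0,0,0,0,0,2,0,1,0,1,0,0,0,0,0,0,0,0,0,0,0,0,0,0,0,0,0,0,0,0,0,0,0,0,0,0,0,0,0,0,0,0,0,0,0,0,0,0,0,0,0,0,0,0,0,0,0,0,0,0,0,0,0,0,0,0,0,0,0,0,0,0,0,0,0,0,0,0,0,1],
    [0,0,0,0,0,0,0,0,0,0,0,0,0,0,0,0,0,0,0,0,0,0,0,0,0,0,0,0,0,0,0,0,0,0,0,0,0,0,0,0,0,0,0,0,0,0,0,0,0,0,0,0,0,0,0,0,0,0,0,0,0,0,0,0,0,0,0,0,0,0,0,0,0,0,0,0,0,0,0,0,0,0,0,0,0,0,0,0,(-1),0,0,0,0,0,0,0,0,0,0,1],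
    [0,0,0,0,0,0,0,0,0,0,0,0,0,0,0,0,(-2)],
    [0,0,0,0,0,0,0,0,0,0,0,0,0,0,0,0,0,0,0,0,0,0,0,0,0,0,0,0,0,1],
    [0,0,0,0,0,(-1),0,0,0,0,0,0,0,0,0,0,0,0,0,0,0,0,(-2),0,0,1,0,0,0,0,0,0,0,0,0,(-1)],
    [0,0,0,0,0,1,0,0,0,0,0,0,0,0,0,0,0,0,0,0,0,0,2,0,0,1,0,0,0,0,0,0,0,0,0,0,0,0,0,1,0,0,0,0,0,0,0,0,0,0,0,0,0,0,0,0,0,0,0,0,0,0,0,0,0,0,0,0,0,2],
    [0,0,0,0,0,0,0,0,0,0,0,0,0,0,0,0,0,0,0,0,0,0,0,0,0,0,0,0,0,0,0,0,0,0,0,0,0,0,0,(-1),0,0,0,0,0,1,0,0,0,0,0,0,0,0,0,0,0,0,0,0,0,0,0,0,0,0,0,0,0,(-1)],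
    [0,0,0,0,0,0,0,0,0,0,0,0,0,0,0,0,0,0,0,0,0,0,0,0,0,0,0,1,0,1,0,0,0,0,0,0,0,(-1),0,0,0,0,0,0,0,0,0,0,0,0,0,0,0,0,0,1,0,0,0,0,0,0,0,0,0,0,0,0,0,0,0,0,0,0,0,0,0,0,0,0,0,0,0,0,0,0,0,0,0,1],
    [0,0,0,0,0,0,0,0,0,0,0,0,0,0,0,0,0,0,0,0,0,0,0,0,0,0,0,0,1,0,0,0,0,0,0,0,0,0,0,0,0,0,0,0,0,0,0,0,0,0,0,0,0,0,0,0,0,0,0,0,0,0,0,0,0,0,(-1),0,(-1),0,0,0,0,0,0,0,0,0,0,0,0,0,0,0,0,0,0,0,0,0,0,0,0,0,0,0,0,0,0,(-1)],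
    [0,0,0,0,0,0,0,0,0,0,0,0,0,0,0,0,0,0,0,0,0,0,0,0,0,0,0,0,0,1,0,0,0,0,0,0,0,0,0,(-1),0,0,0,0,0,0,0,0,0,0,0,0,0,0,0,0,0,0,0,0,0,0,0,0,0,0,0,0,(-1)],
    [0,0,0,0,0,0,0,0,0,0,0,0,0,0,0,0,0,0,0,0,0,0,0,0,0,0,0,0,0,0,0,0,0,0,0,0,0,0,0,0,0,0,0,0,0,0,0,0,0,0,0,0,0,0,0,0,0,0,0,0,0,0,0,0,0,0,0,0,0,(-1)],
    [0,0,0,0,0,0,0,0,0,(-1),0,0,0,0,0,0,0,0,0,0,0,0,0,(-2),0,0,0,0,0,0,0,0,0,0,0,0,0,0,0,0,0,0,0,0,0,0,0,0,0,(-1)],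
    [0,0,0,0,0,0,0,0,0,0,0,0,0,0,0,0,0,0,0,0,0,0,0,0,0,0,0,0,1,0,0,0,0,0,0,0,0,0,0,0,0,0,0,0,0,0,0,(-1),0,0,0,0,0,0,0,0,0,0,0,1,0,0,0,0,0,0,0,0,0,0,0,0,0,0,0,0,0,0,0,0,0,0,0,0,0,0,0,0,(-1),1,0,0,0,0,0,0,0,0,0,1],
    [0,0,0,0,0,0,0,0,0,0,0,0,0,0,0,0,0,0,0,0,0,0,0,0,0,0,0,0,0,0,0,0,0,0,0,0,0,0,0,0,0,0,0,0,0,0,0,0,0,(-1),0,0,0,0,0,0,0,0,0,0,0,0,0,0,0,0,0,0,0,0,0,0,0,0,0,0,0,0,0,0,0,0,0,0,0,0,0,0,0,0,0,0,0,0,0,0,0,0,0,1],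
    [0,0,0,0,0,0,0,(-1),0,0,0,0,0,0,0,0,0,0,0,0,0,0,0,0,(-2),0,0,0,0,0,0,0,0,0,0,0,0,0,0,0,0,0,0,0,0,0,0,0,0,0,0,0,0,0,0,0,0,(-1)],
    [0,0,0,0,0,0,0,0,0,0,0,0,0,0,0,0,0,0,0,0,0,0,0,0,0,0,0,0,0,0,0,0,0,0,0,0,0,0,0,0,0,0,0,0,0,0,0,0,0,0,0,0,0,0,0,0,0,0,0,(-1),0,0,0,0,0,0,0,0,0,0,0,0,0,0,0,0,0,0,0,0,0,0,0,0,0,0,0,0,(-1),(-1)],
    [0,0,0,0,0,0,0,0,0,0,0,0,0,0,0,0,0,0,0,0,0,0,0,0,0,(-2)],
    [0,0,0,0,0,0,0,0,0,(-1),0,0,0,0,0,0,0,0,0,0,0,0,0,0,0,0,0,0,(-2),0,0,0,0,0,0,0,0,0,0,0,0,0,0,0,0,0,0,0,0,0,0,0,0,0,0,0,0,0,0,0,0,0,0,0,0,0,0,0,0,0,0,0,0,0,0,0,0,0,0,0,0,0,0,0,0,0,0,0,0,0,0,0,0,0,0,0,0,0,0,(-1)],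
    [0,0,0,0,0,0,0,0,0,0,0,0,0,0,0,0,0,0,0,0,0,0,0,0,0,0,0,0,0,0,0,0,0,(-2)],
    [0,0,0,0,0,0,0,0,0,0,0,0,0,0,0,0,0,0,0,0,0,0,0,0,0,0,0,0,0,0,0,0,0,0,0,0,0,0,1,0,0,0,0,0,0,0,0,(-1),0,(-1),0,0,0,0,0,0,0,0,0,0,0,0,0,0,0,0,0,0,0,0,0,0,0,0,0,0,0,0,0,0,0,0,0,0,0,0,0,0,(-1),0,0,0,0,0,0,0,0,0,0,1],
    [0,0,0,0,0,0,0,0,0,0,0,0,0,0,0,0,0,0,0,0,0,0,0,0,0,0,0,0,0,0,0,0,0,0,0,0,0,0,0,0,0,0,0,0,0,0,0,0,(-1)],
    [0,0,0,0,0,0,0,0,(-1),0,0,0,0,0,0,0,0,0,0,0,0,0,0,0,0,0,0,0,0,0,0,0,0,0,0,0,(-2),0,0,0,0,0,0,0,0,0,0,0,0,0,0,0,0,0,0,0,0,0,0,0,0,0,0,0,0,0,0,0,0,0,0,0,0,0,0,0,0,0,(-1)],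
    [0,0,0,0,0,0,0,0,0,(-1),0,0,0,0,0,0,0,(-1),0,(-1),0,0,0,0,0,0,0,(-2),0,0,0,0,0,0,0,0,0,(-1),0,1,0,0,0,0,0,0,0,(-1),0,0,0,0,0,0,0,0,0,0,0,0,0,0,0,0,0,0,0,0,0,0,0,0,0,0,0,0,0,(-1),0,(-1),0,0,0,0,0,0,0,0,1,0,0,0,0,0,0,0,0,0,0,(-1)],
    [0,0,0,0,0,0,0,1,1,2,0,0,0,0,0,0,1,0,0,1,0,0,0,0,1,0,2,0,1,2,0,0,0,0,1,0,1,1,1,0,0,0,0,0,1,0,1,0,0,1,0,0,0,0,0,0,0,(-1),0,0,0,0,0,0,0,0,0,0,0,0,0,0,0,0,0,0,0,1,0,0,0,0,0,0,0,0,0,0,2,2,0,0,0,0,0,0,0,0,0,2],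
    [0,0,0,0,0,0,0,0,0,0,0,1,0,0,0,0,0,0,1,1,0,0,0,0,0,0,0,0,0,0,0,0,0,0,0,0,0,0,0,0,0,0,0,0,0,0,0,0,0,0,0,0,0,0,0,1,0,0,0,(-1),0,0,0,0,0,0,(-1),0,(-1),(-1),0,0,0,0,0,0,0,0,0,2,0,0,0,0,0,0,0,0,0,0,0,0,0,0,0,0,0,0,0,1],
    [0,0,0,0,0,0,0,(-1),(-1),(-2),0,0,0,0,0,0,(-1),(-1),0,(-1),0,0,0,0,(-1),(-1),(-1),0,(-1),0,0,0,0,0,(-1),(-1),(-1),(-1),(-1),(-1),0,0,0,0,(-1),(-1),(-1),0,0,0,0,0,0,0,0,0,0,1,0,1,0,0,0,0,0,0,0,(-1),(-1),(-2),0,0,0,0,0,0,0,(-1),(-1),0,0,0,0,0,0,0,0,0,(-2),1],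
    [0,0,0,0,0,0,0,2,1,3,0,0,0,0,(-1),0,(-1),0,0,0,0,0,0,1,2,0,2,0,0,1,0,0,0,1,2,0,2,0,0,(-1),0,0,0,0,0,0,0,(-1),(-1),0,0,0,0,0,0,3,0,0,0,0,0,0,0,0,0,0,1,1,1,2,0,0,0,0,0,0,0,3,0,3,0,0,0,0,0,0,0,0,2,7,0,0,0,0,0,0,0,0,0,2],
    [0,0,0,0,0,0,0,1,1,3,0,0,0,0,0,0,0,0,0,0,0,0,0,0,1,1,1,0,2,2,0,0,0,0,1,1,1,1,2,0,0,0,0,0,1,1,1,0,1,2,0,0,0,0,0,0,0,(-1),1,0,0,0,0,0,0,0,0,1,2,1,0,0,0,0,0,0,0,1,2,1,0,0,0,0,0,0,0,0,3,3,0,0,0,0,0,0,0,0,0,(-1)],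
    [0,0,0,0,0,0,0,(-1),(-1),(-1),0,0,0,0,0,0,0,(-1),0,0,0,0,0,1,(-1),0,(-1),(-1),1,0,0,0,0,1,(-1),0,(-1),0,1,(-1),0,0,0,0,(-1),1,(-1),(-2),(-1),(-1),0,0,0,0,0,(-1),0,0,1,(-1),0,0,0,0,0,0,(-1),(-2),0,1,0,0,0,0,0,0,0,(-2),0,1],
    [0,0,0,0,0,0,0,0,0,0,0,0,0,0,0,0,0,0,0,0,0,0,0,1,0,0,0,0,0,1,0,0,0,0,0,0,0,0,0,0,0,0,0,0,0,(-1),(-1),(-1),(-1),(-1),0,0,0,0,0,0,0,0,0,0,0,0,0,0,0,0,0,(-1),0,3,0,0,0,0,0,0,0,0,0,0,0,0,0,0,0,0,0,0,1,0,0,0,0,0,0,0,0,0,0,(-1)]]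
  us := []
  ords := []
  ordComb := []
  shifts := [[],[],[],[],[0,0,0,0,0,0,0,0,0,0,0,0,1],[0,0,0,0,0,0,0,0,0,0,0,0,0,0,0,0,0,0,0,0,0,0,1],[0,0,0,0,0,0,0,0,0,0,0,0,0,1],[0,0,0,0,0,0,0,0,0,0,0,0,0,0,0,0,0,0,0,0,0,0,0,0,1],[0,0,0,0,0,0,0,0,0,0,0,0,0,0,0,0,0,0,0,0,0,0,0,0,0,0,0,0,0,0,0,0,0,0,0,0,0,0,0,0,0,0,0,0,1],[0,0,0,0,0,0,0,0,0,0,0,0,0,0,0,0,0,0,0,0,0,0,0,0,0,0,0,0,0,0,0,0,0,0,0,0,0,1]]
  pwComb := [[],[],[],[],[(0,2),(1,2),(3,-7),(4,32),(5,22),(6,-2),(7,-1),(8,4),(9,-50),(10,7),(11,-2),(12,-5),(13,54),(14,-4),(15,-4),(16,2),(17,14),(18,-3),(19,3),(20,21),(21,-1),(22,51),(23,3),(24,4),(25,42),(26,-4),(27,53),(30,1),(31,-1),(32,16),(33,-17),(34,-1),(36,-10),(37,-30),(38,-1),(39,-61),(41,-1),(43,8),(44,-2),(45,-3),(46,-11),(47,-5),(49,-2),(50,1),(51,-2),(52,-1)],[(0,3),(1,3),(2,-2),(3,1),(4,8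),(5,-1),(9,-7),(10,1),(13,2),(17,2),(18,-2),(19,-1),(20,1),(22,5),(23,-1),(25,3),(27,1),(28,-1),(30,1),(31,-1),(32,2),(33,-3),(34,-2),(36,-2),(37,-1),(38,1),(39,-1),(40,-1),(47,1),(49,1)],[(0,8),(1,8),(2,-10),(4,12),(5,-5),(9,-18),(10,5),(12,-1),(13,14),(15,1),(17,3),(18,-3),(19,-1),(20,2),(22,8),(24,5),(25,10),(26,1),(27,6),(31,-5),(32,3),(33,-4),(34,1),(36,-4),(37,-6),(38,5),(39,-8),(41,-1),(43,1),(44,-1),(49,-1),(51,-1)],[(0,9),(1,9),(2,-16),(3,-6),(4,67),(5,27),(8,4),(9,-103),(10,17),(11,-2),(12,-8),(13,98),(14,-4),(15,-4),(16,2),(17,25),(18,-5),(20,27),(21,-1),(22,85),(23,6),(24,14),(25,72),(26,-4),(27,83),(30,2),(31,-7),(32,29),(33,-31),(34,-2),(36,-19),(37,-49),(38,7),(39,-93),(41,-1),(43,12),(44,-4),(45,-2),(46,-16),(47,-6),(49,-4),(50,2),(51,-4),(52,-2)],[(0,1),(1,1),(8,2),(11,-1),(12,-1),(13,1),(16,1),(19,2),(45,-1)],[(0,-4),(1,-4),(2,2),(4,1),(5,5),(9,-2),(10,-1),(13,2),(17,1),(18,1),(20,1),(22,4),(24,-1),(27,5),(31,1),(32,1),(33,-1),(36,1),(37,-1),(38,-1),(39,-3),(41,1),(46,-2)]]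
  cmComb := [[[],[(0,4),(1,4),(2,-5),(3,-5),(4,35),(5,18),(6,-1),(7,-1),(8,3),(9,-54),(10,9),(11,-2),(12,-4),(13,52),(14,-3),(15,-3),(16,1),(17,15),(18,-4),(19,2),(20,21),(21,-1),(22,48),(23,3),(24,6),(25,41),(26,-3),(27,50),(30,1),(31,-3),(32,16),(33,-18),(34,-2),(36,-11),(37,-29),(38,2),(39,-55),(41,-1),(43,7),(44,-2),(45,-2),(46,-10),(47,-4),(48,1),(49,-2),(50,1),(51,-2),(52,-1)],[],[],[(0,2),(1,2),(3,-7),(4,32),(5,22),(6,-2),(7,-2),(8,4),(9,-50),(10,7),(11,-2),(12,-5),(13,54),(14,-4),(15,-4),(16,2),(17,14),(18,-3),(19,3),(20,21),(21,-2),(22,51),(23,3),(24,4),(25,42),(26,-4),(27,53),(30,1),(31,-1),(32,16),(33,-17),(34,-1),(36,-10),(37,-30),(38,-1),(39,-61),(41,-1),(43,8),(44,-2),(45,-3),(46,-11),(47,-5),(49,-2),(50,1),(51,-2),(52,-1)],[(0,-1),(1,-1),(2,7),(3,-4),(4,-2),(5,6),(6,-2),(7,-2),(8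,2),(9,2),(10,-1),(11,-1),(12,-1),(13,4),(14,-2),(15,-2),(16,1),(17,1),(18,-1),(19,3),(20,7),(21,-1),(22,7),(24,-2),(25,6),(26,-2),(27,9),(31,2),(32,1),(33,-1),(36,-1),(37,-5),(38,-4),(39,-13),(41,-1),(43,2),(45,-2),(46,-2),(47,-2)],[(0,8),(1,8),(2,-10),(4,12),(5,-5),(9,-18),(10,5),(12,-1),(13,14),(17,3),(18,-3),(19,-1),(20,2),(22,8),(24,5),(25,10),(27,6),(31,-5),(32,3),(33,-4),(34,1),(36,-4),(37,-6),(38,5),(39,-8),(41,-1),(43,1),(44,-1),(49,-1),(51,-1)],[(4,1)],[(0,5),(1,5),(2,-5),(3,-5),(4,33),(5,16),(6,-1),(7,-1),(8,3),(9,-51),(10,8),(11,-1),(12,-5),(13,52),(14,-3),(15,-3),(16,2),(17,13),(18,-3),(19,1),(20,17),(21,-1),(22,46),(23,3),(24,6),(25,39),(26,-3),(27,46),(30,1),(31,-3),(32,15),(33,-16),(34,-1),(36,-10),(37,-27),(38,2),(39,-53),(41,-1),(43,7),(44,-2),(45,-2),(46,-9),(47,-4),(49,-2),(50,1),(51,-2),(52,-1)],[(0,1),(1,1)]],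
    [[],[],[],[(0,-7),(1,-7),(2,12),(4,-16),(5,4),(9,25),(10,-6),(12,1),(13,-19),(14,-1),(15,-1),(17,-4),(18,3),(19,1),(20,-3),(22,-13),(23,-1),(24,-7),(25,-9),(26,-1),(27,-10),(30,1),(31,6),(32,-4),(33,5),(34,2),(36,3),(37,6),(38,-6),(39,10),(43,-1),(46,1),(49,1),(51,1),(53,1)],[],[(0,-2),(1,-2),(3,-1),(4,-6),(9,4),(17,-2),(18,2),(19,1),(20,-1),(22,-4),(23,1),(24,1),(25,-3),(27,-1),(28,1),(29,1),(30,-1),(32,-2),(33,3),(34,4),(36,2),(37,1),(39,1),(40,1),(47,-1),(49,-1)],[(0,1),(1,1),(3,-1),(20,1)],[(5,-1),(27,-1)],[(0,3),(1,3),(2,-2),(4,1),(5,-3),(9,-1),(10,1),(18,-1),(22,-1),(24,1),(25,1),(27,-2),(31,-1),(36,-1),(38,1),(39,1),(41,-1),(46,1)],[(27,1)]],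
    [[],[],[],[(0,13),(1,13),(2,-14),(3,-9),(4,66),(5,25),(6,-2),(7,-2),(8,6),(9,-100),(10,17),(11,-3),(12,-8),(13,95),(14,-5),(15,-5),(16,3),(17,25),(18,-8),(19,3),(20,34),(21,-2),(22,86),(23,5),(24,13),(25,73),(26,-5),(27,84),(31,-8),(32,28),(33,-30),(34,-1),(36,-20),(37,-50),(38,6),(39,-96),(41,-2),(43,12),(44,-4),(45,-4),(46,-16),(47,-7),(49,-4),(50,2),(51,-4),(52,-1),(53,-1)],[(0,-4),(1,-4),(2,9),(3,3),(4,-36),(5,-16),(6,-1),(7,-1),(8,-2),(9,55),(10,-8),(11,1),(12,4),(13,-52),(14,2),(15,2),(16,-1),(17,-13),(18,2),(20,-14),(22,-45),(23,-3),(24,-7),(25,-36),(26,2),(27,-44),(30,-1),(31,3),(32,-15),(33,16),(34,1),(36,9),(37,25),(38,-4),(39,48),(43,-6),(44,2),(45,1),(46,9),(47,3),(49,2),(50,-1),(51,2),(52,1)],[(0,-1),(1,-1),(2,2),(4,-2),(5,1),(9,3),(10,-1),(13,-2),(22,-1),(24,-1),(28,-1),(29,-1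),(31,1),(34,-2),(38,-1),(40,-1)],[(0,4),(1,4),(2,-5),(3,-5),(4,33),(5,16),(6,-1),(7,-1),(8,2),(9,-51),(10,8),(11,-1),(12,-4),(13,51),(14,-3),(15,-3),(16,1),(17,13),(18,-3),(19,1),(20,17),(21,-1),(22,46),(23,3),(24,6),(25,39),(26,-3),(27,46),(30,1),(31,-3),(32,15),(33,-16),(34,-1),(36,-10),(37,-27),(38,2),(39,-53),(41,-1),(43,7),(44,-2),(45,-2),(46,-9),(47,-4),(49,-2),(50,1),(51,-2),(52,-1)],[],[(0,5),(1,5),(2,-4),(4,5),(5,-4),(9,-6),(10,2),(13,3),(17,1),(18,-2),(20,1),(22,2),(24,2),(25,5),(27,-1),(31,-2),(32,1),(33,-1),(36,-3),(37,-2),(38,2),(39,-2),(41,-1),(43,1),(46,1)],[(0,-1),(1,-1),(2,2),(4,-2),(5,1),(9,3),(10,-1),(13,-2),(22,-1),(24,-1),(31,1),(38,-1)]],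
    [[],[],[],[],[],[(0,-1),(1,-1),(2,2),(4,-2),(5,1),(9,3),(10,-1),(13,-2),(22,-1),(24,-1),(30,1),(31,1),(34,-1),(38,-1)],[(0,-8),(1,-8),(2,10),(4,-12),(5,5),(9,18),(10,-5),(12,1),(13,-14),(14,-1),(15,-1),(17,-3),(18,3),(19,1),(20,-2),(22,-8),(24,-5),(25,-10),(26,-1),(27,-6),(31,5),(32,-3),(33,4),(34,-1),(36,4),(37,6),(38,-5),(39,8),(41,1),(43,-1),(44,1),(49,1),(51,1)],[(0,3),(1,3),(2,-2),(5,-3),(10,1),(13,-1),(18,-1),(22,-2),(24,1),(25,2),(27,-2),(31,-1),(36,-2),(38,1),(39,1),(41,-1),(46,1)],[(44,-1)],[(4,1),(9,-1),(13,1),(22,1),(25,1),(37,-1),(39,-1)]],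
    [[],[],[],[],[],[(0,4),(1,4),(2,-4),(4,1),(5,-6),(9,-1),(10,1),(13,-1),(17,-1),(18,-1),(20,-1),(22,-2),(24,2),(27,-5),(31,-2),(32,-1),(33,1),(36,-1),(37,1),(38,2),(39,3),(41,-1),(46,2)],[(0,-5),(1,-5),(2,5),(3,5),(4,-33),(5,-16),(6,1),(7,1),(8,-3),(9,51),(10,-8),(11,1),(12,5),(13,-52),(14,3),(15,3),(16,-1),(17,-13),(18,3),(19,-2),(20,-17),(21,1),(22,-46),(23,-3),(24,-6),(25,-39),(26,3),(27,-46),(30,-1),(31,3),(32,-15),(33,16),(34,1),(36,10),(37,27),(38,-2),(39,53),(41,1),(43,-7),(44,2),(45,2),(46,9),(47,4),(49,2),(50,-1),(51,2),(52,1)],[(0,1),(1,1),(4,1),(9,-1),(13,1)],[(0,1),(1,1),(12,-1),(13,1)],[(13,-1)]],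
    [[],[],[],[],[],[],[(0,2),(1,2),(4,-2),(5,-2),(9,3),(13,-3),(18,-1),(22,-3),(27,-3),(32,-1),(33,1),(36,-1),(39,2),(41,-1),(46,1)],[(0,1),(1,1),(4,1),(23,-1),(24,-1),(34,1)],[(0,1),(1,1),(2,-2),(4,2),(5,-1),(9,-3),(10,1),(13,2),(22,1),(24,1),(27,1),(31,-1),(33,-1),(38,1)],[(34,-1)]],
    [[],[],[],[],[],[],[],[(0,1),(1,1),(18,-1),(20,1)],[(19,-1)],[(20,-1)]],
    [[],[],[],[],[],[],[],[],[(4,1),(9,-1),(13,1),(22,1),(39,-1)],[(4,-1),(9,1),(22,-1)]],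
    [[],[],[],[],[],[],[],[],[],[(0,-2),(1,-2),(2,2),(4,-3),(5,1),(9,4),(10,-1),(13,-2),(17,-1),(18,1),(20,-1),(22,-2),(24,-1),(25,-2),(27,-1),(31,1),(32,-1),(33,1),(36,1),(37,1),(38,-1),(39,1)]],
    [[],[],[],[],[],[],[],[],[],[]]]

/-- Generators. -/
def twoGens : List PcMathieu.PL := [([19,4,6,21,1,22,2,17,11,15,18,8,20,23,16,9,14,7,10,0,12,3,5,13],[19,4,6,21,1,22,2,17,11,15,18,8,20,23,16,9,14,7,10,0,12,3,5,13]),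
    ([19,20,23,6,12,21,13,8,17,18,15,7,1,22,16,10,14,11,9,0,4,2,3,5],[19,12,21,22,20,23,3,11,7,18,15,17,4,6,16,10,14,8,9,0,1,5,13,2]),
    ([19,21,20,2,23,12,8,3,4,9,15,1,17,5,14,10,16,13,18,0,7,22,11,6],[19,11,3,7,8,13,23,20,6,9,15,22,5,17,14,10,16,12,18,0,2,1,21,4]),
    ([10,4,2,3,1,5,22,7,11,16,0,8,12,13,18,19,9,17,14,15,20,23,6,21],[10,4,2,3,1,5,22,7,11,16,0,8,12,13,18,19,9,17,14,15,20,23,6,21]),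
    ([0,17,22,13,7,6,5,4,8,18,15,11,12,3,14,10,16,1,9,19,20,23,2,21],[0,17,22,13,7,6,5,4,8,18,15,11,12,3,14,10,16,1,9,19,20,23,2,21]),
    ([0,22,7,20,6,17,4,2,23,9,10,21,13,12,14,15,16,5,18,19,3,11,1,8],[0,22,7,20,6,17,4,2,23,9,10,21,13,12,14,15,16,5,18,19,3,11,1,8]),
    ([16,1,5,13,4,2,22,7,8,10,9,11,12,3,19,18,0,17,15,14,20,23,6,21],[16,1,5,13,4,2,22,7,8,10,9,11,12,3,19,18,0,17,15,14,20,23,6,21]),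
    ([0,17,6,21,7,22,2,4,12,9,10,20,8,23,14,15,16,1,18,19,11,3,5,13],[0,17,6,21,7,22,2,4,12,9,10,20,8,23,14,15,16,1,18,19,11,3,5,13]),
    ([19,4,5,3,1,2,22,17,8,18,15,11,12,13,16,10,14,7,9,0,20,21,6,23],[19,4,5,3,1,2,22,17,8,18,15,11,12,13,16,10,14,7,9,0,20,21,6,23]),
    ([0,4,5,13,1,2,22,17,11,9,10,8,20,3,14,15,16,7,18,19,12,23,6,21],[0,4,5,13,1,2,22,17,11,9,10,8,20,3,14,15,16,7,18,19,12,23,6,21])]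

/-- Conjugating elements. -/
def twoConj : List PcMathieu.PL := [([16,6,12,21,7,23,3,5,17,14,10,22,2,20,18,0,15,1,9,19,4,8,11,13],[15,17,12,6,20,7,1,4,21,18,10,22,2,23,9,16,0,8,14,19,13,3,11,5]),
    ([20,16,10,22,19,9,14,18,7,3,12,1,6,2,13,11,21,15,23,8,5,17,0,4],[22,11,13,9,23,20,12,8,19,5,2,15,10,14,6,17,1,21,7,4,0,16,3,18]),
    ([19,1,13,8,4,3,6,12,5,18,0,2,21,11,14,15,9,20,16,10,23,7,22,17],[10,1,11,5,4,8,6,21,3,16,19,13,7,2,14,15,18,23,9,0,17,12,22,20])]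

/-- The order of the elements. -/
def twoIdx : List ℕ := [177,251,184,242,728,656,665,721,351,278,287,342,855,798,791,862,276,349,340,285,796,853,860,789,372,319,381,310,823,892,830,885,249,179,240,186,658,730,723,667,374,317,308,383,894,821,887,828,210,154,219,147,699,753,690,760,208,152,145,217,755,697,762,688,331,259,266,322,775,846,839,782,164,239,173,230,649,705,712,640,237,166,228,175,707,651,642,714,199,142,206,135,675,745,682,736,257,329,320,264,844,773,780,837,197,140,133,204,747,673,738,680,353,299,360,290,815,868,806,877,355,297,288,362,870,813,879,804,418,488,427,481,975,902,911,966,76,5,12,69,576,520,513,585,490,416,483,425,900,973,964,909,7,78,71,14,522,578,587,515,102,45,111,36,544,618,553,611,450,394,387,459,997,942,1004,935,448,392,457,385,940,999,933,1006,100,47,38,109,616,54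6,609,555,241,187,248,178,722,666,659,731,341,284,277,348,861,788,797,852,286,343,350,279,790,863,854,799,309,382,375,316,886,829,895,820,185,243,176,250,664,720,729,657,380,311,373,318,831,884,822,893,144,216,209,153,763,689,754,696,218,146,211,155,691,761,698,752,321,265,256,328,781,836,845,772,229,174,236,167,643,715,706,650,172,231,165,238,713,641,648,704,132,205,196,141,739,681,746,672,267,323,330,258,838,783,774,847,207,134,198,143,683,737,674,744,289,363,354,296,878,805,871,812,361,291,352,298,807,876,814,869,802,872,811,865,365,294,356,303,687,740,678,749,202,130,195,139,742,685,751,676,128,200,193,137,716,645,652,709,168,226,161,235,874,800,867,809,292,367,358,301,647,718,711,654,224,170,233,163,834,778,771,843,270,327,334,263,776,832,841,769,325,268,261,332,767,692,758,701,149,220,213,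156,883,825,890,816,305,379,370,312,827,881,818,888,377,307,368,314,856,784,793,849,336,280,273,345,694,765,703,756,222,151,215,158,786,858,851,795,282,338,347,275,726,671,662,735,245,190,252,183,669,724,733,660,188,247,181,254,88,16,25,81,592,536,529,601,439,508,446,501,991,918,927,982,18,90,83,27,538,594,603,531,510,437,503,444,916,989,980,925,469,412,476,405,957,1014,948,1023,113,59,50,120,633,563,624,570,115,57,122,48,561,635,568,626,471,414,407,478,1012,959,1021,950,82,26,19,91,602,530,539,595,502,445,511,436,981,924,917,988,24,80,89,17,528,600,593,537,447,500,438,509,926,983,990,919,406,479,470,415,1020,951,1013,958,123,49,114,56,569,627,560,634,51,121,112,58,625,571,632,562,477,404,468,413,949,1022,956,1015,565,638,572,631,118,61,127,52,952,1010,945,1019,465,409,472,400,636,567,629,574,11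6,63,54,125,1008,954,1017,947,467,411,402,474,987,915,922,978,434,504,443,497,542,599,606,535,22,95,86,31,597,540,533,604,93,20,29,84,913,985,976,920,506,432,499,441,482,424,491,417,965,908,901,972,70,15,6,79,586,514,523,579,426,480,419,489,910,967,974,903,13,68,77,4,512,584,577,521,39,108,101,46,608,554,617,547,456,384,449,393,932,1007,941,998,386,458,451,395,1005,934,996,943,110,37,103,44,552,610,545,619,702,757,695,764,214,159,223,150,819,889,826,880,369,315,376,306,891,817,882,824,371,313,304,378,850,794,787,859,346,274,283,339,759,700,766,693,212,157,148,221,792,848,857,785,272,344,337,281,732,661,668,725,180,255,189,246,663,734,727,670,253,182,244,191,628,575,637,566,55,124,117,62,1016,946,1009,955,403,475,466,410,573,630,564,639,126,53,119,60,944,1018,953,1011,473,401,464,408,977,921,912,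984,498,440,507,433,532,605,596,541,28,85,92,21,607,534,543,598,87,30,23,94,923,979,986,914,442,496,435,505,937,995,928,1002,452,397,461,388,548,623,557,614,99,41,106,32,993,939,1000,930,454,399,390,463,621,550,612,559,97,43,34,104,581,524,517,588,73,1,8,64,897,969,960,904,494,421,487,428,971,899,906,962,423,492,430,485,526,583,590,519,3,75,66,10,866,808,875,801,359,300,293,366,750,677,743,684,192,136,129,201,679,748,686,741,194,138,203,131,710,655,646,719,232,162,225,171,810,864,803,873,357,302,364,295,653,708,717,644,160,234,169,227,840,768,777,833,260,333,324,269,770,842,835,779,335,262,271,326,1001,931,992,938,391,462,455,398,613,558,620,551,35,105,96,42,929,1003,936,994,460,389,453,396,556,615,549,622,107,33,98,40,591,518,527,582,67,11,2,74,907,963,970,898,431,484,422,493,961,905,896,968,486,429,495,420,516,589,580,525,9,65,72,0]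

theorem two_ok : PcMathieu.certOK side24 twoRules twoCert twoGens twoConj 78 twoIdx = true := by
  decide +kernel

/-- The relations. -/
def threeRules : Pc.Rules where
  p := 3
  n := 3
  d := 2
  pw := [[],[],[]]
  cm := [[[],[2],[]],[[],[],[]],[[],[],[]]]

/-- The certificate. -/
def threeCert : Pc.Cert where
  eqns := [.assoc [1,1] [1] [0],
    .assoc [1] [0] [0,0],
    .assoc [2,2] [2] [0],
    .fuse 0 [[2],[1]] [[2],[1,1,2,2]] [0,1] [1,0],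
    .fuse 0 [[2],[0]] [[2],[0,0]] [0,1] [1,0]]
  rows := [[0,0,(-1),0,(-3),0,0,0,(-3)],
    [0,0,1,0,3,3],
    [0,0,0,0,0,(-3)],
    [0,0,0,0,0,0,0,0,1],
    [0,0,0,0,0,1]]
  us := []
  ords := []
  ordComb := []
  shifts := [[],[],[0,0,0,0,1]]
  pwComb := [[],[],[(1,1),(2,1)]]
  cmComb := [[[],[],[(4,1)]],
    [[],[],[(3,1)]],
    [[],[],[]]]

/-- Generators. -/
def threeGens : List PcMathieu.PL := [([10,23,20,22,0,9,6,8,17,15,4,3,12,13,14,5,16,7,1,2,19,21,11,18],[4,18,19,11,10,15,6,17,7,5,0,22,12,13,14,9,16,8,23,20,2,21,3,1]),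
    ([0,2,12,3,4,11,18,7,22,9,10,17,1,23,21,8,14,5,20,13,6,16,15,19],[0,12,1,3,4,17,20,7,15,9,10,5,2,19,16,22,21,11,6,23,18,14,8,13]),
    ([0,18,20,9,4,17,13,3,22,7,10,5,6,12,14,8,16,11,23,2,19,21,15,1],[0,23,19,7,4,11,12,9,15,3,10,17,13,6,14,22,16,5,1,20,2,21,8,18])]

/-- Conjugating elements. -/
def threeConj : List PcMathieu.PL := [([4,2,23,5,0,7,13,11,22,17,10,9,6,12,16,8,14,3,20,18,1,21,15,19],[4,20,1,17,0,3,12,5,15,11,10,7,13,6,16,22,14,9,19,23,18,21,8,2])]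

/-- The order of the elements. -/
def threeIdx : List ℕ := [18,1,11,23,12,4,17,26,8,25,16,7,24,6,15,2,19,9,22,14,3,21,13,5,10,20,0]

theorem three_ok : PcMathieu.certOK side24 threeRules threeCert threeGens threeConj 16 threeIdx = true := by
  decide +kernel

/-- The relations. -/
def fiveRules : Pc.Rules where
  p := 5
  n := 1
  d := 1
  pw := [[]]
  cm := [[[]]]

/-- The certificate. -/
def fiveCert : Pc.Cert where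
  eqns := []
  rows := []
  us := []
  ords := []
  ordComb := []
  shifts := [[]]
  pwComb := [[]]
  cmComb := [[[]]]

/-- Generators. -/
def fiveGens : List PcMathieu.PL := [([0,3,23,17,4,20,12,15,5,19,10,8,16,6,13,2,14,9,11,1,18,21,7,22],[0,19,15,1,4,8,13,22,11,17,10,18,6,14,16,7,12,3,20,9,5,21,23,2])]

/-- Conjugating elements. -/
def fiveConj : List PcMathieu.PL := []

/-- The order of the elements. -/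
def fiveIdx : List ℕ := [4,2,3,1,0]

theorem five_ok : PcMathieu.certOK side24 fiveRules fiveCert fiveGens fiveConj 2 fiveIdx = true := by
  decide +kernel

/-- The relations. -/
def sevenRules : Pc.Rules where
  p := 7
  n := 1
  d := 1
  pw := [[]]
  cm := [[[]]]

/-- The certificate. -/
def sevenCert : Pc.Cert where
  eqns := []
  rows := []
  us := []
  ords := []
  ordComb := []
  shifts := [[]]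
  pwComb := [[]]
  cmComb := [[[]]]

/-- Generators. -/
def sevenGens : List PcMathieu.PL := [([12,5,7,20,3,19,14,17,15,9,13,11,2,8,0,1,22,6,18,10,16,23,21,4],[14,15,12,4,23,1,17,2,13,9,19,11,0,10,6,8,20,7,18,5,3,22,16,21])]

/-- Conjugating elements. -/
def sevenConj : List PcMathieu.PL := []

/-- The order of the elements. -/
def sevenIdx : List ℕ := [2,1,4,3,6,5,0]

theorem seven_ok : PcMathieu.certOK side24 sevenRules sevenCert sevenGens sevenConj 2 sevenIdx = true := by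
  decide +kernel

/-- The relations. -/
def elevenRules : Pc.Rules where
  p := 11
  n := 1
  d := 1
  pw := [[]]
  cm := [[[]]]

/-- The certificate. -/
def elevenCert : Pc.Cert where
  eqns := []
  rows := []
  us := []
  ords := []
  ordComb := []
  shifts := [[]]
  pwComb := [[]]
  cmComb := [[[]]]

/-- Generators. -/
def elevenGens : List PcMathieu.PL := [([10,15,4,2,17,5,7,20,9,22,12,23,6,13,1,3,19,16,8,11,18,0,21,14],[21,14,3,15,2,5,12,6,18,8,0,19,10,13,23,1,17,4,20,16,7,22,9,11])]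

/-- Conjugating elements. -/
def elevenConj : List PcMathieu.PL := []

/-- The order of the elements. -/
def elevenIdx : List ℕ := [2,5,4,6,10,1,3,8,7,9,0]

theorem eleven_ok : PcMathieu.certOK side24 elevenRules elevenCert elevenGens elevenConj 2 elevenIdx = true := by
  decide +kernel

/-- The relations. -/
def twentyThreeRules : Pc.Rules where
  p := 23
  n := 1
  d := 1
  pw := [[]]
  cm := [[[]]]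

/-- The certificate. -/
def twentyThreeCert : Pc.Cert where
  eqns := []
  rows := []
  us := []
  ords := []
  ordComb := []
  shifts := [[]]
  pwComb := [[]]
  cmComb := [[[]]]

/-- Generators. -/
def twentyThreeGens : List PcMathieu.PL := [([19,18,2,0,6,14,1,11,13,4,15,9,20,23,8,16,12,21,10,7,22,3,5,17],[3,6,2,21,9,22,4,19,14,11,18,7,16,8,5,10,15,23,1,0,12,17,20,13])]

/-- Conjugating elements. -/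
def twentyThreeConj : List PcMathieu.PL := []

/-- The order of the elements. -/
def twentyThreeIdx : List ℕ := [4,11,3,9,19,10,6,21,8,13,7,16,22,20,14,15,1,12,5,17,2,18,0]

theorem twentyThree_ok : PcMathieu.certOK side24 twentyThreeRules twentyThreeCert twentyThreeGens twentyThreeConj 2 twentyThreeIdx = true := by
  decide +kernel

end CfsgLib.Schur.MultiplierM24
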