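/-
The Schur multiplier of M24 is trivial.
-/
import Cfsg.Agent.Lib.Schur.MultiplierM24Data
import Cfsg.Agent.Lib.Golay.Mathieu

set_option autoImplicit false

namespace CfsgLib.Schur.MultiplierM24

open Cfsg CfsgLib.Golay CfsgLib.Schur CfsgLib.Schur.GolayOut

theorem multiplier : Cfsg.HasCyclicSchurMultiplier ↥Cfsg.M24 1 := by
  refine hasCyclicSchurMultiplier_one fun p hp => ?_
  have : Fact p.Prime := ⟨hp⟩
  by_cases hd : p ∣ Nat.card Cfsg.M24
  · rw [natCard_M24, show (244823040 : ℕ) = 2 ^ 10 * 3 ^ 3 * 5 * 7 * 11 * 23 by norm_num] at hd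
    rcases hp.dvd_mul.mp hd with hd | hd
    rcases hp.dvd_mul.mp hd with hd | hd
    rcases hp.dvd_mul.mp hd with hd | hd
    rcases hp.dvd_mul.mp hd with hd | hd
    rcases hp.dvd_mul.mp hd with hd | hd
    · obtain rfl := (Nat.prime_dvd_prime_iff_eq hp Nat.prime_two).mp (hp.dvd_of_dvd_pow hd)
      exact Pc.noMultiplierAt_of_spanAt (PcMathieu.spanAt_of_certOK (p := 2) mem_M24_side two_ok rfl
        (d := 244823040 / 2 ^ 10) (by norm_num) (by rw [natCard_M24]; norm_num [twoRules]) rfl rfl)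
    · obtain rfl := (Nat.prime_dvd_prime_iff_eq hp Nat.prime_three).mp (hp.dvd_of_dvd_pow hd)
      exact Pc.noMultiplierAt_of_spanAt (PcMathieu.spanAt_of_certOK (p := 3) mem_M24_side three_ok rfl
        (d := 244823040 / 3 ^ 3) (by norm_num) (by rw [natCard_M24]; norm_num [threeRules]) rfl rfl)
    · obtain rfl := (Nat.prime_dvd_prime_iff_eq hp (by norm_num)).mp hd
      exact Pc.noMultiplierAt_of_spanAt (PcMathieu.spanAt_of_certOK (p := 5) mem_M24_side five_ok rfl
        (d := 244823040 / 5) (by norm_num) (by rw [natCard_M24]; norm_num [fiveRules]) rfl rfl)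
    · obtain rfl := (Nat.prime_dvd_prime_iff_eq hp (by norm_num)).mp hd
      exact Pc.noMultiplierAt_of_spanAt (PcMathieu.spanAt_of_certOK (p := 7) mem_M24_side seven_ok rfl
        (d := 244823040 / 7) (by norm_num) (by rw [natCard_M24]; norm_num [sevenRules]) rfl rfl)
    · obtain rfl := (Nat.prime_dvd_prime_iff_eq hp (by norm_num)).mp hd
      exact Pc.noMultiplierAt_of_spanAt (PcMathieu.spanAt_of_certOK (p := 11) mem_M24_side eleven_ok rfl
        (d := 244823040 / 11) (by norm_num) (by rw [natCard_M24]; norm_num [elevenRules]) rfl rfl)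
    · obtain rfl := (Nat.prime_dvd_prime_iff_eq hp (by norm_num)).mp hd
      exact Pc.noMultiplierAt_of_spanAt (PcMathieu.spanAt_of_certOK (p := 23) mem_M24_side twentyThree_ok rfl
        (d := 244823040 / 23) (by norm_num) (by rw [natCard_M24]; norm_num [twentyThreeRules]) rfl rfl)
  · exact noMultiplierAt_of_not_dvd hd

end CfsgLib.Schur.MultiplierM24
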