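/-
The bound of `OutRigid` where the exponents are reduced by arbitrary elements normalising the subgroup.
-/
import Cfsg.Agent.Lib.Schur.OutRigid

set_option autoImplicit false

namespace CfsgLib.Schur

open Subgroup Cfsg
open scoped Pointwise

universe u

/-- If every automorphism agrees up to an inner one with one of the listed assignments on three
generators, the outer automorphism group has at most as many elements as the list.

The listed assignments are `a ↦ a ^ j`, `b ↦ b`, `c ↦ x`; here `⟨a⟩` is a self-centralising Sylow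
subgroup of prime order normalised by `b`, the exponents `j` are reduced by any elements normalising it, and `Lc` holds the elements acting on `b` like `c`. -/
theorem card_out_le_twist {G : Type u} [Group G] [Finite G] [DecidableEq G] (a b c : G) (p s k : ℕ)
    [hp : Fact p.Prime] (hpord : orderOf a = p) (hpp : ¬ p * p ∣ Nat.card G)
    (hC : ∀ x : G, x * a * x⁻¹ = a → ∃ i : ℕ, x = a ^ i)
    (hb : b * a * b⁻¹ = a ^ s) (hs : ¬ s % p = 1)
    (reps : List ℕ) (hreps : ∀ j < p, j ≠ 0 → ∃ (n : G) (t : ℕ), n * a * n⁻¹ = a ^ t ∧ j * t % p ∈ reps)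
    (hc : c * b * c⁻¹ = b ^ k) (Lc : List G)
    (hLc : ∀ x : G, x * b * x⁻¹ = b ^ k → x ∈ Lc)
    (hgen : closure {a, b, c} = ⊤)
    (R : List (List ℕ × ℕ)) (hR : ∀ r ∈ R, evalThree a b c r.1 ^ r.2 = 1)
    (surv : List (ℕ × G))
    (hsurv : ∀ j ∈ reps, ∀ x ∈ Lc, (∀ r ∈ R, evalThree (a ^ j) b x r.1 ^ r.2 = 1) →
      (j, x) ∈ surv) :
    Nat.card (Cfsg.Out G) ≤ surv.length := by
  classical
  -- normalisation by an inner automorphism
  have hnorm : ∀ φ : MulAut G, ∃ (g : G) (i : Fin surv.length),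
      g * φ a * g⁻¹ = a ^ (surv.get i).1 ∧ g * φ b * g⁻¹ = b ∧
        g * φ c * g⁻¹ = (surv.get i).2 := by
    intro φ
    have hcard : Nat.card (zpowers a) = p ^ (Nat.card G).factorization p := by
      rw [Nat.card_zpowers, hpord]
      have h1 : p ∣ Nat.card G := hpord ▸ orderOf_dvd_natCard a
      have h0 : (Nat.card G).factorization p ≠ 0 :=
        ((hp.out.factorization_pos_of_dvd Nat.card_pos.ne' h1)).ne'
      have h2 : (Nat.card G).factorization p < 2 := by
        by_contra hge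
        refine hpp ?_
        rw [← pow_two]
        exact (pow_dvd_pow p (not_lt.mp hge)).trans (Nat.ordProj_dvd _ _)
      rw [show (Nat.card G).factorization p = 1 by omega, pow_one]
    have hcard' : Nat.card (zpowers (φ a)) = p ^ (Nat.card G).factorization p := by
      rw [← hcard, Nat.card_zpowers, Nat.card_zpowers]
      exact orderOf_injective φ.toMonoidHom φ.injective a
    obtain ⟨g0, hg0⟩ := MulAction.exists_smul_eq G (Sylow.ofCard _ hcard') (Sylow.ofCard _ hcard)
    have hmem : g0 * φ a * g0⁻¹ ∈ zpowers a := by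
      have h1 : φ a ∈ (Sylow.ofCard _ hcard' : Sylow p G) := mem_zpowers (φ a)
      have h2 : MulAut.conj g0 • φ a ∈ (g0 • Sylow.ofCard _ hcard' : Sylow p G) :=
        Set.smul_mem_smul_set h1
      rw [hg0] at h2
      have h3 : g0 * φ a * g0⁻¹ ∈ (Sylow.ofCard _ hcard : Sylow p G) := by
        simpa [MulAut.smul_def] using h2
      exact h3
    obtain ⟨j0, hj0p, hj0⟩ : ∃ j0 < p, g0 * φ a * g0⁻¹ = a ^ j0 := by
      obtain ⟨n, hn⟩ := mem_zpowers_iff.mp hmem
      refine ⟨(n % p).toNat, ?_, ?_⟩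
      · have := Int.emod_lt_of_pos n (show (0 : ℤ) < p by exact_mod_cast hp.out.pos)
        have := Int.emod_nonneg n (show (p : ℤ) ≠ 0 by exact_mod_cast hp.out.ne_zero)
        omega
      · rw [← hn, ← zpow_natCast, Int.toNat_of_nonneg
          (Int.emod_nonneg _ (by exact_mod_cast hp.out.ne_zero)), ← hpord, zpow_mod_orderOf]
    have hj00 : j0 ≠ 0 := by
      intro h0
      rw [h0, pow_zero, mul_inv_eq_one, mul_eq_left] at hj0
      rw [φ.map_eq_one_iff.mp hj0, orderOf_one] at hpord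
      exact hp.out.one_lt.ne hpord
    obtain ⟨n, t, hn, hi0⟩ := hreps j0 hj0p hj00
    set j := j0 * t % p with hj
    set g1 := n * g0 with hg1
    have hj1 : g1 * φ a * g1⁻¹ = a ^ j := by
      calc g1 * φ a * g1⁻¹ = n * (g0 * φ a * g0⁻¹) * n⁻¹ := by rw [hg1]; group
        _ = (n * a * n⁻¹) ^ j0 := by rw [hj0, conj_pow]
        _ = a ^ j := by
          rw [hn, ← pow_mul, hj, ← hpord, pow_mod_orderOf, mul_comm]
    have hjp : ¬ p ∣ j := by
      intro hd
      have h0 : j = 0 := Nat.eq_zero_of_dvd_of_lt hd (Nat.mod_lt _ hp.out.pos)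
      rw [h0, pow_zero, mul_inv_eq_one, mul_eq_left] at hj1
      rw [φ.map_eq_one_iff.mp hj1, orderOf_one] at hpord
      exact hp.out.one_lt.ne hpord
    set y := g1 * φ b * g1⁻¹ with hy
    have hya : y * a ^ j * y⁻¹ = (a ^ j) ^ s := by
      rw [← hj1, hy, conj_pow, ← map_pow, ← hb, map_mul, map_mul, map_inv]; group
    have hya' : (b⁻¹ * y) * a * (b⁻¹ * y)⁻¹ = a := by
      have h2 : b⁻¹ * y * a ^ j * (b⁻¹ * y)⁻¹ = a ^ j := by
        calc b⁻¹ * y * a ^ j * (b⁻¹ * y)⁻¹ = b⁻¹ * (y * a ^ j * y⁻¹) * b := by group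
          _ = b⁻¹ * (b * a * b⁻¹) ^ j * b := by
            rw [hya, hb, ← pow_mul, ← pow_mul, mul_comm j s]
          _ = a ^ j := by rw [conj_pow]; group
      have hcop : Nat.Coprime j (orderOf a) := by
        rw [hpord]; exact (hp.out.coprime_iff_not_dvd.mpr hjp).symm
      obtain ⟨l, hl⟩ := exists_pow_eq_self_of_coprime hcop
      have h3 : ((b⁻¹ * y) * a ^ j * (b⁻¹ * y)⁻¹) ^ l = (a ^ j) ^ l := by rw [h2]
      rwa [conj_pow, hl] at h3
    obtain ⟨i1, hi1⟩ := hC _ hya'
    have hyb : y = b * a ^ i1 := by rw [← hi1]; group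
    -- remove the power of `a`
    obtain ⟨u, hu⟩ : ∃ u : ℤ, a ^ u * y * (a ^ u)⁻¹ = b := by
      have hns : ¬ ((p : ℤ) ∣ (s : ℤ) - 1) := by
        intro hd
        apply hs
        have h1 : ((s : ℕ) : ZMod p) = ((1 : ℕ) : ZMod p) := by
          have h2 : (((s : ℤ) - 1 : ℤ) : ZMod p) = 0 := (ZMod.intCast_zmod_eq_zero_iff_dvd _ p).mpr hd
          push_cast at h2 ⊢
          exact sub_eq_zero.mp h2
        have h3 := (ZMod.natCast_eq_natCast_iff' _ _ _).mp h1
        rwa [Nat.one_mod_eq_one.mpr hp.out.one_lt.ne'] at h3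
      obtain ⟨v, w, hvw⟩ : IsCoprime ((s : ℤ) - 1) (p : ℤ) :=
        (Nat.prime_iff_prime_int.mp hp.out).coprime_iff_not_dvd.mpr hns |>.symm
      refine ⟨(i1 : ℤ) * s * v, ?_⟩
      set u : ℤ := (i1 : ℤ) * s * v with hu
      have h1 : ∀ m : ℤ, b * a ^ m = a ^ ((s : ℤ) * m) * b := fun m => by
        have := map_zpow (MulAut.conj b) a m
        simp only [MulAut.conj_apply] at this
        rw [← mul_inv_eq_iff_eq_mul, this, hb, ← zpow_natCast, ← zpow_mul]
      calc a ^ u * y * (a ^ u)⁻¹ = a ^ u * (b * a ^ ((i1 : ℤ) + -u)) := by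
            rw [hyb, ← zpow_natCast, ← zpow_neg, zpow_add, mul_assoc, mul_assoc]
        _ = a ^ (u + (s : ℤ) * ((i1 : ℤ) + -u)) * b := by rw [h1, zpow_add, mul_assoc]
        _ = b := by
          have h2 : u + (s : ℤ) * ((i1 : ℤ) + -u) = (p : ℤ) * ((i1 : ℤ) * s * w) := by
            rw [hu]; linear_combination (-((i1 : ℤ) * s)) * hvw
          rw [h2, zpow_mul, zpow_natCast, ← hpord, pow_orderOf_eq_one, one_zpow, one_mul]
    set g := a ^ u * g1 with hg
    have hga : g * φ a * g⁻¹ = a ^ j := by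
      calc g * φ a * g⁻¹ = a ^ u * (g1 * φ a * g1⁻¹) * (a ^ u)⁻¹ := by rw [hg]; group
        _ = a ^ j := by rw [hj1, ← zpow_natCast, ← zpow_add, ← zpow_neg, ← zpow_add]; congr 1; omega
    have hgb : g * φ b * g⁻¹ = b := by
      calc g * φ b * g⁻¹ = a ^ u * y * (a ^ u)⁻¹ := by rw [hg, hy]; group
        _ = b := hu
    have hx : g * φ c * g⁻¹ ∈ Lc := by
      refine hLc _ ?_
      calc g * φ c * g⁻¹ * b * (g * φ c * g⁻¹)⁻¹
          = g * φ c * g⁻¹ * (g * φ b * g⁻¹) * (g * φ c * g⁻¹)⁻¹ := by rw [hgb]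
        _ = g * φ (c * b * c⁻¹) * g⁻¹ := by rw [map_mul, map_mul, map_inv]; group
        _ = b ^ k := by rw [hc, map_pow, ← conj_pow, hgb]
    have hjx := hsurv j hi0 _ hx (fun r hr => by
      have he := congrArg (fun z => g * φ z * g⁻¹) (hR r hr)
      simp only [map_pow, map_one, mul_one, mul_inv_cancel, ← conj_pow] at he
      have h1 := evalThree_map ((MulAut.conj g : MulAut G).toMonoidHom.comp φ.toMonoidHom) a b c r.1
      simp only [MonoidHom.coe_comp, MulEquiv.coe_toMonoidHom, Function.comp_apply,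
        MulAut.conj_apply, hga, hgb] at h1
      rwa [h1] at he)
    obtain ⟨i, hi, he⟩ := List.getElem_of_mem hjx
    exact ⟨g, ⟨i, hi⟩, by simp [he, hga], hgb, by simp [he]⟩
  choose g i hga hgb hgc using hnorm
  let f : Cfsg.Out G → Fin surv.length := fun q => i q.out
  have hf : Function.Injective f := by
    intro q q' hqq
    set φ := q.out with hφ
    set ψ := q'.out with hψ
    have hi : i φ = i ψ := hqq
    have heq : MulAut.conj (g φ) * φ = MulAut.conj (g ψ) * ψ := by
      apply MulEquiv.toMonoidHom_injective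
      apply MonoidHom.eq_of_eqOn_dense hgen
      rintro z (rfl | rfl | rfl)
      · show g φ * φ z * (g φ)⁻¹ = g ψ * ψ z * (g ψ)⁻¹
        rw [hga, hga, hi]
      · show g φ * φ z * (g φ)⁻¹ = g ψ * ψ z * (g ψ)⁻¹
        rw [hgb, hgb]
      · show g φ * φ z * (g φ)⁻¹ = g ψ * ψ z * (g ψ)⁻¹
        rw [hgc, hgc, hi]
    rw [← Quotient.out_eq q, ← Quotient.out_eq q', ← hφ, ← hψ]
    have h1 : ((MulAut.conj (g φ) * φ : MulAut G) : Cfsg.Out G) = (φ : Cfsg.Out G) := by
      rw [QuotientGroup.mk_mul, (QuotientGroup.eq_one_iff _).mpr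
        (show MulAut.conj (g φ) ∈ Cfsg.Inn G from ⟨g φ, rfl⟩), one_mul]
    have h2 : ((MulAut.conj (g ψ) * ψ : MulAut G) : Cfsg.Out G) = (ψ : Cfsg.Out G) := by
      rw [QuotientGroup.mk_mul, (QuotientGroup.eq_one_iff _).mpr
        (show MulAut.conj (g ψ) ∈ Cfsg.Inn G from ⟨g ψ, rfl⟩), one_mul]
    show (φ : Cfsg.Out G) = (ψ : Cfsg.Out G)
    rw [← h1, ← h2, heq]
  simpa using Nat.card_le_card_of_injective f hf

end CfsgLib.Schur
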