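import Cfsg.Agent.Lib.Schur.ConwayModel

/-! Generated data: five automorphisms of the lattice by codes. -/

set_option autoImplicit false

namespace CfsgLib.Schur.ConwayBase

/-- The frame of the non-monomial automorphism, row by row. -/
def etaRows : List (List ℤ) := [
    [(-4),4,4,4,0,0,0,0,0,0,0,0,0,0,0,0,0,0,0,0,0,0,0,0],
    [4,(-4),4,4,0,0,0,0,0,0,0,0,0,0,0,0,0,0,0,0,0,0,0,0],
    [4,4,(-4),4,0,0,0,0,0,0,0,0,0,0,0,0,0,0,0,0,0,0,0,0],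
    [4,4,4,(-4),0,0,0,0,0,0,0,0,0,0,0,0,0,0,0,0,0,0,0,0],
    [0,0,0,0,4,0,0,(-4),0,0,(-4),0,(-4),0,0,0,0,0,0,0,0,0,0,0],
    [0,0,0,0,0,4,0,0,0,0,0,0,0,0,(-4),0,0,(-4),0,0,0,0,0,(-4)],
    [0,0,0,0,0,0,4,0,0,(-4),0,(-4),0,0,0,0,0,0,0,0,0,0,(-4),0],
    [0,0,0,0,(-4),0,0,4,0,0,(-4),0,(-4),0,0,0,0,0,0,0,0,0,0,0],
    [0,0,0,0,0,0,0,0,4,0,0,0,0,0,0,(-4),(-4),0,0,(-4),0,0,0,0],
    [0,0,0,0,0,0,(-4),0,0,4,0,(-4),0,0,0,0,0,0,0,0,0,0,(-4),0],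
    [0,0,0,0,(-4),0,0,(-4),0,0,4,0,(-4),0,0,0,0,0,0,0,0,0,0,0],
    [0,0,0,0,0,0,(-4),0,0,(-4),0,4,0,0,0,0,0,0,0,0,0,0,(-4),0],
    [0,0,0,0,(-4),0,0,(-4),0,0,(-4),0,4,0,0,0,0,0,0,0,0,0,0,0],
    [0,0,0,0,0,0,0,0,0,0,0,0,0,4,0,0,0,0,(-4),0,(-4),(-4),0,0],
    [0,0,0,0,0,(-4),0,0,0,0,0,0,0,0,4,0,0,(-4),0,0,0,0,0,(-4)],
    [0,0,0,0,0,0,0,0,(-4),0,0,0,0,0,0,4,(-4),0,0,(-4),0,0,0,0],
    [0,0,0,0,0,0,0,0,(-4),0,0,0,0,0,0,(-4),4,0,0,(-4),0,0,0,0],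
    [0,0,0,0,0,(-4),0,0,0,0,0,0,0,0,(-4),0,0,4,0,0,0,0,0,(-4)],
    [0,0,0,0,0,0,0,0,0,0,0,0,0,(-4),0,0,0,0,4,0,(-4),(-4),0,0],
    [0,0,0,0,0,0,0,0,(-4),0,0,0,0,0,0,(-4),(-4),0,0,4,0,0,0,0],
    [0,0,0,0,0,0,0,0,0,0,0,0,0,(-4),0,0,0,0,(-4),0,4,(-4),0,0],
    [0,0,0,0,0,0,0,0,0,0,0,0,0,(-4),0,0,0,0,(-4),0,(-4),4,0,0],
    [0,0,0,0,0,0,(-4),0,0,(-4),0,(-4),0,0,0,0,0,0,0,0,0,0,4,0],
    [0,0,0,0,0,(-4),0,0,0,0,0,0,0,0,(-4),0,0,(-4),0,0,0,0,0,4]]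

/-- Preimages of the generating vectors of the lattice. -/
def preRows : List (List ℤ) := [
    [0,0,0,0,0,(-4),0,0,0,0,0,0,0,0,(-4),0,0,(-4),0,0,0,0,0,4],
    [(-2),2,2,2,0,2,0,0,0,0,0,0,0,0,2,0,0,2,0,0,0,0,0,(-2)],
    [2,(-2),2,2,0,2,0,0,0,0,0,0,0,0,2,0,0,2,0,0,0,0,0,(-2)],
    [2,2,(-2),2,0,2,0,0,0,0,0,0,0,0,2,0,0,2,0,0,0,0,0,(-2)],
    [2,2,2,(-2),0,2,0,0,0,0,0,0,0,0,2,0,0,2,0,0,0,0,0,(-2)],
    [0,0,0,0,2,2,0,(-2),0,0,(-2),0,(-2),0,2,0,0,2,0,0,0,0,0,(-2)],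
    [0,0,0,0,0,4,0,0,0,0,0,0,0,0,0,0,0,0,0,0,0,0,0,(-4)],
    [0,0,0,0,0,2,2,0,0,(-2),0,(-2),0,0,2,0,0,2,0,0,0,0,(-2),(-2)],
    [0,0,0,0,(-2),2,0,2,0,0,(-2),0,(-2),0,2,0,0,2,0,0,0,0,0,(-2)],
    [0,0,0,0,0,2,0,0,2,0,0,0,0,0,2,(-2),(-2),2,0,(-2),0,0,0,(-2)],
    [0,0,0,0,0,2,(-2),0,0,2,0,(-2),0,0,2,0,0,2,0,0,0,0,(-2),(-2)],
    [0,0,0,0,(-2),2,0,(-2),0,0,2,0,(-2),0,2,0,0,2,0,0,0,0,0,(-2)],
    [0,0,0,0,0,2,(-2),0,0,(-2),0,2,0,0,2,0,0,2,0,0,0,0,(-2),(-2)],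
    [0,0,0,0,(-2),2,0,(-2),0,0,(-2),0,2,0,2,0,0,2,0,0,0,0,0,(-2)],
    [0,0,0,0,0,2,0,0,0,0,0,0,0,2,2,0,0,2,(-2),0,(-2),(-2),0,(-2)],
    [0,0,0,0,0,0,0,0,0,0,0,0,0,0,4,0,0,0,0,0,0,0,0,(-4)],
    [0,0,0,0,0,2,0,0,(-2),0,0,0,0,0,2,2,(-2),2,0,(-2),0,0,0,(-2)],
    [0,0,0,0,0,2,0,0,(-2),0,0,0,0,0,2,(-2),2,2,0,(-2),0,0,0,(-2)],
    [0,0,0,0,0,0,0,0,0,0,0,0,0,0,0,0,0,4,0,0,0,0,0,(-4)],
    [0,0,0,0,0,2,0,0,0,0,0,0,0,(-2),2,0,0,2,2,0,(-2),(-2),0,(-2)],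
    [0,0,0,0,0,2,0,0,(-2),0,0,0,0,0,2,(-2),(-2),2,0,2,0,0,0,(-2)],
    [0,0,0,0,0,2,0,0,0,0,0,0,0,(-2),2,0,0,2,(-2),0,2,(-2),0,(-2)],
    [0,0,0,0,0,2,0,0,0,0,0,0,0,(-2),2,0,0,2,(-2),0,(-2),2,0,(-2)],
    [0,0,0,0,0,2,(-2),0,0,(-2),0,(-2),0,0,2,0,0,2,0,0,0,0,2,(-2)],
    [(-1),1,1,1,(-1),(-3),(-1),(-1),(-1),(-1),(-1),(-1),1,(-1),(-1),(-1),1,(-1),1,(-1),(-1),(-1),1,(-1)],
    [1,(-1),1,1,(-1),(-1),(-1),(-1),(-3),(-1),(-1),(-1),1,1,1,(-1),(-1),(-1),(-1),(-1),(-1),(-1),1,(-1)],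
    [1,1,(-1),1,(-1),(-1),(-1),(-1),(-1),(-1),(-1),(-1),1,(-1),(-1),1,(-1),(-1),(-1),(-1),(-1),(-3),1,1],
    [1,1,1,(-1),(-1),(-1),(-1),(-1),(-1),(-1),(-1),(-1),1,(-1),(-1),(-1),(-1),1,(-1),1,(-3),(-1),1,(-1)],
    [0,0,0,0,0,(-2),0,(-2),(-2),0,(-2),0,0,0,(-2),(-2),0,0,(-2),0,0,(-2),0,0],
    [0,0,0,0,0,(-2),0,0,0,0,0,0,0,(-2),(-2),0,0,(-2),(-2),0,(-2),(-2),0,(-2)],
    [0,0,0,0,0,(-2),0,0,(-2),(-2),0,(-2),0,(-2),0,0,(-2),(-2),0,0,(-2),0,0,0],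
    [0,0,0,0,(-2),(-2),0,0,(-2),0,(-2),0,0,(-2),0,0,(-2),0,0,0,0,(-2),0,(-2)],
    [0,0,0,0,0,0,0,0,(-2),0,0,0,0,(-2),0,(-2),(-2),0,(-2),(-2),(-2),(-2),0,0],
    [0,0,0,0,0,(-2),(-2),0,(-2),0,0,(-2),0,(-2),0,(-2),0,0,(-2),0,0,0,0,(-2)],
    [0,0,0,0,(-2),(-2),0,(-2),(-2),0,0,0,0,(-2),0,0,0,(-2),(-2),(-2),0,0,0,0],
    [0,0,0,0,0,(-2),(-2),0,(-2),(-2),0,0,0,0,(-2),0,0,0,(-2),(-2),(-2),0,0,0],
    [1,1,1,1,(-1),1,(-1),(-1),(-1),(-1),(-1),(-1),(-1),(-1),1,(-1),(-1),1,(-1),(-1),(-1),(-1),(-1),(-3)]]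

/-- The mask of the sign change. -/
def sgnMask : ℕ := 340831

/-- The permutations with their inverses. -/
def permLists : List (List ℕ × List ℕ) := [
    ([1,2,3,4,5,6,7,8,9,10,11,12,13,14,15,16,17,18,19,20,21,22,0,23], [22,0,1,2,3,4,5,6,7,8,9,10,11,12,13,14,15,16,17,18,19,20,21,23]),
    ([23,22,11,15,17,9,19,13,20,5,16,2,21,7,18,3,10,4,14,6,8,12,1,0], [23,22,11,15,17,9,19,13,20,5,16,2,21,7,18,3,10,4,14,6,8,12,1,0]),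
    ([0,18,6,3,2,21,1,5,16,12,7,19,8,9,17,15,13,11,4,22,10,20,14,23], [0,6,4,3,18,7,2,10,12,13,20,17,9,16,22,15,8,14,1,11,21,5,19,23])]

/-- The codes. -/
def baseCodes : List ℕ := [
    0x80000040000020000010000008000004000002000001000000800000400000200000100000080000040000020000010000008000004000002000001000000700000b00000d00000e024020000a40142000242000018100302000804020088100090100820020340000000490400240001090400840098000001410400a00824000001480000008000004000002000001,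
    0x40000000000010000000000000000002000001000000000000000000200000100000000000040000000000010000008000004000002000001800000400000200000100000080000000000020000000000008000004000000000000000000800000400000000000000000080000000000020000000000000000000000000000000,
    0x800000200000100000080000040000020000010000008000004000002000001000000800000400000200000100000080000040000020000010000008000004000002000001400000,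
    0x1000002001000000100000040004000000010000400000008040000000080200000000004010000000020100000002000080000000200020000008000000800400000800000,
    0x800000080000000020200000000800000002004000000100008000400000010000000200020000100000002000001000000400000004000080040000000008000010000040000001]

end CfsgLib.Schur.ConwayBase
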