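/-
Polycyclic multiplier certificates for subgroups of the Mathieu group on 24 points.
-/
import Cfsg.Agent.Lib.Schur.PcCriteria
import Cfsg.Agent.Lib.Schur.MathieuSubgroups
import Cfsg.Agent.Lib.Schur.CriteriaElements

set_option autoImplicit false

namespace CfsgLib.Schur.PcMathieu

open Cfsg CfsgLib.Golay CfsgLib.Schur CfsgLib.Schur.GolayOut

/-- An image list with its inverse. -/
abbrev PL := List ℕ × List ℕ

/-- The pair describes a permutation of `H`. -/
def memOK (side : List ℕ → Bool) (a : PL) : Bool :=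
  a.1.length == 24 && a.2.length == 24 && a.1.all (fun i => Nat.blt i 24) &&
    a.2.all (fun i => Nat.blt i 24) && comp a.1 a.2 == List.range 24 &&
    comp a.2 a.1 == List.range 24 && side a.1 && isPres a.1

/-- A code for a permutation list. -/
def encL (l : List ℕ) : ℕ := l.foldr (fun x acc => x + 24 * acc) 0

theorem imgFun_imgFun {l li : List ℕ} (hl : l.length = 24) (hlt : ∀ i ∈ l, i < 24)
    (h : comp li l = List.range 24) (q : GolayPt) : imgFun li (imgFun l q) = q := by
  have hi : (idx q).val < l.length := by rw [hl]; exact (idx q).2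
  have h1 : (comp li l).getD (idx q).val 0 = (idx q).val := by
    rw [h, List.getD_eq_getElem _ _ (by simp [(idx q).2])]
    simp
  rw [comp, List.getD_eq_getElem _ _ (by simp [hi])] at h1
  simp only [List.getElem_map] at h1
  have h2 : l.getD (idx q).val 0 = l[(idx q).val] := List.getD_eq_getElem _ _ hi
  have h3 : l[(idx q).val] < 24 := hlt _ (List.getElem_mem hi)
  simp only [imgFun, idx_pt, h2, Nat.mod_eq_of_lt h3, h1, Nat.mod_eq_of_lt (idx q).2]
  exact pt_idx q

theorem exists_elem {H : Subgroup (Equiv.Perm GolayPt)} {side : List ℕ → Bool}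
    (hside : ∀ σ, σ ∈ H ↔ σ ∈ M24 ∧ side (toList σ) = true) {a : PL} (h : memOK side a = true) :
    ∃ x : H, toList x.1 = a.1 := by
  simp only [memOK, Bool.and_eq_true, beq_iff_eq, List.all_eq_true, Nat.blt_eq] at h
  obtain ⟨⟨⟨⟨⟨⟨⟨hl, hli⟩, hlt⟩, hlit⟩, h1⟩, h2⟩, hs⟩, hp⟩ := h
  let σ : Equiv.Perm GolayPt :=
    ⟨imgFun a.1, imgFun a.2, imgFun_imgFun hl hlt h2, imgFun_imgFun hli hlit h1⟩
  have hσ : toList σ = a.1 := by
    refine List.ext_getElem (by rw [toList_length, hl]) fun i hi hi' => ?_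
    simp only [toList, List.getElem_ofFn]
    show (idx (imgFun a.1 (pt _))).val = _
    have : a.1[i] < 24 := hlt _ (List.getElem_mem hi')
    simp only [imgFun, idx_pt, List.getD_eq_getElem _ _ hi', Nat.mod_eq_of_lt this]
  exact ⟨⟨σ, (hside σ).2 ⟨mem_M24_iff_isPres.2 (hσ.symm ▸ hp), hσ.symm ▸ hs⟩⟩, hσ⟩

/-- Everything to check for a certificate. -/
def certOK (side : List ℕ → Bool) (R : Pc.Rules) (C : Pc.Cert) (gl kl : List PL) (fuel : ℕ)
    (idx : List ℕ) : Bool :=
  gl.all (memOK side) && kl.all (memOK side) && R.shapeOK && C.eqnsOK R fuel && C.solveOK R &&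
    Pc.holdsOK comp (List.range 24) R C (gl.map Prod.fst) (kl.map Prod.fst) &&
    idx.length == R.p ^ R.n &&
    Pc.sortedBy ((Pc.pcElems comp (List.range 24) R.p R.n (gl.map Prod.fst) R.n).map encL) idx

/-- The bound on the `p`-part from a checked certificate. -/
theorem spanAt_of_certOK {H : Subgroup (Equiv.Perm GolayPt)} {side : List ℕ → Bool}
    (hside : ∀ σ, σ ∈ H ↔ σ ∈ M24 ∧ side (toList σ) = true) {p : ℕ} [Fact p.Prime]
    {R : Pc.Rules} {C : Pc.Cert} {gl kl : List PL} {fuel : ℕ} {idx : List ℕ}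
    (h : certOK side R C gl kl fuel idx = true) (hRp : R.p = p) {d : ℕ} (hd : ¬ p ∣ d)
    (hord : Nat.card H = p ^ R.n * d) {ords : List ℕ} (hlen : C.us.length = ords.length)
    (hords : C.ords = ords) : Pc.SpanAt p H ords := by
  simp only [certOK, Bool.and_eq_true, List.all_eq_true, beq_iff_eq] at h
  obtain ⟨⟨⟨⟨⟨⟨⟨hgl, hkl⟩, hshape⟩, heqs⟩, hsolve⟩, hholds⟩, hidx⟩, hsort⟩ := h
  have hex : ∀ l : List PL, (∀ a ∈ l, memOK side a = true) → ∀ i,
      ∃ x : H, toList x.1 = (l.map Prod.fst).getD i (List.range 24) := by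
    intro l hl i
    rcases Nat.lt_or_ge i l.length with hi | hi
    · obtain ⟨x, hx⟩ := exists_elem hside (hl _ (List.getElem_mem hi))
      exact ⟨x, by rw [hx, List.getD_eq_getElem _ _ (by simpa using hi)]; simp⟩
    · exact ⟨1, by rw [List.getD_eq_default _ _ (by simpa using hi)]; exact toList_one⟩
  choose gs hgs using hex gl hgl
  choose cg hcg using hex kl hkl
  let Rep : List ℕ → H → Prop := fun a x => toList x.1 = a
  have rep_one : Rep (List.range 24) 1 := toList_one
  have rep_mul : ∀ {a b : List ℕ} {x y : H}, Rep a x → Rep b y → Rep (comp a b) (x * y) := by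
    intro a b x y hx hy
    show toList (x.1 * y.1) = _
    rw [toList_mul, hx, hy]
  have rep_uniq : ∀ {a : List ℕ} {x y : H}, Rep a x → Rep a y → x = y := fun hx hy =>
    Subtype.ext (toList_injective (hx.trans hy.symm))
  have hH := Pc.holds_of_check Rep rep_one rep_mul rep_uniq hgs hcg hholds
  have hlen' := Pc.le_card_of_elems Rep rep_one rep_mul (fun hx hy => hx.symm.trans hy) hgs R.p R.n
    (List.Nodup.of_map _ (Pc.nodup_of_sortedBy hsort))
  have hl2 : R.p ^ R.n ≤ (Pc.pcElems comp (List.range 24) R.p R.n (gl.map Prod.fst) R.n).length := by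
    simp only [Pc.sortedBy, Bool.and_eq_true, beq_iff_eq, List.length_map] at hsort
    omega
  exact Pc.spanAt_of_cert hH hshape heqs hsolve hRp (hRp ▸ hl2.trans hlen') hd hord hlen hords

end CfsgLib.Schur.PcMathieu
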