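/-
Five explicit automorphisms of the Leech lattice with their codes over the field of three
elements.
-/
import Cfsg.Agent.Lib.Schur.ConwayBaseData
import Cfsg.Agent.Lib.Schur.PcMathieu

set_option autoImplicit false

namespace CfsgLib.Schur.ConwayBase

open Cfsg CfsgLib.Golay CfsgLib.MonsterType CfsgLib.Schur.MatFThree CfsgLib.Schur.ConwayModel
  CfsgLib.Schur.GolayOut

/-- The rows as a frame. -/
def etaFrame (p : GolayPt) : GolayPt → ℤ := ofList (etaRows.getD (idx p).val [])

theorem eta_congTwo (i j : GolayPt) : CongTwo (etaFrame i) (etaFrame j) := by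
  have h : ∀ i j : GolayPt,
      ((decide (∀ k, (2 : ℤ) ∣ etaFrame i k - etaFrame j k)) &&
        (inLeechB (fun k => (etaFrame i k - etaFrame j k) / 2) 0 ||
          inLeechB (fun k => (etaFrame i k - etaFrame j k) / 2) 1)) = true := by
    decide +kernel
  have h' := h i j
  rw [Bool.and_eq_true, decide_eq_true_eq] at h'
  refine ⟨_, mem_of_inLeechB h'.2, funext fun k => ?_⟩
  simp only [Pi.sub_apply, Pi.smul_apply, nsmul_eq_mul, Nat.cast_ofNat, Int.mul_ediv_cancel' (h'.1 k)]

theorem exists_eta : ∃ g : Co0, Rep0 (baseCodes.getD 0 0) g := by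
  obtain ⟨g, hg⟩ := exists_frame_element etaFrame (preRows.map ofList) (by decide +kernel)
    (by decide +kernel) (by decide +kernel) (by
      have h : ∀ z ∈ genVecs, ((preRows.map ofList).any fun u =>
          (inLeechB u 0 || inLeechB u 1) && decide (coord etaFrame u = z)) = true := by
        decide +kernel
      intro z hz
      obtain ⟨u, hu, e⟩ := List.any_eq_true.1 (h z hz)
      rw [Bool.and_eq_true, decide_eq_true_eq] at e
      exact ⟨u, hu, e⟩) eta_congTwo
  refine ⟨g, ?_⟩
  have h : ∀ q : Fin 24 × Fin 24, (2 * ((etaFrame (pt q.1) (pt q.2) : ℤ) : ZMod 3)) =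
      decF3 24 (baseCodes.getD 0 0) q.1 q.2 := by decide +kernel
  exact Matrix.ext fun i j => (hg i j).trans (h (i, j))

theorem exists_sgn : ∃ g : Co0, Rep0 (baseCodes.getD 1 0) g := by
  refine ⟨sgnW ⟨dec sgnMask, dec_mem_of_isCode (by decide +kernel)⟩, Matrix.ext fun i j => ?_⟩
  rw [mat_sgnW]
  have h : ∀ q : Fin 24 × Fin 24,
      (if q.1 = q.2 then (if dec sgnMask (pt q.1) = 0 then 1 else 2) else 0 : ZMod 3) =
        decF3 24 (baseCodes.getD 1 0) q.1 q.2 := by decide +kernel
  exact h (i, j)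

theorem toList_getD_gen (σ : Equiv.Perm GolayPt) (i : Fin 24) :
    (toList σ).getD i.val 0 = (idx (σ (pt i))).val := by
  rw [List.getD_eq_getElem _ _ (by rw [toList_length]; exact i.2)]
  simp only [toList, List.getElem_ofFn]

theorem exists_perm (k : Fin 3) : ∃ g : Co0, Rep0 (baseCodes.getD (k.val + 2) 0) g := by
  have hok : ∀ k : Fin 3, PcMathieu.memOK (fun _ => true) (permLists.getD k.val ([], [])) = true := by
    decide +kernel
  obtain ⟨x, hx⟩ := PcMathieu.exists_elem (H := (M24 : Subgroup (Equiv.Perm GolayPt)))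
    (side := fun _ => true) (fun σ => ⟨fun h => ⟨h, rfl⟩, fun h => h.1⟩) (hok k)
  refine ⟨permW x, Matrix.ext fun i j => ?_⟩
  rw [mat_permW]
  have h : ∀ q : Fin 3 × Fin 24 × Fin 24,
      (if imgFun (permLists.getD q.1.val ([], [])).1 (pt q.2.2) = pt q.2.1 then 1 else 0 : ZMod 3) =
        decF3 24 (baseCodes.getD (q.1.val + 2) 0) q.2.1 q.2.2 := by decide +kernel
  refine Eq.trans ?_ (h (k, i, j))
  have : (x : Equiv.Perm GolayPt) (pt j) = imgFun (permLists.getD k.val ([], [])).1 (pt j) := by
    apply idx_injective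
    apply Fin.ext
    simp only [imgFun, idx_pt, ← hx, toList_getD_gen, Nat.mod_eq_of_lt (Fin.is_lt _)]
  rw [this]

/-- Every base code belongs to an automorphism. -/
theorem exists_base : ∀ c ∈ baseCodes, ∃ g : Co0, Rep0 c g := by
  intro c hc
  obtain ⟨i, hi, rfl⟩ := List.getElem_of_mem hc
  rw [← List.getD_eq_getElem _ 0 hi]
  have hl : baseCodes.length = 5 := rfl
  match i, hi with
  | 0, _ => exact exists_eta
  | 1, _ => exact exists_sgn
  | 2, _ => exact exists_perm 0
  | 3, _ => exact exists_perm 1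
  | 4, _ => exact exists_perm 2
  | i + 5, hi => omega

end CfsgLib.Schur.ConwayBase
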