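/-
The automorphisms of the Leech lattice as matrices over the field of three elements, and a few
explicit ones.
-/
import Cfsg.Agent.Lib.Schur.MatFThree
import Cfsg.Agent.Lib.Golay.Co0
import Cfsg.Agent.Lib.Schur.GolayOutBase
import Cfsg.Agent.Lib.Golay.LeechIrreducible

set_option autoImplicit false

namespace CfsgLib.Schur.ConwayModel

open Cfsg CfsgLib.Golay CfsgLib.MonsterType CfsgLib.Schur.MatFThree

/-- Reduction modulo three. -/
def red (v : leechLattice) : Fin 24 → ZMod 3 := fun i => ((v : GolayPt → ℤ) (pt i) : ZMod 3)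

/-- The matrix of an automorphism (note `2 * 8 = 1` modulo three). -/
noncomputable def mat (g : Co0) : Matrix (Fin 24) (Fin 24) (ZMod 3) :=
  Matrix.of fun i j => 2 * red (g • LeechEight.latE (pt j)) i

theorem sum_pt {α : Type*} [AddCommMonoid α] (f : GolayPt → α) :
    ∑ i : Fin 24, f (pt i) = ∑ p, f p := by
  refine Finset.sum_bij (fun i _ => pt i) (fun _ _ => Finset.mem_univ _) (fun a _ b _ h => ?_)
    (fun p _ => ⟨idx p, Finset.mem_univ _, pt_idx p⟩) (fun _ _ => rfl)
  rw [← idx_pt a, h, idx_pt]

theorem mat_mulVec (g : Co0) (v : leechLattice) :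
    Matrix.mulVec (mat g) (red v) = red (g • v) := by
  funext i
  have h := congrArg (fun z : ℤ => (z : ZMod 3)) (LeechEight.eight_addHom g v (pt i))
  push_cast at h
  simp only [Matrix.mulVec, dotProduct, mat, Matrix.of_apply, red]
  rw [show ∀ w : leechLattice, LeechEight.addHom g w = g • w from fun _ => rfl] at h
  rw [← sum_pt (fun p => ((v : GolayPt → ℤ) p : ZMod 3) * _)] at h
  calc _ = 2 * ∑ j, ((v : GolayPt → ℤ) (pt j) : ZMod 3) *
        (((g • LeechEight.latE (pt j) : leechLattice) : GolayPt → ℤ) (pt i) : ZMod 3) := by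
        rw [Finset.mul_sum]; exact Finset.sum_congr rfl fun j _ => by ring
    _ = 2 * (8 * (((g • v : leechLattice) : GolayPt → ℤ) (pt i) : ZMod 3)) := by
        rw [h]
        rfl
    _ = _ := by rw [← mul_assoc, show (2 : ZMod 3) * 8 = 1 from by decide, one_mul]

theorem mat_one : mat 1 = 1 := by
  ext i j
  by_cases h : i = j
  · subst h; simp [mat, red, LeechEight.latE, LeechEight.vecE]; decide
  · have : pt i ≠ pt j := fun e => h (by rw [← idx_pt i, e, idx_pt])
    simp [mat, red, LeechEight.latE, LeechEight.vecE, h, this]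

theorem mat_mul (g h : Co0) : mat (g * h) = mat g * mat h := by
  ext i j
  have := congrFun (mat_mulVec g (h • LeechEight.latE (pt j))) i
  rw [Matrix.mul_apply]
  show 2 * red ((g * h) • LeechEight.latE (pt j)) i = _
  rw [mul_smul, ← this, Matrix.mulVec, dotProduct, Finset.mul_sum]
  refine Finset.sum_congr rfl fun k _ => ?_
  show 2 * (mat g i k * red (h • LeechEight.latE (pt j)) k) =
    mat g i k * (2 * red (h • LeechEight.latE (pt j)) k)
  ring

/-- Lattice vectors of small norm congruent modulo three are equal. -/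
theorem eq_of_red_eq {v w : leechLattice} (hv : sqNorm (v : GolayPt → ℤ) ≤ 64)
    (hw : sqNorm (w : GolayPt → ℤ) ≤ 64) (h : red v = red w) : v = w := by
  have hdvd : ∀ p, (3 : ℤ) ∣ ((v - w : leechLattice) : GolayPt → ℤ) p := by
    intro p
    have h1 := congrFun h (idx p)
    simp only [red, pt_idx] at h1
    rw [AddSubgroup.coe_sub, Pi.sub_apply]
    exact (ZMod.intCast_eq_intCast_iff_dvd_sub _ _ 3).mp h1.symm
  choose z hz using hdvd
  have hz' : ((v - w : leechLattice) : GolayPt → ℤ) = (3 : ℤ) • z := by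
    funext p; rw [hz, Pi.smul_apply, smul_eq_mul]
  have h8 : (8 : ℤ) • z ∈ leechLattice := by
    have : (8 : ℤ) • z = ∑ p, z p • ((LeechEight.latE p : leechLattice) : GolayPt → ℤ) := by
      funext i
      simp [Finset.sum_apply, LeechEight.latE, LeechEight.vecE, mul_comm]
    rw [this]
    exact sum_mem fun p _ => zsmul_mem (LeechEight.latE p).2 _
  have hzm : z ∈ leechLattice := by
    have h3 : (3 : ℤ) • z ∈ leechLattice := hz' ▸ (v - w).2
    have := sub_mem (zsmul_mem h3 3) h8
    rwa [smul_smul, ← sub_smul, show (3 * 3 - 8 : ℤ) = 1 by norm_num, one_smul] at this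
  have hn : sqNorm ((v - w : leechLattice) : GolayPt → ℤ) ≤ 256 := by
    have h1 := sqNorm_sub_eq (v : GolayPt → ℤ) w
    have h2 := sqNorm_add_eq (v : GolayPt → ℤ) w
    have h3 := sqNorm_nonneg ((v : GolayPt → ℤ) + w)
    rw [AddSubgroup.coe_sub]
    linarith
  rw [hz', Golay.sqNorm_smul] at hn
  by_contra hne
  have hz0 : z ≠ 0 := by
    rintro rfl
    exact hne (sub_eq_zero.mp (Subtype.ext (by rw [hz', smul_zero]; rfl)))
  have := thirtytwo_le_sqNorm hzm hz0
  linarith

theorem sqNorm_latE' (p : GolayPt) :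
    sqNorm ((LeechEight.latE p : leechLattice) : GolayPt → ℤ) = 64 := by
  simp [sqNorm, LeechEight.latE, LeechEight.vecE]

theorem mat_injective : Function.Injective mat := by
  intro g h e
  refine MonsterType.ext_latE fun p => eq_of_red_eq ?_ ?_ ?_
  · rw [sqNorm_smul_lat, sqNorm_latE']
  · rw [sqNorm_smul_lat, sqNorm_latE']
  · funext i
    have := congrArg (fun M : Matrix _ _ (ZMod 3) => M i (idx p)) e
    simp only [mat, Matrix.of_apply, pt_idx] at this
    have h2 : ∀ x y : ZMod 3, 2 * x = 2 * y → x = y := by decide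
    exact h2 _ _ this

/-- The code represents the automorphism. -/
def Rep0 (c : ℕ) (g : Co0) : Prop := mat g = decF3 24 c

theorem rep0_one : Rep0 (oneF3 24) 1 := by rw [Rep0, mat_one, decF3_oneF3]

theorem rep0_mul {a b : ℕ} {g h : Co0} (hg : Rep0 a g) (hh : Rep0 b h) :
    Rep0 (mulF3 24 a b) (g * h) := by
  rw [Rep0, mat_mul, hg, hh, decF3_mulF3]

theorem rep0_uniq {a : ℕ} {g h : Co0} (hg : Rep0 a g) (hh : Rep0 a h) : g = h :=
  mat_injective (hg.trans hh.symm)

/-- An automorphism fixes a short vector when the code does modulo three. -/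
theorem smul_eq_of_code {v : leechLattice} (hv : sqNorm (v : GolayPt → ℤ) ≤ 64) {vc c : ℕ}
    (hvc : ∀ i, decF3 24 vc i 0 = red v i) {g : Co0} (hg : Rep0 c g)
    (h : mulF3 24 c vc = vc) : g • v = v := by
  refine eq_of_red_eq (by rw [sqNorm_smul_lat]; exact hv) hv ?_
  funext i
  rw [← mat_mulVec, hg, ← hvc i]
  conv_rhs => rw [← h, decF3_mulF3]
  simp only [Matrix.mulVec, dotProduct, Matrix.mul_apply, hvc]

/-! ### The generators -/

/-- Membership test with parity witness. -/
def inLeechB (x : GolayPt → ℤ) (m : ℤ) : Bool :=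
  decide (∀ i, x i ≡ m [ZMOD 2]) && decide (∑ i, x i ≡ 4 * m [ZMOD 8]) &&
    isCode (enc (twoWord x m))

theorem mem_of_inLeechB {x : GolayPt → ℤ} (h : (inLeechB x 0 || inLeechB x 1) = true) :
    x ∈ leechLattice := by
  simp only [inLeechB, Bool.or_eq_true, Bool.and_eq_true, decide_eq_true_eq] at h
  rw [mem_leechLattice']
  rcases h with ⟨⟨h1, h2⟩, h3⟩ | ⟨⟨h1, h2⟩, h3⟩
  exacts [Or.inl ⟨h1, h2, mem_golayCode.mpr h3⟩, Or.inr ⟨h1, h2, mem_golayCode.mpr h3⟩]

/-- An integer vector given by a list. -/
def ofList (l : List ℤ) : GolayPt → ℤ := fun p => l.getD (idx p).val 0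

/-- The vectors used to generate the lattice. -/
def genVecs : List (GolayPt → ℤ) :=
  Pi.single none 8 :: ((List.finRange 23).map fun i : Fin 23 =>
    Pi.single (some (i : ZMod 23)) 4 - Pi.single none 4) ++
    CfsgLib.Golay.gens.map (fun g => twoInd (decS g)) ++ [oddVec]

/-- A subgroup holding the generating vectors holds the lattice. -/
theorem leech_le_of_genVecs (M : AddSubgroup (GolayPt → ℤ)) (h : ∀ z ∈ genVecs, z ∈ M) :
    leechLattice ≤ M := by
  classical
  have h8 : (Pi.single none 8 : GolayPt → ℤ) ∈ M := h _ (by simp [genVecs])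
  have hdiff : ∀ i : GolayPt, Pi.single i (4 : ℤ) - Pi.single none 4 ∈ M := by
    intro i
    rcases i with _ | x
    · rw [sub_self]; exact zero_mem _
    · refine h _ ?_
      simp only [genVecs, List.mem_cons, List.mem_append, List.mem_map, List.mem_finRange, true_and]
      refine Or.inl (Or.inl (Or.inr ⟨⟨x.val, x.val_lt⟩, ?_⟩))
      rfl
  have hgen : ∀ g ∈ CfsgLib.Golay.gens, twoInd (decS g) ∈ M := fun g hg => h _ (by
    simp only [genVecs, List.mem_append, List.mem_map]
    exact Or.inl (Or.inr ⟨g, hg, rfl⟩))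
  have hfour : ∀ x : GolayPt → ℤ, (∀ i, (4 : ℤ) ∣ x i) → (8 : ℤ) ∣ ∑ i, x i → x ∈ M := by
    intro x h4 hs
    choose a ha using h4
    have hsum : ∑ i, x i = 4 * ∑ i, a i := by
      rw [Finset.mul_sum]; exact Finset.sum_congr rfl fun i _ => ha i
    obtain ⟨c, hc⟩ : (2 : ℤ) ∣ ∑ i, a i := by omega
    have hx : x = ∑ i, a i • (Pi.single i (4 : ℤ) - Pi.single none 4) + c • Pi.single none (8 : ℤ) := by
      funext k
      simp only [Pi.add_apply, Finset.sum_apply, Pi.smul_apply, Pi.sub_apply, smul_eq_mul, mul_sub,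
        Finset.sum_sub_distrib, Pi.single_apply, mul_ite, mul_zero,
        Finset.sum_ite_eq, Finset.mem_univ, if_true]
      rw [ha k]
      rcases eq_or_ne k none with rfl | hk
      · simp only [if_true, ← Finset.sum_mul, hc]; ring
      · simp only [if_neg hk, Finset.sum_const_zero]; ring
    rw [hx]
    exact add_mem (sum_mem fun i _ => zsmul_mem (hdiff i) _) (zsmul_mem h8 _)
  have hcode : ∀ k, codeWord k < 2 ^ 24 ∧ isCode (codeWord k) = true ∧
      twoInd (decS (codeWord k)) ∈ M := by
    intro k
    refine spanWord_induction (P := fun n => n < 2 ^ 24 ∧ isCode n = true ∧ twoInd (decS n) ∈ M)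
      CfsgLib.Golay.gens ⟨by norm_num, isCode_zero, ?_⟩ ?_
      (fun g hg => ⟨?_, isCode_gens g hg, hgen g hg⟩) k
    · have : twoInd (decS 0) = 0 := by decide +kernel
      rw [this]; exact zero_mem _
    · rintro a b ⟨ha, hac, haM⟩ ⟨hb, hbc, hbM⟩
      refine ⟨Nat.xor_lt_two_pow ha hb, isCode_xor hac hbc, ?_⟩
      have he : twoInd (decS (a ^^^ b)) =
          twoInd (decS a) + twoInd (decS b) - fourInd (decS a ∩ decS b) := by
        funext i
        simp only [twoInd, fourInd, Pi.sub_apply, Pi.add_apply, mem_decS, Finset.mem_inter,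
          Nat.testBit_xor]
        cases Nat.testBit a (idx i).val <;> cases Nat.testBit b (idx i).val <;> simp
      rw [he]
      refine sub_mem (add_mem haM hbM) (hfour _ (fun i => ?_) ?_)
      · simp only [fourInd]; split_ifs <;> simp
      · obtain ⟨c, hc⟩ := even_card_inter (mem_supports.mpr (by rw [encS_decS ha]; exact hac))
          (mem_supports.mpr (by rw [encS_decS hb]; exact hbc))
        simp only [fourInd, Finset.sum_ite_mem, Finset.univ_inter, Finset.sum_const, nsmul_eq_mul, hc]
        exact ⟨c, by push_cast; ring⟩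
    · revert g; decide +kernel
  have heven : ∀ x, InLeech x 0 → x ∈ M := by
    intro x hx
    obtain ⟨hpar, hsum, hw⟩ := hx
    rw [mem_golayCode] at hw
    obtain ⟨k, -, hk⟩ := exists_codeWord hw
    obtain ⟨hlt, hc, hM⟩ := hcode k
    have h4 : ∀ i, (4 : ℤ) ∣ (x - twoInd (decS (codeWord k))) i := by
      intro i
      have h2 := Int.modEq_iff_dvd.mp (hpar i)
      have hb : i ∈ decS (codeWord k) ↔ twoWord x 0 i = 1 := by
        rw [hk, mem_decS, testBit_enc]; simp
      rcases MonsterType.zmod2_cases (twoWord x 0 i) with h | h <;>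
        simp only [h, zero_ne_one, iff_false, iff_true] at hb <;>
        simp only [twoWord, sub_zero] at h
      · rw [ZMod.intCast_zmod_eq_zero_iff_dvd] at h
        simp only [Pi.sub_apply, twoInd, if_neg hb]
        push_cast at h
        omega
      · have h' : (x i / 2) % 2 = 1 := intCast_ne_zero_iff.mp (by rw [h]; decide)
        simp only [Pi.sub_apply, twoInd, if_pos hb]
        omega
    have h8' : (8 : ℤ) ∣ ∑ i, (x - twoInd (decS (codeWord k))) i := by
      simp only [Pi.sub_apply, Finset.sum_sub_distrib, sum_twoInd]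
      obtain ⟨c, hc'⟩ := four_dvd_card_support (b := decS (codeWord k))
        (mem_supports.mpr (by rw [encS_decS hlt]; exact hc))
      have := Int.modEq_iff_dvd.mp hsum
      rw [hc']
      push_cast
      omega
    have := add_mem (hfour _ h4 h8') hM
    rwa [sub_add_cancel] at this
  intro x hx
  rcases mem_leechLattice'.mp hx with h' | h'
  · exact heven x h'
  · have hodd : oddVec ∈ M := h _ (by simp [genVecs])
    have hi : InLeech oddVec 1 := by
      refine ⟨?_, by decide +kernel, mem_golayCode.mpr (by decide +kernel)⟩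
      intro i; revert i; decide +kernel
    have h2 := h'.add hi.neg
    norm_num at h2
    have := add_mem (heven _ h2) hodd
    rwa [neg_add_cancel_right] at this

/-- The frame of the non-monomial automorphism: on each tetrad of a sextet half the all-ones
matrix minus the identity, with one tetrad negated. -/
def etaVec (tets : List (List ℕ)) (p q : GolayPt) : ℤ :=
  tets.foldl (fun acc t => if t.contains (idx p).val && t.contains (idx q).val then
    (if p = q then 4 else -4) * (if tets.head? == some t then -1 else 1) else acc) 0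

theorem exists_frame_element (v : GolayPt → GolayPt → ℤ) (pre : List (GolayPt → ℤ))
    (hv : ∀ i, (inLeechB (v i) 0 || inLeechB (v i) 1) = true)
    (hdot : ∀ i j, dotInt (v i) (v j) = if i = j then 64 else 0)
    (hfwd : ∀ z ∈ genVecs, (inLeechB (coord v z) 0 || inLeechB (coord v z) 1) = true)
    (hbwd : ∀ z ∈ genVecs, ∃ u ∈ pre, (inLeechB u 0 || inLeechB u 1) = true ∧ coord v u = z)
    (hcong : ∀ i j, CongTwo (v i) (v j)) :
    ∃ g : Co0, ∀ i j, mat g i j = 2 * ((v (pt i) (pt j) : ℤ) : ZMod 3) := by
  have hF : IsFrame v := ⟨fun i => mem_of_inLeechB (hv i), hdot, hcong⟩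
  have hle : leechLattice ≤ coordLattice hF := by
    refine leech_le_of_genVecs _ fun z hz => ?_
    obtain ⟨u, -, hu, e⟩ := hbwd z hz
    exact ⟨u, mem_of_inLeechB hu, e⟩
  let M : AddSubgroup (GolayPt → ℤ) :=
    { carrier := {u | u ∈ leechLattice ∧ coord v u ∈ leechLattice}
      zero_mem' := ⟨zero_mem _, by
        rw [show coord v 0 = 0 from by funext i; simp [coord, dotInt]]; exact zero_mem _⟩
      add_mem' := fun {a b} ha hb => ⟨add_mem ha.1 hb.1, by
        rw [coord_add hF ha.1]; exact add_mem ha.2 hb.2⟩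
      neg_mem' := fun {a} ha => ⟨neg_mem ha.1, by
        have h0 : coord v (a + -a) = coord v a + coord v (-a) := coord_add hF ha.1
        rw [add_neg_cancel, show coord v 0 = 0 from by funext i; simp [coord, dotInt]] at h0
        rw [(neg_eq_of_add_eq_zero_right h0.symm).symm]
        exact neg_mem ha.2⟩ }
  have hge : leechLattice ≤ M := by
    refine leech_le_of_genVecs _ fun z hz => ⟨?_, mem_of_inLeechB (hfwd z hz)⟩
    obtain ⟨u, -, hu, e⟩ := hbwd z hz
    rw [← e]
    have hgv : ∀ z ∈ genVecs, (inLeechB z 0 || inLeechB z 1) = true := by decide +kernel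
    exact e.symm ▸ mem_of_inLeechB (hgv z hz)
  have heq : coordLattice hF = leechLattice := le_antisymm
    (by rintro z ⟨u, hu, rfl⟩; exact (hge hu).2) hle
  refine ⟨frameAut hF heq, fun i j => ?_⟩
  simp only [mat, Matrix.of_apply, red, coe_frameAut]
  congr 2
  simp only [coord, coe_latE]
  rw [dot_symm, dot_single_right]
  omega

theorem mat_permW (σ : M24) (i j : Fin 24) :
    mat (permW σ) i j = if (σ : Equiv.Perm GolayPt) (pt j) = pt i then 1 else 0 := by
  simp only [mat, Matrix.of_apply, red, permW_latE, MonsterType.latE_apply]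
  by_cases h : (σ : Equiv.Perm GolayPt) (pt j) = pt i
  · rw [if_pos h, if_pos h.symm]; decide
  · rw [if_neg h, if_neg (fun e => h e.symm)]; simp

theorem mat_sgnW (c : golayCode) (i j : Fin 24) :
    mat (sgnW c) i j = if i = j then (if c.1 (pt i) = 0 then 1 else 2) else 0 := by
  simp only [mat, Matrix.of_apply, red, sgnW_apply, MonsterType.latE_apply]
  have hij : pt i = pt j ↔ i = j := ⟨fun e => by rw [← idx_pt i, e, idx_pt], congrArg pt⟩
  by_cases h : i = j
  · subst h
    by_cases hc : c.1 (pt i) = 0 <;> simp [hc] <;> decide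
  · by_cases hc : c.1 (pt i) = 0 <;> simp [h, hc, hij]

end CfsgLib.Schur.ConwayModel
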