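import Cfsg.Agent.Lib.Schur.GolayOutBase

/-! Generated data for the double cover of M12 as signed permutations. -/

set_option autoImplicit false

namespace CfsgLib.Schur.CoverM12

/-- The points of the dodecad. -/
def dodL : List ℕ := [0,1,2,3,4,6,8,9,12,13,16,18]

/-- The weight 6 words as sets of signed points. -/
def wordsL : List ℕ := [175,377,1235,1334,1484,2292,2375,2458,3101,3178,3489,12996,23050,25377,37428,43680,47184,50817,60672,71240,75648,78092,85536,86114,92289,101121,107553,115104,136072,140812,144704,148114,153872,164419,181328,197444,201860,205000,231430,267026,273921,281472,282776,287904,296736,300038,303489,313377,328353,338208,345345,363648,385536,395800,399490,401429,409866,529954,533017,541288,547904,549200,557830,562448,592450,596008,607242,622661,657925,666640,690496,716800,721155,787988,790820,796684,819250,918537,1055328,1059348,1061040,1066562,1070120,1082064,1087620,1089636,1097747,1114666,1121282,1132616,1181201,1189897,1196225,1213570,1311245,1319960,1376390,1444868,1544192,1576456,1577034,1582085,1591330,1639520,1659392,1703964,1837073,1974784,2097246,2097557,2097634,2098277,2098360,2098443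,2099251,2099401,2099500,2100358,2100560,2126864,2150720,2199682,2254912,2268160,2269456,2310153,2371624,2430980,2523268,2556930,2636032,2663488,2672656,2695204,2756688,2770176,2899971,2949384,3170440,3219521,3245060,3280902,3344512,3413120,3424304,3442690,3702817,4201104,4203120,4208676,4211480,4215170,4218953,4229700,4231392,4235412,4260359,4292930,4328194,4329498,4343944,4358405,4393025,4457098,4462856,4474898,4522028,4587920,4608512,4719425,4727080,4735025,4753411,4786436,4849734,4948480,5058560,5243556,5247060,5253312,5277744,5288448,5308553,5464064,5505059,6078464,6340642,6361376,6367240,6373568,6430849,6562052,6586385,6819852,7079968,7358465,7471176,7864338,8394500,8397640,8402056,8405585,8413240,8422930,8425762,8437954,8454796,8458688,8463428,8521408,8523852,8528260,8537091,8552593,8586504,8598016,8651302,8655920,8683796,8716299,8913712,8917014,8921185,8929545,8946724,9176322,9212416,9388032,9437827,9454736,9471041,9502757,9568338,9617920,9699496,9728000,10067968,10506400,10526725,10567938,10584160,10756240,10765320,10879233,11076609,11141130,11538456,11543584,12058692,12583465,12591377,12599648,12648610,12701696,12845189,13017088,13107288,13132288,13631502,13959680,14290944,14684226,14713216,14811156]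

/-- Lifts of the three generators. -/
def liftL : List (List ℕ × List ℕ) := [([8,4,7,11,5,3,2,1,21,18,10,0,20,16,19,23,17,15,14,13,9,6,22,12],[11,7,6,5,1,4,21,2,0,20,10,3,23,19,18,17,13,16,9,14,12,8,22,15]),([0,4,8,7,11,21,3,2,6,13,10,5,12,16,20,19,23,9,15,14,18,1,22,17],[0,21,7,6,1,11,8,3,2,17,10,4,12,9,19,18,13,23,20,15,14,5,22,16]),([10,2,13,17,8,3,23,9,16,19,12,6,22,14,1,5,20,15,11,21,4,7,0,18],[22,14,1,5,20,15,11,21,4,7,0,18,10,2,13,17,8,3,23,9,16,19,12,6])]

/-- A commuting pair with non-commuting lifts, as words. -/
def pairW : List ℕ × List ℕ := ([2,0,1,0,2,1,0], [1,0,2,1,0,2,0,0,1,0])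

end CfsgLib.Schur.CoverM12
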