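import Cfsg.Agent.Lib.Schur.GolayOutBase

/-! Generated data for the automorphisms of M12. -/

set_option autoImplicit false

namespace CfsgLib.Schur.OutM12

open Cfsg CfsgLib.Golay CfsgLib.Schur.GolaySearch CfsgLib.Schur.GolayOut

/-- `genA` -/
def genAL : List ℕ := [12,4,9,18,6,17,3,15,2,1,19,11,13,8,5,10,16,22,0,23,14,7,21,20]

/-- The permutation with image list `genAL`. -/
def genA : Equiv.Perm GolayPt :=
  ⟨imgFun genAL, imgFun [18,9,8,6,1,14,4,21,13,2,15,11,0,12,20,7,16,5,3,10,23,22,17,19], by decide +kernel, by decide +kernel⟩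

theorem toList_genA : toList genA = genAL := by decide +kernel

/-- `genB` -/
def genBL : List ℕ := [0,4,12,9,18,21,13,7,3,2,14,11,8,1,5,19,16,10,6,22,23,17,20,15]

/-- The permutation with image list `genBL`. -/
def genB : Equiv.Perm GolayPt :=
  ⟨imgFun genBL, imgFun [0,13,9,8,1,14,18,7,12,3,17,11,2,6,10,23,16,21,4,15,22,5,19,20], by decide +kernel, by decide +kernel⟩

theorem toList_genB : toList genB = genBL := by decide +kernel

/-- `genC` -/
def genCL : List ℕ := [16,2,1,6,12,20,3,11,18,13,19,7,4,9,22,17,0,15,8,10,5,23,14,21]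

/-- The permutation with image list `genCL`. -/
def genC : Equiv.Perm GolayPt :=
  ⟨imgFun genCL, imgFun [16,2,1,6,12,20,3,11,18,13,19,7,4,9,22,17,0,15,8,10,5,23,14,21], by decide +kernel, by decide +kernel⟩

theorem toList_genC : toList genC = genCL := by decide +kernel

/-- The straight-line program. -/
def prog : List (ℕ × ℕ) :=
  [(0,4),(2,1),(0,0),(8,1),(2,0),(9,10),(2,6),(6,9),(0,7),(11,10),(4,3),(9,5),
    (0,6),(13,5),(0,4),(0,2),(10,5),(13,21),(16,0),(18,18),(0,1),(15,3),(20,0),(10,3),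
    (9,0),(19,13),(9,0),(5,21),(18,0),(30,21),(0,20),(0,30),(0,3),(3,32),(0,31),(0,2),
    (36,14),(27,36),(28,0),(36,0),(0,29),(0,4),(46,20),(12,43),(0,19),(2,17),(19,20),(32,37),
    (0,1),(21,48),(35,0),(10,0),(5,28),(38,0),(34,0),(9,2),(41,0),(37,0),(21,2),(61,0),
    (40,13),(23,51),(0,1),(62,7),(66,0),(1,12),(40,19),(65,0),(59,0),(16,3),(32,0),(9,23),
    (10,0),(0,70),(0,48),(0,4),(50,26),(62,0),(82,0),(34,0),(3,21),(71,0),(42,9),(73,52),
    (53,85),(1,0),(3,0),(0,85),(0,93),(0,7),(88,6),(0,80),(0,67),(0,3),(24,35),(8,51),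
    (0,101),(0,2),(15,10),(0,16),(0,88),(0,38),(0,4),(50,36),(56,0),(96,0),(61,0),(106,12),
    (12,8),(0,49),(0,34),(3,50),(40,0),(24,0),(12,0),(3,119),(43,54),(0,116),(0,113),(15,93),
    (59,67),(30,59),(26,0),(0,117),(0,59),(124,66),(0,14),(6,0),(11,45),(67,0),(0,2),(99,0),
    (13,0),(13,12),(14,22),(52,124),(0,133),(28,135),(64,0),(0,112),(0,75),(0,65),(8,61),(90,0),
    (129,0),(48,0),(56,0),(3,35),(110,0),(129,0),(69,46),(0,23),(17,24),(155,0),(145,0),(18,0),
    (12,4),(74,83),(62,156),(20,0),(0,2),(22,31),(1,0),(0,168),(0,159),(0,110),(107,9),(14,24),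
    (0,52),(1,16),(0,17),(41,0),(83,0),(138,0),(94,0),(8,6),(23,0),(115,0),(89,0),(134,0)]

/-- Bottom of the stack. -/
def stack : List (List ℕ) :=
  [[16,2,1,6,12,20,3,11,18,13,19,7,4,9,22,17,0,15,8,10,5,23,14,21],
    [0,13,9,8,1,14,18,7,12,3,17,11,2,6,10,23,16,21,4,15,22,5,19,20],
    [18,9,8,6,1,14,4,21,13,2,15,11,0,12,20,7,16,5,3,10,23,22,17,19],
    [16,2,1,6,12,20,3,11,18,13,19,7,4,9,22,17,0,15,8,10,5,23,14,21],
    [0,4,12,9,18,21,13,7,3,2,14,11,8,1,5,19,16,10,6,22,23,17,20,15],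
    [12,4,9,18,6,17,3,15,2,1,19,11,13,8,5,10,16,22,0,23,14,7,21,20],
    [0,1,2,3,4,5,6,7,8,9,10,11,12,13,14,15,16,17,18,19,20,21,22,23]]

/-- Levels. -/
def lev : List (List ℕ) :=
  [[186,169,60,134,168,114,174,153,185,154,179,163],
    [186,157,120,115,177,117,175,155,181,164,160],
    [186,111,122,30,159,55,131,128,138,104],
    [186,0,100,86,47,73,125,33,144],
    [186,14,38,24,5,69,65,77]]

/-- Targets. -/
def tg : List (List ℕ) :=
  [[0,1,2,3,4,6,8,9,12,13,16,18],
    [1,2,3,4,6,8,9,12,13,16,18],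
    [2,3,4,6,8,9,12,13,16,18],
    [3,4,6,8,9,12,13,16,18],
    [4,6,8,9,12,13,16,18]]

/-- Base. -/
def base : List ℕ := [0,1,2,3,4]

/-- Stages for the centraliser of `genA`. -/
def stagesA : List Stage :=
  [([0,12,13,8,2,9,1,4,6,3,18], [], [0,1,2,3,4,6,8,9,12,13,16,18]),
  ([5,17,22,21,7,15,10,19,23,20,14], [3277413,6053905,6554826,42232,705094,3719203], [5,7,10,11,14,15,17,19,20,21,22,23]),
  ([11], [1337732,4721045,924689,5405696,2422785,7903248], [5,7,10,11,14,15,17,19,20,21,22,23]),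
  ([16], [2702848,5476616,84464,1410188,4424227,7438406], [0,1,2,3,4,6,8,9,12,13,16,18])]

/-- Stages for the elements acting on `genB` like `genC`. -/
def stagesB : List Stage :=
  [([1,4,18,6,13], [], [0,1,2,3,4,6,8,9,12,13,16,18]),
  ([2,12,8,3,9], [], [0,1,2,3,4,6,8,9,12,13,16,18]),
  ([5,21,17,10,14], [2232654,145176,2106966,2512448,280334,2384216], [5,7,10,11,14,15,17,19,20,21,22,23]),
  ([15,19,22,20,23], [705094,6594610,2675464,2810896,4490852,5129250], [5,7,10,11,14,15,17,19,20,21,22,23]),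
  ([0], [3277413,6053905,3719203,1053483,7767041,1188915], [0,1,2,3,4,6,8,9,12,13,16,18]),
  ([7], [6554826,42232,4593028,545190,168928,3182981], [5,7,10,11,14,15,17,19,20,21,22,23]),
  ([11], [1337732,4721045,924689,5405696,2422785,7903248], [5,7,10,11,14,15,17,19,20,21,22,23]),
  ([16], [2702848,5476616,84464,1410188,4424227,7438406], [0,1,2,3,4,6,8,9,12,13,16,18])]

/-- `outer` -/
def outerL : List ℕ := [11,10,21,23,17,3,19,9,22,15,4,8,20,14,2,18,5,1,7,12,6,13,0,16]

/-- The permutation with image list `outerL`. -/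
def outer : Equiv.Perm GolayPt :=
  ⟨imgFun outerL, imgFun [22,17,14,5,10,16,20,18,11,7,1,0,19,21,13,9,23,4,15,6,12,2,8,3], by decide +kernel, by decide +kernel⟩

theorem toList_outer : toList outer = outerL := by decide +kernel

/-- Stages for the centraliser of `genA` in the whole group. -/
def stagesFull : List Stage :=
  [([0,12,13,8,2,9,1,4,6,3,18], [], [0,1,2,3,4,5,6,7,8,9,10,11,12,13,14,15,16,17,18,19,20,21,22,23]),
  ([5,17,22,21,7,15,10,19,23,20,14], [3277413,6053905,6554826,42232,705094,3719203], [0,1,2,3,4,5,6,7,8,9,10,11,12,13,14,15,16,17,18,19,20,21,22,23]),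
  ([11], [1337732,4721045,924689,5405696,2422785,7903248], [0,1,2,3,4,5,6,7,8,9,10,11,12,13,14,15,16,17,18,19,20,21,22,23]),
  ([16], [2702848,5476616,84464,1410188,4424227,7438406], [0,1,2,3,4,5,6,7,8,9,10,11,12,13,14,15,16,17,18,19,20,21,22,23])]

end CfsgLib.Schur.OutM12
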