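/-
A stem extension of M12 by a group of order two, made of signed permutations.
-/
import Cfsg.Agent.Lib.Schur.CoverM12Data
import Cfsg.Agent.Lib.Schur.OutM12
import Cfsg.Prelude.Def_KGroupFacts
import Mathlib.Data.Nat.Bitwise

set_option autoImplicit false

namespace CfsgLib.Schur.CoverM12

open Cfsg CfsgLib.Golay CfsgLib.Schur.GolayOut
open scoped Pointwise commutatorElement

/-- The point of the dodecad below a signed point. -/
def proj (q : GolayPt) : GolayPt :=
  pt ⟨dodL.getD ((idx q).val % 12) 0 % 24, Nat.mod_lt _ (by norm_num)⟩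

/-- The change of sign. -/
def negPerm : Equiv.Perm GolayPt :=
  ⟨imgFun ((List.range 24).map fun i => (i + 12) % 24),
    imgFun ((List.range 24).map fun i => (i + 12) % 24), by decide +kernel, by decide +kernel⟩

/-- The signed permutations lying over the elements of M12 and keeping the code. -/
structure Over (x h : Equiv.Perm GolayPt) : Prop where
  proj : ∀ q, CoverM12.proj (h q) = x (CoverM12.proj q)
  neg : ∀ q, h (negPerm q) = negPerm (h q)
  code : ∀ w ∈ wordsL, h • decS w ∈ wordsL.map decS

theorem over_one : Over 1 1 :=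
  ⟨fun _ => rfl, fun _ => rfl, fun w hw => by rw [one_smul]; exact List.mem_map_of_mem hw⟩

theorem Over.mul {x h x' h' : Equiv.Perm GolayPt} (a : Over x h) (b : Over x' h') :
    Over (x * x') (h * h') := by
  refine ⟨fun q => ?_, fun q => ?_, fun w hw => ?_⟩
  · simp only [Equiv.Perm.mul_apply, a.proj, b.proj]
  · simp only [Equiv.Perm.mul_apply, b.neg, a.neg]
  · obtain ⟨w', hw', e⟩ := List.mem_map.1 (b.code w hw)
    rw [mul_smul, ← e]
    exact a.code w' hw'

/-- A pair given by image lists is over. -/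
def overOK (a : List ℕ) (h : List ℕ) : Bool :=
  (List.range 24).all (fun i =>
    dodL.getD (h.getD i 0 % 12) 0 == a.getD (dodL.getD (i % 12) 0) 0 &&
      h.getD ((i + 12) % 24) 0 == (h.getD i 0 + 12) % 24 &&
      Nat.blt (h.getD i 0) 24) &&
  wordsL.all (fun w => wordsL.contains (pmap h w))

theorem toList_getD (σ : Equiv.Perm GolayPt) (i : Fin 24) :
    (toList σ).getD i.val 0 = (idx (σ (pt i))).val := by
  rw [List.getD_eq_getElem _ _ (by rw [toList_length]; exact i.2)]
  simp only [toList, List.getElem_ofFn]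

theorem words_lt : ∀ w ∈ wordsL, w < 2 ^ 24 := by decide +kernel

theorem over_of_ok {x h : Equiv.Perm GolayPt} (hok : overOK (toList x) (toList h) = true) :
    Over x h := by
  simp only [overOK, Bool.and_eq_true, List.all_eq_true, List.mem_range, beq_iff_eq,
    Nat.blt_eq] at hok
  obtain ⟨hi, hw⟩ := hok
  have hd : ∀ k < 12, dodL.getD k 0 < 24 := by decide +kernel
  refine ⟨fun q => ?_, fun q => ?_, fun w hwm => ?_⟩
  · obtain ⟨i, rfl⟩ : ∃ i, pt i = q := ⟨idx q, pt_idx q⟩
    have h1 := (hi i i.2).1.1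
    rw [toList_getD] at h1
    have h2 : (toList x).getD (dodL.getD (i.val % 12) 0) 0 =
        (idx (x (pt ⟨dodL.getD (i.val % 12) 0, hd _ (Nat.mod_lt _ (by norm_num))⟩))).val :=
      toList_getD x ⟨_, hd _ (Nat.mod_lt _ (by norm_num))⟩
    rw [h2] at h1
    apply idx_injective
    apply Fin.ext
    simp only [proj, idx_pt, Nat.mod_eq_of_lt (hd _ (Nat.mod_lt _ (by norm_num : 0 < 12))), h1]
    exact Nat.mod_eq_of_lt (Fin.is_lt _)
  · obtain ⟨i, rfl⟩ : ∃ i, pt i = q := ⟨idx q, pt_idx q⟩
    have h1 := (hi i i.2).1.2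
    have hn : ∀ j : Fin 24, negPerm (pt j) = pt ⟨(j.val + 12) % 24, Nat.mod_lt _ (by norm_num)⟩ := by
      decide +kernel
    rw [toList_getD, toList_getD h ⟨(i.val + 12) % 24, Nat.mod_lt _ (by norm_num)⟩] at h1
    rw [hn, ← pt_idx (h (pt i)), hn]
    apply idx_injective
    apply Fin.ext
    rw [h1, idx_pt]
  · have h1 := List.contains_iff_mem.1 (hw w hwm)
    refine List.mem_map.2 ⟨_, h1, ?_⟩
    rw [← decS_encS (h • decS w), encS_smul, encS_decS (words_lt w hwm)]

theorem exists_perm {l li : List ℕ} (hl : l.length = 24)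
    (h1 : ∀ q, imgFun li (imgFun l q) = q) (h2 : ∀ q, imgFun l (imgFun li q) = q)
    (hlt : ∀ i ∈ l, i < 24) : ∃ h : Equiv.Perm GolayPt, toList h = l := by
  refine ⟨⟨imgFun l, imgFun li, h1, h2⟩, List.ext_getElem (by rw [toList_length, hl]) fun i hi hi' => ?_⟩
  simp only [toList, List.getElem_ofFn]
  show (idx (imgFun l (pt _))).val = _
  simp only [imgFun, idx_pt, List.getD_eq_getElem _ _ hi', Nat.mod_eq_of_lt (hlt _ (List.getElem_mem hi'))]

theorem lift_checks : ∀ k : Fin 3,
    (liftL.getD k.val ([], [])).1.length = 24 ∧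
    (∀ i ∈ (liftL.getD k.val ([], [])).1, i < 24) ∧
    (∀ q, imgFun (liftL.getD k.val ([], [])).2 (imgFun (liftL.getD k.val ([], [])).1 q) = q) ∧
    (∀ q, imgFun (liftL.getD k.val ([], [])).1 (imgFun (liftL.getD k.val ([], [])).2 q) = q) ∧
    overOK ([OutM12.genAL, OutM12.genBL, OutM12.genCL].getD k.val [])
      (liftL.getD k.val ([], [])).1 = true := by
  decide +kernel

theorem exists_lift (k : Fin 3) : ∃ h : Equiv.Perm GolayPt,
    Over ([OutM12.genA, OutM12.genB, OutM12.genC].getD k.val 1) h ∧
      toList h = (liftL.getD k.val ([], [])).1 := by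
  obtain ⟨h1, h2, h3, h4, h5⟩ := lift_checks k
  obtain ⟨h, hh⟩ := exists_perm h1 h3 h4 h2
  refine ⟨h, over_of_ok ?_, hh⟩
  rw [hh]
  have : toList ([OutM12.genA, OutM12.genB, OutM12.genC].getD k.val 1) =
      [OutM12.genAL, OutM12.genBL, OutM12.genCL].getD k.val [] := by
    fin_cases k
    exacts [OutM12.toList_genA, OutM12.toList_genB, OutM12.toList_genC]
  rwa [this]

/-- The lift of a generator. -/
noncomputable def liftPerm (k : Fin 3) : Equiv.Perm GolayPt := (exists_lift k).choose

/-- A generator as an element of M12. -/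
noncomputable def genM (k : Fin 3) : Cfsg.Spor.M12 :=
  ⟨[OutM12.genA, OutM12.genB, OutM12.genC].getD k.val 1,
    OutM12.gens_mem _ (by fin_cases k <;> simp)⟩

/-- The double cover. -/
noncomputable def cover : Subgroup (Cfsg.Spor.M12 × Equiv.Perm GolayPt) :=
  Subgroup.closure (Set.range fun k => (genM k, liftPerm k))

/-- The projection. -/
noncomputable def coverHom : cover →* Cfsg.Spor.M12 :=
  (MonoidHom.fst _ _).comp cover.subtype

theorem over_mem {z : Cfsg.Spor.M12 × Equiv.Perm GolayPt} (hz : z ∈ cover) : Over z.1.1 z.2 := by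
  have hfin : Finite (Cfsg.Spor.M12 × Equiv.Perm GolayPt) := inferInstance
  rw [cover, ← Subgroup.mem_toSubmonoid,
    Subgroup.closure_toSubmonoid_of_finite] at hz
  induction hz using Submonoid.closure_induction with
  | mem y hy =>
    obtain ⟨k, rfl⟩ := hy
    exact (exists_lift k).choose_spec.1
  | one => exact over_one
  | mul y z _ _ hy hz => exact hy.mul hz

theorem coverHom_surjective : Function.Surjective coverHom := by
  intro x
  have hx : x.1 ∈ Subgroup.closure {OutM12.genA, OutM12.genB, OutM12.genC} := by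
    rw [OutM12.closure_eq]; exact x.2
  suffices h : ∀ y ∈ Subgroup.closure {OutM12.genA, OutM12.genB, OutM12.genC},
      ∃ z : cover, (coverHom z).1 = y by
    obtain ⟨z, hz⟩ := h _ hx
    exact ⟨z, Subtype.ext hz⟩
  intro y hy
  induction hy using Subgroup.closure_induction with
  | mem y hy =>
    have : ∃ k : Fin 3, (genM k).1 = y := by
      rcases hy with rfl | rfl | rfl
      exacts [⟨0, rfl⟩, ⟨1, rfl⟩, ⟨2, rfl⟩]
    obtain ⟨k, rfl⟩ := this
    exact ⟨⟨_, Subgroup.subset_closure ⟨k, rfl⟩⟩, rfl⟩
  | one => exact ⟨1, rfl⟩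
  | mul a b _ _ ha hb =>
    obtain ⟨u, rfl⟩ := ha
    obtain ⟨v, rfl⟩ := hb
    exact ⟨u * v, rfl⟩
  | inv a _ ha =>
    obtain ⟨u, rfl⟩ := ha
    exact ⟨u⁻¹, rfl⟩

/-- The image list of a sign vector. -/
def sgnL (s : ℕ) : List ℕ :=
  (List.range 24).map fun i => bif s.testBit (i % 12) then (i + 12) % 24 else i

theorem sign_check : (List.range 4096).all (fun s => s == 0 || s == 4095 ||
    !(wordsL.all fun w => wordsL.contains (pmap (sgnL s) w))) = true := by
  decide +kernel

theorem over_one_cases {h : Equiv.Perm GolayPt} (hh : Over 1 h) : h = 1 ∨ h = negPerm := by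
  have hproj : ∀ q r : GolayPt, proj r = proj q → r = q ∨ r = negPerm q := by decide +kernel
  classical
  let b : Fin 12 → Bool := fun i => decide (h (pt ⟨i.val, by omega⟩) ≠ pt ⟨i.val, by omega⟩)
  let s := Nat.ofBits b
  have hs : s < 4096 := Nat.ofBits_lt_two_pow b
  have hlist : toList h = sgnL s := by
    refine List.ext_getElem (by simp [toList_length, sgnL]) fun i hi hi' => ?_
    have hi24 : i < 24 := by rwa [toList_length] at hi
    have hbit : s.testBit (i % 12) = b ⟨i % 12, Nat.mod_lt _ (by norm_num)⟩ := by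
      exact Nat.testBit_ofBits_lt b _ (Nat.mod_lt _ (by norm_num))
    simp only [toList, List.getElem_ofFn, sgnL, List.getElem_map, List.getElem_range, hbit, b]
    have hn : ∀ j : Fin 24, negPerm (pt j) = pt ⟨(j.val + 12) % 24, Nat.mod_lt _ (by norm_num)⟩ := by
      decide +kernel
    set q := pt (⟨i % 12, by omega⟩ : Fin 24) with hq
    have hqi : (pt ⟨i, hi24⟩ : GolayPt) = q ∨ pt ⟨i, hi24⟩ = negPerm q := by
      rw [hq, hn]
      rcases Nat.lt_or_ge i 12 with h' | h'
      · left; congr 1; exact Fin.ext (Nat.mod_eq_of_lt h').symm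
      · right; congr 1; exact Fin.ext (show i = (i % 12 + 12) % 24 by omega)
    have hnn : negPerm (negPerm q) = q := by
      have : ∀ r, negPerm (negPerm r) = r := by decide +kernel
      exact this q
    have hne : negPerm q ≠ q := by
      have : ∀ r, negPerm r ≠ r := by decide +kernel
      exact this q
    rcases hproj q (h q) (hh.proj q) with e | e
    · have : decide (h q ≠ q) = false := by simp [e]
      rw [this, cond_false]
      have e' : h (pt ⟨i, hi24⟩) = pt ⟨i, hi24⟩ := by
        rcases hqi with e2 | e2 <;> rw [e2]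
        · exact e
        · rw [hh.neg, e]
      show (idx (h (pt ⟨i, hi24⟩))).val = i
      rw [e', idx_pt]
    · have : decide (h q ≠ q) = true := by simp [e, hne]
      rw [this, cond_true]
      have e' : h (pt ⟨i, hi24⟩) = negPerm (pt ⟨i, hi24⟩) := by
        rcases hqi with e2 | e2 <;> rw [e2]
        · exact e
        · rw [hh.neg, e]
      show (idx (h (pt ⟨i, hi24⟩))).val = (i + 12) % 24
      rw [e', hn, idx_pt]
  have h1 := List.all_eq_true.1 sign_check s (List.mem_range.2 hs)
  simp only [Bool.or_eq_true, beq_iff_eq, Bool.not_eq_true'] at h1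
  rcases h1 with (h1 | h1) | h1
  · left
    exact toList_injective (hlist.trans (by rw [h1, toList_one]; decide +kernel))
  · right
    exact toList_injective (hlist.trans (by rw [h1]; decide +kernel))
  · exfalso
    have : (wordsL.all fun w => wordsL.contains (pmap (sgnL s) w)) = true := by
      rw [List.all_eq_true]
      intro w hw
      obtain ⟨w', hw', e⟩ := List.mem_map.1 (hh.code w hw)
      rw [← hlist, List.contains_iff_mem]
      have : pmap (toList h) w = w' := by
        rw [← encS_decS (words_lt w hw), ← encS_smul, ← e, encS_decS (words_lt w' hw')]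
      rw [this]; exact hw'
    rw [this] at h1
    exact Bool.noConfusion h1

theorem ker_cases (z : cover) (hz : z ∈ coverHom.ker) :
    z.1 = (1, 1) ∨ z.1 = (1, negPerm) := by
  have h1 : z.1.1 = 1 := hz
  have ho := over_mem z.2
  rw [h1] at ho
  rcases over_one_cases ho with h | h
  · exact Or.inl (Prod.ext h1 h)
  · exact Or.inr (Prod.ext h1 h)

theorem ker_le_center : coverHom.ker ≤ Subgroup.center cover := by
  intro z hz
  rw [Subgroup.mem_center_iff]
  intro y
  refine Subtype.ext ?_
  rcases ker_cases z hz with h | h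
  · show y.1 * z.1 = z.1 * y.1
    rw [h, Prod.mk_one_one, mul_one, one_mul]
  · show y.1 * z.1 = z.1 * y.1
    rw [h]
    refine Prod.ext (by simp) (Equiv.ext fun q => ?_)
    exact (over_mem y.2).neg q

/-- The value of a word in the lifted generators. -/
noncomputable def wordElt : List ℕ → cover
  | [] => 1
  | i :: w => ⟨(genM ⟨i % 3, Nat.mod_lt _ (by norm_num)⟩, liftPerm ⟨i % 3, Nat.mod_lt _ (by norm_num)⟩),
      Subgroup.subset_closure ⟨_, rfl⟩⟩ * wordElt w

/-- The image lists of a word. -/
def wordL : List ℕ → List ℕ × List ℕ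
  | [] => (List.range 24, List.range 24)
  | i :: w =>
    (comp ([OutM12.genAL, OutM12.genBL, OutM12.genCL].getD (i % 3) []) (wordL w).1,
      comp (liftL.getD (i % 3) ([], [])).1 (wordL w).2)

theorem toList_wordElt : ∀ w : List ℕ,
    toList (wordElt w).1.1.1 = (wordL w).1 ∧ toList (wordElt w).1.2 = (wordL w).2
  | [] => ⟨toList_one, toList_one⟩
  | i :: w => by
    obtain ⟨h1, h2⟩ := toList_wordElt w
    refine ⟨?_, ?_⟩
    · show toList ((genM _).1 * (wordElt w).1.1.1) = comp _ _
      rw [toList_mul, h1]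
      congr 1
      have hk : ∀ k : Fin 3, toList (genM k).1 =
          [OutM12.genAL, OutM12.genBL, OutM12.genCL].getD k.val [] := by
        intro k
        fin_cases k
        exacts [OutM12.toList_genA, OutM12.toList_genB, OutM12.toList_genC]
      exact hk _
    · show toList (liftPerm _ * (wordElt w).1.2) = comp _ _
      rw [toList_mul, h2]
      congr 1
      exact (exists_lift _).choose_spec.2

theorem pair_check :
    (let a := wordL pairW.1; let b := wordL pairW.2;
      comp a.1 b.1 == comp b.1 a.1 && !(comp a.2 b.2 == comp b.2 a.2)) = true := by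
  decide +kernel

theorem ker_card : ∃ z : cover, z ∈ coverHom.ker ∧ z ∈ commutator cover ∧ z ≠ 1 := by
  have h := pair_check
  simp only [Bool.and_eq_true, beq_iff_eq, Bool.not_eq_true', beq_eq_false_iff_ne] at h
  refine ⟨⁅wordElt pairW.1, wordElt pairW.2⁆, ?_,
    Subgroup.commutator_mem_commutator (Subgroup.mem_top _) (Subgroup.mem_top _), ?_⟩
  · rw [MonoidHom.mem_ker, map_commutatorElement, commutatorElement_eq_one_iff_mul_comm]
    refine Subtype.ext (toList_injective ?_)
    show toList ((wordElt pairW.1).1.1.1 * (wordElt pairW.2).1.1.1) =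
      toList ((wordElt pairW.2).1.1.1 * (wordElt pairW.1).1.1.1)
    rw [toList_mul, toList_mul, (toList_wordElt _).1, (toList_wordElt _).1]
    exact h.1
  · intro he
    rw [commutatorElement_eq_one_iff_mul_comm] at he
    have h2 := congrArg (fun z : cover => toList z.1.2) he
    simp only [Subgroup.coe_mul, Prod.snd_mul, toList_mul, (toList_wordElt _).2] at h2
    exact h.2 h2

theorem exists_cover : ∃ (Γ : Type) (_ : Group Γ) (_ : Finite Γ) (σ : Γ →* Cfsg.Spor.M12),
    IsStemExtension σ ∧ Nonempty (σ.ker ≃* Multiplicative (ZMod 2)) := by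
  obtain ⟨z, hz, hzc, hz1⟩ := ker_card
  have hall : ∀ y : cover, y ∈ coverHom.ker → y = 1 ∨ y = z := by
    intro y hy
    have hz' : z.1 = (1, negPerm) := by
      rcases ker_cases z hz with h | h
      · exact absurd (Subtype.ext h) hz1
      · exact h
    rcases ker_cases y hy with h | h
    · exact Or.inl (Subtype.ext h)
    · exact Or.inr (Subtype.ext (h.trans hz'.symm))
  have hcard : Nat.card coverHom.ker = 2 := by
    rw [Nat.card_eq_two_iff]
    refine ⟨1, ⟨z, hz⟩, fun e => hz1 (congrArg Subtype.val e).symm, Set.eq_univ_iff_forall.2 fun y => ?_⟩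
    rcases hall y.1 y.2 with h | h
    · exact Or.inl (Subtype.ext h)
    · exact Or.inr (Subtype.ext h)
  have : Fact (Nat.Prime 2) := ⟨Nat.prime_two⟩
  refine ⟨cover, inferInstance, inferInstance, coverHom,
    ⟨coverHom_surjective, ker_le_center, fun y hy => ?_⟩,
    ⟨mulEquivOfPrimeCardEq hcard (by simp [Nat.card_eq_fintype_card])⟩⟩
  rcases hall y hy with h | h
  · rw [h]; exact one_mem _
  · rw [h]; exact hzc

end CfsgLib.Schur.CoverM12
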