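/-
A stem extension of M22 with cyclic kernel of order 12, made of monomial permutations on the 330
octads avoiding the two fixed points (three phases) and on the 1232 pairs of an octad and a point
(four phases).
-/
import Cfsg.Agent.Lib.Schur.CoverM22Data
import Cfsg.Agent.Lib.Schur.OutM22
import Cfsg.Prelude.Def_KGroupFacts
import Mathlib.GroupTheory.SpecificGroups.Cyclic

set_option autoImplicit false
set_option maxHeartbeats 4000000
set_option Elab.async false

namespace CfsgLib.Schur.CoverM22

open Cfsg CfsgLib.Golay CfsgLib.Schur.GolayOut CfsgLib.Schur.MonoCover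
open scoped commutatorElement

/-- The points of the two monomial representations. -/
abbrev PtThree := Fin 330 × Fin 3

/-- The points of the second monomial representation. -/
abbrev PtFour := Fin 1232 × Fin 4

theorem objThree_ok : objOK dataThree 330 = true := by decide +kernel

theorem objFour_ok : objOK dataFour 1232 = true := by decide +kernel

theorem treeThree_ok : treeOK dataThree 330 3 treeThree 1 = true := by decide +kernel

theorem treeFour_ok : treeOK dataFour 1232 4 treeFour 1 = true := by decide +kernel

theorem liftThreeX_ok : liftOK dataThree 330 3 genXL liftThreeX invThreeX hintThreeX = true := by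
  decide +kernel

theorem liftThreeY_ok : liftOK dataThree 330 3 genYL liftThreeY invThreeY hintThreeY = true := by
  decide +kernel

theorem liftFourX_ok : liftOK dataFour 1232 4 genXL liftFourX invFourX hintFourX = true := by
  decide +kernel

theorem liftFourY_ok : liftOK dataFour 1232 4 genYL liftFourY invFourY hintFourY = true := by
  decide +kernel

theorem gens_side : (GolayOut.inG side22 genXL && GolayOut.inG side22 genYL) = true := by
  decide +kernel

theorem gen_mem : ∀ b : Bool, (cond b genY genX) ∈ Cfsg.Spor.M22 := by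
  have h := gens_side
  simp only [GolayOut.inG, Bool.and_eq_true] at h
  intro b
  rw [mem_M22_side, mem_M24_iff_isPres]
  cases b <;> simp only [cond_true, cond_false, toList_genX, toList_genY]
  exacts [h.1, h.2]

/-- Packed image data of a generator on the first points. -/
def dThree (b : Bool) : ℕ := cond b liftThreeY liftThreeX

/-- Packed image data of a generator on the second points. -/
def dFour (b : Bool) : ℕ := cond b liftFourY liftFourX

theorem exists_three (b : Bool) : ∃ h : Equiv.Perm PtThree,
    Over dataThree (cond b genY genX) h ∧ ∀ u, h u = stepFun (dThree b) u := by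
  cases b
  · exact exists_over objThree_ok (by rw [cond_false, toList_genX]; exact liftThreeX_ok)
  · exact exists_over objThree_ok (by rw [cond_true, toList_genY]; exact liftThreeY_ok)

theorem exists_four (b : Bool) : ∃ h : Equiv.Perm PtFour,
    Over dataFour (cond b genY genX) h ∧ ∀ u, h u = stepFun (dFour b) u := by
  cases b
  · exact exists_over objFour_ok (by rw [cond_false, toList_genX]; exact liftFourX_ok)
  · exact exists_over objFour_ok (by rw [cond_true, toList_genY]; exact liftFourY_ok)

/-- The group the cover lives in. -/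
abbrev Amb := Cfsg.Spor.M22 × Equiv.Perm PtThree × Equiv.Perm PtFour

/-- A lifted generator. -/
noncomputable def genLift (b : Bool) : Amb :=
  (⟨cond b genY genX, gen_mem b⟩, (exists_three b).choose, (exists_four b).choose)

/-- The cover. -/
noncomputable def cover : Subgroup Amb := Subgroup.closure (Set.range genLift)

/-- The projection. -/
noncomputable def coverHom : cover →* Cfsg.Spor.M22 := (MonoidHom.fst _ _).comp cover.subtype

theorem over_mem {z : Amb} (hz : z ∈ cover) :
    Over dataThree z.1.1 z.2.1 ∧ Over dataFour z.1.1 z.2.2 := by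
  have hfin : Finite Amb := inferInstance
  rw [cover, ← Subgroup.mem_toSubmonoid, Subgroup.closure_toSubmonoid_of_finite] at hz
  induction hz using Submonoid.closure_induction with
  | mem y hy =>
    obtain ⟨b, rfl⟩ := hy
    exact ⟨(exists_three b).choose_spec.1, (exists_four b).choose_spec.1⟩
  | one => exact ⟨over_one, over_one⟩
  | mul y z _ _ hy hz => exact ⟨hy.1.mul hz.1, hy.2.mul hz.2⟩

/-- A lifted generator in the cover. -/
noncomputable def genElt (i : ℕ) : cover :=
  ⟨genLift (Nat.beq i 1), Subgroup.subset_closure ⟨_, rfl⟩⟩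

/-- The value of a word in the lifted generators. -/
noncomputable def wordElt : List ℕ → cover
  | [] => 1
  | i :: w => genElt i * wordElt w

/-- The image list of a word. -/
def wordL : List ℕ → List ℕ
  | [] => List.range 24
  | i :: w => comp (cond (Nat.beq i 1) genYL genXL) (wordL w)

/-- The image of a point under a word. -/
def wordPt {n m : ℕ} [NeZero n] [NeZero m] (d : Bool → ℕ) :
    List ℕ → Fin n × Fin m → Fin n × Fin m
  | [], u => u
  | i :: w, u => stepFun (d (Nat.beq i 1)) (wordPt d w u)

theorem toList_wordElt : ∀ w : List ℕ, toList (coverHom (wordElt w)).1 = wordL w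
  | [] => toList_one
  | i :: w => by
    show toList ((coverHom (genElt i)).1 * (coverHom (wordElt w)).1) = _
    rw [toList_mul, toList_wordElt w, wordL]
    congr 1
    show toList (cond (Nat.beq i 1) genY genX) = _
    cases Nat.beq i 1
    exacts [toList_genX, toList_genY]

theorem wordElt_three : ∀ (w : List ℕ) (u : PtThree),
    (wordElt w).1.2.1 u = wordPt dThree w u
  | [], u => rfl
  | i :: w, u => by
    show (exists_three (Nat.beq i 1)).choose ((wordElt w).1.2.1 u) = _
    rw [(exists_three _).choose_spec.2, wordElt_three w u]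
    rfl

theorem wordElt_four : ∀ (w : List ℕ) (u : PtFour),
    (wordElt w).1.2.2 u = wordPt dFour w u
  | [], u => rfl
  | i :: w, u => by
    show (exists_four (Nat.beq i 1)).choose ((wordElt w).1.2.2 u) = _
    rw [(exists_four _).choose_spec.2, wordElt_four w u]
    rfl

theorem words_ok : genWords.map wordL = [OutM22.genAL, OutM22.genBL, OutM22.genCL] := by
  decide +kernel

theorem coverHom_surjective : Function.Surjective coverHom := by
  intro x
  have hw : ∀ (k : ℕ) (g : Equiv.Perm GolayPt),
      toList g = (genWords.map wordL).getD k [] → k < 3 →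
      g ∈ (Cfsg.Spor.M22.subtype.comp coverHom).range := by
    intro k g hg hk
    have hlen : k < genWords.length := by
      have : genWords.length = 3 := by decide +kernel
      omega
    refine ⟨wordElt genWords[k], toList_injective ?_⟩
    rw [hg, List.getD_eq_getElem _ _ (by rwa [List.length_map]), List.getElem_map]
    exact toList_wordElt _
  rw [words_ok] at hw
  have hx : x.1 ∈ (Cfsg.Spor.M22.subtype.comp coverHom).range := by
    have hx' : x.1 ∈ Subgroup.closure {OutM22.genA, OutM22.genB, OutM22.genC} := by
      rw [OutM22.closure_eq]; exact x.2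
    refine (Subgroup.closure_le _).2 ?_ hx'
    rintro g (rfl | rfl | rfl)
    exacts [hw 0 _ OutM22.toList_genA (by norm_num), hw 1 _ OutM22.toList_genB (by norm_num),
      hw 2 _ OutM22.toList_genC (by norm_num)]
  obtain ⟨z, hz⟩ := hx
  exact ⟨z, Subtype.ext hz⟩

/-- The phases of an element at the base points. -/
noncomputable def phase (z : cover) : Fin 3 × Fin 4 := ((z.1.2.1 (0, 0)).2, (z.1.2.2 (0, 0)).2)

theorem ker_apply {z : cover} (hz : z ∈ coverHom.ker) :
    (∀ p c, z.1.2.1 (p, c) = (p, (phase z).1 + c)) ∧
      ∀ p c, z.1.2.2 (p, c) = (p, (phase z).2 + c) := by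
  have h1 : z.1.1.1 = 1 := congrArg Subtype.val hz
  obtain ⟨o3, o4⟩ := over_mem z.2
  rw [h1] at o3 o4
  exact ⟨o3.scalar objThree_ok treeThree_ok, o4.scalar objFour_ok treeFour_ok⟩

theorem phase_injOn {y z : cover} (hy : y ∈ coverHom.ker) (hz : z ∈ coverHom.ker)
    (h : phase y = phase z) : y = z := by
  refine Subtype.ext (Prod.ext ((hy.trans hz.symm : coverHom y = coverHom z)) (Prod.ext ?_ ?_))
  · exact Equiv.ext fun ⟨p, c⟩ => by rw [(ker_apply hy).1, (ker_apply hz).1, h]
  · exact Equiv.ext fun ⟨p, c⟩ => by rw [(ker_apply hy).2, (ker_apply hz).2, h]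

theorem ker_le_center : coverHom.ker ≤ Subgroup.center cover := by
  intro z hz
  rw [Subgroup.mem_center_iff]
  intro y
  obtain ⟨o3, o4⟩ := over_mem y.2
  refine Subtype.ext (Prod.ext ?_ (Prod.ext (o3.commute (ker_apply hz).1).symm
    (o4.commute (ker_apply hz).2).symm))
  show coverHom y * coverHom z = coverHom z * coverHom y
  rw [hz, mul_one, one_mul]

theorem phase_mul {y z : cover} (hy : y ∈ coverHom.ker) (hz : z ∈ coverHom.ker) :
    phase (y * z) = phase y + phase z := by
  show (((y.1.2.1 (z.1.2.1 (0, 0))).2, (y.1.2.2 (z.1.2.2 (0, 0))).2) : Fin 3 × Fin 4) = _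
  rw [(ker_apply hz).1, (ker_apply hz).2, (ker_apply hy).1, (ker_apply hy).2]
  simp [Prod.ext_iff, add_zero]

/-- The phase of the commutator of two words. -/
def commPhase (u v : List ℕ) : Fin 3 × Fin 4 :=
  ((wordPt dThree (u ++ v) ((0, 0) : PtThree)).2 - (wordPt dThree (v ++ u) ((0, 0) : PtThree)).2,
   (wordPt dFour (u ++ v) ((0, 0) : PtFour)).2 - (wordPt dFour (v ++ u) ((0, 0) : PtFour)).2)

theorem wordElt_append : ∀ u v : List ℕ, wordElt (u ++ v) = wordElt u * wordElt v
  | [], v => (one_mul _).symm
  | i :: u, v => by rw [List.cons_append, wordElt, wordElt, wordElt_append u v, mul_assoc]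

theorem commutator_word {u v : List ℕ} (h : wordL (u ++ v) = wordL (v ++ u)) :
    ⁅wordElt u, wordElt v⁆ ∈ coverHom.ker ∧ phase ⁅wordElt u, wordElt v⁆ = commPhase u v := by
  have hk : ⁅wordElt u, wordElt v⁆ ∈ coverHom.ker := by
    rw [MonoidHom.mem_ker, map_commutatorElement, commutatorElement_eq_one_iff_mul_comm]
    refine Subtype.ext (toList_injective ?_)
    rw [← map_mul, ← map_mul, ← wordElt_append, ← wordElt_append, toList_wordElt, toList_wordElt, h]
  refine ⟨hk, ?_⟩
  set z := ⁅wordElt u, wordElt v⁆ with hzdef
  have heq : wordElt (u ++ v) = z * wordElt (v ++ u) := by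
    rw [wordElt_append, wordElt_append, hzdef, commutatorElement_def]
    group
  have e3 : ∀ p, wordPt dThree (u ++ v) p = z.1.2.1 (wordPt dThree (v ++ u) p) := fun p => by
    rw [← wordElt_three, heq, ← wordElt_three]; rfl
  have e4 : ∀ p, wordPt dFour (u ++ v) p = z.1.2.2 (wordPt dFour (v ++ u) p) := fun p => by
    rw [← wordElt_four, heq, ← wordElt_four]; rfl
  rw [commPhase, e3, e4, (ker_apply hk).1, (ker_apply hk).2]
  simp

theorem pair_check :
    (pairW.all fun uv => wordL (uv.1 ++ uv.2) == wordL (uv.2 ++ uv.1)) = true := by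
  decide +kernel

theorem generates :
    let t := (pairW.map fun uv => commPhase uv.1 uv.2).sum
    Function.Injective fun i : Fin 12 => i.val • t := by
  decide +kernel

theorem exists_cover : ∃ (Γ : Type) (_ : Group Γ) (_ : Finite Γ) (σ : Γ →* Cfsg.Spor.M22),
    IsStemExtension σ ∧ Nonempty (σ.ker ≃* Multiplicative (ZMod 12)) := by
  have key : ∀ l : List (List ℕ × List ℕ), (∀ uv ∈ l, wordL (uv.1 ++ uv.2) = wordL (uv.2 ++ uv.1)) →
      ∃ z : cover, z ∈ coverHom.ker ∧ z ∈ commutator cover ∧
        phase z = (l.map fun uv => commPhase uv.1 uv.2).sum := by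
    intro l
    induction l with
    | nil =>
      intro _
      exact ⟨1, one_mem _, one_mem _, rfl⟩
    | cons uv l ih =>
      intro h
      obtain ⟨z, hz, hzc, hp⟩ := ih fun x hx => h x (List.mem_cons_of_mem _ hx)
      obtain ⟨hk, hkp⟩ := commutator_word (h uv List.mem_cons_self)
      refine ⟨_ * z, mul_mem hk hz, mul_mem
        (Subgroup.commutator_mem_commutator (Subgroup.mem_top _) (Subgroup.mem_top _)) hzc, ?_⟩
      rw [phase_mul hk hz, hkp, hp, List.map_cons, List.sum_cons]
  obtain ⟨z, hz, hzc, hp⟩ := key pairW fun uv huv => by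
    simpa using List.all_eq_true.mp pair_check uv huv
  have hgen := generates
  simp only [← hp] at hgen
  have hpow : ∀ i : ℕ, phase (z ^ i) = i • phase z := by
    intro i
    induction i with
    | zero => rw [pow_zero, zero_smul]; rfl
    | succ i ih => rw [pow_succ, phase_mul (pow_mem hz i) hz, ih, succ_nsmul]
  have hbij : Function.Bijective fun i : Fin 12 => i.val • phase z :=
    (Fintype.bijective_iff_injective_and_card _).2 ⟨hgen, by simp⟩
  have hall : ∀ y ∈ coverHom.ker, ∃ i : Fin 12, z ^ i.val = y := fun y hy => by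
    obtain ⟨i, hi⟩ := hbij.2 (phase y)
    exact ⟨i, phase_injOn (pow_mem hz _) hy (by rw [hpow]; exact hi)⟩
  let g : coverHom.ker := ⟨z, hz⟩
  have hcyc : IsCyclic coverHom.ker := ⟨g, fun y => by
    obtain ⟨i, hi⟩ := hall y.1 y.2
    exact ⟨i.val, Subtype.ext (by simpa [g] using hi)⟩⟩
  have hcard : Nat.card coverHom.ker = 12 := by
    have hb : Function.Bijective fun i : Fin 12 => g ^ i.val := by
      refine ⟨fun i j hij => hgen ?_, fun y => ?_⟩
      · simp only
        rw [← hpow, ← hpow]
        exact congrArg phase (by simpa [g] using congrArg Subtype.val hij)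
      · obtain ⟨i, hi⟩ := hall y.1 y.2
        exact ⟨i, Subtype.ext (by simpa [g] using hi)⟩
    rw [← Nat.card_eq_of_bijective _ hb, Nat.card_fin]
  refine ⟨cover, inferInstance, inferInstance, coverHom,
    ⟨coverHom_surjective, ker_le_center, fun y hy => ?_⟩,
    ⟨hcard ▸ (zmodCyclicMulEquiv hcyc).symm⟩⟩
  obtain ⟨i, rfl⟩ := hall y hy
  exact pow_mem hzc _

end CfsgLib.Schur.CoverM22
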