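import Cfsg.Agent.Lib.Schur.StableTransfer

/-!
# Stem extensions from stable central extensions with kernel of exponent two

The commutator of lifts of two commuting elements of exponent four is a transferred value, so it
lies in the kernel of the stem extension given by the transfer.
-/

set_option autoImplicit false

open scoped commutatorElement

namespace CfsgLib.Schur.StableValues

open MulAction CfsgLib.Schur

universe u

variable {G E A : Type u} [Group G] [Group E] [CommGroup A]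

/-- Commutators of lifts are invariant under the fusion of `G` in the range of `π`. -/
def Stable (π : E →* G) (ψ : A →* E) : Prop :=
  ∀ (g : G) (e₁ e₂ f₁ f₂ : E) (a : A), π e₁ * π e₂ = π e₂ * π e₁ →
    π f₁ = g * π e₁ * g⁻¹ → π f₂ = g * π e₂ * g⁻¹ → e₁ * e₂ = ψ a * (e₂ * e₁) →
      f₁ * f₂ = ψ a * (f₂ * f₁)

/-- The commutator of lifts of two commuting elements of exponent four is a value. -/
theorem isValue_of_pair [Finite G] [Finite E] (π : E →* G) (ψ : A →* E)
    (hψ : Function.Injective ψ) (hkerψ : π.ker = ψ.range)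
    (hcenψ : ∀ (a : A) (e : E), e * ψ a = ψ a * e) [Fintype (G ⧸ π.range)]
    (hodd : Odd (π.range.index)) (hst : Stable π ψ) {k : A} (hk2 : k * k = 1)
    {x y : E} (hx : π x ^ 4 = 1) (hy : π y ^ 4 = 1) (hxy : x * y = ψ k * (y * x)) :
    ∃ t : G ⧸ π.range → G, (∀ ω, QuotientGroup.mk (t ω) = ω) ∧
      TransferValues.IsValue π ψ t k := by
  classical
  have hdc : ∀ e, Commute (ψ k) e := fun e => (hcenψ k e).symm
  have hd : ψ k * ψ k = 1 := by rw [← map_mul, hk2, map_one]
  have hdk : π (ψ k) = 1 := MonoidHom.mem_ker.1 (hkerψ ▸ ⟨k, rfl⟩)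
  set u := π x with hu0
  set v := π y with hv0
  have huv : u * v = v * u := by
    have h := congrArg π hxy
    simpa [hdk] using h
  -- the subgroup generated by `u` and `v`
  set H : Subgroup G := Subgroup.closure {u, v} with hHdef
  have hHmem : ∀ h ∈ H, ∃ i j : ℤ, h = u ^ i * v ^ j := by
    intro h hh
    have c : Commute u v := huv
    induction hh using Subgroup.closure_induction with
    | mem z hz =>
      rcases hz with rfl | rfl
      · exact ⟨1, 0, by simp⟩
      · exact ⟨0, 1, by simp⟩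
    | one => exact ⟨0, 0, by simp⟩
    | mul a b _ _ iha ihb =>
      obtain ⟨i, j, rfl⟩ := iha
      obtain ⟨k, l, rfl⟩ := ihb
      exact ⟨i + k, j + l, by
        rw [zpow_add, zpow_add, (c.symm.zpow_zpow j k).mul_mul_mul_comm]⟩
    | inv a _ iha =>
      obtain ⟨i, j, rfl⟩ := iha
      exact ⟨-i, -j, by rw [mul_inv_rev, zpow_neg, zpow_neg, (c.symm.zpow_zpow j i).inv_inv.eq]⟩
  have huH : u ∈ H := Subgroup.subset_closure (by simp)
  have hvH : v ∈ H := Subgroup.subset_closure (by simp)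
  have hcomH : ∀ h ∈ H, ∀ h' ∈ H, h * h' = h' * h := by
    intro h hh h' hh'
    obtain ⟨i, j, rfl⟩ := hHmem h hh
    obtain ⟨k, l, rfl⟩ := hHmem h' hh'
    have c : Commute u v := huv
    exact (((Commute.refl u).zpow_zpow i k).mul_right (c.zpow_zpow i l)).mul_left
      ((c.symm.zpow_zpow j k).mul_right ((Commute.refl v).zpow_zpow j l))
  -- representatives compatible with the orbits of `H`
  let o : G ⧸ π.range → Quotient (MulAction.orbitRel ↥H (G ⧸ π.range)) := fun ω => Quotient.mk'' ω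
  have horb : ∀ ω, ∃ h : ↥H, h • (o ω).out = ω := by
    intro ω
    have : (orbitRel ↥H (G ⧸ π.range)).r ω (o ω).out :=
      Quotient.exact' (Quotient.out_eq' (o ω)).symm
    exact MulAction.mem_orbit_iff.1 this
  choose h hh using horb
  let t : G ⧸ π.range → G := fun ω => (h ω : G) * (o ω).out.out
  have htmk : ∀ ω, QuotientGroup.mk (t ω) = ω := fun ω => by
    show QuotientGroup.mk ((h ω : G) * _) = ω
    rw [← smul_eq_mul, ← MulAction.Quotient.smul_mk, QuotientGroup.out_eq']
    exact hh ω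
  have hsame : ∀ (g : ↥H) ω, o ((g : G) • ω) = o ω := fun g ω =>
    Quotient.sound' ⟨g, rfl⟩
  -- each coset factor is conjugate into the stabiliser
  have hstab : ∀ g ∈ H, ∀ ω, ∃ s, s ∈ H ∧ s • (o ω).out = (o ω).out ∧
      (t ω)⁻¹ * g * t (g⁻¹ • ω) = (o ω).out.out⁻¹ * s * (o ω).out.out := by
    intro g hg ω
    have ho : o (g⁻¹ • ω) = o ω := hsame ⟨g⁻¹, H.inv_mem hg⟩ ω
    refine ⟨(h ω : G)⁻¹ * g * h (g⁻¹ • ω), H.mul_mem (H.mul_mem (H.inv_mem (h ω).2) hg)
      (h (g⁻¹ • ω)).2, ?_, ?_⟩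
    · have h1 := hh (g⁻¹ • ω)
      rw [ho] at h1
      have h1 : (h (g⁻¹ • ω) : G) • (o ω).out = g⁻¹ • ω := h1
      have h2 : (h ω : G) • (o ω).out = ω := hh ω
      rw [mul_smul, mul_smul, h1, smul_inv_smul, inv_smul_eq_iff, h2]
    · simp only [t, ho]
      group
  have hrange : ∀ g ∈ H, ∀ ω, (t ω)⁻¹ * g * t (g⁻¹ • ω) ∈ π.range := by
    intro g _ ω
    have h1 : (QuotientGroup.mk (t ω) : G ⧸ π.range) = QuotientGroup.mk (g * t (g⁻¹ • ω)) := by
      rw [htmk, ← smul_eq_mul, ← MulAction.Quotient.smul_mk, htmk, smul_inv_smul]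
    have h2 := QuotientGroup.eq.1 h1
    rwa [← mul_assoc] at h2
  choose eu heu using fun ω => hrange u huH ω
  choose ev hev using fun ω => hrange v hvH ω
  have hc : ∀ ω, ∃ a : A, ψ a = eu ω * ev (u⁻¹ • ω) * (ev ω * eu (v⁻¹ • ω))⁻¹ := by
    intro ω
    have hm : eu ω * ev (u⁻¹ • ω) * (ev ω * eu (v⁻¹ • ω))⁻¹ ∈ π.ker := by
      have hs : v⁻¹ • u⁻¹ • ω = u⁻¹ • v⁻¹ • ω := by
        rw [smul_smul, smul_smul, ← mul_inv_rev, ← mul_inv_rev, huv]
      simp only [MonoidHom.mem_ker, map_mul, map_inv, heu, hev, hs, mul_inv_eq_one]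
      calc (t ω)⁻¹ * u * t (u⁻¹ • ω) * ((t (u⁻¹ • ω))⁻¹ * v * t (u⁻¹ • v⁻¹ • ω))
          = (t ω)⁻¹ * (u * v) * t (u⁻¹ • v⁻¹ • ω) := by group
        _ = (t ω)⁻¹ * v * t (v⁻¹ • ω) * ((t (v⁻¹ • ω))⁻¹ * u * t (u⁻¹ • v⁻¹ • ω)) := by
            rw [huv]; group
    rwa [hkerψ] at hm
  choose c hc using hc
  have hceq : ∀ ω, eu ω * ev (u⁻¹ • ω) = ψ (c ω) * (ev ω * eu (v⁻¹ • ω)) := fun ω => by
    rw [hc, inv_mul_cancel_right]
  -- the value at a common fixed point
  have hfixv : ∀ ω, u • ω = ω → v • ω = ω → c ω = k := by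
    intro ω hωu hωv
    have e1 := hceq ω
    rw [inv_smul_eq_iff.2 hωu.symm, inv_smul_eq_iff.2 hωv.symm] at e1
    have hu1 := heu ω
    have hv1 := hev ω
    rw [inv_smul_eq_iff.2 hωu.symm] at hu1
    rw [inv_smul_eq_iff.2 hωv.symm] at hv1
    have := hst (t ω)⁻¹ x y (eu ω) (ev ω) k huv (by rw [hu1, hu0, inv_inv])
      (by rw [hv1, hv0, inv_inv]) hxy
    rw [e1] at this
    exact hψ (mul_right_cancel this)
  -- the other orbits contribute nothing
  have horbit : ∀ q : Quotient (MulAction.orbitRel ↥H (G ⧸ π.range)),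
      ¬ (u • q.out = q.out ∧ v • q.out = q.out) →
      ∏ ω ∈ Finset.univ.filter (fun ω => o ω = q), c ω = 1 := by
    intro q hq
    set t0 := q.out.out with ht0
    -- the stabiliser has commuting lifts
    have hS : ∀ s s' : G, s ∈ H → s • q.out = q.out → s' ∈ H → s' • q.out = q.out →
        ∀ e e' : E, π e = t0⁻¹ * s * t0 → π e' = t0⁻¹ * s' * t0 → e * e' = e' * e := by
      intro s s' hsH hs hsH' hs' e e' he he'
      obtain ⟨i, j, rfl⟩ := hHmem s hsH
      obtain ⟨kk, l, rfl⟩ := hHmem s' hsH'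
      have hev : Even (i * l - j * kk) := by
        by_contra hodd'
        obtain ⟨m, hm⟩ := Int.not_even_iff_odd.1 hodd'
        apply hq
        set S := H ⊓ MulAction.stabilizer G q.out with hSdef
        have hmS : ∀ a, a ∈ S → a • q.out = q.out := fun a ha => ha.2
        have h1 : u ^ i * v ^ j ∈ S := ⟨hsH, hs⟩
        have h2 : u ^ kk * v ^ l ∈ S := ⟨hsH', hs'⟩
        have hu4 : u ^ (4 : ℤ) = 1 := by exact_mod_cast hx
        have hv4 : v ^ (4 : ℤ) = 1 := by exact_mod_cast hy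
        have c : Commute u v := huv
        have hp : ∀ a b n : ℤ, (u ^ a * v ^ b) ^ n = u ^ (a * n) * v ^ (b * n) := fun a b n => by
          rw [(c.zpow_zpow a b).mul_zpow, ← zpow_mul, ← zpow_mul]
        have hmul : ∀ a b a' b' : ℤ,
            u ^ a * v ^ b * (u ^ a' * v ^ b') = u ^ (a + a') * v ^ (b + b') := fun a b a' b' => by
          rw [(c.symm.zpow_zpow b a').mul_mul_mul_comm, ← zpow_add, ← zpow_add]
        have hsq : (2 * m + 1) * (2 * m + 1) = 4 * (m * m + m) + 1 := by ring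
        refine ⟨hmS u ?_, hmS v ?_⟩
        · have := S.mul_mem (S.zpow_mem h1 (l * (2 * m + 1))) (S.zpow_mem h2 (-j * (2 * m + 1)))
          rw [hp, hp, hmul, show i * (l * (2 * m + 1)) + kk * (-j * (2 * m + 1)) =
            4 * (m * m + m) + 1 by rw [← hsq, ← hm]; ring,
            show j * (l * (2 * m + 1)) + l * (-j * (2 * m + 1)) = 0 by ring,
            zpow_add, zpow_mul, hu4] at this
          simpa using this
        · have := S.mul_mem (S.zpow_mem h1 (-kk * (2 * m + 1))) (S.zpow_mem h2 (i * (2 * m + 1)))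
          rw [hp, hp, hmul, show j * (-kk * (2 * m + 1)) + l * (i * (2 * m + 1)) =
            4 * (m * m + m) + 1 by rw [← hsq, ← hm]; ring,
            show i * (-kk * (2 * m + 1)) + kk * (i * (2 * m + 1)) = 0 by ring,
            zpow_add, zpow_mul, hv4] at this
          simpa using this
      suffices h : e * e' = ψ 1 * (e' * e) by rwa [map_one, one_mul] at h
      refine hst t0⁻¹ (x ^ i * y ^ j) (x ^ kk * y ^ l) e e' 1 ?_ ?_ ?_
        (by rw [map_one, one_mul]; exact (StableTransfer.lifts_comm_of_even hd hdc hxy hev).eq)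
      · simp only [map_mul, map_zpow]
        exact hcomH _ hsH _ hsH'
      · simp only [map_mul, map_zpow, inv_inv]; exact he
      · simp only [map_mul, map_zpow, inv_inv]; exact he'
    let K : Subgroup E := Subgroup.closure
      {e | ∃ s, s ∈ H ∧ s • q.out = q.out ∧ π e = t0⁻¹ * s * t0}
    letI : CommGroup ↥K :=
      { (inferInstance : Group ↥K) with
        mul_comm := (Subgroup.isMulCommutative_closure (fun a ha b hb => by
          obtain ⟨s, h1, h2, h3⟩ := ha
          obtain ⟨s', h1', h2', h3'⟩ := hb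
          exact hS s s' h1 h2 h1' h2' a b h3 h3')).is_comm.comm }
    have hmem : ∀ (g : G) (e : G ⧸ π.range → E), g ∈ H →
        (∀ ω, π (e ω) = (t ω)⁻¹ * g * t (g⁻¹ • ω)) → ∀ ω, o ω = q → e ω ∈ K := by
      intro g e hg he ω hω
      obtain ⟨s, h1, h2, h3⟩ := hstab g hg ω
      subst hω
      exact Subgroup.subset_closure ⟨s, h1, h2, (he ω).trans h3⟩
    set T := Finset.univ.filter (fun ω => o ω = q) with hT
    have hψK : ∀ a : A, ψ a ∈ K := fun a => Subgroup.subset_closure
      ⟨1, H.one_mem, one_smul _ _, by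
        rw [MonoidHom.mem_ker.1 (hkerψ ▸ ⟨a, rfl⟩ : ψ a ∈ π.ker)]; group⟩
    let lift : (e : G ⧸ π.range → E) → G ⧸ π.range → ↥K := fun e ω =>
      if he : e ω ∈ K then ⟨e ω, he⟩ else 1
    have hlift : ∀ (g : G) (e : G ⧸ π.range → E), g ∈ H →
        (∀ ω, π (e ω) = (t ω)⁻¹ * g * t (g⁻¹ • ω)) → ∀ ω ∈ T, (lift e ω : E) = e ω := by
      intro g e hg he ω hω
      simp [lift, hmem g e hg he ω (Finset.mem_filter.1 hω).2]
    let ψK : A →* ↥K := ψ.codRestrict K hψK
    have hT' : ∀ g ∈ H, ∀ ω ∈ T, g⁻¹ • ω ∈ T := fun g hg ω hω =>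
      Finset.mem_filter.2 ⟨Finset.mem_univ _,
        (hsame ⟨g⁻¹, H.inv_mem hg⟩ ω).trans (Finset.mem_filter.1 hω).2⟩
    have hre : ∀ g ∈ H, ∀ f : G ⧸ π.range → ↥K, ∏ ω ∈ T, f (g⁻¹ • ω) = ∏ ω ∈ T, f ω := by
      intro g hg f
      refine Finset.prod_nbij' (fun ω => g⁻¹ • ω) (fun ω => g • ω) (hT' g hg) (fun ω hω => ?_)
        (fun ω _ => smul_inv_smul g ω) (fun ω _ => inv_smul_smul g ω) (fun ω _ => rfl)
      simpa using hT' g⁻¹ (H.inv_mem hg) ω hω
    have hall : ∏ ω ∈ T, lift eu ω * lift ev (u⁻¹ • ω) =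
        ψK (∏ ω ∈ T, c ω) * ∏ ω ∈ T, lift ev ω * lift eu (v⁻¹ • ω) := by
      rw [map_prod, ← Finset.prod_mul_distrib]
      refine Finset.prod_congr rfl fun ω hω => Subtype.ext ?_
      simp only [Subgroup.coe_mul, MonoidHom.codRestrict_apply, ψK,
        hlift u eu huH heu ω hω, hlift v ev hvH hev ω hω,
        hlift v ev hvH hev _ (hT' u huH ω hω), hlift u eu huH heu _ (hT' v hvH ω hω)]
      exact hceq ω
    rw [Finset.prod_mul_distrib, hre u huH, Finset.prod_mul_distrib, hre v hvH,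
      mul_comm (∏ ω ∈ T, lift ev ω)] at hall
    apply hψ
    rw [map_one]
    exact congrArg Subtype.val (mul_eq_right.1 hall.symm)
  -- assemble
  have htot : ∏ ω, c ω = k := by
    set Fx := Finset.univ.filter (fun ω : G ⧸ π.range => u • ω = ω ∧ v • ω = ω) with hFx
    have hpg : ∀ g : ↥H, g ^ 4 = 1 := by
      intro g
      obtain ⟨i, j, hg⟩ := hHmem g g.2
      have c : Commute u v := huv
      apply Subtype.ext
      rw [SubgroupClass.coe_pow, hg, (c.zpow_zpow i j).mul_pow, ← zpow_natCast, ← zpow_natCast,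
        zpow_comm u i, zpow_comm v j, zpow_natCast, zpow_natCast, hx, hy]
      simp
    haveI : Fact (Nat.Prime 2) := ⟨Nat.prime_two⟩
    have hP : IsPGroup 2 ↥H := fun g => ⟨2, by simpa using hpg g⟩
    have hcard := hP.card_modEq_card_fixedPoints (α := G ⧸ π.range)
    have hfp : Nat.card (MulAction.fixedPoints ↥H (G ⧸ π.range)) = Fx.card := by
      rw [← Nat.card_eq_finsetCard]
      refine Nat.card_congr (Equiv.subtypeEquivRight fun ω => ?_)
      simp only [hFx, Finset.mem_filter, Finset.mem_univ, true_and, MulAction.mem_fixedPoints]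
      constructor
      · exact fun h => ⟨h ⟨u, huH⟩, h ⟨v, hvH⟩⟩
      · rintro ⟨h1, h2⟩ ⟨g, hg⟩
        obtain ⟨i, j, rfl⟩ := hHmem g hg
        exact MulAction.mem_stabilizer_iff.1 ((MulAction.stabilizer G ω).mul_mem
          ((MulAction.stabilizer G ω).zpow_mem h1 i) ((MulAction.stabilizer G ω).zpow_mem h2 j))
    have hFodd : Odd Fx.card := by
      rw [hfp, ← Subgroup.index_eq_card] at hcard
      rw [Nat.odd_iff] at hodd ⊢
      rw [Nat.ModEq] at hcard
      omega
    rw [← Finset.prod_fiberwise Finset.univ o c]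
    have hfib : ∀ q, (u • q.out = q.out ∧ v • q.out = q.out) →
        Finset.univ.filter (fun ω => o ω = q) = {q.out} := by
      intro q ⟨h1, h2⟩
      ext ω
      simp only [Finset.mem_filter, Finset.mem_univ, true_and, Finset.mem_singleton]
      refine ⟨fun hω => ?_, fun hω => hω ▸ Quotient.out_eq' q⟩
      have := hh ω
      rw [hω] at this
      have this : (h ω : G) • q.out = ω := this
      obtain ⟨i, j, hij⟩ := hHmem _ (h ω).2
      rw [← this, hij]
      exact MulAction.mem_stabilizer_iff.1 ((MulAction.stabilizer G q.out).mul_mem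
        ((MulAction.stabilizer G q.out).zpow_mem h1 i) ((MulAction.stabilizer G q.out).zpow_mem h2 j))
    rw [← Finset.prod_filter_mul_prod_filter_not _
      (fun q => u • q.out = q.out ∧ v • q.out = q.out)]
    rw [Finset.prod_eq_pow_card (b := k) (fun q hq => ?_),
      Finset.prod_eq_one (fun q hq => ?_), mul_one]
    rotate_left
    · exact horbit q (Finset.mem_filter.1 hq).2
    · rw [hfib q (Finset.mem_filter.1 hq).2, Finset.prod_singleton]
      exact hfixv _ (Finset.mem_filter.1 hq).2.1 (Finset.mem_filter.1 hq).2.2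
    have hcardQ : (Finset.univ.filter fun q : Quotient (MulAction.orbitRel ↥H (G ⧸ π.range)) =>
        u • q.out = q.out ∧ v • q.out = q.out).card = Fx.card := by
      refine Finset.card_bij (fun q _ => q.out) (fun q hq => ?_) (fun a _ b _ hab => ?_)
        (fun ω hω => ?_)
      · simpa [hFx] using hq
      · exact ((Quotient.out_eq' a).symm.trans (congrArg o hab)).trans (Quotient.out_eq' b)
      · refine ⟨o ω, ?_, ?_⟩ <;>
        · have h2 := (Finset.mem_filter.1 hω).2
          have he : (o ω).out = ω := by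
            obtain ⟨i, j, hij⟩ := hHmem _ (h ω).2
            have := hh ω
            replace this : (h ω : G) • (o ω).out = ω := this
            rw [hij] at this
            have h3 : (u ^ i * v ^ j) • ω = ω := MulAction.mem_stabilizer_iff.1
              ((MulAction.stabilizer G ω).mul_mem ((MulAction.stabilizer G ω).zpow_mem h2.1 i)
                ((MulAction.stabilizer G ω).zpow_mem h2.2 j))
            exact MulAction.injective (u ^ i * v ^ j) (this.trans h3.symm)
          first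
            | exact he
            | simpa [he] using h2
    rw [hcardQ]
    obtain ⟨m, hm⟩ := hFodd
    rw [hm, pow_add, pow_mul, sq, hk2, one_pow, one_mul, pow_one]
  exact ⟨t, htmk, u, v, eu, ev, c, huv, heu, hev, hceq, htot⟩

/-- Values do not depend on the representatives. -/
theorem isValue_change {π : E →* G} {ψ : A →* E} (hcenψ : ∀ (a : A) (e : E), e * ψ a = ψ a * e)
    [Fintype (G ⧸ π.range)] {t t' : G ⧸ π.range → G} (ht : ∀ ω, QuotientGroup.mk (t ω) = ω)
    (ht' : ∀ ω, QuotientGroup.mk (t' ω) = ω) {k : A} (h : TransferValues.IsValue π ψ t' k) :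
    TransferValues.IsValue π ψ t k := by
  obtain ⟨u, v, eu, ev, c, huv, hu, hv, hc, hk⟩ := h
  have hex : ∀ ω, (t ω)⁻¹ * t' ω ∈ π.range := fun ω => QuotientGroup.eq.1 ((ht ω).trans (ht' ω).symm)
  choose β hβ using hex
  refine ⟨u, v, fun ω => β ω * eu ω * (β (u⁻¹ • ω))⁻¹, fun ω => β ω * ev ω * (β (v⁻¹ • ω))⁻¹, c,
    huv, fun ω => ?_, fun ω => ?_, fun ω => ?_, hk⟩
  · simp only [map_mul, map_inv, hβ, hu]
    group
  · simp only [map_mul, map_inv, hβ, hv]
    group
  · have hs : v⁻¹ • u⁻¹ • ω = u⁻¹ • v⁻¹ • ω := by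
      rw [smul_smul, smul_smul, ← mul_inv_rev, ← mul_inv_rev, huv]
    calc β ω * eu ω * (β (u⁻¹ • ω))⁻¹ * (β (u⁻¹ • ω) * ev (u⁻¹ • ω) * (β (v⁻¹ • u⁻¹ • ω))⁻¹)
        = β ω * (eu ω * ev (u⁻¹ • ω)) * (β (v⁻¹ • u⁻¹ • ω))⁻¹ := by group
      _ = ψ (c ω) * (β ω * (ev ω * eu (v⁻¹ • ω)) * (β (v⁻¹ • u⁻¹ • ω))⁻¹) := by
          rw [hc, ← mul_assoc (β ω) (ψ (c ω)), hcenψ]; simp only [mul_assoc]
      _ = _ := by rw [hs]; group

/-- A stem extension with the kernel of a stable central extension of a subgroup of odd index, as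
soon as commutators of lifts of commuting elements of exponent four generate it. -/
theorem exists_stem [Finite G] [Finite E] (π : E →* G) (ψ : A →* E) (hψ : Function.Injective ψ)
    (hkerψ : π.ker = ψ.range) (hcenψ : ∀ (a : A) (e : E), e * ψ a = ψ a * e)
    (hodd : Odd (π.range.index)) (hst : Stable π ψ) (hA : ∀ a : A, a * a = 1) {S : Set A}
    (hS : Subgroup.closure S = ⊤)
    (hpair : ∀ k ∈ S, ∃ x y : E, π x ^ 4 = 1 ∧ π y ^ 4 = 1 ∧ x * y = ψ k * (y * x)) :
    ∃ (Γ : Type u) (_ : Group Γ) (_ : Finite Γ) (σ : Γ →* G),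
      Cfsg.IsStemExtension σ ∧ Nonempty (σ.ker ≃* A) := by
  classical
  letI : Fintype (G ⧸ π.range) := Fintype.ofFinite _
  let t : G ⧸ π.range → G := fun ω => ω.out
  have ht : ∀ ω, QuotientGroup.mk (t ω) = ω := fun ω => QuotientGroup.out_eq' ω
  refine TransferValues.exists_stem π ψ hψ hkerψ hcenψ t ht ?_
  refine top_le_iff.1 (hS ▸ (Subgroup.closure_le _).2 fun k hk => Subgroup.subset_closure ?_)
  obtain ⟨x, y, hx, hy, hxy⟩ := hpair k hk
  obtain ⟨t', ht', h⟩ := isValue_of_pair π ψ hψ hkerψ hcenψ hodd hst (hA k) hx hy hxy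
  exact isValue_change hcenψ ht ht' h

end CfsgLib.Schur.StableValues
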