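import Cfsg.Agent.Lib.Schur.PcMathieu

/-! Generated polycyclic certificates for the multiplier of PSL3(4) on 21 of 24 points. -/

set_option autoImplicit false
set_option maxRecDepth 20000

namespace CfsgLib.Schur.L34

open CfsgLib.Schur CfsgLib.Schur.GolayOut

/-- Side condition: three fixed points. -/
def side21 (l : List ℕ) : Bool :=
  Nat.beq (l.getD 23 0) 23 && Nat.beq (l.getD 0 0) 0 && Nat.beq (l.getD 1 0) 1

/-- The relations. -/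
def twoRules : Pc.Rules where
  p := 2
  n := 6
  d := 4
  pw := [[],[],[],[],[],[]]
  cm := [[[],[],[4],[5],[],[]],[[],[],[5],[4,5],[],[]],[[],[],[],[],[],[]],[[],[],[],[],[],[]],[[],[],[],[],[],[]],[[],[],[],[],[],[]]]

/-- The certificate. -/
def twoCert : Pc.Cert where
  eqns := [.assoc [1] [0] [0],
    .assoc [2] [0] [0],
    .assoc [2] [1] [0],
    .assoc [2] [1] [1],
    .assoc [2] [2] [0],
    .assoc [2] [2] [1],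
    .assoc [3] [0] [0],
    .assoc [3] [1] [0],
    .assoc [3] [1] [1],
    .assoc [3] [2] [0],
    .assoc [3] [2] [1],
    .assoc [3] [2] [2],
    .assoc [3] [3] [0],
    .assoc [3] [3] [1],
    .assoc [4] [1] [1],
    .assoc [4] [2] [1],
    .fuse 0 [[1,4],[0,4,5]] [[2,3],[3]] [0,1] [1,0],
    .fuse 1 [[5],[4]] [[2,3],[3]] [0,1] [1,0]]
  rows := [[0,0,0,0,0,0,0,2],
    [0,0,0,0,1,0,0,0,2,0,1],
    [0,0,0,0,0,0,0,0,0,0,0,1,0,0,0,0,(-1),0,0,0,0,0,0,0,0,0,0,0,0,0,0,0,0,0,0,(-1)],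
    [0,0,0,0,0,1,0,0,0,0,0,0,0,0,2,0,0,1],
    [0,0,0,0,(-1),0,0,0,(-2),0,0,0,0,0,0,0,0,0,0,0,0,0,(-1)],
    [0,0,0,0,0,(-1),0,0,0,0,0,0,0,0,(-2),0,0,0,0,0,0,0,0,(-1)],
    [0,0,0,0,0,1,0,0,0,2,0,1],
    [0,0,0,0,0,0,0,0,0,0,1,1,0,0,0,0,0,(-1),0,0,0,0,0,0,0,0,0,0,0,0,0,0,0,0,0,1],
    [0,0,0,0,1,1,0,0,0,0,0,0,0,0,0,2,1,1,0,0,0,0,0,0,0,0,0,0,0,0,0,0,0,0,0,1],
    [0,0,0,0,0,0,0,0,0,0,0,0,0,0,0,0,0,0,0,0,0,0,0,(-1),0,0,0,0,1,0,0,0,0,0,0,(-1)],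
    [0,0,0,0,0,0,0,0,0,0,0,0,0,0,0,0,0,0,0,0,0,0,(-1),(-1),0,0,0,0,0,1,0,0,0,0,0,1],
    [0,0,0,0,0,0,0,0,0,0,0,0,0,0,0,0,0,0,0,0,0,2],
    [0,0,0,0,0,(-1),0,0,0,(-2),0,0,0,0,0,0,0,0,0,0,0,0,0,0,0,0,0,0,0,(-1)],
    [0,0,0,0,(-1),(-1),0,0,0,0,0,0,0,0,0,(-2),0,0,0,0,0,0,0,0,0,0,0,0,(-1),(-1),0,0,0,0,0,(-1)],
    [0,0,0,0,0,0,0,0,0,0,0,0,0,0,0,0,2],
    [0,0,0,0,0,0,0,0,0,0,0,0,0,0,0,0,0,0,0,0,0,0,0,0,0,0,0,0,0,0,0,0,0,0,0,1],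
    [0,0,0,0,0,0,0,(-1),0,0,(-1),0,0,0,0,0,1,1,0,0,0,(-1),0,0,0,0,0,0,0,0,0,0,0,0,0,1],
    [0,0,0,0,0,0,0,0,0,0,0,0,0,0,0,0,0,0,0,0,0,(-1),0,0,0,0,0,0,0,0,0,0,0,0,0,(-1)]]
  us := [[0,0,0,0,0,0,0,0,0,1,0,0,0,0,(-1)],[0,0,0,0,0,0,0,0,(-1),0,0,0,0,0,(-1),1]]
  ords := [4,4]
  ordComb := [[(1,1),(2,-2),(3,1),(4,1),(5,3),(6,3),(7,-1),(8,-2),(9,-2),(10,-1),(12,1),(13,-2),(15,-2)],[(1,-1),(2,1),(3,-2),(4,1),(6,-2),(7,1),(8,3),(9,1),(10,-1),(12,-2),(13,1),(14,-1)]]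
  shifts := [[],[],[],[],[0,0,0,0,0,0,0,0,1],[0,0,0,0,0,0,0,0,0,0,0,0,0,0,1]]
  pwComb := [[],[],[],[],[(1,-1),(2,2),(3,-3),(5,-2),(6,-3),(7,1),(8,4),(9,2),(12,-2),(13,2),(14,-1),(15,1),(18,2),(19,-4)],[(1,-1),(3,-1),(5,-1),(6,-1),(7,1),(8,2),(9,1),(12,-1),(13,1),(14,-1),(15,-1),(19,-2)]]
  cmComb := [[[],[(0,1),(2,1),(3,-2),(5,-2),(6,-2),(7,1),(8,2),(9,2),(12,-2),(13,2),(14,-1),(16,1),(17,-1)],[],[(18,1)],[(2,1),(5,-1),(6,-2),(7,1),(8,1),(9,1),(12,-1),(13,1),(15,1),(18,2)],[(1,-1),(2,2),(3,-1),(5,-1),(6,-2),(7,1),(8,2),(9,1),(12,-1),(13,1),(15,1),(18,2),(19,-2)]],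
    [[],[],[],[(19,1)],[(1,-1),(2,1),(3,-1),(5,-1),(6,-2),(7,1),(8,2),(9,1),(12,-1),(13,1),(18,2),(19,-2)],[(3,1),(4,1),(5,2),(9,-1),(10,-1),(13,-1),(15,-1),(19,-2)]],
    [[],[],[],[(0,-1),(2,-2),(3,4),(5,4),(6,4),(7,-2),(8,-4),(9,-4),(12,4),(13,-4),(14,2),(15,-1),(16,-2),(17,1)],[(1,-1),(2,1),(4,-1),(5,-1),(6,-2),(7,1),(8,1),(9,1),(12,-1),(13,1),(15,1),(18,2)],[(4,1),(5,1),(9,-1),(10,-1),(13,-1),(15,-1),(19,-2)]],
    [[],[],[],[],[(4,1),(5,1),(10,-1),(13,-1),(19,-2)],[(1,1),(2,-1),(3,2),(5,2),(6,2),(7,-1),(8,-3),(9,-2),(12,1),(13,-2),(14,1),(15,-1),(18,-2),(19,2)]],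
    [[],[],[],[],[],[(0,1),(2,2),(3,-4),(5,-4),(6,-4),(7,2),(8,4),(9,4),(12,-4),(13,4),(14,-2),(15,1),(16,2),(17,-2)]],
    [[],[],[],[],[],[]]]

/-- The generators. -/
def twoGens : List PcMathieu.PL := [([0,1,2,19,4,7,17,5,15,12,18,20,9,13,21,8,16,6,10,3,11,14,22,23], [0,1,2,19,4,7,17,5,15,12,18,20,9,13,21,8,16,6,10,3,11,14,22,23]),
    ([0,1,2,11,4,8,9,15,5,6,21,3,17,13,18,7,16,12,14,20,19,10,22,23], [0,1,2,11,4,8,9,15,5,6,21,3,17,13,18,7,16,12,14,20,19,10,22,23]),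
    ([0,1,5,3,4,2,10,16,13,18,6,11,21,8,17,22,7,14,9,19,20,12,15,23], [0,1,5,3,4,2,10,16,13,18,6,11,21,8,17,22,7,14,9,19,20,12,15,23]),
    ([0,1,17,3,4,14,13,18,10,16,8,11,22,6,5,21,9,2,7,19,20,15,12,23], [0,1,17,3,4,14,13,18,10,16,8,11,22,6,5,21,9,2,7,19,20,15,12,23]),
    ([0,1,16,3,4,7,12,5,15,17,21,11,6,22,18,8,2,9,14,19,20,10,13,23], [0,1,16,3,4,7,12,5,15,17,21,11,6,22,18,8,2,9,14,19,20,10,13,23]),
    ([0,1,13,3,4,8,17,15,5,12,14,11,9,2,10,7,22,6,21,19,20,18,16,23], [0,1,13,3,4,8,17,15,5,12,14,11,9,2,10,7,22,6,21,19,20,18,16,23])]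

/-- The conjugating elements. -/
def twoConj : List PcMathieu.PL := [([0,1,17,7,3,22,13,15,12,8,20,9,6,14,11,21,5,10,4,18,16,19,2,23], [0,1,22,4,18,16,12,3,9,11,17,14,8,6,13,7,20,2,19,21,10,15,5,23]),
    ([0,1,12,11,3,2,6,17,14,10,16,20,13,15,18,5,22,8,7,4,19,9,21,23], [0,1,5,4,19,15,6,18,17,21,9,3,2,12,8,13,10,7,14,20,11,22,16,23])]

theorem two_ok : PcMathieu.certOK side21 twoRules twoCert twoGens twoConj 10
    [51,3,19,35,56,26,41,11,52,39,6,21,43,9,58,24,10,40,27,57,22,5,36,55,63,14,45,28,37,54,23,4,2,50,34,18,15,62,29,44,25,59,8,42,33,17,1,49,7,20,53,38,31,46,13,60,47,30,61,12,16,32,48,0] = true := by decide +kernel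

/-- The relations. -/
def threeRules : Pc.Rules where
  p := 3
  n := 2
  d := 2
  pw := [[],[]]
  cm := [[[],[]],[[],[]]]

/-- The certificate. -/
def threeCert : Pc.Cert where
  eqns := [.fuse 0 [[1],[0]] [[0,0,1,1],[0,1,1]] [0,1] [1,0]]
  rows := [[0,0,0,(-3)]]
  us := [[0,0,0,1]]
  ords := [3]
  ordComb := [[(0,-1)]]
  shifts := [[],[]]
  pwComb := [[],[]]
  cmComb := [[[],[(1,1)]],
    [[],[]]]

/-- The generators. -/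
def threeGens : List PcMathieu.PL := [([0,1,2,3,4,14,15,10,21,8,12,19,7,22,17,18,13,5,6,20,11,9,16,23], [0,1,2,3,4,17,18,12,9,21,7,20,10,16,5,6,22,14,15,11,19,8,13,23]),
    ([0,1,3,4,2,11,15,12,8,9,7,13,10,5,19,18,17,20,6,22,16,21,14,23], [0,1,4,2,3,13,18,10,8,9,12,5,7,11,22,6,20,16,15,14,17,21,19,23])]

/-- The conjugating elements. -/
def threeConj : List PcMathieu.PL := [([0,1,6,15,18,14,2,21,10,12,9,13,8,20,16,4,22,11,3,19,17,7,5,23], [0,1,6,18,15,22,2,21,12,10,8,17,9,11,5,3,14,20,4,19,13,7,16,23])]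

theorem three_ok : PcMathieu.certOK side21 threeRules threeCert threeGens threeConj 9
    [7,8,6,1,3,4,2,5,0] = true := by decide +kernel

/-- The relations. -/
def fiveRules : Pc.Rules where
  p := 5
  n := 1
  d := 1
  pw := [[]]
  cm := [[[]]]

/-- The certificate. -/
def fiveCert : Pc.Cert where
  eqns := []
  rows := []
  us := []
  ords := []
  ordComb := []
  shifts := [[]]
  pwComb := [[]]
  cmComb := [[[]]]

/-- The generators. -/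
def fiveGens : List PcMathieu.PL := [([0,1,2,4,6,13,18,8,10,5,14,9,20,21,16,3,7,22,15,12,17,11,19,23], [0,1,2,15,3,9,4,16,7,11,8,21,19,5,10,18,14,20,6,22,12,13,17,23])]

/-- The conjugating elements. -/
def fiveConj : List PcMathieu.PL := []

theorem five_ok : PcMathieu.certOK side21 fiveRules fiveCert fiveGens fiveConj 4
    [2,4,1,3,0] = true := by decide +kernel

/-- The relations. -/
def sevenRules : Pc.Rules where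
  p := 7
  n := 1
  d := 1
  pw := [[]]
  cm := [[[]]]

/-- The certificate. -/
def sevenCert : Pc.Cert where
  eqns := []
  rows := []
  us := []
  ords := []
  ordComb := []
  shifts := [[]]
  pwComb := [[]]
  cmComb := [[[]]]

/-- The generators. -/
def sevenGens : List PcMathieu.PL := [([0,1,3,4,5,11,22,21,13,18,16,8,6,2,19,9,14,20,10,15,7,12,17,23], [0,1,13,2,3,4,12,20,11,15,18,5,21,8,16,19,10,22,9,14,17,7,6,23])]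

/-- The conjugating elements. -/
def sevenConj : List PcMathieu.PL := []

theorem seven_ok : PcMathieu.certOK side21 sevenRules sevenCert sevenGens sevenConj 4
    [6,3,5,1,2,4,0] = true := by decide +kernel

end CfsgLib.Schur.L34
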