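import Cfsg.Agent.Lib.Schur.PcData
import Mathlib.Data.List.Range

/-! Checking a polycyclic certificate in pieces, to keep the memory of each check low. -/

set_option autoImplicit false

namespace CfsgLib.Schur.PcPieces

theorem all_add {P : ℕ → Bool} {a s t : ℕ} (b u : ℕ) (h1 : (List.range' a s).all P = true)
    (h2 : (List.range' b t).all P = true) (hb : a + s = b) (hu : s + t = u) :
    (List.range' a u).all P = true := by
  subst hb hu
  simp only [List.all_eq_true, List.mem_range'_1] at *
  intro x hx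
  rcases Nat.lt_or_ge x (a + s) with h | h
  · exact h1 x ⟨hx.1, h⟩
  · exact h2 x ⟨h, by omega⟩

/-- The check of one equation. -/
def eqAt (C : Pc.Cert) (R : Pc.Rules) (fuel k : ℕ) : Bool :=
  Pc.eqnOK R fuel (C.eqns.getD k (.assoc [] [] [])) (C.rows.getD k [])

/-- The check of one power relation. -/
def pwAt (C : Pc.Cert) (R : Pc.Rules) (i : ℕ) : Bool :=
  Nat.blt i R.d ||
    Pc.vecEq (Pc.comb (C.rows ++ C.us) (C.pwComb.getD i []))
      (Pc.addS (-1) (Pc.shiftSum C.shifts (R.pwW i))
        (Pc.addS R.p (C.shifts.getD i []) (Pc.bump i 1 [])))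

/-- The check of one commutator relation. -/
def cmAt (C : Pc.Cert) (R : Pc.Rules) (j i : ℕ) : Bool :=
  Pc.vecEq (Pc.comb (C.rows ++ C.us) ((C.cmComb.getD i []).getD j []))
    (Pc.addS (-1) (Pc.shiftSum C.shifts (R.cmW i j)) (Pc.bump (R.tix i j) 1 []))

/-- The checks not covered by the pieces. -/
def baseOK (C : Pc.Cert) (R : Pc.Rules) : Bool :=
  (List.range C.us.length).all (fun k =>
    Pc.vecEq (Pc.comb C.rows (C.ordComb.getD k []))
      (Pc.addS (C.ords.getD k 0) (C.us.getD k []) [])) &&
  (List.range R.d).all (fun i => (C.shifts.getD i []).all fun x => x == 0)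

theorem eqnsOK_of {C : Pc.Cert} {R : Pc.Rules} {fuel N : ℕ}
    (hl : (C.eqns.length == C.rows.length && C.eqns.length == N) = true)
    (h : (List.range' 0 N).all (eqAt C R fuel) = true) : C.eqnsOK R fuel = true := by
  simp only [Bool.and_eq_true, beq_iff_eq] at hl
  simp only [Pc.Cert.eqnsOK, Bool.and_eq_true, beq_iff_eq]
  refine ⟨hl.1, ?_⟩
  rw [hl.2, List.range_eq_range']
  exact h

theorem solveOK_of {C : Pc.Cert} {R : Pc.Rules} {N : ℕ} (hn : (R.n == N) = true)
    (hb : baseOK C R = true) (hpw : (List.range' 0 N).all (pwAt C R) = true)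
    (hcm : ∀ j < N, (List.range' 0 j).all (cmAt C R j) = true) : C.solveOK R = true := by
  simp only [baseOK, Bool.and_eq_true] at hb
  simp only [beq_iff_eq] at hn
  simp only [Pc.Cert.solveOK, Bool.and_eq_true]
  refine ⟨⟨hb, ?_⟩, ?_⟩
  · rw [hn, List.range_eq_range']
    exact hpw
  · rw [hn, List.all_eq_true]
    intro j hj
    rw [List.range_eq_range']
    exact hcm j (List.mem_range.1 hj)

end CfsgLib.Schur.PcPieces
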