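import Cfsg.Agent.Lib.SuzukiEight.Transfer

/-!
# Stem extensions from a transferred central extension

A central extension `π : E →* G` of a subgroup gives, on functions from the cosets to `E`, a central
extension of `G` with the same kernel.  The commutator of lifts of two commuting elements of `G` is
a product over the cosets; if these products generate the kernel, the extension is a stem extension.
-/

set_option autoImplicit false

open scoped commutatorElement

namespace CfsgLib.Schur.TransferValues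

open CfsgLib.SuzukiEight

universe u v

variable {G E : Type u} {A : Type v} [Group G] [Group E] [CommGroup A] (π : E →* G)
  (ψ : A →* E)

/-- The kernel element `k` is a transferred commutator of two commuting elements. -/
def IsValue [Fintype (G ⧸ π.range)] (t : G ⧸ π.range → G) (k : A) : Prop :=
  ∃ (u v : G) (eu ev : G ⧸ π.range → E) (c : G ⧸ π.range → A),
    u * v = v * u ∧
    (∀ ω, π (eu ω) = (t ω)⁻¹ * u * t (u⁻¹ • ω)) ∧
    (∀ ω, π (ev ω) = (t ω)⁻¹ * v * t (v⁻¹ • ω)) ∧
    (∀ ω, eu ω * ev (u⁻¹ • ω) = ψ (c ω) * (ev ω * eu (v⁻¹ • ω))) ∧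
    ∏ ω, c ω = k

/-- A stem extension with kernel `A` from values generating `A`. -/
theorem exists_stem [Finite G] [Finite E] [Fintype (G ⧸ π.range)] (hψ : Function.Injective ψ)
    (hker : π.ker = ψ.range) (hcen : ∀ (a : A) (e : E), e * ψ a = ψ a * e)
    (t : G ⧸ π.range → G) (htmk : ∀ ω, QuotientGroup.mk (t ω) = ω)
    (hgen : Subgroup.closure {k | IsValue π ψ t k} = ⊤) :
    ∃ (Γ : Type u) (_ : Group Γ) (_ : Finite Γ) (σ : Γ →* G),
      Cfsg.IsStemExtension σ ∧ Nonempty (σ.ker ≃* A) := by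
  classical
  set M := transferGroup π t with hM
  have hmemM : ∀ p : (G ⧸ π.range → E) ⋊[shift] G,
      p ∈ M ↔ ∀ ω, π (p.left ω) = (t ω)⁻¹ * p.right * t (p.right⁻¹ • ω) := fun _ => Iff.rfl
  have hψker : ∀ a, π (ψ a) = 1 := fun a => MonoidHom.mem_ker.1 (hker ▸ ⟨a, rfl⟩)
  let j : (G ⧸ π.range → A) →* ↥M :=
    { toFun := fun f => ⟨⟨fun ω => ψ (f ω), 1⟩, fun ω => by simp [hψker]⟩
      map_one' := Subtype.ext (SemidirectProduct.ext (funext fun ω => by simp) rfl)
      map_mul' := fun f f' => Subtype.ext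
        (SemidirectProduct.ext (funext fun ω => by simp) (by simp)) }
  let Pr : (G ⧸ π.range → A) →* A :=
    { toFun := fun f => ∏ ω, f ω
      map_one' := by simp
      map_mul' := fun f f' => Finset.prod_mul_distrib }
  have hjinj : Function.Injective j := fun f f' h => funext fun ω =>
    hψ (congrFun (congrArg SemidirectProduct.left (congrArg Subtype.val h)) ω)
  have hconj : ∀ (p : ↥M) (f : G ⧸ π.range → A),
      p * j f * p⁻¹ = j (fun ω => f ((p : (G ⧸ π.range → E) ⋊[shift] G).right⁻¹ • ω)) := by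
    intro p f
    refine mul_inv_eq_iff_eq_mul.2 (Subtype.ext (SemidirectProduct.ext (funext fun ω => ?_) ?_))
    · simp [j, hcen]
    · simp [j]
  have hPr : ∀ (g : G) (f : G ⧸ π.range → A), Pr (fun ω => f (g⁻¹ • ω)) = Pr f := fun g f =>
    Fintype.prod_equiv (MulAction.toPerm g⁻¹) _ _ fun ω => rfl
  let N₀ : Subgroup ↥M := Pr.ker.map j
  haveI : N₀.Normal := ⟨by
    rintro _ ⟨f, hf, rfl⟩ p
    refine ⟨_, ?_, (hconj p f).symm⟩
    rw [SetLike.mem_coe, MonoidHom.mem_ker, hPr]
    exact hf⟩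
  let ρ : ↥M →* G := SemidirectProduct.rightHom.comp M.subtype
  have hN₀ρ : N₀ ≤ ρ.ker := by
    rintro _ ⟨f, -, rfl⟩
    exact MonoidHom.mem_ker.2 rfl
  let σ : ↥M ⧸ N₀ →* G := QuotientGroup.lift N₀ ρ hN₀ρ
  set o : G ⧸ π.range := QuotientGroup.mk 1 with ho
  let ι : A →* ↥M ⧸ N₀ :=
    (QuotientGroup.mk' N₀).comp (j.comp (MonoidHom.mulSingle (fun _ : G ⧸ π.range => A) o))
  have hιval : ∀ f, QuotientGroup.mk' N₀ (j f) = ι (Pr f) := by
    intro f
    refine (QuotientGroup.mk'_eq_mk' N₀).2 ⟨j (f⁻¹ * Pi.mulSingle o (Pr f)), ⟨_, ?_, rfl⟩, ?_⟩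
    · rw [SetLike.mem_coe, MonoidHom.mem_ker, map_mul, map_inv]
      show (Pr f)⁻¹ * (∏ ω, Pi.mulSingle o (Pr f) ω) = 1
      rw [Finset.prod_pi_mulSingle', if_pos (Finset.mem_univ o), inv_mul_cancel]
    · rw [← map_mul, mul_inv_cancel_left]
      rfl
  have hιinj : Function.Injective ι := by
    rw [injective_iff_map_eq_one]
    intro k hk
    obtain ⟨f, hf, hjf⟩ := (QuotientGroup.eq_one_iff _).1 hk
    rw [hjinj hjf, SetLike.mem_coe, MonoidHom.mem_ker] at hf
    change (∏ ω, Pi.mulSingle o k ω) = 1 at hf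
    rwa [Finset.prod_pi_mulSingle', if_pos (Finset.mem_univ o)] at hf
  have hσker : σ.ker = ι.range := by
    ext x
    obtain ⟨p, rfl⟩ := QuotientGroup.mk'_surjective N₀ x
    constructor
    · intro hx
      have hr : (p : (G ⧸ π.range → E) ⋊[shift] G).right = 1 := MonoidHom.mem_ker.1 hx
      have hker' : ∀ ω, ∃ a, ψ a = (p : (G ⧸ π.range → E) ⋊[shift] G).left ω := fun ω => by
        have h : (p : (G ⧸ π.range → E) ⋊[shift] G).left ω ∈ π.ker := by
          rw [MonoidHom.mem_ker, (hmemM _).1 p.2 ω, hr]; simp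
        rwa [hker] at h
      choose f hf using hker'
      have hp : p = j f := Subtype.ext (SemidirectProduct.ext (funext fun ω => (hf ω).symm) hr)
      exact ⟨Pr f, by rw [← hιval, ← hp]⟩
    · rintro ⟨k, hk⟩
      rw [← hk]
      exact MonoidHom.mem_ker.2 rfl
  have hsur : Function.Surjective σ := by
    intro g
    have hex : ∀ ω : G ⧸ π.range, ∃ e, π e = (t ω)⁻¹ * g * t (g⁻¹ • ω) := fun ω => by
      have h1 : (QuotientGroup.mk (t ω) : G ⧸ π.range) = QuotientGroup.mk (g * t (g⁻¹ • ω)) := by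
        rw [htmk, ← smul_eq_mul, ← MulAction.Quotient.smul_mk, htmk, smul_inv_smul]
      have h2 := QuotientGroup.eq.1 h1
      rw [← mul_assoc] at h2
      exact h2
    choose e he using hex
    exact ⟨QuotientGroup.mk' N₀ ⟨⟨e, g⟩, he⟩, rfl⟩
  refine ⟨↥M ⧸ N₀, inferInstance, ?_, σ, ⟨hsur, ?_, ?_⟩,
    ⟨((MonoidHom.ofInjective hιinj).trans (MulEquiv.subgroupCongr hσker.symm)).symm⟩⟩
  · haveI : Finite ((G ⧸ π.range → E) ⋊[shift] G) :=
      Finite.of_equiv _ SemidirectProduct.equivProd.symm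
    infer_instance
  · rw [hσker]
    rintro _ ⟨k, rfl⟩
    rw [Subgroup.mem_center_iff]
    intro x
    obtain ⟨p, rfl⟩ := QuotientGroup.mk'_surjective N₀ x
    refine mul_inv_eq_iff_eq_mul.1 ?_
    show QuotientGroup.mk' N₀ p * QuotientGroup.mk' N₀ (j (Pi.mulSingle o k)) *
      (QuotientGroup.mk' N₀ p)⁻¹ = QuotientGroup.mk' N₀ (j (Pi.mulSingle o k))
    rw [← map_mul, ← map_inv, ← map_mul, hconj, hιval, hιval, hPr]
  · suffices h : (⊤ : Subgroup A) ≤ (commutator (↥M ⧸ N₀)).comap ι by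
      rw [hσker]
      rintro _ ⟨k, rfl⟩
      exact h (Subgroup.mem_top k)
    rw [← hgen, Subgroup.closure_le]
    rintro _ ⟨u, v, eu, ev, c, huv, hu, hv, hc, rfl⟩
    let p : ↥M := ⟨⟨eu, u⟩, hu⟩
    let q : ↥M := ⟨⟨ev, v⟩, hv⟩
    have hpq : p * q = j c * (q * p) := by
      refine Subtype.ext (SemidirectProduct.ext (funext fun ω => ?_) ?_)
      · simpa [p, q, j] using hc ω
      · simpa [p, q, j] using huv
    have hcomm : ⁅p, q⁆ = j c := by
      rw [commutatorElement_def, hpq]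
      group
    show ι (Pr c) ∈ commutator (↥M ⧸ N₀)
    rw [← hιval, ← hcomm, map_commutatorElement, commutator_def]
    exact Subgroup.commutator_mem_commutator (Subgroup.mem_top _) (Subgroup.mem_top _)

end CfsgLib.Schur.TransferValues
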