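import Cfsg.Agent.Lib.Schur.L34CoverCosets
import Cfsg.Agent.Lib.Schur.TransferValues
import Cfsg.Agent.Lib.Schur.PcPieces

/-! A stem extension of PSL3(4) with kernel the square of a cyclic group of order four, by transfer. -/

set_option autoImplicit false
set_option maxRecDepth 20000
-- one check at a time keeps the memory low
set_option Elab.async false

namespace CfsgLib.Schur.L34Cover

open Cfsg CfsgLib.Golay CfsgLib.Schur CfsgLib.Schur.GolayOut CfsgLib.Schur.L34

/-- The components of the transfer of a word are as listed. -/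
def transferOK (w : List ℕ) (sig cmp : List ℕ) : Bool :=
  (List.finRange 315).all fun i =>
    comp (repL i) (sylList.getD (cmp.getD i 0 % 64) []) ==
      comp (wordImg w) (repL (Fin.ofNat 315 (sig.getD i 0)))

/-- The index of the image of a coset. -/
def sigF (sig : List ℕ) (i : Fin 315) : Fin 315 := Fin.ofNat 315 (sig.getD i 0)

/-- The component at a coset. -/
def cmpF (cmp : List ℕ) (i : Fin 315) : Fin 64 := Fin.ofNat 64 (cmp.getD i 0)

theorem transfer_spec {w sig cmp : List ℕ} (h : transferOK w sig cmp = true) (i : Fin 315) :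
    (Pc.ev gs w)⁻¹ • cosetEquiv i = cosetEquiv (sigF sig i) ∧
      proj (extWord (cmpF cmp i)) = (rep i)⁻¹ * Pc.ev gs w * rep (sigF sig i) := by
  simp only [transferOK, List.all_eq_true, beq_iff_eq] at h
  have h1 := h i (List.mem_finRange i)
  have h2 : rep i * proj (extWord (cmpF cmp i)) = Pc.ev gs w * rep (sigF sig i) := by
    refine eq_of_toList ?_
    rw [Subgroup.coe_mul, Subgroup.coe_mul, toList_mul, toList_mul, toList_rep, toList_rep,
      toList_proj, toList_ev]
    exact h1
  refine ⟨?_, by rw [mul_assoc, ← h2, inv_mul_cancel_left]⟩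
  show (Pc.ev gs w)⁻¹ • (QuotientGroup.mk (rep i) : H21 ⧸ proj.range) =
    QuotientGroup.mk (rep (sigF sig i))
  rw [MulAction.Quotient.smul_mk, smul_eq_mul, QuotientGroup.eq]
  refine ⟨extWord (cmpF cmp i), ?_⟩
  have h3 : proj (extWord (cmpF cmp i)) = (rep i)⁻¹ * Pc.ev gs w * rep (sigF sig i) := by
    rw [mul_assoc, ← h2, inv_mul_cancel_left]
  have h4 : ((Pc.ev gs w)⁻¹ * rep i)⁻¹ * rep (sigF sig i) =
      proj (extWord (cmpF cmp i)) := by rw [h3]; group
  rw [h4]

/-- The kernel part of the commutator at a coset. -/
def valueAt (sU cU sV cV : List ℕ) (i : Fin 315) : Lab :=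
  (wordMap (word (cmpF cU i)) (orig (word (cmpF cV (sigF sU i))))).1 -
    (wordMap (word (cmpF cV i)) (orig (word (cmpF cU (sigF sV i))))).1

/-- The total kernel part. -/
def valueSum (sU cU sV cV : List ℕ) : Lab :=
  ((List.finRange 315).map (valueAt sU cU sV cV)).sum

theorem isValue_of_check {wU sU cU wV sV cV : List ℕ} (hU : transferOK wU sU cU = true)
    (hV : transferOK wV sV cV = true) (hcomm : wordImg (wU ++ wV) = wordImg (wV ++ wU))
    [Fintype (H21 ⧸ proj.range)] {k : Lab} (hk : valueSum sU cU sV cV = k) :
    TransferValues.IsValue proj extTrans sect (Multiplicative.ofAdd k) := by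
  have huv : Pc.ev gs wU * Pc.ev gs wV = Pc.ev gs wV * Pc.ev gs wU := by
    rw [← Pc.ev_append, ← Pc.ev_append]
    exact eq_of_toList (by rw [toList_ev, toList_ev, hcomm])
  have hu := transfer_spec hU
  have hv := transfer_spec hV
  refine ⟨Pc.ev gs wU, Pc.ev gs wV, fun ω => extWord (cmpF cU (cosetEquiv.symm ω)),
    fun ω => extWord (cmpF cV (cosetEquiv.symm ω)),
    fun ω => Multiplicative.ofAdd (valueAt sU cU sV cV (cosetEquiv.symm ω)), huv, ?_, ?_, ?_, ?_⟩
  · intro ω
    obtain ⟨i, rfl⟩ := cosetEquiv.surjective ω
    simp only [(hu i).1, sect, Equiv.symm_apply_apply]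
    exact (hu i).2
  · intro ω
    obtain ⟨i, rfl⟩ := cosetEquiv.surjective ω
    simp only [(hv i).1, sect, Equiv.symm_apply_apply]
    exact (hv i).2
  · intro ω
    obtain ⟨i, rfl⟩ := cosetEquiv.surjective ω
    simp only [(hu i).1, (hv i).1, Equiv.symm_apply_apply]
    set P := extWord (cmpF cU i) * extWord (cmpF cV (sigF sU i)) with hP
    set Q := extWord (cmpF cV i) * extWord (cmpF cU (sigF sV i)) with hQ
    have hi : sigF sV (sigF sU i) = sigF sU (sigF sV i) := by
      refine cosetEquiv.injective ?_
      rw [← (hv _).1, ← (hu i).1, ← (hu _).1, ← (hv i).1, ← mul_smul, ← mul_smul, ← mul_inv_rev,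
        ← mul_inv_rev, huv]
    have hproj : P * Q⁻¹ ∈ proj.ker := by
      rw [MonoidHom.mem_ker, hP, hQ, map_mul, map_inv, map_mul, map_mul, (hu i).2, (hv _).2,
        (hv i).2, (hu _).2, hi]
      simp only [mul_assoc, mul_inv_cancel_left, inv_mul_cancel_left, mul_inv_rev, inv_inv]
      rw [← mul_assoc (Pc.ev gs wU), huv]
      group
    rw [ker_proj] at hproj
    obtain ⟨a, ha⟩ := hproj
    have hPQ : P = extTrans a * Q := by rw [ha, inv_mul_cancel_right]
    refine hPQ.trans (congrArg (extTrans · * Q) ?_)
    have h1 := congrArg (fun e : Ext => (e.1.1.1 ((0 : Lab), (0 : Fin 64))).1) hPQ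
    change ((Pc.ev lift (word (cmpF cU i))).1.1
        ((Pc.ev lift (word (cmpF cV (sigF sU i)))).1.1 (0, 0))).1 = (trans a.toAdd
      ((Pc.ev lift (word (cmpF cV i))).1.1
        ((Pc.ev lift (word (cmpF cU (sigF sV i)))).1.1 (0, 0)))).1 at h1
    simp only [ev_lift_fst] at h1
    apply Multiplicative.toAdd.injective
    show a.toAdd = _
    rw [toAdd_ofAdd, valueAt, orig, orig, h1]
    simp [trans]
  · rw [← hk, valueSum, ← Equiv.prod_comp cosetEquiv]
    simp only [Equiv.symm_apply_apply, ← ofAdd_sum]
    rw [Fin.sum_univ_def]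

/-- One component of a transfer is as listed. -/
def transferAt (w : List ℕ) (sig cmp : List ℕ) (k : ℕ) : Bool :=
  let i : Fin 315 := Fin.ofNat 315 k
  comp (repL i) (sylList.getD (cmp.getD i 0 % 64) []) ==
    comp (wordImg w) (repL (Fin.ofNat 315 (sig.getD i 0)))

theorem transferOK_of {w sig cmp : List ℕ}
    (h : (List.range' 0 315).all (transferAt w sig cmp) = true) : transferOK w sig cmp = true := by
  simp only [transferOK, List.all_eq_true, List.mem_range'_1] at *
  intro i _
  have h1 := h i ⟨Nat.zero_le _, by simpa using i.2⟩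
  simpa [transferAt] using h1

/-- The sum of the kernel parts over a range of cosets. -/
def valuePart (sU cU sV cV : List ℕ) (a n : ℕ) : Lab :=
  ((List.range' a n).map fun k => valueAt sU cU sV cV (Fin.ofNat 315 k)).sum

theorem valuePart_add (sU cU sV cV : List ℕ) (a s t : ℕ) :
    valuePart sU cU sV cV a (s + t) = valuePart sU cU sV cV a s + valuePart sU cU sV cV (a + s) t := by
  rw [valuePart, valuePart, valuePart, ← List.sum_append, ← List.map_append, List.range'_append_1]

theorem valueSum_eq (sU cU sV cV : List ℕ) :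
    valueSum sU cU sV cV = valuePart sU cU sV cV 0 80 + valuePart sU cU sV cV 80 80 +
      valuePart sU cU sV cV 160 80 + valuePart sU cU sV cV 240 75 := by
  rw [← valuePart_add _ _ _ _ 0 80 80, ← valuePart_add _ _ _ _ 0 (80 + 80) 80,
    ← valuePart_add _ _ _ _ 0 (80 + 80 + 80) 75, valueSum, valuePart]
  refine congrArg List.sum (List.ext_getElem (by simp) fun k h1 h2 => ?_)
  simp only [List.getElem_map, List.getElem_finRange, List.getElem_range', one_mul, zero_add]
  refine congrArg _ (Fin.ext ?_)
  simp at h1
  simp [Nat.mod_eq_of_lt h1]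

theorem checkU0part0 : (List.range' 0 80).all (transferAt wordU0 sigU0 compU0) = true := by
  decide +kernel

theorem checkU0part1 : (List.range' 80 80).all (transferAt wordU0 sigU0 compU0) = true := by
  decide +kernel

theorem checkU0part2 : (List.range' 160 80).all (transferAt wordU0 sigU0 compU0) = true := by
  decide +kernel

theorem checkU0part3 : (List.range' 240 75).all (transferAt wordU0 sigU0 compU0) = true := by
  decide +kernel

theorem checkU0 : transferOK wordU0 sigU0 compU0 = true :=
  transferOK_of (PcPieces.all_add 240 315 (PcPieces.all_add 160 240 (PcPieces.all_add 80 160 checkU0part0 checkU0part1 rfl rfl) checkU0part2 rfl rfl) checkU0part3 rfl rfl)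

theorem checkV0part0 : (List.range' 0 80).all (transferAt wordV0 sigV0 compV0) = true := by
  decide +kernel

theorem checkV0part1 : (List.range' 80 80).all (transferAt wordV0 sigV0 compV0) = true := by
  decide +kernel

theorem checkV0part2 : (List.range' 160 80).all (transferAt wordV0 sigV0 compV0) = true := by
  decide +kernel

theorem checkV0part3 : (List.range' 240 75).all (transferAt wordV0 sigV0 compV0) = true := by
  decide +kernel

theorem checkV0 : transferOK wordV0 sigV0 compV0 = true :=
  transferOK_of (PcPieces.all_add 240 315 (PcPieces.all_add 160 240 (PcPieces.all_add 80 160 checkV0part0 checkV0part1 rfl rfl) checkV0part2 rfl rfl) checkV0part3 rfl rfl)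

theorem checkU1part0 : (List.range' 0 80).all (transferAt wordU1 sigU1 compU1) = true := by
  decide +kernel

theorem checkU1part1 : (List.range' 80 80).all (transferAt wordU1 sigU1 compU1) = true := by
  decide +kernel

theorem checkU1part2 : (List.range' 160 80).all (transferAt wordU1 sigU1 compU1) = true := by
  decide +kernel

theorem checkU1part3 : (List.range' 240 75).all (transferAt wordU1 sigU1 compU1) = true := by
  decide +kernel

theorem checkU1 : transferOK wordU1 sigU1 compU1 = true :=
  transferOK_of (PcPieces.all_add 240 315 (PcPieces.all_add 160 240 (PcPieces.all_add 80 160 checkU1part0 checkU1part1 rfl rfl) checkU1part2 rfl rfl) checkU1part3 rfl rfl)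

theorem checkV1part0 : (List.range' 0 80).all (transferAt wordV1 sigV1 compV1) = true := by
  decide +kernel

theorem checkV1part1 : (List.range' 80 80).all (transferAt wordV1 sigV1 compV1) = true := by
  decide +kernel

theorem checkV1part2 : (List.range' 160 80).all (transferAt wordV1 sigV1 compV1) = true := by
  decide +kernel

theorem checkV1part3 : (List.range' 240 75).all (transferAt wordV1 sigV1 compV1) = true := by
  decide +kernel

theorem checkV1 : transferOK wordV1 sigV1 compV1 = true :=
  transferOK_of (PcPieces.all_add 240 315 (PcPieces.all_add 160 240 (PcPieces.all_add 80 160 checkV1part0 checkV1part1 rfl rfl) checkV1part2 rfl rfl) checkV1part3 rfl rfl)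

theorem commCheck : wordImg (wordU0 ++ wordV0) = wordImg (wordV0 ++ wordU0) ∧
    wordImg (wordU1 ++ wordV1) = wordImg (wordV1 ++ wordU1) := by decide +kernel

theorem value0part0 : valuePart sigU0 compU0 sigV0 compV0 0 80 = (3, 2) := by decide +kernel

theorem value0part1 : valuePart sigU0 compU0 sigV0 compV0 80 80 = (3, 1) := by decide +kernel

theorem value0part2 : valuePart sigU0 compU0 sigV0 compV0 160 80 = (1, 2) := by decide +kernel

theorem value0part3 : valuePart sigU0 compU0 sigV0 compV0 240 75 = (2, 3) := by decide +kernel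

theorem valueCheck₀ : valueSum sigU0 compU0 sigV0 compV0 = (1, 0) := by
  rw [valueSum_eq, value0part0, value0part1, value0part2, value0part3]
  decide

theorem value1part0 : valuePart sigU1 compU1 sigV1 compV1 0 80 = (3, 0) := by decide +kernel

theorem value1part1 : valuePart sigU1 compU1 sigV1 compV1 80 80 = (0, 1) := by decide +kernel

theorem value1part2 : valuePart sigU1 compU1 sigV1 compV1 160 80 = (1, 1) := by decide +kernel

theorem value1part3 : valuePart sigU1 compU1 sigV1 compV1 240 75 = (1, 3) := by decide +kernel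

theorem valueCheck₁ : valueSum sigU1 compU1 sigV1 compV1 = (1, 1) := by
  rw [valueSum_eq, value1part0, value1part1, value1part2, value1part3]
  decide

theorem exists_stem_sixteen :
    ∃ (Γ : Type) (_ : Group Γ) (_ : Finite Γ) (σ : Γ →* H21),
      Cfsg.IsStemExtension σ ∧ Nonempty (σ.ker ≃* Ker) := by
  haveI : Fintype (H21 ⧸ proj.range) := Fintype.ofFinite _
  refine TransferValues.exists_stem proj extTrans extTrans_injective ker_proj extTrans_central
    sect mk_sect ?_
  set V := Subgroup.closure {k | TransferValues.IsValue proj extTrans sect k}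
  have h0 : Multiplicative.ofAdd ((1, 0) : Lab) ∈ V :=
    Subgroup.subset_closure (isValue_of_check checkU0 checkV0 commCheck.1 valueCheck₀)
  have h1 : Multiplicative.ofAdd ((1, 1) : Lab) ∈ V :=
    Subgroup.subset_closure (isValue_of_check checkU1 checkV1 commCheck.2 valueCheck₁)
  rw [eq_top_iff]
  intro k _
  have hk : ∀ z : Lab, ∃ m n : Fin 4, z = m.val • ((1, 0) : Lab) + n.val • ((1, 1) : Lab) := by
    decide +kernel
  obtain ⟨m, n, hmn⟩ := hk k.toAdd
  rw [← ofAdd_toAdd k, hmn, ofAdd_add, ofAdd_nsmul, ofAdd_nsmul]
  exact mul_mem (pow_mem h0 _) (pow_mem h1 _)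

end CfsgLib.Schur.L34Cover
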