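import Cfsg.Agent.Lib.Schur.L34CoverExt

/-! The cosets of the Sylow 2-subgroup, numbered. -/

set_option autoImplicit false
set_option maxRecDepth 20000
-- one check at a time keeps the memory low
set_option Elab.async false

namespace CfsgLib.Schur.L34Cover

open Cfsg CfsgLib.Golay CfsgLib.Schur CfsgLib.Schur.GolayOut CfsgLib.Schur.L34

/-- An invariant of cosets. -/
def cosetKey (l : List ℕ) : ℕ :=
  (baseTab.map fun q => (l.getD q.1 0 + 24 * l.getD q.2.1 0 + 576 * l.getD q.2.2.1 0 +
    13824 * l.getD q.2.2.2 0) ^ 2).sum

/-- The invariant at one element of the subgroup. -/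
def quadKey (l : List ℕ) : ℕ :=
  (l.getD 2 0 + 24 * l.getD 4 0 + 576 * l.getD 9 0 + 13824 * l.getD 16 0) ^ 2

theorem baseTab_eq : baseTab = sylList.map fun s =>
    (s.getD 2 0, s.getD 4 0, s.getD 9 0, s.getD 16 0) := by decide +kernel

theorem getD_comp (a b : List ℕ) {k : ℕ} (hk : k < b.length) :
    (comp a b).getD k 0 = a.getD (b.getD k 0) 0 := by
  rw [comp, List.getD_eq_getElem _ _ (by simpa using hk), List.getElem_map,
    List.getD_eq_getElem b _ hk]

theorem cosetKey_eq_sum (x : H21) :
    cosetKey (toList x.1) = ∑ k : Fin 64, quadKey (toList (x * proj (extWord k)).1) := by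
  have hlen : sylList.length = 64 := by decide +kernel
  rw [cosetKey, baseTab_eq, List.map_map, ← Fin.sum_univ_fun_getElem, Fin.sum_congr' _ hlen.symm |>.symm]
  refine Finset.sum_congr rfl fun k _ => ?_
  have hk : (k : ℕ) < sylList.length := by rw [hlen]; exact k.2
  rw [Subgroup.coe_mul, toList_mul, toList_proj, List.getD_eq_getElem _ _ hk]
  have hl : (sylList[(k : ℕ)]).length = 24 := by
    have := toList_length (proj (extWord k)).1
    rwa [toList_proj, List.getD_eq_getElem _ _ hk] at this
  simp only [quadKey, getD_comp _ _ (by rw [hl]; norm_num : (2 : ℕ) < (sylList[(k : ℕ)]).length),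
    getD_comp _ _ (by rw [hl]; norm_num : (4 : ℕ) < (sylList[(k : ℕ)]).length),
    getD_comp _ _ (by rw [hl]; norm_num : (9 : ℕ) < (sylList[(k : ℕ)]).length),
    getD_comp _ _ (by rw [hl]; norm_num : (16 : ℕ) < (sylList[(k : ℕ)]).length)]
  rfl

theorem sum_congr_of_mem {G : Type} [Group G] {K : Subgroup G} {b : Fin 64 → G}
    (hb : ∀ k, b k ∈ K) (hinj : Function.Injective b) (hsurj : ∀ z ∈ K, ∃ k, b k = z)
    (f : G → ℕ) {x y : G} (h : x⁻¹ * y ∈ K) :
    (∑ k, f (y * b k)) = ∑ k, f (x * b k) := by
  choose e he using fun k => hsurj _ (K.mul_mem h (hb k))
  have heinj : Function.Injective e := fun k l hkl => hinj (mul_left_cancel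
    (a := x⁻¹ * y) (by rw [← he k, ← he l, hkl]))
  refine Fintype.sum_bijective e (Finite.injective_iff_bijective.1 heinj) _ _ fun k => ?_
  rw [he k]
  congr 1
  group

theorem cosetKey_congr {x y : H21} (h : x⁻¹ * y ∈ proj.range) :
    cosetKey (toList y.1) = cosetKey (toList x.1) := by
  rw [cosetKey_eq_sum x, cosetKey_eq_sum y]
  exact sum_congr_of_mem (K := proj.range) (b := fun k => proj (extWord k)) (fun k => ⟨_, rfl⟩) proj_extWord_injective
    (fun z hz => exists_index ⟨z, hz⟩) (fun z : H21 => quadKey (toList z.1)) h

/-- The image list of a representative. -/
def repL (i : Fin 315) : List ℕ := (repTab.getD i ([], [])).1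

theorem exists_rep (i : Fin 315) : ∃ x : H21, toList x.1 = repL i := by
  obtain ⟨x, hx⟩ := exists_of_memOK (certs_rep i.2)
  exact ⟨x, hx⟩

/-- A representative. -/
noncomputable def rep (i : Fin 315) : H21 := (exists_rep i).choose

theorem toList_rep (i : Fin 315) : toList (rep i).1 = repL i := (exists_rep i).choose_spec

/-- The values of the invariant at the representatives. -/
def keyTab : List ℕ := [2357618538268,2360505418012,2368502242588,2801061241184,2795928516704,2793984164192,2510628750540,2520445606092,
  2510162900172,2785335389024,2814103333472,2781517034336,2518568353356,2512976858700,2516318303820,2799867342176,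
  2801585183840,2799852301664,2366193788380,2369003691484,2367476084188,2044351658476,2037640673260,2038019589100,
  2798022421088,2804692037984,2799065598560,2038559088556,2046785294764,2027711884204,2517333748236,2520492043788,
  2520504872460,2514809265036,2520425089932,2524412438412,2366033625820,2376876627676,2368269957340,2367548623900,
  2371104410140,2375192853532,2039823239212,2048628546604,2041729762348,2046793175404,2044835779948,2044565470060,
  2356246507996,2368856677852,2355571187164,2791956632092,2800038833692,2797129393180,2637602197872,2644470682224,
  2633259823728,2797645888924,2797512510364,2802500568988,2783127647068,2814741549916,2786628137308,2641528165488,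
  2640348501360,2643345544560,2219058535412,2224256511476,2216508984308,2640635948400,2643079766640,2645894093424,
  2217330953972,2221292428532,2225261861108,2800191963292,2798450457244,2809343225500,2654516495472,2634916849008,
  2634925254000,2217058724084,2216316822260,2234795869940,2221636235828,2233696058420,2220524039732,2798295561052,
  2798256190300,2795455129948,2069581627892,2062945624052,2064689346548,2418285244916,2416035637748,2413497367028,
  2370257398384,2370258504304,2379712592752,2417426468468,2416450314356,2420026228340,2370374924656,2382957004144,
  2371002472048,2405113144052,2413763392244,2425865682164,2373332508016,2375818579312,2380424406640,2065610181620,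
  2064651058676,2079405100532,2374053727984,2373376637680,2386948140016,2069560959092,2069059940468,2076998367860,
  2426622471668,2418008723444,2421457452020,2073555609332,2076138559220,2073270701300,2788549177952,2798724821600,
  2794720432736,2639781834864,2639801741424,2634039041136,2059865344052,2073233787956,2060084330036,2415817625024,
  2414302182848,2416798649792,2415878778944,2416819545920,2411839449920,2401719507392,2429854821824,2406571530944,
  2415635238464,2420261635904,2413128154688,2504424391116,2504956596684,2521769566668,2242600955004,2245085699196,
  2250238996092,2248947409212,2248329149244,2247689886012,2310101473360,2311164559696,2319904615504,2314866816976,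
  2302374328528,2317503966160,2309966244688,2313351928912,2318286901072,2229396189372,2229397295292,2273794568892,
  2325325033552,2313377579344,2313700533328,2253342857340,2252922796668,2253944735868,2129707481536,2131269372352,
  2130187043008,2129319967168,2133325233856,2129986885312,1918352922016,1916887474336,1916870000800,1902170038816,
  1905526969120,1930327692832,2131019107264,2136615023296,2132291892160,1917159988384,1921700112544,1917325224352,
  1917706092064,1922312138272,1916980774432,2135938481344,2138010238144,2135309830336,2404628286452,2404049406452,
  2426056371188,2134246096576,2118169503424,2119160036800,2216164362356,2221286251124,2216161708148,2382133303792,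
  2363838511600,2363046838768,2245791105084,2247424452156,2240796636732,2405912039744,2416902361664,2410046263616,
  2033334584236,2039945368492,2033417095084,2306977066192,2312312411344,2314061442256,1970693995880,1976602472552,
  1983096020072,1964960637800,1968323982440,1993102808936,1985830380776,1976676238568,1976966892776,1980241135208,
  1979651633768,1982987772776,1977872086376,1974021883496,1979467827560,1918115365024,1906533776800,1905910210720,
  2351656205508,2340768519876,2343665131716,2374071021020,2387931410396,2371791554012,2374638764444,2375057498012,
  2386682219420,2545193118980,2545501251332,2589333137156,2440531487648,2445078035360,2438438273696,2439521083040,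
  2439551385248,2443819662752,2568827897156,2568495655748,2569854260036,2571367561220,2565002093060,2568112829444,
  2347812617988,2338147503876,2357176014084,2431455418784,2453088338336,2438014001312,2353654506180,2347932282564,
  2353655169732,2575053854084,2566539859844,2571362468228,2384032001948,2382404193692,2391958485404,2450985642656,
  2443868973728,2447049164192,2384660505116,2391395599388,2386975803932,2357447412036,2357091282756,2357234398020,
  2344943011908,2347220926020,2345307767364,2376870462428,2379770834396,2377223716316,2563417359236,2563037775236,
  2563901125508,2437364173472,2440006631072,2437976456864,2675275933660,2686117166044,2681945331676,2683214059612,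
  2677488518236,2686264629340,2690322526876,2690625129628,2689635262108,2682682273372,2698922556508,2682693553756,
  2683343024284,2683496539804,2683193715868]

/-- The invariant at one representative is the tabled one. -/
def keyOK (k : ℕ) : Bool := cosetKey (repTab.getD k ([], [])).1 == keyTab.getD k 0

theorem keyOK0 : (List.range' 0 80).all keyOK = true := by decide +kernel

theorem keyOK1 : (List.range' 80 80).all keyOK = true := by decide +kernel

theorem keyOK2 : (List.range' 160 80).all keyOK = true := by decide +kernel

theorem keyOK3 : (List.range' 240 75).all keyOK = true := by decide +kernel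

theorem keyTab_sorted : Pc.sortedBy keyTab keyIdx = true := by decide +kernel

theorem keys_eq (i : Fin 315) : cosetKey (repL i) = keyTab.getD i 0 := by
  have h0 := keyOK0
  have h1 := keyOK1
  have h2 := keyOK2
  have h3 := keyOK3
  simp only [List.all_eq_true, List.mem_range'_1] at h0 h1 h2 h3
  refine (beq_iff_eq.1 ?_ : cosetKey (repTab.getD i ([], [])).1 = keyTab.getD i 0)
  have hi := i.2
  rcases (by omega : (i : ℕ) < 80 ∨ (80 ≤ (i : ℕ) ∧ (i : ℕ) < 160) ∨ (160 ≤ (i : ℕ) ∧ (i : ℕ) < 240) ∨
      240 ≤ (i : ℕ)) with h | h | h | h
  · exact h0 i ⟨Nat.zero_le _, h⟩
  · exact h1 i h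
  · exact h2 i h
  · exact h3 i ⟨h, by omega⟩

theorem rep_bijective :
    Function.Bijective fun i : Fin 315 => (QuotientGroup.mk (rep i) : H21 ⧸ proj.range) := by
  refine (Nat.bijective_iff_injective_and_card _).2 ⟨fun a b h => ?_, ?_⟩
  · have h1 := cosetKey_congr (QuotientGroup.eq.1 h)
    rw [toList_rep, toList_rep, keys_eq, keys_eq] at h1
    have hl : keyTab.length = 315 := by decide +kernel
    have ha : (a : ℕ) < keyTab.length := by rw [hl]; exact a.2
    have hb : (b : ℕ) < keyTab.length := by rw [hl]; exact b.2
    rw [List.getD_eq_getElem _ _ ha, List.getD_eq_getElem _ _ hb] at h1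
    exact Fin.ext ((List.Nodup.getElem_inj_iff (Pc.nodup_of_sortedBy keyTab_sorted)).1 h1.symm)
  · have h := Subgroup.card_eq_card_quotient_mul_card_subgroup proj.range
    rw [natCard_range, natCard_H21] at h
    rw [Nat.card_eq_fintype_card, Fintype.card_fin]
    omega

/-- The cosets, numbered. -/
noncomputable def cosetEquiv : Fin 315 ≃ H21 ⧸ proj.range :=
  Equiv.ofBijective _ rep_bijective

/-- The chosen representatives. -/
noncomputable def sect (ω : H21 ⧸ proj.range) : H21 := rep (cosetEquiv.symm ω)

theorem mk_sect (ω : H21 ⧸ proj.range) : QuotientGroup.mk (sect ω) = ω :=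
  cosetEquiv.apply_symm_apply ω


end CfsgLib.Schur.L34Cover
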