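import Cfsg.Agent.Lib.Schur.L34CoverData
import Cfsg.Agent.Lib.Golay.ThreePoint

/-!
# A central extension of the Sylow 2-subgroup of PSL3(4) on 21 of 24 points

The group is taken as the pointwise stabiliser of three of the 24 points.  The extension of
its Sylow 2-subgroup is given by labelled permutations.
-/

set_option autoImplicit false
set_option maxRecDepth 20000
-- one check at a time keeps the memory low
set_option Elab.async false

namespace CfsgLib.Schur.L34Cover

open Cfsg CfsgLib.Golay CfsgLib.Schur CfsgLib.Schur.GolayOut CfsgLib.Schur.L34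

/-- The group on 21 points. -/
abbrev H21 : Subgroup (Equiv.Perm GolayPt) := fixPts threePts

theorem side21_iff (σ : Equiv.Perm GolayPt) :
    side21 (toList σ) = true ↔ ∀ p ∈ threePts, σ p = p := by
  have key : ∀ p : GolayPt,
      Nat.beq ((toList σ).getD (idx p).val 0) (idx p).val = true ↔ σ p = p := fun p => by
    rw [toList_getD]
    exact ⟨fun h => idx_injective (Fin.ext (Nat.eq_of_beq_eq_true h)), fun h => by
      rw [h]; exact Nat.beq_refl _⟩
  have h0 := key none
  have h1 := key (some 0)
  have h2 := key (some 1)
  rw [show (idx (none : GolayPt)).val = 23 from rfl] at h0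
  rw [show (idx (some 0 : GolayPt)).val = 0 by decide] at h1
  rw [show (idx (some 1 : GolayPt)).val = 1 by decide] at h2
  simp only [side21, Bool.and_eq_true, h0, h1, h2, threePts, List.mem_cons, List.not_mem_nil,
    or_false, forall_eq_or_imp, forall_eq, and_assoc]

theorem mem_side (σ : Equiv.Perm GolayPt) :
    σ ∈ H21 ↔ σ ∈ M24 ∧ side21 (toList σ) = true := by
  rw [side21_iff, mem_fixPts]

theorem natCard_H21 : Nat.card H21 = 20160 := natCard_stdStab 3

/-- The labels: pairs of integers modulo four. -/
abbrev Lab : Type := ZMod 4 × ZMod 4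

/-- The labels as a group. -/
abbrev Ker : Type := Multiplicative Lab

/-- The points acted on. -/
abbrev Pt : Type := Lab × Fin 64

/-- The label of a packed number. -/
def unpack (n : ℕ) : Lab := ((n % 4 : ℕ), (n / 4 : ℕ))

/-- The lift of a generator. -/
def genMap (i : ℕ) (p : Pt) : Pt :=
  let e := (genTab.getD i []).getD p.2.val p.2.val
  (p.1 + unpack (e / 64), Fin.ofNat 64 (e % 64))

/-- Translation of the labels. -/
def trans (a : Lab) (p : Pt) : Pt := (a + p.1, p.2)

theorem genMap_trans (i : ℕ) (a : Lab) (p : Pt) : genMap i (trans a p) = trans a (genMap i p) :=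
  Prod.ext (add_assoc a p.1 _) rfl

/-- The square of a lift. -/
def sqC (i : ℕ) : Lab := unpack (sqTab.getD i 0)

theorem genMap_sq_base : ∀ i : Fin 6, ∀ x : Fin 64,
    genMap i (genMap i (0, x)) = trans (sqC i) (0, x) := by decide +kernel

theorem genMap_sq (i : ℕ) (p : Pt) : genMap i (genMap i p) = trans (sqC i) p := by
  obtain ⟨a, x⟩ := p
  have hp : ((a, x) : Pt) = trans a (0, x) := by simp [trans]
  rw [hp, genMap_trans, genMap_trans]
  rcases Nat.lt_or_ge i 6 with hi | hi
  · rw [genMap_sq_base ⟨i, hi⟩ x]
    simp [trans, add_comm]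
  · have h1 : genTab.getD i [] = [] := List.getD_eq_default _ _ hi
    have h2 : sqC i = 0 := by
      rw [sqC, List.getD_eq_default _ _ hi]; rfl
    have h3 : unpack 0 = 0 := rfl
    simp only [genMap, h1, h2, trans, List.getD_nil, Nat.div_eq_of_lt x.isLt,
      Nat.mod_eq_of_lt x.isLt, h3, Fin.ofNat_eq_cast, Fin.cast_val_eq_self, add_zero, zero_add]

/-- The lift as a permutation. -/
def genPerm (i : ℕ) : Equiv.Perm Pt where
  toFun := genMap i
  invFun p := trans (-sqC i) (genMap i p)
  left_inv p := by
    show trans (-sqC i) (genMap i (genMap i p)) = p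
    rw [genMap_sq]; simp [trans]
  right_inv p := by
    show genMap i (trans (-sqC i) (genMap i p)) = p
    rw [genMap_trans, genMap_sq]; simp [trans]

/-- Translation as a permutation. -/
def transPerm : Ker →* Equiv.Perm Pt where
  toFun a :=
    { toFun := trans a.toAdd
      invFun := trans (-a.toAdd)
      left_inv := fun p => by simp [trans]
      right_inv := fun p => by simp [trans] }
  map_one' := Equiv.ext fun p => by simp [trans]
  map_mul' a b := Equiv.ext fun p => by simp [trans, add_assoc]

theorem transPerm_comm (a : Ker) (i : ℕ) : transPerm a * genPerm i = genPerm i * transPerm a :=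
  Equiv.ext fun p => (genMap_trans i a.toAdd p).symm

/-- Composing the lifts along a word. -/
def wordMap : List ℕ → Pt → Pt
  | [], p => p
  | i :: w, p => genMap i (wordMap w p)

/-- The image of the base point. -/
def orig (w : List ℕ) : Pt := wordMap w (0, 0)

theorem exists_of_memOK {a : PcMathieu.PL} (h : PcMathieu.memOK side21 a = true) :
    ∃ x : H21, toList x.1 = a.1 :=
  PcMathieu.exists_elem mem_side h

theorem gens_ok : twoGens.all (PcMathieu.memOK side21) = true := by decide +kernel

/-- The check of one representative. -/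
def repOK (k : ℕ) : Bool := PcMathieu.memOK side21 (repTab.getD k ([], []))

theorem repOK0 : (List.range' 0 80).all repOK = true := by decide +kernel

theorem repOK1 : (List.range' 80 80).all repOK = true := by decide +kernel

theorem repOK2 : (List.range' 160 80).all repOK = true := by decide +kernel

theorem repOK3 : (List.range' 240 75).all repOK = true := by decide +kernel

theorem certs_rep {k : ℕ} (hk : k < 315) : PcMathieu.memOK side21 (repTab.getD k ([], [])) = true := by
  have h0 := repOK0
  have h1 := repOK1
  have h2 := repOK2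
  have h3 := repOK3
  simp only [List.all_eq_true, List.mem_range'_1] at h0 h1 h2 h3
  rcases (by omega : k < 80 ∨ (80 ≤ k ∧ k < 160) ∨ (160 ≤ k ∧ k < 240) ∨ 240 ≤ k) with h | h | h | h
  · exact h0 k ⟨Nat.zero_le k, h⟩
  · exact h1 k h
  · exact h2 k h
  · exact h3 k ⟨h, by omega⟩

theorem exists_gs (i : ℕ) :
    ∃ x : H21, toList x.1 = (twoGens.map Prod.fst).getD i (List.range 24) := by
  rcases Nat.lt_or_ge i twoGens.length with hi | hi
  · have h := gens_ok
    simp only [List.all_eq_true] at h
    obtain ⟨x, hx⟩ := exists_of_memOK (h _ (List.getElem_mem hi))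
    exact ⟨x, by rw [hx, List.getD_eq_getElem _ _ (by simpa using hi)]; simp⟩
  · exact ⟨1, by rw [List.getD_eq_default _ _ (by simpa using hi)]; exact toList_one⟩

/-- The generators of the Sylow subgroup. -/
noncomputable def gs (i : ℕ) : H21 := (exists_gs i).choose

theorem toList_gs (i : ℕ) : toList (gs i).1 = (twoGens.map Prod.fst).getD i (List.range 24) :=
  (exists_gs i).choose_spec

/-- The value of a word in the generators, as an image list. -/
def wordImg (w : List ℕ) : List ℕ :=
  Pc.evC comp (List.range 24) (twoGens.map Prod.fst) w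

theorem toList_ev (w : List ℕ) : toList (Pc.ev gs w).1 = wordImg w :=
  Pc.rep_evC (fun a (x : H21) => toList x.1 = a) toList_one
    (fun {a b x y} hx hy => by rw [Subgroup.coe_mul, toList_mul, hx, hy]) toList_gs w

theorem eq_of_toList {x y : H21} (h : toList x.1 = toList y.1) : x = y :=
  Subtype.ext (toList_injective h)

/-- The pairs of a labelled permutation and an element of the group. -/
abbrev Amb : Type := Equiv.Perm Pt × H21

/-- The translations among the pairs. -/
def ambTrans : Ker →* Amb := (MonoidHom.inl _ _).comp transPerm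

/-- The pairs commuting with the translations. -/
def Cen : Subgroup Amb := Subgroup.centralizer (ambTrans.range : Set Amb)

theorem ambTrans_mem (a : Ker) : ambTrans a ∈ Cen := by
  rintro _ ⟨b, rfl⟩
  rw [← map_mul, ← map_mul, mul_comm]

/-- The translations inside their centraliser. -/
def cenTrans : Ker →* Cen := ambTrans.codRestrict Cen ambTrans_mem

theorem cenTrans_central (a : Ker) (e : Cen) : e * cenTrans a = cenTrans a * e :=
  Subtype.ext (e.2 _ ⟨a, rfl⟩).symm

theorem pair_mem (i : ℕ) : ((genPerm i, gs i) : Amb) ∈ Cen := by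
  rintro _ ⟨a, rfl⟩
  exact Prod.ext (transPerm_comm a i) (by simp [ambTrans])

/-- The lifts of the generators. -/
noncomputable def lift (i : ℕ) : Cen := ⟨(genPerm i, gs i), pair_mem i⟩

theorem ev_lift_fst : ∀ (w : List ℕ) (p : Pt), (Pc.ev lift w).1.1 p = wordMap w p
  | [], p => rfl
  | i :: w, p => by
    show genPerm i ((Pc.ev lift w).1.1 p) = _
    rw [ev_lift_fst w p]
    rfl

theorem ev_lift_snd (w : List ℕ) : (Pc.ev lift w).1.2 = Pc.ev gs w :=
  Pc.map_ev ((MonoidHom.snd (Equiv.Perm Pt) H21).comp Cen.subtype) lift w

/-- The relation between the generators `j` and `i` holds for the labelled permutations. -/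
def RelAt (j i : Fin 6) : Prop :=
  (∀ x : Fin 64, wordMap [j.val, i.val] (0, x) =
      trans (unpack ((cmTab.getD i []).getD j 0))
        (wordMap (i.val :: j.val :: twoRules.cmW i j) (0, x))) ∧
    wordImg [j.val, i.val] = wordImg (i.val :: j.val :: twoRules.cmW i j)

instance (j i : Fin 6) : Decidable (RelAt j i) := by unfold RelAt; infer_instance

theorem relRow0 : ∀ i : Fin 6, i < 0 → RelAt 0 i := by decide +kernel

theorem relRow1 : ∀ i : Fin 6, i < 1 → RelAt 1 i := by decide +kernel

theorem relRow2 : ∀ i : Fin 6, i < 2 → RelAt 2 i := by decide +kernel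

theorem relRow3 : ∀ i : Fin 6, i < 3 → RelAt 3 i := by decide +kernel

theorem relRow4 : ∀ i : Fin 6, i < 4 → RelAt 4 i := by decide +kernel

theorem relRow5 : ∀ i : Fin 6, i < 5 → RelAt 5 i := by decide +kernel

theorem relCheck : ∀ j : Fin 6, ∀ i : Fin 6, i < j →
    (∀ x : Fin 64, wordMap [j.val, i.val] (0, x) =
      trans (unpack ((cmTab.getD i []).getD j 0))
        (wordMap (i.val :: j.val :: twoRules.cmW i j) (0, x))) ∧
    wordImg [j.val, i.val] = wordImg (i.val :: j.val :: twoRules.cmW i j)
  | 0 => relRow0 | 1 => relRow1 | 2 => relRow2 | 3 => relRow3 | 4 => relRow4 | 5 => relRow5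

theorem powCheck : ∀ i : Fin 6, wordImg [i.val, i.val] = List.range 24 := by decide +kernel

theorem cmShape : ∀ j : Fin 6, ∀ i : Fin 6, i < j →
    ∀ k ∈ twoRules.cmW i j, j.val < k ∧ k < 6 := by decide +kernel

theorem wordMap_trans : ∀ (w : List ℕ) (a : Lab) (p : Pt),
    wordMap w (trans a p) = trans a (wordMap w p)
  | [], a, p => rfl
  | i :: w, a, p => by
    show genMap i (wordMap w (trans a p)) = trans a (genMap i (wordMap w p))
    rw [wordMap_trans w a p, genMap_trans]

theorem lift_eq {w w' : List ℕ} {a : Lab}
    (h : ∀ x : Fin 64, wordMap w (0, x) = trans a (wordMap w' (0, x)))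
    (h' : wordImg w = wordImg w') :
    Pc.ev lift w = cenTrans (Multiplicative.ofAdd a) * Pc.ev lift w' := by
  refine Subtype.ext (Prod.ext (Equiv.ext fun p => ?_) ?_)
  · obtain ⟨b, x⟩ := p
    have hp : ((b, x) : Pt) = trans b (0, x) := by simp [trans]
    show _ = trans a ((Pc.ev lift w').1.1 (b, x))
    rw [ev_lift_fst, ev_lift_fst, hp, wordMap_trans, wordMap_trans, h x]
    simp [trans, add_left_comm]
  · show _ = 1 * (Pc.ev lift w').1.2
    rw [one_mul, ev_lift_snd, ev_lift_snd]
    exact eq_of_toList (by rw [toList_ev, toList_ev, h'])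

theorem lift_sq (i : Fin 6) :
    lift i * lift i = cenTrans (Multiplicative.ofAdd (sqC i)) := by
  have h := lift_eq (w := [i.val, i.val]) (w' := []) (a := sqC i)
    (fun x => genMap_sq i (0, x)) (powCheck i)
  simpa [Pc.ev] using h

theorem lift_comm (i j : Fin 6) (hij : i < j) :
    lift j * lift i = cenTrans (Multiplicative.ofAdd (unpack ((cmTab.getD i []).getD j 0))) *
      (lift i * lift j * Pc.ev lift (twoRules.cmW i j)) := by
  have h := lift_eq (relCheck j i hij).1 (relCheck j i hij).2
  simpa [Pc.ev, mul_assoc] using h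

/-- The extension of the Sylow subgroup. -/
noncomputable def Ext : Subgroup Cen := Pc.tailGroup lift cenTrans.range 6 0

instance finite_cen : Finite Cen := Subtype.finite

theorem cenTrans_range_le : cenTrans.range ≤ Subgroup.center Cen := by
  rintro _ ⟨a, rfl⟩
  exact Subgroup.mem_center_iff.2 fun e => cenTrans_central a e

theorem card_ext_le : Nat.card Ext ≤ 1024 := by
  have hU : Nat.card cenTrans.range ≤ 16 := by
    refine (Nat.card_le_card_of_surjective cenTrans.rangeRestrict
      cenTrans.rangeRestrict_surjective).trans (le_of_eq ?_)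
    rw [Nat.card_eq_fintype_card]
    rfl
  have h := Pc.card_tailGroup_le (X := lift) (U := cenTrans.range) cenTrans_range_le
    (p := 2) (n := 6) (lo := 0) (by norm_num) ?_ ?_ 6 0 le_rfl rfl
  · exact h.trans ((Nat.mul_le_mul_left _ hU).trans (by norm_num))
  · intro i _ j hij hj
    have hc := lift_comm ⟨i, by omega⟩ ⟨j, hj⟩ hij
    simp only at hc
    rw [mul_assoc, hc, ← mul_assoc, cenTrans_central]
    rw [show ∀ z : Cen, z * (lift i)⁻¹ * (lift i * lift j * Pc.ev lift (twoRules.cmW i j)) =
      z * (lift j * Pc.ev lift (twoRules.cmW i j)) from fun z => by group]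
    refine mul_mem (Subgroup.mem_sup_right ⟨_, rfl⟩) (mul_mem (Pc.mem_tailGroup _ _ hij hj)
      (Pc.ev_mem fun k hk => ?_))
    have hk' := cmShape ⟨j, hj⟩ ⟨i, by omega⟩ hij k hk
    exact Pc.mem_tailGroup _ _ (by simp only at hk'; omega) hk'.2
  · intro i _ hi
    rw [pow_two, lift_sq ⟨i, hi⟩]
    exact Subgroup.mem_sup_right ⟨_, rfl⟩

theorem lift_mem {i : ℕ} (hi : i < 6) : lift i ∈ Ext := Pc.mem_tailGroup _ _ (Nat.zero_le i) hi

/-- The projection of the extension. -/
noncomputable def proj : Ext →* H21 :=
  ((MonoidHom.snd (Equiv.Perm Pt) H21).comp Cen.subtype).comp Ext.subtype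

/-- The translations in the extension. -/
noncomputable def extTrans : Ker →* Ext :=
  cenTrans.codRestrict Ext fun a => Subgroup.mem_sup_right ⟨a, rfl⟩

theorem extTrans_injective : Function.Injective extTrans := fun a b h => by
  have h1 := congrArg (fun e : Ext => e.1.1.1 ((0 : Lab), (0 : Fin 64))) h
  change trans a.toAdd (0, 0) = trans b.toAdd (0, 0) at h1
  simpa [trans] using congrArg Prod.fst h1

theorem twoHolds :
    Pc.holdsOK comp (List.range 24) twoRules { twoCert with eqns := [] }
      (twoGens.map Prod.fst) [] = true := by decide +kernel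

/-- The Sylow subgroup as a list. -/
def sylList : List (List ℕ) :=
  Pc.pcElems comp (List.range 24) 2 6 (twoGens.map Prod.fst) 6

theorem sylList_eq : wordTab.map wordImg = sylList := by decide +kernel

theorem sylList_nodup : (sylList.map PcMathieu.encL).Nodup := by decide +kernel

theorem wordTab_ok : (wordTab.all fun w => w.all fun i => Nat.blt i 6) = true := by decide +kernel

/-- The word of an index. -/
def word (k : ℕ) : List ℕ := wordTab.getD k []

theorem word_lt (k : ℕ) : ∀ i ∈ word k, i < 6 := by
  intro i hi
  have h := wordTab_ok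
  simp only [List.all_eq_true, Nat.blt_eq] at h
  rcases Nat.lt_or_ge k wordTab.length with hk | hk
  · rw [word, List.getD_eq_getElem _ _ hk] at hi
    exact h _ (List.getElem_mem hk) i hi
  · rw [word, List.getD_eq_default _ _ hk] at hi
    simp at hi

/-- The element of the extension of an index. -/
noncomputable def extWord (k : ℕ) : Ext :=
  ⟨Pc.ev lift (word k), Pc.ev_mem fun i hi => lift_mem (word_lt k i hi)⟩

theorem proj_extWord (k : ℕ) : proj (extWord k) = Pc.ev gs (word k) := ev_lift_snd _

theorem toList_proj (k : Fin 64) : toList (proj (extWord k)).1 = sylList.getD k [] := by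
  rw [proj_extWord, toList_ev, ← sylList_eq]
  have : (k : ℕ) < wordTab.length := k.2
  rw [List.getD_eq_getElem _ _ (by rw [List.length_map]; exact this), List.getElem_map, word,
    List.getD_eq_getElem _ _ this]

theorem proj_extWord_injective : Function.Injective fun k : Fin 64 => proj (extWord k) := by
  intro a b h
  have h1 := congrArg (fun x : H21 => PcMathieu.encL (toList x.1)) h
  simp only [toList_proj] at h1
  have hl : (sylList.map PcMathieu.encL).length = 64 := by decide +kernel
  have hl' : sylList.length = 64 := by simpa using hl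
  refine Fin.ext ((List.Nodup.getElem_inj_iff sylList_nodup (hi := by rw [hl]; exact a.2)
    (hj := by rw [hl]; exact b.2)).1 ?_)
  rw [List.getElem_map, List.getElem_map]
  rwa [List.getD_eq_getElem _ _ (by rw [hl']; exact a.2),
    List.getD_eq_getElem _ _ (by rw [hl']; exact b.2)] at h1

theorem natCard_range_ge : 64 ≤ Nat.card proj.range := by
  have := Nat.card_le_card_of_injective
    (fun k : Fin 64 => (⟨proj (extWord k), ⟨_, rfl⟩⟩ : proj.range))
    (fun a b h => proj_extWord_injective (congrArg Subtype.val h))
  simpa using this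

theorem natCard_range_le : Nat.card proj.range ≤ 64 := by
  have hG := Pc.holds_of_check (C := { twoCert with eqns := [] })
    (fun a (x : H21) => toList x.1 = a) toList_one
    (fun {a b x y} hx hy => by rw [Subgroup.coe_mul, toList_mul, hx, hy])
    (fun hx hy => eq_of_toList (hx.trans hy.symm)) toList_gs
    (cg := fun _ => 1) (fun i => by simpa using toList_one) twoHolds
  have hle : proj.range ≤ Subgroup.closure (gs '' Set.Iio 6) := by
    rintro _ ⟨⟨e, he⟩, rfl⟩
    have : Ext ≤ (Subgroup.closure (gs '' Set.Iio 6)).comap
        ((MonoidHom.snd (Equiv.Perm Pt) H21).comp Cen.subtype) := by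
      refine sup_le ((Subgroup.closure_le _).2 ?_) ?_
      · rintro _ ⟨i, hi, rfl⟩
        exact Subgroup.subset_closure ⟨i, hi.2, rfl⟩
      · rintro _ ⟨a, rfl⟩
        show (1 : H21) ∈ Subgroup.closure (gs '' Set.Iio 6)
        exact one_mem _
    exact this he
  refine (Subgroup.card_le_of_le hle).trans (le_of_eq ?_)
  refine (Pc.card_closure_eq hG (by decide +kernel) ?_).trans rfl
  show 64 ≤ _
  exact natCard_range_ge.trans (Subgroup.card_le_of_le hle)

theorem natCard_range : Nat.card proj.range = 64 := le_antisymm natCard_range_le natCard_range_ge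

theorem ker_proj : proj.ker = extTrans.range := by
  have hle : extTrans.range ≤ proj.ker := by
    rintro _ ⟨a, rfl⟩
    exact rfl
  refine (Subgroup.eq_of_le_of_card_ge hle ?_).symm
  have h1 : Nat.card proj.ker * Nat.card proj.range = Nat.card Ext := by
    rw [← Subgroup.index_ker proj, Subgroup.card_mul_index]
  have h2 : Nat.card extTrans.range = 16 := by
    rw [← Nat.card_congr (MonoidHom.ofInjective extTrans_injective).toEquiv,
      Nat.card_eq_fintype_card]
    rfl
  have h3 := card_ext_le
  rw [natCard_range] at h1
  omega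

theorem extTrans_central (a : Ker) (e : Ext) : e * extTrans a = extTrans a * e :=
  Subtype.ext (cenTrans_central a e.1)

/-- Every element of the range is one of the listed ones. -/
theorem exists_index (x : proj.range) : ∃ k : Fin 64, proj (extWord k) = x.1 := by
  have hinj : Function.Injective fun k : Fin 64 => (⟨proj (extWord k), ⟨_, rfl⟩⟩ : proj.range) :=
    fun a b h => proj_extWord_injective (congrArg Subtype.val h)
  haveI : Fintype proj.range := Fintype.ofFinite _
  have hs := ((Fintype.bijective_iff_injective_and_card _).2 ⟨hinj, by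
    rw [← Nat.card_eq_fintype_card (α := proj.range), natCard_range, Fintype.card_fin]⟩).2 x
  obtain ⟨k, hk⟩ := hs
  exact ⟨k, congrArg Subtype.val hk⟩


end CfsgLib.Schur.L34Cover
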