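import Mathlib
import Cfsg.Prelude.Def_CaseTheorems
import Cfsg.Agent.Lib.Schur.Basic
import Cfsg.Agent.Classical.SLBasic
import Cfsg.Agent.Classical.SLGen
import Cfsg.Agent.Lib.Quadratic.ClassTwo

/-!
Perfect central extensions of `PSL₃(4)` with kernel of exponent two have kernel of order at most four.
-/

set_option autoImplicit false

namespace CfsgLib.Schur.L34

open Matrix
open scoped commutatorElement

universe u v w

section General

variable {Γ : Type u} [Group Γ] {Q : Type v} [Group Q]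

/-- The preimage of an elementary abelian subgroup with at least eight elements and transitive
normalizing action is abelian, if the kernel is central of exponent two. -/
theorem commute_preimage {σ : Γ →* Q} (hσ : Function.Surjective σ)
    (hc : σ.ker ≤ Subgroup.center Γ) (hexp : ∀ z ∈ σ.ker, z * z = 1) (V : Subgroup Q)
    (hV : ∀ a ∈ V, ∀ b ∈ V, a * b = b * a) (hV2 : ∀ a ∈ V, a * a = 1)
    (hbig : ∀ a ∈ V, ∀ b ∈ V, ∃ c ∈ V, c ≠ 1 ∧ c ≠ a ∧ c ≠ b ∧ c ≠ a * b)
    (htrans : ∀ a ∈ V, ∀ b ∈ V, a ≠ 1 → b ≠ 1 → ∃ g : Q, g * a = b * g) :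
    ∀ x y : Γ, σ x ∈ V → σ y ∈ V → x * y = y * x := by
  have hker : ∀ {z}, σ z = 1 → z ∈ σ.ker := fun h => h
  have hcen : ∀ {z}, σ z = 1 → ∀ g : Γ, g * z = z * g := fun h g =>
    Subgroup.mem_center_iff.1 (hc (hker h)) g
  have hsqker : ∀ x, σ x ∈ V → σ (x * x) = 1 := fun x hx => by rw [map_mul, hV2 _ hx]
  -- all squares of lifts of non-trivial elements agree
  have hsq : ∀ x y, σ x ∈ V → σ y ∈ V → σ x ≠ 1 → σ y ≠ 1 → x * x = y * y := by
    intro x y hx hy hx1 hy1
    obtain ⟨g, hg⟩ := htrans _ hx _ hy hx1 hy1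
    obtain ⟨g, rfl⟩ := hσ g
    have hz : σ (y⁻¹ * (g * x * g⁻¹)) = 1 := by
      rw [map_mul, map_mul, map_mul, hg, map_inv, map_inv, mul_inv_cancel_right, inv_mul_cancel]
    have hcomm := hcen (hsqker x hx) g
    set z := y⁻¹ * (g * x * g⁻¹) with hzdef
    have e : g * x * g⁻¹ = y * z := by rw [hzdef, mul_inv_cancel_left]
    have h1 : g * (x * x) * g⁻¹ = y * z * (y * z) := by rw [← e]; group
    rw [hcomm, mul_inv_cancel_right, show y * z * (y * z) = y * (z * y) * z by group, ← hcen hz y,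
      show y * (y * z) * z = y * y * (z * z) by group, hexp z (hker hz), mul_one] at h1
    exact h1
  by_cases hne : ∃ v, σ v ∈ V ∧ σ v ≠ 1
  swap
  · push Not at hne
    intro x y hx hy
    exact hcen (hne y hy) x
  obtain ⟨v, hv, hv1⟩ := hne
  set z0 := v * v with hz0
  have hz0k : σ z0 = 1 := hsqker v hv
  have hz02 : z0 * z0 = 1 := hexp _ (hker hz0k)
  have hcommval : ∀ x y, σ x ∈ V → σ y ∈ V → σ x ≠ 1 → σ y ≠ 1 → σ x ≠ σ y →
      x * y = z0 * (y * x) := by
    intro x y hx hy hx1 hy1 hxy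
    have hxy1 : σ (x * y) ≠ 1 := by
      rw [map_mul]
      intro e
      exact hxy ((eq_inv_of_mul_eq_one_left e).trans (inv_eq_of_mul_eq_one_right (hV2 _ hy)))
    have h := hsq (x * y) v (by rw [map_mul]; exact V.mul_mem hx hy) hv hxy1 hv1
    have hxx := hsq x v hx hv hx1 hv1
    have hyy := hsq y v hy hv hy1 hv1
    rw [← hz0] at h hxx hyy
    calc x * y = (x * y) * (y * x) * (y * x)⁻¹ := by group
      _ = x * (y * y) * x * (y * x)⁻¹ := by group
      _ = z0 * (x * x) * (y * x)⁻¹ := by rw [hyy, hcen hz0k x]; group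
      _ = (y * x)⁻¹ := by rw [hxx, hz02, one_mul]
      _ = z0 * (y * x) := by
        refine inv_eq_of_mul_eq_one_right ?_
        have h' : y * x * (y * x) = z0 := by
          have hyx1 : σ (y * x) ≠ 1 := by rwa [map_mul, ← hV _ hx _ hy, ← map_mul]
          rw [hz0]
          exact hsq (y * x) v (by rw [map_mul]; exact V.mul_mem hy hx) hv hyx1 hv1
        rw [← mul_assoc, hcen hz0k (y * x), mul_assoc, h', hz02]
  -- so `z0 = 1`
  have hz01 : z0 = 1 := by
    obtain ⟨b, hb, hb1, hbv, -, -⟩ := hbig _ hv _ hv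
    obtain ⟨c, hc', hc1, hcv, hcb, hcvb⟩ := hbig _ hv _ hb
    obtain ⟨y, rfl⟩ := hσ b
    obtain ⟨u, rfl⟩ := hσ c
    have hyu1 : σ (y * u) ≠ 1 := by
      rw [map_mul]
      intro e
      exact hcb ((eq_inv_of_mul_eq_one_right e).trans (inv_eq_of_mul_eq_one_right (hV2 _ hb)))
    have hvyu : σ v ≠ σ (y * u) := by
      rw [map_mul]
      intro e
      apply hcvb
      rw [e, hV _ hb _ hc', mul_assoc, hV2 _ hb, mul_one]
    have e1 := hcommval v (y * u) hv (by rw [map_mul]; exact V.mul_mem hb hc') hv1 hyu1 hvyu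
    have e2 := hcommval v y hv hb hv1 hb1 (Ne.symm hbv)
    have e3 := hcommval v u hv hc' hv1 hc1 (Ne.symm hcv)
    have e4 : v * (y * u) = z0 * z0 * (y * u * v) := by
      calc v * (y * u) = z0 * (y * v) * u := by rw [← mul_assoc, e2]
        _ = z0 * y * (v * u) := by group
        _ = z0 * y * (z0 * (u * v)) := by rw [e3]
        _ = z0 * (y * z0) * (u * v) := by group
        _ = _ := by rw [hcen hz0k y]; group
    exact mul_eq_right.1 (mul_right_cancel (e4.symm.trans e1))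
  intro x y hx hy
  by_cases hx1 : σ x = 1
  · exact (hcen hx1 y).symm
  by_cases hy1 : σ y = 1
  · exact hcen hy1 x
  by_cases hxy : σ x = σ y
  · have hd : σ (x⁻¹ * y) = 1 := by rw [map_mul, map_inv, hxy, inv_mul_cancel]
    have h := hcen hd x
    rw [mul_inv_cancel_left] at h
    calc x * y = x * (x⁻¹ * y * x) := by rw [← h]
      _ = y * x := by group
  · rw [hcommval x y hx hy hx1 hy1 hxy, hz01, one_mul]

theorem card_closure_insert_le [Finite Γ] {g : Γ} (hg : g * g = 1) (H : Subgroup Γ)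
    (hgc : ∀ h ∈ H, g * h = h * g) : Nat.card ↥(H ⊔ Subgroup.zpowers g) ≤ 2 * Nat.card H := by
  classical
  let K : Subgroup Γ :=
    { carrier := {x | x ∈ H ∨ g * x ∈ H}
      one_mem' := Or.inl H.one_mem
      mul_mem' := by
        rintro a b (ha | ha) (hb | hb)
        · exact Or.inl (H.mul_mem ha hb)
        · refine Or.inr ?_
          rw [← mul_assoc, hgc a ha, mul_assoc]
          exact H.mul_mem ha hb
        · exact Or.inr (by rw [← mul_assoc]; exact H.mul_mem ha hb)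
        · refine Or.inl ?_
          have e : g * a * (g * b) = a * b := by
            have h := hgc _ ha
            rw [← mul_assoc, hg, one_mul] at h
            rw [← mul_assoc, ← h]
          exact e ▸ H.mul_mem ha hb
      inv_mem' := by
        rintro a (ha | ha)
        · exact Or.inl (H.inv_mem ha)
        · refine Or.inr ?_
          have h1 := hgc _ (H.inv_mem ha)
          rw [_root_.mul_inv_rev, inv_eq_of_mul_eq_one_right hg, mul_assoc a⁻¹ g g, hg, mul_one] at h1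
          have h2 := H.inv_mem ha
          rw [_root_.mul_inv_rev, inv_eq_of_mul_eq_one_right hg] at h2
          have h3 : g * a⁻¹ = a⁻¹ * g := by
            calc g * a⁻¹ = (g * (a⁻¹ * g)) * g := by rw [mul_assoc, mul_assoc, hg, mul_one]
              _ = a⁻¹ * g := by rw [h1]
          rw [h3]; exact h2 }
  have hle : H ⊔ Subgroup.zpowers g ≤ K :=
    sup_le (fun x hx => Or.inl hx) (Subgroup.zpowers_le.2 (Or.inr (by rw [hg]; exact H.one_mem)))
  refine (Nat.le_of_dvd Nat.card_pos (Subgroup.card_dvd_of_le hle)).trans ?_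
  show Nat.card {x | x ∈ H ∨ g * x ∈ H} ≤ _
  rw [Nat.card_coe_set_eq]
  have h1 : {x | x ∈ H ∨ g * x ∈ H} ⊆ (H : Set Γ) ∪ (fun x => g * x) '' (H : Set Γ) := by
    rintro x (hx | hx)
    · exact Or.inl hx
    · exact Or.inr ⟨g * x, hx, by show g * (g * x) = x; rw [← mul_assoc, hg, one_mul]⟩
  refine (Set.ncard_le_ncard h1).trans ((Set.ncard_union_le _ _).trans ?_)
  have := Set.ncard_image_le (f := fun x => g * x) (s := (H : Set Γ)) (Set.toFinite _)
  rw [← Nat.card_coe_set_eq (H : Set Γ)] at this ⊢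
  simp only [SetLike.coe_sort_coe] at this ⊢
  omega

end General

/-! ### The unitriangular group over four elements -/

variable {F : Type v} [Field F]

/-- The unitriangular matrices. -/
def u3 (a b c : F) : SpecialLinearGroup (Fin 3) F :=
  ⟨!![1, a, c; 0, 1, b; 0, 0, 1], by simp [det_fin_three]⟩

theorem u3_val (a b c : F) : (u3 a b c).1 = !![1, a, c; 0, 1, b; 0, 0, 1] := rfl

theorem u3_mul (a b c a' b' c' : F) :
    u3 a b c * u3 a' b' c' = u3 (a + a') (b + b') (c + c' + a * b') := by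
  apply Subtype.ext
  show (u3 a b c).1 * (u3 a' b' c').1 = _
  rw [u3_val, u3_val, u3_val]
  ext i j; fin_cases i <;> fin_cases j <;> simp [Matrix.mul_apply, Fin.sum_univ_three] <;> ring

theorem u3_zero : u3 (0 : F) 0 0 = 1 := by
  apply Subtype.ext
  ext i j; fin_cases i <;> fin_cases j <;> simp [u3_val]

/-- The image in `PSL₃`. -/
def pu (a b c : F) : ProjectiveSpecialLinearGroup (Fin 3) F := QuotientGroup.mk (u3 a b c)

theorem pu_mul (a b c a' b' c' : F) :
    pu a b c * pu a' b' c' = pu (a + a') (b + b') (c + c' + a * b') := by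
  rw [pu, pu, ← QuotientGroup.mk_mul, u3_mul]; rfl

theorem pu_zero : pu (0 : F) 0 0 = 1 := by rw [pu, u3_zero]; rfl

theorem pu_inv (a b c : F) : (pu a b c)⁻¹ = pu (-a) (-b) (a * b - c) := by
  refine inv_eq_of_mul_eq_one_right ?_
  rw [pu_mul, ← pu_zero]
  congr 1 <;> ring

theorem pu_injective {a b c a' b' c' : F} (h : pu a b c = pu a' b' c') :
    a = a' ∧ b = b' ∧ c = c' := by
  rw [pu, pu, QuotientGroup.eq, Matrix.SpecialLinearGroup.mem_center_iff] at h
  obtain ⟨r, -, hr⟩ := h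
  have e : (u3 a b c).1 * (Matrix.scalar (Fin 3) r) = (u3 a' b' c').1 := by
    rw [hr]
    exact congrArg Subtype.val (mul_inv_cancel_left (u3 a b c) (u3 a' b' c'))
  rw [u3_val, u3_val] at e
  have e00 := congrFun (congrFun e 0) 0
  have e01 := congrFun (congrFun e 0) 1
  have e02 := congrFun (congrFun e 0) 2
  have e12 := congrFun (congrFun e 1) 2
  simp [Matrix.scalar_apply, Matrix.mul_diagonal] at e00 e01 e02 e12
  subst e00
  simp at e01 e02 e12
  exact ⟨e01, e12, e02⟩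

variable [Fintype F] (hF : Fintype.card F = 4)

include hF

theorem charTwo : CharP F 2 := by
  obtain ⟨p, hp⟩ := CharP.exists F
  obtain ⟨n, hpr, hn⟩ := FiniteField.card F p
  have h : p ∣ 4 := hF ▸ hn ▸ dvd_pow_self p n.ne_zero
  have : p = 2 := (Nat.prime_dvd_prime_iff_eq hpr Nat.prime_two).1
    (hpr.dvd_of_dvd_pow (show p ∣ 2 ^ 2 by simpa using h))
  subst this; exact hp

theorem neg_eq' (a : F) : -a = a := by
  have := charTwo hF
  exact CharTwo.neg_eq a

theorem exists_ne_four (a b c : F) : ∃ d : F, d ≠ a ∧ d ≠ b ∧ d ≠ c := by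
  classical
  have hlt : ({a, b, c} : Finset F) ≠ Finset.univ := by
    intro h
    have h1 := congrArg Finset.card h
    rw [Finset.card_univ, hF] at h1
    have := Finset.card_insert_le a ({b, c} : Finset F)
    have := Finset.card_insert_le b ({c} : Finset F)
    simp only [Finset.card_singleton] at *; omega
  obtain ⟨d, hd⟩ := not_forall.1 (mt Finset.eq_univ_iff_forall.2 hlt)
  exact ⟨d, by simpa using hd⟩

theorem card_psl : Nat.card (ProjectiveSpecialLinearGroup (Fin 3) F) = 20160 := by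
  classical
  have := Cfsg.Agent.Classical.card_psl_mul (F := F) 3 (by norm_num)
  rw [hF, Fin.prod_univ_three] at this
  norm_num at this
  rw [Nat.card_eq_fintype_card]
  omega

/-- The Sylow 2-subgroup. -/
def sylowTwo : Subgroup (ProjectiveSpecialLinearGroup (Fin 3) F) where
  carrier := {g | ∃ a b c : F, g = pu a b c}
  one_mem' := ⟨0, 0, 0, pu_zero.symm⟩
  mul_mem' := by
    rintro _ _ ⟨a, b, c, rfl⟩ ⟨a', b', c', rfl⟩
    exact ⟨_, _, _, pu_mul a b c a' b' c'⟩
  inv_mem' := by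
    rintro _ ⟨a, b, c, rfl⟩
    exact ⟨_, _, _, pu_inv a b c⟩

/-- Row radical. -/
def radRow : Subgroup (ProjectiveSpecialLinearGroup (Fin 3) F) where
  carrier := {g | ∃ a c : F, g = pu a 0 c}
  one_mem' := ⟨0, 0, pu_zero.symm⟩
  mul_mem' := by
    rintro _ _ ⟨a, c, rfl⟩ ⟨a', c', rfl⟩
    exact ⟨a + a', c + c', by rw [pu_mul, mul_zero, add_zero, add_zero]⟩
  inv_mem' := by
    rintro _ ⟨a, c, rfl⟩
    exact ⟨-a, -c, by rw [pu_inv, neg_zero, mul_zero, zero_sub]⟩

/-- Column radical. -/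
def radCol : Subgroup (ProjectiveSpecialLinearGroup (Fin 3) F) where
  carrier := {g | ∃ b c : F, g = pu 0 b c}
  one_mem' := ⟨0, 0, pu_zero.symm⟩
  mul_mem' := by
    rintro _ _ ⟨b, c, rfl⟩ ⟨b', c', rfl⟩
    exact ⟨b + b', c + c', by rw [pu_mul, zero_mul, add_zero, add_zero]⟩
  inv_mem' := by
    rintro _ ⟨b, c, rfl⟩
    exact ⟨-b, -c, by rw [pu_inv, neg_zero, zero_mul, zero_sub]⟩

theorem row_transitive {a c : F} (h : ¬ (a = 0 ∧ c = 0)) :
    ∃ g : ProjectiveSpecialLinearGroup (Fin 3) F, g * pu a 0 c = pu 1 0 0 * g := by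
  obtain ⟨d, e, hde⟩ : ∃ d e : F, a * e - c * d = 1 := by
    by_cases ha : a = 0
    · have hc : c ≠ 0 := fun hc => h ⟨ha, hc⟩
      exact ⟨-c⁻¹, 0, by field_simp [ha]; ring⟩
    · exact ⟨0, a⁻¹, by field_simp; ring⟩
  let M : SpecialLinearGroup (Fin 3) F :=
    ⟨!![1, 0, 0; 0, a, c; 0, d, e], by simp [det_fin_three]; linear_combination hde⟩
  refine ⟨QuotientGroup.mk M, ?_⟩
  show (QuotientGroup.mk (M * u3 a 0 c) : ProjectiveSpecialLinearGroup (Fin 3) F) =
    QuotientGroup.mk (u3 1 0 0 * M)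
  refine congrArg _ ?_
  apply Subtype.ext
  show !![1, 0, 0; 0, a, c; 0, d, e] * (u3 a 0 c).1 = (u3 (1 : F) 0 0).1 * !![1, 0, 0; 0, a, c; 0, d, e]
  rw [u3_val, u3_val]
  ext i j; fin_cases i <;> fin_cases j <;> simp [Matrix.mul_apply, Fin.sum_univ_three]

theorem col_transitive {b c : F} (h : ¬ (b = 0 ∧ c = 0)) :
    ∃ g : ProjectiveSpecialLinearGroup (Fin 3) F, g * pu 0 1 0 = pu 0 b c * g := by
  obtain ⟨p, q, hpq⟩ : ∃ p q : F, p * b - c * q = 1 := by
    by_cases hb : b = 0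
    · have hc : c ≠ 0 := fun hc => h ⟨hb, hc⟩
      exact ⟨0, -c⁻¹, by field_simp [hb]; ring⟩
    · exact ⟨b⁻¹, 0, by field_simp; ring⟩
  let M : SpecialLinearGroup (Fin 3) F :=
    ⟨!![p, c, 0; q, b, 0; 0, 0, 1], by simp [det_fin_three]; linear_combination hpq⟩
  refine ⟨QuotientGroup.mk M, ?_⟩
  show (QuotientGroup.mk (M * u3 0 1 0) : ProjectiveSpecialLinearGroup (Fin 3) F) =
    QuotientGroup.mk (u3 0 b c * M)
  refine congrArg _ ?_
  apply Subtype.ext
  show !![p, c, 0; q, b, 0; 0, 0, 1] * (u3 (0 : F) 1 0).1 = (u3 0 b c).1 * !![p, c, 0; q, b, 0; 0, 0, 1]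
  rw [u3_val, u3_val]
  ext i j; fin_cases i <;> fin_cases j <;> simp [Matrix.mul_apply, Fin.sum_univ_three]

theorem natCard_sylowTwo : Nat.card (sylowTwo (F := F)) = 64 := by
  classical
  let f : F × F × F → sylowTwo (F := F) := fun p => ⟨pu p.1 p.2.1 p.2.2, _, _, _, rfl⟩
  have hf : Function.Bijective f := by
    refine ⟨fun p q h => ?_, fun ⟨g, a, b, c, hg⟩ => ⟨(a, b, c), Subtype.ext hg.symm⟩⟩
    obtain ⟨h1, h2, h3⟩ := pu_injective (congrArg Subtype.val h)
    exact Prod.ext h1 (Prod.ext h2 h3)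
  rw [← Nat.card_eq_of_bijective f hf]
  simp [Nat.card_eq_fintype_card, hF]

/-- The bound. -/
theorem card_ker_le {Γ : Type u} [Group Γ] [Finite Γ]
    (σ : Γ →* ProjectiveSpecialLinearGroup (Fin 3) F) (hσ : Function.Surjective σ)
    (hc : σ.ker ≤ Subgroup.center Γ) (hexp : ∀ z ∈ σ.ker, z * z = 1)
    (hd : σ.ker ≤ commutator Γ) : Nat.card σ.ker ≤ 4 := by
  classical
  have hneg := neg_eq' hF
  have hadd : ∀ x : F, x + x = 0 := fun x => by nth_rewrite 2 [← hneg x]; exact add_neg_cancel x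
  set E := (radRow (F := F)).comap σ with hEdef
  set B := (radCol (F := F)).comap σ with hBdef
  have hE : ∀ x ∈ E, ∀ y ∈ E, x * y = y * x := by
    intro x hx y hy
    refine commute_preimage hσ hc hexp (radRow (F := F)) ?_ ?_ ?_ ?_ x y hx hy
    · rintro _ ⟨a, c, rfl⟩ _ ⟨a', c', rfl⟩
      simp [pu_mul, add_comm]
    · rintro _ ⟨a, c, rfl⟩
      rw [pu_mul, mul_zero, add_zero, hadd, hadd, add_zero, pu_zero]
    · rintro _ ⟨a, c, rfl⟩ _ ⟨a', c', rfl⟩
      -- a fourth element in a set of sixteen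
      obtain ⟨d, hd0, hda, hda'⟩ := exists_ne_four hF 0 a a'
      obtain ⟨e, he, -, -⟩ := exists_ne_four hF (c + c') 0 0
      refine ⟨pu d 0 e, ⟨d, e, rfl⟩, ?_, ?_, ?_, ?_⟩ <;> intro h
      · exact hd0 (pu_injective (h.trans pu_zero.symm)).1
      · exact hda (pu_injective h).1
      · exact hda' (pu_injective h).1
      · rw [pu_mul, mul_zero, add_zero, add_zero] at h
        exact he (pu_injective h).2.2
    · rintro _ ⟨a, c, rfl⟩ _ ⟨a', c', rfl⟩ h1 h2
      obtain ⟨g, hg⟩ := row_transitive hF (a := a) (c := c) fun h => h1 (by rw [h.1, h.2, pu_zero])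
      obtain ⟨g', hg'⟩ := row_transitive hF (a := a') (c := c') fun h => h2 (by rw [h.1, h.2, pu_zero])
      refine ⟨g'⁻¹ * g, ?_⟩
      rw [mul_assoc, hg, ← mul_assoc, show g'⁻¹ * pu 1 0 0 = pu a' 0 c' * g'⁻¹ by
        rw [inv_mul_eq_iff_eq_mul, ← mul_assoc, hg', mul_inv_cancel_right], mul_assoc]
  have hB : ∀ x ∈ B, ∀ y ∈ B, x * y = y * x := by
    intro x hx y hy
    refine commute_preimage hσ hc hexp (radCol (F := F)) ?_ ?_ ?_ ?_ x y hx hy
    · rintro _ ⟨b, c, rfl⟩ _ ⟨b', c', rfl⟩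
      simp [pu_mul, add_comm]
    · rintro _ ⟨b, c, rfl⟩
      rw [pu_mul, zero_mul, add_zero, hadd, hadd, add_zero, pu_zero]
    · rintro _ ⟨b, c, rfl⟩ _ ⟨b', c', rfl⟩
      obtain ⟨d, hd0, hdb, hdb'⟩ := exists_ne_four hF 0 b b'
      obtain ⟨e, he, -, -⟩ := exists_ne_four hF (c + c') 0 0
      refine ⟨pu 0 d e, ⟨d, e, rfl⟩, ?_, ?_, ?_, ?_⟩ <;> intro h
      · exact hd0 (pu_injective (h.trans pu_zero.symm)).2.1
      · exact hdb (pu_injective h).2.1
      · exact hdb' (pu_injective h).2.1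
      · rw [pu_mul, zero_mul, add_zero, add_zero] at h
        exact he (pu_injective h).2.2
    · rintro _ ⟨b, c, rfl⟩ _ ⟨b', c', rfl⟩ h1 h2
      obtain ⟨g, hg⟩ := col_transitive hF (b := b) (c := c) fun h => h1 (by rw [h.1, h.2, pu_zero])
      obtain ⟨g', hg'⟩ := col_transitive hF (b := b') (c := c') fun h => h2 (by rw [h.1, h.2, pu_zero])
      refine ⟨g' * g⁻¹, ?_⟩
      rw [mul_assoc, show g⁻¹ * pu 0 b c = pu 0 1 0 * g⁻¹ by
        rw [inv_mul_eq_iff_eq_mul, ← mul_assoc, hg, mul_inv_cancel_right], ← mul_assoc, hg', mul_assoc]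
  -- the pairing
  let lA : F → Γ := fun a => Function.surjInv hσ (pu a 0 0)
  let lB : F → Γ := fun b => Function.surjInv hσ (pu 0 b 0)
  have hlA : ∀ a, σ (lA a) = pu a 0 0 := fun a => Function.surjInv_eq hσ _
  have hlB : ∀ b, σ (lB b) = pu 0 b 0 := fun b => Function.surjInv_eq hσ _
  have hker : ∀ z, σ z = 1 → ∀ g : Γ, g * z = z * g := fun z hz g =>
    Subgroup.mem_center_iff.1 (hc hz) g
  let cm : Γ → Γ → Γ := fun x y => x * y * x⁻¹ * y⁻¹
  have hcm_left : ∀ x z y, σ z = 1 → cm (x * z) y = cm x y := by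
    intro x z y hz
    show x * z * y * (x * z)⁻¹ * y⁻¹ = _
    rw [show x * z * y * (x * z)⁻¹ * y⁻¹ = x * (z * y) * z⁻¹ * x⁻¹ * y⁻¹ by group, ← hker z hz y]
    group
    simp [cm, mul_assoc]
  have hcm_right : ∀ x y z, σ z = 1 → cm x (y * z) = cm x y := by
    intro x y z hz
    show x * (y * z) * x⁻¹ * (y * z)⁻¹ = _
    rw [show x * (y * z) * x⁻¹ * (y * z)⁻¹ = x * y * (z * x⁻¹) * z⁻¹ * y⁻¹ by group, ← hker z hz x⁻¹]
    group
    simp [cm, mul_assoc]
  have hcm_img : ∀ x y a c b c', σ x = pu a 0 c → σ y = pu 0 b c' → σ (cm x y) = pu 0 0 (a * b) := by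
    intro x y a c b c' hx hy
    show σ (x * y * x⁻¹ * y⁻¹) = _
    rw [map_mul, map_mul, map_mul, map_inv, map_inv, hx, hy, pu_inv, pu_inv, pu_mul, pu_mul, pu_mul]
    congr 1 <;> ring
  set C : Subgroup Γ := E ⊓ B
  have hCmem : ∀ x c, σ x = pu 0 0 c → x ∈ C := fun x c hx =>
    Subgroup.mem_inf.2 ⟨⟨0, c, hx⟩, ⟨0, c, hx⟩⟩
  have hCcen : ∀ x ∈ C, ∀ y ∈ E ⊔ B, x * y = y * x := by
    intro x hx y hy
    have hle : E ⊔ B ≤ Subgroup.centralizer ({x} : Set Γ) :=
      sup_le (fun e he => Subgroup.mem_centralizer_singleton_iff.2 (hE e he x hx.1))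
        (fun e he => Subgroup.mem_centralizer_singleton_iff.2 (hB e he x hx.2))
    exact (Subgroup.mem_centralizer_singleton_iff.1 (hle hy)).symm
  have hcmC : ∀ x ∈ E, ∀ y ∈ B, cm x y ∈ C := by
    rintro x ⟨a, c, hx⟩ y ⟨b, c', hy⟩
    exact hCmem _ _ (hcm_img x y a c b c' hx hy)
  let β : F → F → Γ := fun a b => cm (lA a) (lB b)
  have hlAE : ∀ a, lA a ∈ E := fun a => ⟨a, 0, hlA a⟩
  have hlBB : ∀ b, lB b ∈ B := fun b => ⟨b, 0, hlB b⟩
  have hβC : ∀ a b, β a b ∈ C := fun a b => hcmC _ (hlAE a) _ (hlBB b)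
  have hcm_gen : ∀ x ∈ E, ∀ y ∈ B, ∃ a b, cm x y = β a b := by
    rintro x ⟨a, c, hx⟩ y ⟨b, c', hy⟩
    refine ⟨a, b, ?_⟩
    obtain ⟨zc, hzc⟩ := hσ (pu 0 0 c)
    obtain ⟨zc', hzc'⟩ := hσ (pu 0 0 c')
    obtain ⟨k, hk, rfl⟩ : ∃ k, σ k = 1 ∧ x = lA a * zc * k :=
      ⟨(lA a * zc)⁻¹ * x, by
        rw [map_mul, map_inv, map_mul, hlA, hzc, hx, pu_mul]
        simp, by group⟩
    obtain ⟨k', hk', rfl⟩ : ∃ k, σ k = 1 ∧ y = lB b * zc' * k :=
      ⟨(lB b * zc')⁻¹ * y, by
        rw [map_mul, map_inv, map_mul, hlB, hzc', hy, pu_mul]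
        simp, by group⟩
    rw [hcm_left _ _ _ hk, hcm_right _ _ _ hk']
    have h1 := hCcen zc (hCmem _ _ hzc)
    have h2 := hCcen zc' (hCmem _ _ hzc')
    show lA a * zc * (lB b * zc') * (lA a * zc)⁻¹ * (lB b * zc')⁻¹ = _
    calc lA a * zc * (lB b * zc') * (lA a * zc)⁻¹ * (lB b * zc')⁻¹
        = lA a * (zc * (lB b * zc')) * zc⁻¹ * (lA a)⁻¹ * zc'⁻¹ * (lB b)⁻¹ := by group
      _ = lA a * (lB b * zc') * (lA a)⁻¹ * zc'⁻¹ * (lB b)⁻¹ := by
        rw [h1 _ (Subgroup.mul_mem _ (Subgroup.mem_sup_right (hlBB b))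
          (Subgroup.mem_sup_right (hCmem _ _ hzc').2))]
        group
      _ = lA a * lB b * (zc' * (lA a)⁻¹) * zc'⁻¹ * (lB b)⁻¹ := by group
      _ = _ := by
        rw [h2 _ (Subgroup.inv_mem _ (Subgroup.mem_sup_left (hlAE a)))]
        show _ = lA a * lB b * (lA a)⁻¹ * (lB b)⁻¹
        group
  have hmul_left : ∀ a a' b, β (a + a') b = β a b * β a' b := by
    intro a a' b
    have hk : σ ((lA a * lA a')⁻¹ * lA (a + a')) = 1 := by
      rw [map_mul, map_inv, map_mul, hlA, hlA, hlA, pu_mul]; simp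
    show cm (lA (a + a')) (lB b) = _
    rw [show lA (a + a') = lA a * lA a' * ((lA a * lA a')⁻¹ * lA (a + a')) by group, hcm_left _ _ _ hk]
    have h := hCcen _ (hβC a' b) (lA a) (Subgroup.mem_sup_left (hlAE a))
    have h' := hCcen _ (hβC a b) (β a' b) (Subgroup.mem_sup_left (hβC a' b).1)
    calc cm (lA a * lA a') (lB b) = (lA a * β a' b * (lA a)⁻¹) * β a b := by
          simp only [β, cm]; group
      _ = _ := by rw [← h, mul_inv_cancel_right, h']
  have hmul_right : ∀ a b b', β a (b + b') = β a b * β a b' := by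
    intro a b b'
    have hk : σ ((lB b * lB b')⁻¹ * lB (b + b')) = 1 := by
      rw [map_mul, map_inv, map_mul, hlB, hlB, hlB, pu_mul]; simp
    show cm (lA a) (lB (b + b')) = _
    rw [show lB (b + b') = lB b * lB b' * ((lB b * lB b')⁻¹ * lB (b + b')) by group, hcm_right _ _ _ hk]
    have h := hCcen _ (hβC a b') (lB b) (Subgroup.mem_sup_right (hlBB b))
    calc cm (lA a) (lB b * lB b') = β a b * (lB b * β a b' * (lB b)⁻¹) := by
          simp only [β, cm]; group
      _ = _ := by rw [← h, mul_inv_cancel_right]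
  have hβ0 : ∀ b, β 0 b = 1 := fun b => by
    have := hmul_left 0 0 b; rw [add_zero] at this; simpa using this
  have hβ0' : ∀ a, β a 0 = 1 := fun a => by
    have := hmul_right a 0 0; rw [add_zero] at this; simpa using this
  have hβ2 : ∀ a b, β a b * β a b = 1 := fun a b => by rw [← hmul_left, hadd, hβ0]
  obtain ⟨ω, hω0, hω1, -⟩ := exists_ne_four hF 0 1 1
  have hspan : ∀ a : F, a = 0 ∨ a = 1 ∨ a = ω ∨ a = 1 + ω := by
    intro a
    by_contra h
    push Not at h
    obtain ⟨h0, h1, h2, h3⟩ := h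
    have hne : (1 : F) + ω ≠ 0 ∧ (1 : F) + ω ≠ 1 ∧ (1 : F) + ω ≠ ω := by
      refine ⟨fun e => hω1 ?_, fun e => hω0 (by simpa using e), fun e => one_ne_zero (α := F) (by simpa using e)⟩
      calc ω = 1 + (1 + ω) := by rw [← add_assoc, hadd, zero_add]
        _ = 1 := by rw [e, add_zero]
    have hc5 : ({0, 1, ω, 1 + ω, a} : Finset F).card = 5 := by
      simp [Finset.card_insert_of_notMem, hω0.symm, hω1.symm, hne.1.symm, hne.2.1.symm, hne.2.2.symm,
        h0.symm, h1.symm, h2.symm, h3.symm]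
    have := Finset.card_le_univ ({0, 1, ω, 1 + ω, a} : Finset F)
    omega
  set D : Subgroup Γ := ((Subgroup.zpowers (β 1 1) ⊔ Subgroup.zpowers (β 1 ω)) ⊔ Subgroup.zpowers (β ω 1)) ⊔
    Subgroup.zpowers (β ω ω)
  have hDC : D ≤ C := by
    refine sup_le (sup_le (sup_le ?_ ?_) ?_) ?_ <;> exact Subgroup.zpowers_le.2 (hβC _ _)
  have hD16 : Nat.card D ≤ 16 := by
    have hgc : ∀ a b, ∀ H : Subgroup Γ, H ≤ C → ∀ h ∈ H, β a b * h = h * β a b := fun a b H hH h hh =>
      hCcen _ (hβC a b) h (Subgroup.mem_sup_left (hH hh).1)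
    have l1 : Subgroup.zpowers (β 1 1) ≤ C := Subgroup.zpowers_le.2 (hβC _ _)
    have l2 : Subgroup.zpowers (β 1 1) ⊔ Subgroup.zpowers (β 1 ω) ≤ C :=
      sup_le l1 (Subgroup.zpowers_le.2 (hβC _ _))
    have l3 : (Subgroup.zpowers (β 1 1) ⊔ Subgroup.zpowers (β 1 ω)) ⊔ Subgroup.zpowers (β ω 1) ≤ C :=
      sup_le l2 (Subgroup.zpowers_le.2 (hβC _ _))
    have c1 : Nat.card (Subgroup.zpowers (β 1 1)) ≤ 2 := by
      rw [Nat.card_zpowers]
      exact orderOf_le_of_pow_eq_one (by norm_num) (by rw [pow_two]; exact hβ2 _ _)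
    have c2 := card_closure_insert_le (hβ2 1 ω) _ (hgc 1 ω _ l1)
    have c3 := card_closure_insert_le (hβ2 ω 1) _ (hgc ω 1 _ l2)
    have c4 : Nat.card D ≤ _ := card_closure_insert_le (hβ2 ω ω) _ (hgc ω ω _ l3)
    omega
  have hβD : ∀ a b, β a b ∈ D := by
    have m11 : β 1 1 ∈ D := Subgroup.mem_sup_left (Subgroup.mem_sup_left (Subgroup.mem_sup_left (Subgroup.mem_zpowers _)))
    have m12 : β 1 ω ∈ D := Subgroup.mem_sup_left (Subgroup.mem_sup_left (Subgroup.mem_sup_right (Subgroup.mem_zpowers _)))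
    have m21 : β ω 1 ∈ D := Subgroup.mem_sup_left (Subgroup.mem_sup_right (Subgroup.mem_zpowers _))
    have m22 : β ω ω ∈ D := Subgroup.mem_sup_right (Subgroup.mem_zpowers _)
    have hr : ∀ a, β a 1 ∈ D → β a ω ∈ D → ∀ b, β a b ∈ D := by
      intro a h1 h2 b
      rcases hspan b with rfl | rfl | rfl | rfl
      · rw [hβ0']; exact D.one_mem
      · exact h1
      · exact h2
      · rw [hmul_right]; exact D.mul_mem h1 h2
    intro a b
    rcases hspan a with rfl | rfl | rfl | rfl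
    · rw [hβ0]; exact D.one_mem
    · exact hr 1 m11 m12 b
    · exact hr _ m21 m22 b
    · rw [hmul_left]; exact D.mul_mem (hr 1 m11 m12 b) (hr _ m21 m22 b)
  -- the Sylow subgroup
  set P := (sylowTwo (F := F)).comap σ with hPdef
  have hPle : P ≤ E ⊔ B := by
    rintro x ⟨a, b, c, hx⟩
    have e : x = lA a * ((lA a)⁻¹ * x) := by group
    rw [e]
    refine Subgroup.mul_mem _ (Subgroup.mem_sup_left (hlAE a)) (Subgroup.mem_sup_right ⟨b, c - a * b, ?_⟩)
    rw [map_mul, map_inv, hlA, hx, pu_inv, pu_mul]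
    congr 1 <;> ring
  have hEP : E ≤ P := fun x ⟨a, c, hx⟩ => ⟨a, 0, c, hx⟩
  have hder : ⁅P, P⁆ ≤ D := (Subgroup.commutator_mono hPle hPle).trans
    (CfsgLib.Quadratic.TwoStep.commutator_le_of_central hE hB
      (fun a ha b hb => by
        obtain ⟨x, y, hxy⟩ := hcm_gen a ha b hb
        show cm a b ∈ D
        rw [hxy]; exact hβD x y)
      (fun c hc x hx => hCcen c (hDC hc) x hx))
  haveI : Fact (Nat.Prime 2) := ⟨Nat.prime_two⟩
  have hkerE : σ.ker ≤ P := fun z hz => ⟨0, 0, 0, (MonoidHom.mem_ker.1 hz).trans pu_zero.symm⟩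
  have hPidx : P.index = 315 := by
    rw [hPdef, Subgroup.index_comap_of_surjective _ hσ]
    have := Subgroup.card_mul_index (sylowTwo (F := F))
    rw [natCard_sylowTwo hF, card_psl hF] at this
    omega
  have hkerD : σ.ker ≤ D := by
    intro z hz
    have hz2 : IsPGroup 2 (Subgroup.zpowers z) := IsPGroup.of_card (n := (orderOf z).factorization 2) (by
      have hdvd : orderOf z ∣ 2 := orderOf_dvd_of_pow_eq_one (by rw [pow_two]; exact hexp z hz)
      rw [Nat.card_zpowers]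
      rcases (Nat.dvd_prime Nat.prime_two).1 hdvd with h | h <;>
        simp [h, Nat.Prime.factorization_self Nat.prime_two])
    have hP2 : IsPGroup 2 P := by
      intro x
      refine ⟨3, ?_⟩
      obtain ⟨a, b, c, hx⟩ : σ x.1 ∈ sylowTwo (F := F) := x.2
      have h4 : σ (x.1 ^ 4) = 1 := by
        have e4 : σ (x.1 ^ 4) = pu a b c * pu a b c * (pu a b c * pu a b c) := by
          rw [map_pow, show σ x.1 = pu a b c from hx]; simp only [pow_succ, pow_zero, one_mul, mul_assoc]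
        rw [e4, pu_mul, pu_mul, ← pu_zero]
        simp [hadd]
      refine Subtype.ext ?_
      rw [SubmonoidClass.coe_pow, OneMemClass.coe_one, show 2 ^ 3 = 4 * 2 by norm_num, pow_mul, pow_two]
      exact hexp _ h4
    let S := hP2.toSylow (by rw [hPidx]; norm_num)
    exact hder (Schur.center_commutator_sylow S (hc hz) (hd hz) (hkerE hz))
  have hCimg : ∀ c : F, pu 0 0 c ∈ D.map σ := fun c =>
    ⟨β c 1, hβD c 1, by rw [hcm_img _ _ c 0 1 0 (hlA c) (hlB 1), mul_one]⟩
  have h4 : 4 ≤ Nat.card (D.map σ) := by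
    have := Nat.card_le_card_of_injective (fun c : F => (⟨pu 0 0 c, hCimg c⟩ : D.map σ))
      (fun c c' h => (pu_injective (congrArg Subtype.val h)).2.2)
    rwa [Nat.card_eq_fintype_card, hF] at this
  have hprod : Nat.card (D.map σ) * Nat.card σ.ker = Nat.card D := by
    let f : D →* ProjectiveSpecialLinearGroup (Fin 3) F := σ.comp D.subtype
    have h1 : f.range = D.map σ := by rw [MonoidHom.range_comp, Subgroup.range_subtype]
    have h2 : Nat.card f.ker = Nat.card σ.ker :=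
      Nat.card_congr
        { toFun := fun x => ⟨x.1.1, x.2⟩
          invFun := fun x => ⟨⟨x.1, hkerD x.2⟩, x.2⟩ }
    have h3 := Subgroup.card_mul_index f.ker
    rw [Subgroup.index_ker, h1, h2] at h3
    rw [mul_comm]; exact h3
  nlinarith [Nat.zero_le (Nat.card σ.ker)]

end CfsgLib.Schur.L34
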