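import Cfsg.Agent.Lib.Schur.L34Cover
import Cfsg.Agent.Lib.Schur.PcAssemble
import Cfsg.Agent.Lib.SchurSmall18.StemTools
import Cfsg.Agent.Lib.SchurCover.Universal

/-!
The Schur multiplier of PSL3(4) is the product of cyclic groups of orders 3, 4 and 4.
-/

set_option autoImplicit false

namespace CfsgLib.Schur.L34Multiplier

open Cfsg CfsgLib.Golay CfsgLib.Schur CfsgLib.Schur.L34 CfsgLib.Schur.L34Cover
open scoped MatrixGroups

universe u v w

/-- The multiplier. -/
abbrev Mult : Type := Multiplicative (ZMod 3 × ZMod 4 × ZMod 4)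

theorem span_two : Pc.SpanAt 2 H21 [4, 4] :=
  PcMathieu.spanAt_of_certOK mem_side (p := 2) two_ok rfl (d := 315) (by norm_num)
    (by rw [natCard_H21]; norm_num [twoRules]) rfl rfl

theorem span_three : Pc.SpanAt 3 H21 [3] :=
  PcMathieu.spanAt_of_certOK mem_side (p := 3) three_ok rfl (d := 2240) (by norm_num)
    (by rw [natCard_H21]; norm_num [threeRules]) rfl rfl

theorem span_rest (p : ℕ) (hp : p.Prime) (h2 : p ≠ 2) (h3 : p ≠ 3) : Pc.SpanAt p H21 [] := by
  have : Fact p.Prime := ⟨hp⟩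
  by_cases hd : p ∣ Nat.card H21
  · rw [natCard_H21, show (20160 : ℕ) = 2 ^ 6 * 3 ^ 2 * 5 * 7 by norm_num] at hd
    rcases hp.dvd_mul.mp hd with hd | hd
    rcases hp.dvd_mul.mp hd with hd | hd
    rcases hp.dvd_mul.mp hd with hd | hd
    · exact absurd ((Nat.prime_dvd_prime_iff_eq hp Nat.prime_two).mp (hp.dvd_of_dvd_pow hd)) h2
    · exact absurd ((Nat.prime_dvd_prime_iff_eq hp Nat.prime_three).mp (hp.dvd_of_dvd_pow hd)) h3
    · obtain rfl := (Nat.prime_dvd_prime_iff_eq hp (by norm_num)).mp hd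
      exact PcMathieu.spanAt_of_certOK mem_side (p := 5) five_ok rfl (d := 4032) (by norm_num)
        (by rw [natCard_H21]; norm_num [fiveRules]) rfl rfl
    · obtain rfl := (Nat.prime_dvd_prime_iff_eq hp (by norm_num)).mp hd
      exact PcMathieu.spanAt_of_certOK mem_side (p := 7) seven_ok rfl (d := 2880) (by norm_num)
        (by rw [natCard_H21]; norm_num [sevenRules]) rfl rfl
  · exact Pc.spanAt_of_noMultiplierAt hp (noMultiplierAt_of_not_dvd hd)

/-- An element of exponent `n` gives a homomorphism from the cyclic group of order `n`. -/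
theorem exists_hom {A : Type u} [CommGroup A] (n : ℕ) (x : A) (hx : x ^ n = 1) :
    ∃ f : Multiplicative (ZMod n) →* A, f (Multiplicative.ofAdd 1) = x := by
  have h : zmultiplesHom (Additive A) (Additive.ofMul x) n = 0 := by
    show (n : ℤ) • Additive.ofMul x = 0
    rw [← ofMul_zpow, zpow_natCast, hx]
    rfl
  refine ⟨AddMonoidHom.toMultiplicativeLeft (ZMod.lift n ⟨_, h⟩), ?_⟩
  show Additive.toMul (ZMod.lift n ⟨_, h⟩ (1 : ZMod n)) = x
  rw [← Int.cast_one, ZMod.lift_coe]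
  simp

theorem kernel_image (Γ : Type) [Group Γ] [Finite Γ] (σ : Γ →* H21) (hσ : IsStemExtension σ) :
    ∃ π : Mult →* σ.ker, Function.Surjective π := by
  let _ : CommGroup σ.ker :=
    { (inferInstance : Group σ.ker) with
      mul_comm := fun s t => Subtype.ext (Subgroup.mem_center_iff.1 (hσ.2.1 t.2) s) }
  obtain ⟨us, hus, hsu⟩ := span_two Γ σ hσ
  obtain ⟨ts, hts, hst⟩ := span_three Γ σ hσ
  have h0 : (⟨us 0, (hus 0).1⟩ : σ.ker) ^ 4 = 1 :=
    Subtype.ext (by simpa using (hus 0).2 (by simp))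
  have h1 : (⟨us 1, (hus 1).1⟩ : σ.ker) ^ 4 = 1 :=
    Subtype.ext (by simpa using (hus 1).2 (by simp))
  have h2 : (⟨ts 0, (hts 0).1⟩ : σ.ker) ^ 3 = 1 :=
    Subtype.ext (by simpa using (hts 0).2 (by simp))
  obtain ⟨f0, hf0⟩ := exists_hom 4 _ h0
  obtain ⟨f1, hf1⟩ := exists_hom 4 _ h1
  obtain ⟨f2, hf2⟩ := exists_hom 3 _ h2
  let π : Mult →* σ.ker :=
    (f2.coprod ((f0.coprod f1).comp (MulEquiv.prodMultiplicative _ _).toMonoidHom)).comp
      (MulEquiv.prodMultiplicative (ZMod 3) (ZMod 4 × ZMod 4)).toMonoidHom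
  refine ⟨π, MonoidHom.range_eq_top.1 (Pc.eq_top_of_primary _ fun p hp z hz => ?_)⟩
  have hz' : ∃ e : ℕ, (z : Γ) ^ p ^ e = 1 := by
    obtain ⟨e, he⟩ := hz
    exact ⟨e, by rw [← SubmonoidClass.coe_pow, he]; rfl⟩
  suffices h : (z : Γ) ∈ π.range.map σ.ker.subtype by
    obtain ⟨y, hy, hyz⟩ := h
    rwa [← Subtype.ext hyz]
  have hm0 : us 0 ∈ π.range.map σ.ker.subtype :=
    ⟨_, ⟨Multiplicative.ofAdd (0, 1, 0), by
      show f2 _ * (f0 _ * f1 _) = _
      exact (by rw [show f2 (Multiplicative.ofAdd 0) = 1 from map_one f2,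
        show f1 (Multiplicative.ofAdd 0) = 1 from map_one f1, one_mul, mul_one] :
        f2 (Multiplicative.ofAdd 0) * (f0 (Multiplicative.ofAdd 1) * f1 (Multiplicative.ofAdd 0)) =
          f0 (Multiplicative.ofAdd 1)).trans hf0⟩, rfl⟩
  have hm1 : us 1 ∈ π.range.map σ.ker.subtype :=
    ⟨_, ⟨Multiplicative.ofAdd (0, 0, 1), by
      show f2 _ * (f0 _ * f1 _) = _
      exact (by rw [show f2 (Multiplicative.ofAdd 0) = 1 from map_one f2,
        show f0 (Multiplicative.ofAdd 0) = 1 from map_one f0, one_mul, one_mul] :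
        f2 (Multiplicative.ofAdd 0) * (f0 (Multiplicative.ofAdd 0) * f1 (Multiplicative.ofAdd 1)) =
          f1 (Multiplicative.ofAdd 1)).trans hf1⟩, rfl⟩
  have hm2 : ts 0 ∈ π.range.map σ.ker.subtype :=
    ⟨_, ⟨Multiplicative.ofAdd (1, 0, 0), by
      show f2 _ * (f0 _ * f1 _) = _
      exact (by rw [show f0 (Multiplicative.ofAdd 0) = 1 from map_one f0,
        show f1 (Multiplicative.ofAdd 0) = 1 from map_one f1, one_mul, mul_one] :
        f2 (Multiplicative.ofAdd 1) * (f0 (Multiplicative.ofAdd 0) * f1 (Multiplicative.ofAdd 0)) =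
          f2 (Multiplicative.ofAdd 1)).trans hf2⟩, rfl⟩
  by_cases h2p : p = 2
  · subst h2p
    refine (Subgroup.closure_le _).2 ?_ (hsu z z.2 hz')
    rintro _ ⟨k, hk, rfl⟩
    simp only [List.length_cons, List.length_nil, Set.mem_Iio] at hk
    obtain rfl | rfl : k = 0 ∨ k = 1 := by omega
    · exact hm0
    · exact hm1
  by_cases h3p : p = 3
  · subst h3p
    refine (Subgroup.closure_le _).2 ?_ (hst z z.2 hz')
    rintro _ ⟨k, hk, rfl⟩
    simp only [List.length_cons, List.length_nil, Set.mem_Iio] at hk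
    obtain rfl : k = 0 := by omega
    exact hm2
  obtain ⟨rs, -, hrs⟩ := span_rest p hp h2p h3p Γ σ hσ
  have h := hrs z z.2 hz'
  rw [List.length_nil, show Set.Iio (0 : ℕ) = ∅ by simp, Set.image_empty, Subgroup.closure_empty,
    Subgroup.mem_bot] at h
  rw [h]
  exact one_mem _

theorem exists_cover {F : Type} [Field F] [Fintype F] (hF : Fintype.card F = 4) :
    ∃ (Γ : Type) (_ : Group Γ) (_ : Finite Γ) (σ : Γ →* H21),
      IsStemExtension σ ∧ Nonempty (σ.ker ≃* Mult) := by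
  classical
  obtain ⟨e, h1, h2, h3, h4, h5⟩ := CfsgLib.Golay.exists_model hF
  obtain ⟨φ⟩ := CfsgLib.Golay.nonempty_equiv_fixPts (e := e) ⟨h1, h2, h3, h4, h5⟩ hF
  let q := QuotientGroup.mk' (Subgroup.center (Matrix.SpecialLinearGroup (Fin 3) F))
  have hq : IsStemExtension q := by
    refine ⟨QuotientGroup.mk'_surjective _, (QuotientGroup.ker_mk' _).le, ?_⟩
    rw [Cfsg.Agent.Classical.sl_commutator_eq_top (by simp)]
    exact le_top
  have hτ := CfsgLib.SchurSmall18.isStemExtension_comp_equiv hq φ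
  set τ := φ.toMonoidHom.comp q with hτdef
  have hkτ : Nat.card τ.ker = 3 := by
    have hc := Cfsg.Agent.Classical.card_sl_eq_center_mul_psl (F := F) 3
    have hsl := Cfsg.Agent.Classical.card_sl_mul (F := F) 3 (by norm_num)
    rw [Nat.card_congr φ.toEquiv, natCard_H21] at hc
    rw [hF, Fin.prod_univ_three, hc] at hsl
    norm_num at hsl
    have hk : τ.ker = q.ker := MonoidHom.ker_mulEquiv_comp q φ
    rw [hk, QuotientGroup.ker_mk', Nat.card_eq_fintype_card]
    omega
  obtain ⟨Γ, _, _, σ, hσ, ⟨eσ⟩⟩ := exists_stem_sixteen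
  have hkσ : Nat.card σ.ker = 16 := by
    rw [Nat.card_congr eσ.toEquiv]
    simp [Nat.card_eq_fintype_card]
  obtain ⟨ρ, hρ, ⟨eρ⟩⟩ := CfsgLib.SchurSmall18.exists_join hτ hσ (by rw [hkτ, hkσ]; norm_num)
  have : Fact (Nat.Prime 3) := ⟨Nat.prime_three⟩
  let e3 : τ.ker ≃* Multiplicative (ZMod 3) :=
    mulEquivOfPrimeCardEq (p := 3) hkτ (by simp [Nat.card_eq_fintype_card])
  exact ⟨_, inferInstance, inferInstance, ρ, hρ,
    ⟨(eρ.trans (MulEquiv.prodCongr e3 eσ)).trans
      (MulEquiv.prodMultiplicative (ZMod 3) (ZMod 4 × ZMod 4)).symm⟩⟩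

/-- A stem extension seen from an isomorphic group. -/
theorem isStemExtension_equiv_comp {Δ : Type u} {Γ : Type v} {G : Type w} [Group Δ] [Group Γ]
    [Group G] {σ : Γ →* G} (hσ : IsStemExtension σ) (f : Δ ≃* Γ) :
    IsStemExtension (σ.comp f.toMonoidHom) ∧ Nonempty ((σ.comp f.toMonoidHom).ker ≃* σ.ker) := by
  refine ⟨⟨hσ.1.comp f.surjective, fun x hx => ?_, fun x hx => ?_⟩, ⟨?_⟩⟩
  · rw [Subgroup.mem_center_iff]
    intro y
    apply f.injective
    rw [map_mul, map_mul]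
    exact Subgroup.mem_center_iff.1 (hσ.2.1 (show f x ∈ σ.ker from hx)) _
  · have h : f x ∈ commutator Γ := hσ.2.2 (show f x ∈ σ.ker from hx)
    rw [← CfsgLib.SchurCover.map_commutator_eq f.toMonoidHom f.surjective] at h
    obtain ⟨y, hy, hyx⟩ := h
    rwa [← f.injective hyx]
  · exact
      { toFun := fun x => ⟨f x, x.2⟩
        invFun := fun y => ⟨f.symm y, show σ (f (f.symm y)) = 1 by rw [f.apply_symm_apply]; exact y.2⟩
        left_inv := fun x => Subtype.ext (f.symm_apply_apply x)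
        right_inv := fun y => Subtype.ext (f.apply_symm_apply y)
        map_mul' := fun x y => Subtype.ext (map_mul f _ _) }

/-- The multiplier only depends on the isomorphism class. -/
theorem hasSchurMultiplier_of_equiv {G : Type u} {H : Type v} [Group G] [Group H] {A : Type w}
    [CommGroup A] (e : G ≃* H) (h : HasSchurMultiplier G A) : HasSchurMultiplier H A := by
  refine ⟨?_, fun Γ _ _ τ hτ => ?_⟩
  · obtain ⟨Γ, _, _, σ, hσ, ⟨f⟩⟩ := h.1
    obtain ⟨Δ, _, _, ⟨d⟩⟩ := CfsgLib.SchurCover.exists_small_copy.{v} Γ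
    obtain ⟨h1, ⟨k⟩⟩ := isStemExtension_equiv_comp
      (CfsgLib.SchurSmall18.isStemExtension_comp_equiv hσ e) d.symm
    exact ⟨Δ, inferInstance, inferInstance, _, h1,
      ⟨(k.trans (MulEquiv.subgroupCongr (MonoidHom.ker_mulEquiv_comp σ e))).trans f⟩⟩
  · obtain ⟨Δ, _, _, ⟨d⟩⟩ := CfsgLib.SchurCover.exists_small_copy.{u} Γ
    obtain ⟨h1, ⟨k⟩⟩ := isStemExtension_equiv_comp
      (CfsgLib.SchurSmall18.isStemExtension_comp_equiv hτ e.symm) d.symm
    obtain ⟨π, hπ⟩ := h.2 Δ _ h1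
    let K := k.trans (MulEquiv.subgroupCongr (MonoidHom.ker_mulEquiv_comp τ e.symm))
    exact ⟨K.toMonoidHom.comp π, K.surjective.comp hπ⟩

/-- An isomorphism of fields gives one of the projective special linear groups. -/
theorem nonempty_psl_congr {n : ℕ} {E : Type u} {K : Type v} [Field E] [Field K] (r : E ≃+* K) :
    Nonempty (Matrix.ProjectiveSpecialLinearGroup (Fin n) E ≃*
      Matrix.ProjectiveSpecialLinearGroup (Fin n) K) := by
  let σ : Matrix.SpecialLinearGroup (Fin n) E ≃* Matrix.SpecialLinearGroup (Fin n) K :=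
    { toFun := Matrix.SpecialLinearGroup.map r.toRingHom
      invFun := Matrix.SpecialLinearGroup.map r.symm.toRingHom
      left_inv := fun g => by ext i j; simp
      right_inv := fun g => by ext i j; simp
      map_mul' := map_mul _ }
  refine ⟨QuotientGroup.congr _ _ σ ?_⟩
  ext x
  constructor
  · rintro ⟨y, hy, rfl⟩
    rw [Subgroup.mem_center_iff]
    intro g
    obtain ⟨g, rfl⟩ := σ.surjective g
    show σ g * σ y = σ y * σ g
    rw [← map_mul, ← map_mul, Subgroup.mem_center_iff.1 hy g]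
  · intro hx
    obtain ⟨y, rfl⟩ := σ.surjective x
    refine ⟨y, Subgroup.mem_center_iff.2 fun g => σ.injective ?_, rfl⟩
    rw [map_mul, map_mul]
    exact Subgroup.mem_center_iff.1 hx _

theorem hasSchurMultiplier_psl {F : Type u} [Field F] [Fintype F] (hF : Fintype.card F = 4) :
    HasSchurMultiplier (Matrix.ProjectiveSpecialLinearGroup (Fin 3) F) Mult := by
  classical
  have : Fact (Nat.Prime 2) := ⟨Nat.prime_two⟩
  have : Fintype (GaloisField 2 2) := Fintype.ofFinite _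
  have hG : Fintype.card (GaloisField 2 2) = 4 := by
    rw [← Nat.card_eq_fintype_card, GaloisField.card 2 2 (by norm_num)]
    norm_num
  let r : F ≃+* GaloisField 2 2 := FiniteField.ringEquivOfCardEq (hF.trans hG.symm)
  obtain ⟨e, h1, h2, h3, h4, h5⟩ := CfsgLib.Golay.exists_model hG
  obtain ⟨φ⟩ := CfsgLib.Golay.nonempty_equiv_fixPts (e := e) ⟨h1, h2, h3, h4, h5⟩ hG
  obtain ⟨ψ⟩ := nonempty_psl_congr (n := 3) r
  exact hasSchurMultiplier_of_equiv (ψ.trans φ).symm ⟨exists_cover hG, kernel_image⟩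

end CfsgLib.Schur.L34Multiplier
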