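import Cfsg.Agent.Lib.Schur.MultiplierMcLData
import Cfsg.Agent.Lib.Sporadic.ConwayPsu43.Iso

/-!
The stabiliser of the pair as a permutation group on 275 vectors, with permutations coded as numbers
with nine bits for each image.
-/

set_option autoImplicit false
set_option maxRecDepth 100000
set_option Elab.async false

namespace CfsgLib.Schur.MultiplierMcL

open Cfsg CfsgLib.Golay CfsgLib.Golay.LeechOrbit CfsgLib.MonsterType CfsgLib.Sporadic

/-! ### Codes -/

/-- Packing of `n` entries from `i` on. -/
noncomputable def pk (f : ℕ → ℕ) (n : ℕ) : ℕ → ℕ :=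
  Nat.rec (motive := fun _ => ℕ → ℕ) (fun _ => 0)
    (fun _ r i => forceN i fun i => f i + 512 * r (i + 1)) n

theorem pk_succ (f : ℕ → ℕ) (n i : ℕ) : pk f (n + 1) i = f i + 512 * pk f n (i + 1) :=
  forceN_eq i fun j => f j + 512 * pk f n (j + 1)

theorem digit_pk (f : ℕ → ℕ) (hf : ∀ i, f i < 512) :
    ∀ n i k, k < n → pk f n i / 2 ^ (9 * k) % 512 = f (i + k)
  | 0, _, k, hk => absurd hk (Nat.not_lt_zero k)
  | n + 1, i, 0, _ => by
    rw [pk_succ, Nat.mul_zero, pow_zero, Nat.div_one, Nat.add_mul_mod_self_left,
      Nat.mod_eq_of_lt (hf i), Nat.add_zero]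
  | n + 1, i, k + 1, hk => by
    rw [pk_succ, show 2 ^ (9 * (k + 1)) = 512 * 2 ^ (9 * k) by rw [Nat.mul_succ, pow_add]; ring,
      ← Nat.div_div_eq_div_mul, Nat.add_mul_div_left _ _ (by norm_num),
      Nat.div_eq_of_lt (hf i), Nat.zero_add, digit_pk f hf n (i + 1) k (by omega)]
    congr 1
    omega

theorem pk_congr (f g : ℕ → ℕ) :
    ∀ n i, (∀ k, k < n → f (i + k) = g (i + k)) → pk f n i = pk g n i
  | 0, _, _ => rfl
  | n + 1, i, h => by
    rw [pk_succ, pk_succ, pk_congr f g n (i + 1) fun k hk => by
      have := h (k + 1) (by omega); rwa [show i + (k + 1) = i + 1 + k by omega] at this]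
    have := h 0 (by omega)
    simp only [Nat.add_zero] at this
    rw [this]

/-- The image of a point under a code. -/
noncomputable def img (c i : ℕ) : ℕ := c / 2 ^ (9 * i) % 512 % 275

theorem img_lt (c i : ℕ) : img c i < 275 := Nat.mod_lt _ (by norm_num)

/-- Composition of codes. -/
noncomputable def mul (a b : ℕ) : ℕ := forceN a fun a => forceN b fun b => pk (fun i => img a (img b i)) 275 0

/-- The code of the identity. -/
noncomputable def one : ℕ := pk (fun i => i % 275) 275 0

theorem img_pk (f : ℕ → ℕ) (hf : ∀ i, f i < 275) {i : ℕ} (hi : i < 275) :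
    img (pk f 275 0) i = f i := by
  rw [img, digit_pk f (fun j => (hf j).trans (by norm_num)) 275 0 i hi, Nat.zero_add,
    Nat.mod_eq_of_lt (hf i)]

/-- The code of a permutation. -/
noncomputable def code (σ : Equiv.Perm (Fin 275)) : ℕ :=
  pk (fun i => (σ (Fin.ofNat 275 i) : ℕ)) 275 0

theorem img_code (σ : Equiv.Perm (Fin 275)) (i : Fin 275) : img (code σ) i = σ i := by
  rw [code, img_pk _ (fun j => Fin.isLt _) i.isLt]
  congr 2
  exact Fin.ext (Nat.mod_eq_of_lt i.isLt)

theorem code_injective : Function.Injective code := fun σ τ h =>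
  Equiv.ext fun i => Fin.ext (by rw [← img_code, ← img_code, h])

theorem code_one : code 1 = one := pk_congr _ _ _ _ fun _ _ => rfl

theorem code_mul (σ τ : Equiv.Perm (Fin 275)) : code (σ * τ) = mul (code σ) (code τ) := by
  rw [mul, forceN_eq, forceN_eq]
  refine pk_congr _ _ _ _ fun k hk => ?_
  rw [Nat.zero_add] at *
  have h1 : (Fin.ofNat 275 k : ℕ) = k := Nat.mod_eq_of_lt hk
  have h2 := img_code τ (Fin.ofNat 275 k)
  rw [h1] at h2
  rw [h2, img_code]
  rfl

/-! ### The action on 275 vectors -/

/-- The joint stabiliser of the pair. -/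
abbrev H : Subgroup Co0 := consStab cs275

theorem H_eq : H = ConwayPairs.pairStab Spor.leechU := by
  rw [← ConwayPairOrders.pairStab_neg]
  ext γ
  simp [cs275, mem_consStab, ConwayPairs.pairStab, MulAction.mem_stabilizer_iff, negU]

theorem card_pair_eq : Nat.card (ConwayPairs.pairStab Spor.leechU) = 898128000 := by
  have h := ConwayPairOrders.card_pair (r := negU) spec552
  rw [show negU = -Spor.leechU from rfl, ConwayPairOrders.pairStab_neg] at h
  exact Nat.eq_of_mul_eq_mul_right (show 0 < 552 by norm_num) (h.trans (by norm_num))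

theorem card_H : Nat.card H = 898128000 := by rw [H_eq]; exact card_pair_eq

theorem simple_H : IsSimpleGroup H := by
  rw [H_eq]; exact (ConwayPairs.isMcL_of_card card_pair_eq).1

instance : Finite H := by
  have := co0_finite
  infer_instance

instance : MulAction H (consSet cs275) where
  smul γ x := ⟨(γ : Co0) • (x : leechLattice), smul_mem_consSet γ.2 x.2⟩
  one_smul x := Subtype.ext (one_smul Co0 (x : leechLattice))
  mul_smul a b x := Subtype.ext (mul_smul (a : Co0) (b : Co0) (x : leechLattice))

theorem exists_key (x : consSet cs275) :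
    ∃ i : Fin 275, C275.key i = keyOf ((x : leechLattice) : GolayPt → ℤ) := by
  obtain ⟨i, hi, he⟩ := C275.has_sound (cover275 x x.2)
  exact ⟨⟨i, hi⟩, he⟩

/-- The index of a vector. -/
noncomputable def vecIdx (x : consSet cs275) : Fin 275 := (exists_key x).choose

theorem key_vecIdx (x : consSet cs275) :
    C275.key (vecIdx x) = keyOf ((x : leechLattice) : GolayPt → ℤ) := (exists_key x).choose_spec

theorem key_inj {i j : Fin 275} (h : C275.key i = C275.key j) : i = j := by
  rcases lt_trichotomy i.val j.val with hl | hl | hl
  · exact absurd h (Nat.ne_of_lt (C275.key_strictMono valid275 hl j.isLt))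
  · exact Fin.ext hl
  · exact absurd h.symm (Nat.ne_of_lt (C275.key_strictMono valid275 hl i.isLt))

theorem vecIdx_eq {x : consSet cs275} {i : Fin 275}
    (h : keyOf ((x : leechLattice) : GolayPt → ℤ) = C275.key i) : vecIdx x = i :=
  key_inj ((key_vecIdx x).trans h)

theorem vecIdx_bijective : Function.Bijective vecIdx := by
  have := Nat.finite_of_card_ne_zero (α := consSet cs275)
    (by rw [Nat.card_coe_set_eq, spec275.ncard]; norm_num)
  refine (Nat.bijective_iff_injective_and_card _).2 ⟨fun x y h => ?_, ?_⟩
  · refine Subtype.ext (Subtype.ext (eq_of_keyOf x.2.1 y.2.1 ?_))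
    rw [← key_vecIdx, ← key_vecIdx, h]
  · rw [Nat.card_coe_set_eq, spec275.ncard, Nat.card_fin]

/-- The indices of the vectors. -/
noncomputable def pts : consSet cs275 ≃ Fin 275 := Equiv.ofBijective vecIdx vecIdx_bijective

/-- The action on the indices. -/
noncomputable def phi : H →* Equiv.Perm (Fin 275) :=
  pts.permCongrHom.toMonoidHom.comp (MulAction.toPermHom H (consSet cs275))

theorem phi_apply (γ : H) (x : consSet cs275) : phi γ (pts x) = pts (γ • x) := by
  simp [phi, Equiv.permCongrHom, Equiv.permCongr_apply, MulAction.toPerm_apply]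

/-! ### The generators -/

/-- Words for the seven generators. -/
def gWords : List (List Letter) := wsMCL ++ ConwayPsu43.gWs

/-- Their packed columns. -/
def gColumns : List (List ℤ) := C275.cols ++ ConwayPsu43.gCols

/-- The test that a generator moves the keys as its code says. -/
noncomputable def moveTest (k i : ℕ) : Bool :=
  forceN i fun i => forceN (C275.key i) fun ki => forceN (img (gCodes.getD k 0) i) fun j =>
    forceN (C275.key j) fun kj =>
      decide (dotL (digitsF 24 ki) (gColumns.getD k []) = 8 * ((kj : ℤ) - off))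

theorem move_ok0 : allFrom 0 275 (moveTest 0) = true := by decide +kernel

theorem move_ok1 : allFrom 0 275 (moveTest 1) = true := by decide +kernel

theorem move_ok2 : allFrom 0 275 (moveTest 2) = true := by decide +kernel

theorem move_ok3 : allFrom 0 275 (moveTest 3) = true := by decide +kernel

theorem move_ok4 : allFrom 0 275 (moveTest 4) = true := by decide +kernel

theorem move_ok5 : allFrom 0 275 (moveTest 5) = true := by decide +kernel

theorem move_ok6 : allFrom 0 275 (moveTest 6) = true := by decide +kernel

theorem move_ok : ((List.range 7).all fun k => allFrom 0 275 (moveTest k)) = true := by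
  simp only [List.all_eq_true, List.mem_range]
  intro k hk
  interval_cases k
  · exact move_ok0
  · exact move_ok1
  · exact move_ok2
  · exact move_ok3
  · exact move_ok4
  · exact move_ok5
  · exact move_ok6

theorem canon_gens : ((List.range 7).all fun k => gCodes.getD k 0 == pk (img (gCodes.getD k 0)) 275 0) = true := by
  decide +kernel

theorem columns_eq : gColumns = gWords.map colsW := by
  rw [gWords, List.map_append, ← ConwayPsu43.cols_g, gColumns, valid275.cols_eq]
  rfl

theorem fix_words : fixB gWords (cs275.map fun c => toL (c.1 : GolayPt → ℤ)) = true := by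
  decide +kernel

theorem length_words : gWords.length = 7 := rfl

theorem gEl_mem (k : Fin 7) : wordW (gWords.getD k []) ∈ H :=
  mem_consStab_of_fixB fix_words _
    (by rw [List.getD_eq_getElem _ _ (by rw [length_words]; exact k.2)]; exact List.getElem_mem _)

/-- The generators. -/
noncomputable def gEl (k : Fin 7) : H := ⟨wordW (gWords.getD k []), gEl_mem k⟩

theorem code_gEl (k : Fin 7) : code (phi (gEl k)) = gCodes.getD k 0 := by
  rw [beq_iff_eq.1 (List.all_eq_true.1 canon_gens k (List.mem_range.2 k.2))]
  refine pk_congr _ _ _ _ fun i hi => ?_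
  rw [Nat.zero_add]
  set z : Fin 275 := Fin.ofNat 275 i
  have hz : (z : ℕ) = i := Nat.mod_eq_of_lt hi
  set x := pts.symm z with hxdef
  have hk : C275.key i = keyOf ((x : leechLattice) : GolayPt → ℤ) := by
    rw [← key_vecIdx x, show vecIdx x = z from pts.apply_symm_apply z, hz]
  have h := of_allFrom_zero (List.all_eq_true.1 move_ok k (List.mem_range.2 k.2)) hi
  simp only [moveTest, forceN_eq, decide_eq_true_eq] at h
  rw [columns_eq, List.getD_eq_getElem _ _ (by rw [List.length_map, length_words]; exact k.2),
    List.getElem_map, digitsF_eq, hk, ← toL_vecK, vecK_keyOf x.2.1, ← pack_wordW] at h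
  have e : phi (gEl k) z = ⟨img (gCodes.getD k 0) i, img_lt _ _⟩ := by
    rw [show z = pts x from (pts.apply_symm_apply z).symm, phi_apply]
    refine vecIdx_eq ?_
    show keyOf ((wordW (gWords.getD k []) • (x : leechLattice) : leechLattice) : GolayPt → ℤ) = _
    rw [keyOf, List.getD_eq_getElem _ _ (by rw [length_words]; exact k.2)]
    rw [show pack ((wordW gWords[k.val] • (x : leechLattice) : leechLattice) : GolayPt → ℤ) + off =
      (C275.key (img (gCodes.getD k 0) i) : ℤ) by linarith, Int.toNat_natCast]
  rw [e]

theorem phi_injective : Function.Injective phi := by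
  have := simple_H
  rcases IsSimpleGroup.eq_bot_or_eq_top_of_normal phi.ker inferInstance with h | h
  · exact (MonoidHom.ker_eq_bot_iff phi).1 h
  · exfalso
    have h1 := code_gEl 0
    rw [MonoidHom.mem_ker.1 (h ▸ Subgroup.mem_top (gEl 0)), code_one] at h1
    have hne : (one == gCodes.getD 0 0) = false := by decide +kernel
    exact absurd h1 (beq_eq_false_iff_ne.1 hne)

/-- A code represents an element. -/
def Rep (a : ℕ) (γ : H) : Prop := code (phi γ) = a

theorem rep_one : Rep one 1 := by rw [Rep, map_one, code_one]

theorem rep_mul {a b : ℕ} {x y : H} (hx : Rep a x) (hy : Rep b y) : Rep (mul a b) (x * y) := by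
  rw [Rep] at *; rw [map_mul, code_mul, hx, hy]

theorem rep_uniq {a : ℕ} {x y : H} (hx : Rep a x) (hy : Rep a y) : x = y :=
  phi_injective (code_injective (hx.trans hy.symm))

theorem rep_code {a b : ℕ} {x : H} (hx : Rep a x) (hy : Rep b x) : a = b := hx.symm.trans hy

theorem rep_img {a : ℕ} {x : H} (hx : Rep a x) (i : Fin 275) : img a i = phi x i :=
  hx ▸ img_code (phi x) i

/-! ### The elements used -/

/-- The code of a word in the generators. -/
noncomputable def wordCode : List ℕ → ℕ
  | [] => one
  | k :: w => mul (gCodes.getD (k % 7) 0) (wordCode w)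

/-- An element as a word in the generators. -/
noncomputable def wordEl : List ℕ → H
  | [] => 1
  | k :: w => gEl (Fin.ofNat 7 k) * wordEl w

theorem rep_wordEl : ∀ w, Rep (wordCode w) (wordEl w)
  | [] => rep_one
  | k :: w => rep_mul (code_gEl (Fin.ofNat 7 k)) (rep_wordEl w)

/-- The test of a word. -/
noncomputable def wordTest (i : ℕ) : Bool :=
  Nat.beq (wordCode (elWords.getD i [])) (elCodes.getD i one)

theorem words_ok0 : allFrom 0 14 wordTest = true := by decide +kernel

theorem words_ok1 : allFrom 14 14 wordTest = true := by decide +kernel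

theorem words_ok2 : allFrom 28 14 wordTest = true := by decide +kernel

theorem words_ok3 : allFrom 42 14 wordTest = true := by decide +kernel

theorem words_ok4 : allFrom 56 14 wordTest = true := by decide +kernel

theorem words_ok5 : allFrom 70 14 wordTest = true := by decide +kernel

theorem words_ok6 : allFrom 84 14 wordTest = true := by decide +kernel

theorem words_ok : elWords.map wordCode = elCodes := by
  have hl : elWords.length = 98 ∧ elCodes.length = 98 := by decide +kernel
  refine List.ext_getElem (by rw [List.length_map, hl.1, hl.2]) fun i h1 h2 => ?_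
  have hi : i < 98 := by rw [← hl.2]; exact h2
  have h : wordTest i = true := by
    by_cases h0 : i < 14
    · exact allFrom_eq_true.1 words_ok0 i (by omega) (by omega)
    by_cases h1 : i < 28
    · exact allFrom_eq_true.1 words_ok1 i (by omega) (by omega)
    by_cases h2 : i < 42
    · exact allFrom_eq_true.1 words_ok2 i (by omega) (by omega)
    by_cases h3 : i < 56
    · exact allFrom_eq_true.1 words_ok3 i (by omega) (by omega)
    by_cases h4 : i < 70
    · exact allFrom_eq_true.1 words_ok4 i (by omega) (by omega)
    by_cases h5 : i < 84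
    · exact allFrom_eq_true.1 words_ok5 i (by omega) (by omega)
    exact allFrom_eq_true.1 words_ok6 i (by omega) (by omega)
  rw [wordTest, List.getD_eq_getElem _ _ (by rw [hl.1]; exact hi),
    List.getD_eq_getElem _ _ h2] at h
  rw [List.getElem_map]
  exact Nat.eq_of_beq_eq_true h

/-- The elements used. -/
noncomputable def el (i : ℕ) : H := wordEl (elWords.getD i [])

theorem rep_el (i : ℕ) : Rep (elCodes.getD i one) (el i) := by
  rw [← words_ok, show one = wordCode [] from rfl, List.getD_map]
  exact rep_wordEl _

end CfsgLib.Schur.MultiplierMcL
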