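import Cfsg.Agent.Lib.Schur.MultiplierMcLCoverData
import Cfsg.Agent.Lib.Schur.McLModel

/-!
The triple cover of the point stabiliser: pairs of an element fixing the point and a semilinear-free
map on six dimensions over four elements which move 126 points alike.
-/

set_option autoImplicit false
set_option maxRecDepth 100000
set_option Elab.async false

namespace CfsgLib.Schur.MultiplierMcL

open CfsgLib.Sporadic CfsgLib.Golay CfsgLib.Golay.LeechOrbit

/-! ### Linear maps over two elements on twelve coordinates -/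

/-- The image of a vector under the map with the given columns. -/
noncomputable def appB (A : List ℕ) : ℕ → ℕ :=
  List.rec (motive := fun _ => ℕ → ℕ) (fun _ => 0)
    (fun c _ r v => forceN v fun v => (bif Nat.beq (v % 2) 1 then c else 0) ^^^ r (v / 2)) A

theorem appB_nil (v : ℕ) : appB [] v = 0 := rfl

theorem appB_cons (c : ℕ) (A : List ℕ) (v : ℕ) :
    appB (c :: A) v = (if v % 2 = 1 then c else 0) ^^^ appB A (v / 2) := by
  have h : appB (c :: A) v = forceN v fun v =>
      (bif Nat.beq (v % 2) 1 then c else 0) ^^^ appB A (v / 2) := rfl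
  rw [h, forceN_eq]
  by_cases hv : v % 2 = 1
  · rw [if_pos hv, show Nat.beq (v % 2) 1 = true from Nat.beq_eq ▸ hv]; rfl
  · rw [if_neg hv, show Nat.beq (v % 2) 1 = false from Bool.eq_false_iff.2 fun e => hv (Nat.eq_of_beq_eq_true e)]
    rfl

theorem appB_xor : ∀ (A : List ℕ) (v w : ℕ), appB A (v ^^^ w) = appB A v ^^^ appB A w
  | [], v, w => by simp [appB_nil]
  | c :: A, v, w => by
    rw [appB_cons, appB_cons, appB_cons, show (v ^^^ w) / 2 = v / 2 ^^^ w / 2 from Nat.xor_div_two,
      appB_xor A]
    have h2 : (v ^^^ w) % 2 = 1 ↔ ¬(v % 2 = 1 ↔ w % 2 = 1) := Nat.xor_mod_two_eq_one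
    by_cases h : v % 2 = 1 <;> by_cases h' : w % 2 = 1
    · rw [if_pos h, if_pos h', if_neg (fun e => (h2.1 e) (iff_of_true h h'))]
      rw [show c ^^^ appB A (v / 2) ^^^ (c ^^^ appB A (w / 2)) = (c ^^^ c) ^^^ (appB A (v / 2) ^^^ appB A (w / 2)) by
        simp only [Nat.xor_assoc, Nat.xor_comm, Nat.xor_left_comm], Nat.xor_self]
    · rw [if_pos h, if_neg h', if_pos (h2.2 fun e => h' (e.1 h)), Nat.zero_xor, Nat.xor_assoc]
    · rw [if_neg h, if_pos h', if_pos (h2.2 fun e => h (e.2 h')), Nat.zero_xor, ← Nat.xor_assoc,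
        Nat.xor_comm c, Nat.xor_assoc, Nat.xor_left_comm]
    · rw [if_neg h, if_neg h', if_neg (fun e => (h2.1 e) (iff_of_false h h'))]
      simp

theorem appB_zero : ∀ A : List ℕ, appB A 0 = 0
  | [] => rfl
  | c :: A => by rw [appB_cons, Nat.zero_div, appB_zero A]; simp

theorem appB_appB (A : List ℕ) : ∀ (B : List ℕ) (v : ℕ), appB A (appB B v) = appB (B.map (appB A)) v
  | [], v => by rw [appB_nil, List.map_nil, appB_nil, appB_zero]
  | c :: B, v => by
    rw [List.map_cons, appB_cons, appB_cons, appB_xor, appB_appB A B]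
    split_ifs <;> simp [appB_zero]

theorem appB_lt : ∀ (A : List ℕ), (∀ c ∈ A, c < 4096) → ∀ v, appB A v < 4096
  | [], _, v => by rw [appB_nil]; norm_num
  | c :: A, h, v => by
    rw [appB_cons]
    refine Nat.xor_lt_two_pow (n := 12) ?_ (appB_lt A (fun d hd => h d (List.mem_cons_of_mem _ hd)) _)
    split_ifs
    · exact h c List.mem_cons_self
    · norm_num

/-- The identity columns. -/
def unitCols : List ℕ := [1, 2, 4, 8, 16, 32, 64, 128, 256, 512, 1024, 2048]

theorem unit_ok : allFrom 0 4096 (fun v => Nat.beq (appB unitCols v) v) = true := by decide +kernel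

theorem appB_unit {v : ℕ} (hv : v < 4096) : appB unitCols v = v :=
  Nat.eq_of_beq_eq_true (of_allFrom_zero unit_ok hv)

/-! ### Scalars -/

/-- Columns of the scalars. -/
def scCols (k : ℕ) : List ℕ :=
  if k % 3 = 0 then unitCols else if k % 3 = 1 then omCols
  else [3, 1, 12, 4, 48, 16, 192, 64, 768, 256, 3072, 1024]

theorem scal_ok : ((List.range 3).all fun k => (List.range 3).all fun l =>
    (scCols l).map (appB (scCols k)) == scCols (k + l)) = true := by decide +kernel

theorem scCols_mod (k : ℕ) : scCols (k % 3) = scCols k := by simp only [scCols, Nat.mod_mod]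

/-- Multiplication by a scalar. -/
noncomputable def sc (k v : ℕ) : ℕ := appB (scCols k) v

theorem sc_sc (k l v : ℕ) : sc k (sc l v) = sc (k + l) v := by
  have h := List.all_eq_true.1 (List.all_eq_true.1 scal_ok (k % 3) (List.mem_range.2 (Nat.mod_lt _ (by norm_num))))
    (l % 3) (List.mem_range.2 (Nat.mod_lt _ (by norm_num)))
  rw [beq_iff_eq, scCols_mod, scCols_mod, ← scCols_mod (k % 3 + l % 3), ← Nat.add_mod, scCols_mod] at h
  rw [sc, sc, sc, appB_appB, h]

theorem sc_one (v : ℕ) : sc 1 v = appB omCols v := rfl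

theorem sc_two (v : ℕ) : sc 2 v = sc 1 (sc 1 v) := (sc_sc 1 1 v).symm

theorem scCols_lt (k : ℕ) : ∀ c ∈ scCols k, c < 4096 := by
  have h : ((List.range 3).all fun k => (scCols k).all fun c => Nat.blt c 4096) = true := by decide +kernel
  intro c hc
  exact Nat.blt_eq ▸ List.all_eq_true.1 (List.all_eq_true.1 h (k % 3) (List.mem_range.2 (Nat.mod_lt _ (by norm_num))))
    c (by rwa [scCols_mod])

/-! ### The points -/

/-- A point of the 126. -/
def pt126 (p : ℕ) : ℕ := pts126.getD p 0

/-- The mask of its set of 40 points. -/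
def mask (p : ℕ) : ℕ := masks126.getD p 0

theorem pts_lt : ((List.range 126).all fun p => Nat.blt (pt126 p) 4096) = true := by decide +kernel

theorem pt126_lt {p : ℕ} (hp : p < 126) : pt126 p < 4096 :=
  Nat.blt_eq ▸ List.all_eq_true.1 pts_lt p (List.mem_range.2 hp)

/-! ### The group -/

/-- Linear maps as permutations of the 4096 vectors, with an element of the group. -/
abbrev W : Type := H × Equiv.Perm (Fin 4096)

/-- The permutation is linear over four elements and moves the 126 points as the element moves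
their sets. -/
structure Compat (x : W) : Prop where
  root : (phi x.1 ⟨rootIdx, by decide⟩ : Fin 275) = ⟨rootIdx, by decide⟩
  lin : ∃ A : List ℕ, (∀ v : Fin 4096, (x.2 v : ℕ) = appB A v) ∧
    ∀ v, v < 4096 → appB A (sc 1 v) = sc 1 (appB A v)
  move : ∀ p, p < 126 → ∃ q, q < 126 ∧
    (∃ k, k < 3 ∧ (x.2 (Fin.ofNat 4096 (pt126 p)) : ℕ) = sc k (pt126 q)) ∧
    ∀ i : Fin 275, (mask p).testBit i = true → (mask q).testBit (phi x.1 i) = true

theorem sc_lt (k v : ℕ) : sc k v < 4096 := appB_lt _ (scCols_lt k) v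

theorem appB_comm_sc {A : List ℕ} (hb : ∀ v, v < 4096 → appB A v < 4096)
    (h : ∀ v, v < 4096 → appB A (sc 1 v) = sc 1 (appB A v)) :
    ∀ k v, v < 4096 → appB A (sc k v) = sc k (appB A v) := by
  intro k
  induction k with
  | zero =>
    intro v hv
    have e0 : ∀ u, sc 0 u = appB unitCols u := fun u => rfl
    rw [e0, e0, appB_unit hv, appB_unit (hb v hv)]
  | succ k ih =>
    intro v hv
    rw [← Nat.add_comm 1 k, ← sc_sc, h _ (sc_lt _ _), ih v hv, sc_sc]

theorem lin_bound {M : Equiv.Perm (Fin 4096)} {A : List ℕ}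
    (h : ∀ v : Fin 4096, (M v : ℕ) = appB A v) (v : ℕ) (hv : v < 4096) : appB A v < 4096 :=
  (h ⟨v, hv⟩) ▸ (M ⟨v, hv⟩).isLt

theorem compat_one : Compat 1 where
  root := by rw [Prod.fst_one, map_one]; rfl
  lin := ⟨unitCols, fun v => (appB_unit v.isLt).symm, fun v hv => by
    rw [appB_unit hv, appB_unit (sc_lt _ _)]⟩
  move p hp := ⟨p, hp, ⟨0, by norm_num, by
    rw [show sc 0 (pt126 p) = appB unitCols (pt126 p) from rfl, appB_unit (pt126_lt hp)]
    exact Nat.mod_eq_of_lt (pt126_lt hp)⟩, fun i hi => by rw [Prod.fst_one, map_one]; exact hi⟩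

theorem compat_mul {x y : W} (hx : Compat x) (hy : Compat y) : Compat (x * y) where
  root := by rw [Prod.fst_mul, map_mul, Equiv.Perm.mul_apply, hy.root, hx.root]
  lin := by
    obtain ⟨A, hA, hA'⟩ := hx.lin
    obtain ⟨B, hB, hB'⟩ := hy.lin
    refine ⟨B.map (appB A), fun v => ?_, fun v hv => ?_⟩
    · rw [Prod.snd_mul, Equiv.Perm.mul_apply, hA, hB, appB_appB]
    · rw [← appB_appB, ← appB_appB, hB' v hv, hA' _ (lin_bound hB v hv)]
  move p hp := by
    obtain ⟨q, hq, ⟨k, hk, ek⟩, hmq⟩ := hy.move p hp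
    obtain ⟨r, hr, ⟨l, hl, el⟩, hmr⟩ := hx.move q hq
    refine ⟨r, hr, ⟨(k + l) % 3, Nat.mod_lt _ (by norm_num), ?_⟩, fun i hi => ?_⟩
    · obtain ⟨A, hA, hA'⟩ := hx.lin
      rw [Prod.snd_mul, Equiv.Perm.mul_apply, hA, ek, appB_comm_sc (lin_bound hA) hA' k _ (pt126_lt hq)]
      have e : appB A (pt126 q) = sc l (pt126 r) := by
        rw [← el, hA]
        congr 1
        exact (Nat.mod_eq_of_lt (pt126_lt hq)).symm
      rw [e, sc_sc, sc, sc, scCols_mod]
    · rw [Prod.fst_mul, map_mul, Equiv.Perm.mul_apply]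
      exact hmr _ (hmq i hi)

/-- The pairs moving alike. -/
noncomputable def E : Subgroup W where
  carrier := {x | Compat x}
  one_mem' := compat_one
  mul_mem' := compat_mul
  inv_mem' := by
    intro x hx
    have hpow : ∀ n : ℕ, Compat (x ^ n) := by
      intro n
      induction n with
      | zero => rw [pow_zero]; exact compat_one
      | succ n ih => rw [pow_succ]; exact compat_mul ih hx
    have h : x⁻¹ = x ^ (orderOf x - 1) := by
      refine inv_eq_of_mul_eq_one_left ?_
      rw [← pow_succ, Nat.sub_add_cancel (orderOf_pos x), pow_orderOf_eq_one]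
    rw [Set.mem_setOf_eq, h]
    exact hpow _

theorem mem_E {x : W} : x ∈ E ↔ Compat x := Iff.rfl

/-- The projection to the group. -/
noncomputable def proj : E →* H := (MonoidHom.fst H (Equiv.Perm (Fin 4096))).comp E.subtype

/-! ### The kernel -/

theorem masks_distinct : ((List.range 126).all fun p => (List.range 126).all fun q =>
    Nat.beq p q || !(Nat.beq (mask p &&& mask q) (mask p))) = true := by decide +kernel

theorem masks_lt : ((List.range 126).all fun p => Nat.blt (mask p) (2 ^ 275)) = true := by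
  decide +kernel

theorem eq_of_subset {p q : ℕ} (hp : p < 126) (hq : q < 126)
    (h : ∀ i : Fin 275, (mask p).testBit i = true → (mask q).testBit i = true) : p = q := by
  have hd := List.all_eq_true.1 (List.all_eq_true.1 masks_distinct p (List.mem_range.2 hp)) q
    (List.mem_range.2 hq)
  by_contra hne
  rw [Bool.or_eq_true, Bool.not_eq_true'] at hd
  rcases hd with hd | hd
  · exact hne (Nat.eq_of_beq_eq_true hd)
  refine Bool.eq_false_iff.1 hd ?_
  rw [Nat.beq_eq]
  refine Nat.eq_of_testBit_eq fun i => ?_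
  rw [Nat.testBit_and]
  rcases Nat.lt_or_ge i 275 with hi | hi
  · cases hb : (mask p).testBit i
    · rfl
    · rw [h ⟨i, hi⟩ hb]; rfl
  · have hlt : mask p < 2 ^ i :=
      lt_of_lt_of_le (Nat.blt_eq ▸ List.all_eq_true.1 masks_lt p (List.mem_range.2 hp))
        (Nat.pow_le_pow_right (by norm_num) hi)
    rw [Nat.testBit_lt_two_pow hlt]; rfl

/-- The six points of the basis. -/
def bp (j : Fin 6) : ℕ := basisPts.getD j 0

/-- The images of the basis under a diagonal map. -/
noncomputable def diagCols (ks : Fin 6 → ℕ) : List ℕ :=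
  (List.finRange 6).flatMap fun j => [sc (ks j) (pt126 (bp j)), sc (ks j + 1) (pt126 (bp j))]

theorem basis_eq : basisCols =
    (List.finRange 6).flatMap (fun j => [pt126 (bp j), sc 1 (pt126 (bp j))]) := by decide +kernel

theorem bp_lt : ∀ j : Fin 6, bp j < 126 := by decide +kernel

theorem basis_inv : allFrom 0 4096 (fun v => Nat.beq (appB basisCols (appB basisInv v)) v) = true := by
  decide +kernel

theorem diag_ok : ((List.range 3).all fun a => (List.range 3).all fun b => (List.range 3).all fun c =>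
    (List.range 3).all fun d => (List.range 3).all fun e => (List.range 3).all fun f =>
      (a == b && a == c && a == d && a == e && a == f) ||
        (List.range 3).all fun k => !(Nat.beq (appB (diagCols ![a, b, c, d, e, f])
          (appB basisInv (pt126 testPt))) (sc k (pt126 testPt)))) = true := by
  decide +kernel

theorem testPt_lt : testPt < 126 := by decide

theorem exists_scalar_of_proj {x : W} (hx : Compat x) (h1 : x.1 = 1) :
    ∃ k, k < 3 ∧ ∀ v : Fin 4096, (x.2 v : ℕ) = sc k v := by
  obtain ⟨A, hA, hA'⟩ := hx.lin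
  have heig : ∀ p, p < 126 → ∃ k, k < 3 ∧ appB A (pt126 p) = sc k (pt126 p) := by
    intro p hp
    obtain ⟨q, hq, ⟨k, hk, ek⟩, hm⟩ := hx.move p hp
    obtain rfl := eq_of_subset hp hq fun i hi => by
      have := hm i hi
      rwa [h1, map_one] at this
    refine ⟨k, hk, ?_⟩
    rw [← ek, hA]
    congr 1
    exact (Nat.mod_eq_of_lt (pt126_lt hp)).symm
  choose k hk hke using fun j : Fin 6 => heig (bp j) (bp_lt j)
  have hmap : basisCols.map (appB A) = diagCols k := by
    rw [basis_eq, List.map_flatMap, diagCols]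
    refine List.flatMap_congr fun j _ => ?_
    simp only [List.map_cons, List.map_nil]
    rw [hA' _ (pt126_lt (bp_lt j)), hke, sc_sc, Nat.add_comm 1]
  have hform : ∀ v, v < 4096 → appB A v = appB (diagCols k) (appB basisInv v) := fun v hv => by
    rw [← hmap, ← appB_appB, Nat.eq_of_beq_eq_true (of_allFrom_zero basis_inv hv)]
  obtain ⟨kt, hkt, hkte⟩ := heig testPt testPt_lt
  rw [hform _ (pt126_lt testPt_lt)] at hkte
  have hd := List.all_eq_true.1 diag_ok (k 0) (List.mem_range.2 (hk 0))
  replace hd := List.all_eq_true.1 hd (k 1) (List.mem_range.2 (hk 1))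
  replace hd := List.all_eq_true.1 hd (k 2) (List.mem_range.2 (hk 2))
  replace hd := List.all_eq_true.1 hd (k 3) (List.mem_range.2 (hk 3))
  replace hd := List.all_eq_true.1 hd (k 4) (List.mem_range.2 (hk 4))
  replace hd := List.all_eq_true.1 hd (k 5) (List.mem_range.2 (hk 5))
  have hvec : ![k 0, k 1, k 2, k 3, k 4, k 5] = k := funext fun j => by fin_cases j <;> rfl
  rw [Bool.or_eq_true, hvec] at hd
  rcases hd with hd | hd
  · simp only [Bool.and_eq_true, beq_iff_eq] at hd
    obtain ⟨⟨⟨⟨e1, e2⟩, e3⟩, e4⟩, e5⟩ := hd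
    have hall : ∀ j, k j = k 0 := fun j => by
      fin_cases j <;> first | rfl | exact e1.symm | exact e2.symm | exact e3.symm | exact e4.symm | exact e5.symm
    refine ⟨k 0, hk 0, fun v => ?_⟩
    rw [hA, hform _ v.isLt]
    have hd2 : diagCols k = basisCols.map (appB (scCols (k 0))) := by
      rw [basis_eq, List.map_flatMap, diagCols]
      refine List.flatMap_congr fun j _ => ?_
      simp only [List.map_cons, List.map_nil, hall j]
      rw [← sc_sc]
      rfl
    rw [hd2, ← appB_appB, Nat.eq_of_beq_eq_true (of_allFrom_zero basis_inv v.isLt)]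
    rfl
  · have := List.all_eq_true.1 hd kt (List.mem_range.2 hkt)
    rw [hkte, Bool.not_eq_true'] at this
    rw [show Nat.beq (sc kt (pt126 testPt)) (sc kt (pt126 testPt)) = true from Nat.beq_refl _] at this
    exact absurd this (by decide)

end CfsgLib.Schur.MultiplierMcL
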