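import Cfsg.Agent.Lib.Schur.McLCoverLifts

/-!
Checks for the triple cover of the McLaughlin group: the commutators of the lifts at 275 points.
-/

set_option autoImplicit false
set_option maxRecDepth 100000
set_option Elab.async false

namespace CfsgLib.Schur.MultiplierMcL

open CfsgLib.Sporadic CfsgLib.Golay CfsgLib.Golay.LeechOrbit

/-- The test at a point. -/
noncomputable def pointOK (w : ℕ) : Bool :=
  forceN w fun w =>
  forceN (preA.getD w 0) fun w1 => forceN (preB.getD w 0) fun w2 =>
  forceN (tCodes.getD w 0) fun tw => forceN (liftA.getD w 0) fun la => forceN (liftB.getD w 0) fun lb =>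
  forceN (liftB.getD w1 0) fun lb1 => forceN (liftA.getD w2 0) fun la2 =>
  forceN (elCodes.getD aIdx one) fun ca => forceN (elCodes.getD bIdx one) fun cb =>
    Nat.blt w1 275 && Nat.blt w2 275 && Nat.blt la 27 && Nat.blt lb 27 && Nat.blt lb1 27 &&
      Nat.blt la2 27 &&
      Nat.beq tw (mul (elCodes.getD (tSrc.getD w (0, 0)).1 one) (elCodes.getD (tSrc.getD w (0, 0)).2 one)) &&
      Nat.beq (img tw rootIdx) w && Nat.beq (img ca w1) w && Nat.beq (img cb w2) w &&
      Nat.beq (mul tw (elCodes.getD (liftEl la) one)) (mul ca (tCodes.getD w1 0)) &&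
      Nat.beq (mul tw (elCodes.getD (liftEl lb) one)) (mul cb (tCodes.getD w2 0)) &&
      (liftCols lb1).map (appB (liftCols la)) ==
        ((liftCols la2).map (appB (liftCols lb))).map (appB (scCols (commScal.getD w 0)))

theorem points_ok0 : allFrom 0 25 pointOK = true := by decide +kernel

theorem points_ok1 : allFrom 25 25 pointOK = true := by decide +kernel

theorem points_ok2 : allFrom 50 25 pointOK = true := by decide +kernel

theorem points_ok3 : allFrom 75 25 pointOK = true := by decide +kernel

theorem points_ok4 : allFrom 100 25 pointOK = true := by decide +kernel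

theorem points_ok5 : allFrom 125 25 pointOK = true := by decide +kernel

theorem points_ok6 : allFrom 150 25 pointOK = true := by decide +kernel

theorem points_ok7 : allFrom 175 25 pointOK = true := by decide +kernel

theorem points_ok8 : allFrom 200 25 pointOK = true := by decide +kernel

theorem points_ok9 : allFrom 225 25 pointOK = true := by decide +kernel

theorem points_ok10 : allFrom 250 25 pointOK = true := by decide +kernel

theorem points_ok_all {i : ℕ} (hi : i < 275) : pointOK i = true := by
  by_cases h0 : i < 25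
  · exact allFrom_eq_true.1 points_ok0 i (by omega) (by omega)
  by_cases h1 : i < 50
  · exact allFrom_eq_true.1 points_ok1 i (by omega) (by omega)
  by_cases h2 : i < 75
  · exact allFrom_eq_true.1 points_ok2 i (by omega) (by omega)
  by_cases h3 : i < 100
  · exact allFrom_eq_true.1 points_ok3 i (by omega) (by omega)
  by_cases h4 : i < 125
  · exact allFrom_eq_true.1 points_ok4 i (by omega) (by omega)
  by_cases h5 : i < 150
  · exact allFrom_eq_true.1 points_ok5 i (by omega) (by omega)
  by_cases h6 : i < 175
  · exact allFrom_eq_true.1 points_ok6 i (by omega) (by omega)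
  by_cases h7 : i < 200
  · exact allFrom_eq_true.1 points_ok7 i (by omega) (by omega)
  by_cases h8 : i < 225
  · exact allFrom_eq_true.1 points_ok8 i (by omega) (by omega)
  by_cases h9 : i < 250
  · exact allFrom_eq_true.1 points_ok9 i (by omega) (by omega)
  exact allFrom_eq_true.1 points_ok10 i (by omega) (by omega)

theorem ab_ok : Nat.beq (mul (elCodes.getD aIdx one) (elCodes.getD bIdx one))
    (mul (elCodes.getD bIdx one) (elCodes.getD aIdx one)) = true := by decide +kernel

theorem scal_sum : (∑ w : Fin 275, commScal.getD w.val 0) % 3 = 2 := by decide +kernel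

theorem pointOK_spec (w : ℕ) (hw : w < 275) :
    preA.getD w 0 < 275 ∧ preB.getD w 0 < 275 ∧ liftA.getD w 0 < 27 ∧ liftB.getD w 0 < 27 ∧
    tCodes.getD w 0 = mul (elCodes.getD (tSrc.getD w (0, 0)).1 one) (elCodes.getD (tSrc.getD w (0, 0)).2 one) ∧
    img (tCodes.getD w 0) rootIdx = w ∧
    img (elCodes.getD aIdx one) (preA.getD w 0) = w ∧
    img (elCodes.getD bIdx one) (preB.getD w 0) = w ∧
    mul (tCodes.getD w 0) (elCodes.getD (liftEl (liftA.getD w 0)) one) =
      mul (elCodes.getD aIdx one) (tCodes.getD (preA.getD w 0) 0) ∧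
    mul (tCodes.getD w 0) (elCodes.getD (liftEl (liftB.getD w 0)) one) =
      mul (elCodes.getD bIdx one) (tCodes.getD (preB.getD w 0) 0) ∧
    (liftCols (liftB.getD (preA.getD w 0) 0)).map (appB (liftCols (liftA.getD w 0))) =
      ((liftCols (liftA.getD (preB.getD w 0) 0)).map (appB (liftCols (liftB.getD w 0)))).map
        (appB (scCols (commScal.getD w 0))) := by
  have h := points_ok_all hw
  simp only [pointOK, forceN_eq, Bool.and_eq_true, Nat.blt_eq, Nat.beq_eq, beq_iff_eq] at h
  obtain ⟨⟨⟨⟨⟨⟨⟨⟨⟨⟨⟨⟨h1, h2⟩, h3⟩, h4⟩, -⟩, -⟩, h5⟩, h6⟩, h7⟩, h8⟩, h9⟩, h10⟩, h11⟩ := h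
  exact ⟨h1, h2, h3, h4, h5, h6, h7, h8, h9, h10, h11⟩

end CfsgLib.Schur.MultiplierMcL
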