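import Cfsg.Agent.Lib.Schur.McLCompat

/-!
Checks for the triple cover of the McLaughlin group: the lifts of elements fixing the point.
-/

set_option autoImplicit false
set_option maxRecDepth 100000
set_option Elab.async false

namespace CfsgLib.Schur.MultiplierMcL

open CfsgLib.Sporadic CfsgLib.Golay CfsgLib.Golay.LeechOrbit

/-- The element of a lift. -/
def liftEl (i : ℕ) : ℕ := (lifts.getD i (0, [], [], [])).1

/-- The columns of a lift. -/
def liftCols (i : ℕ) : List ℕ := (lifts.getD i (0, [], [], [])).2.1

/-- The columns of the inverse. -/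
def liftInv (i : ℕ) : List ℕ := (lifts.getD i (0, [], [], [])).2.2.1

/-- The witnesses of a lift. -/
def liftWit (i : ℕ) : List ℕ := (lifts.getD i (0, [], [], [])).2.2.2

/-- The test for a lift. -/
noncomputable def liftOK (i : ℕ) : Bool :=
  forceN (elCodes.getD (liftEl i) one) fun c =>
    Nat.beq (img c rootIdx) rootIdx && (liftCols i).all (fun x => Nat.blt x 4096) &&
      (liftInv i).all (fun x => Nat.blt x 4096) &&
      (liftInv i).map (appB (liftCols i)) == unitCols && (liftCols i).map (appB (liftInv i)) == unitCols &&
      omCols.map (appB (liftCols i)) == (liftCols i).map (appB omCols) &&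
      (List.range 126).all fun p => forceN ((liftWit i).getD p 1000) fun w =>
        Nat.blt (w / 3) 126 && Nat.beq (appB (liftCols i) (pt126 p)) (sc (w % 3) (pt126 (w / 3))) &&
          forceN (mask (w / 3)) fun m => (sets126.getD p []).all fun j => m.testBit (img c j)

theorem lifts_ok0 : allFrom 0 3 liftOK = true := by decide +kernel

theorem lifts_ok1 : allFrom 3 3 liftOK = true := by decide +kernel

theorem lifts_ok2 : allFrom 6 3 liftOK = true := by decide +kernel

theorem lifts_ok3 : allFrom 9 3 liftOK = true := by decide +kernel

theorem lifts_ok4 : allFrom 12 3 liftOK = true := by decide +kernel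

theorem lifts_ok5 : allFrom 15 3 liftOK = true := by decide +kernel

theorem lifts_ok6 : allFrom 18 3 liftOK = true := by decide +kernel

theorem lifts_ok7 : allFrom 21 3 liftOK = true := by decide +kernel

theorem lifts_ok8 : allFrom 24 3 liftOK = true := by decide +kernel

theorem lifts_ok_all {i : ℕ} (hi : i < 27) : liftOK i = true := by
  by_cases h0 : i < 3
  · exact allFrom_eq_true.1 lifts_ok0 i (by omega) (by omega)
  by_cases h1 : i < 6
  · exact allFrom_eq_true.1 lifts_ok1 i (by omega) (by omega)
  by_cases h2 : i < 9
  · exact allFrom_eq_true.1 lifts_ok2 i (by omega) (by omega)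
  by_cases h3 : i < 12
  · exact allFrom_eq_true.1 lifts_ok3 i (by omega) (by omega)
  by_cases h4 : i < 15
  · exact allFrom_eq_true.1 lifts_ok4 i (by omega) (by omega)
  by_cases h5 : i < 18
  · exact allFrom_eq_true.1 lifts_ok5 i (by omega) (by omega)
  by_cases h6 : i < 21
  · exact allFrom_eq_true.1 lifts_ok6 i (by omega) (by omega)
  by_cases h7 : i < 24
  · exact allFrom_eq_true.1 lifts_ok7 i (by omega) (by omega)
  exact allFrom_eq_true.1 lifts_ok8 i (by omega) (by omega)

theorem lifts_ok : ((List.range 27).all liftOK) = true :=
  List.all_eq_true.2 fun _ hi => lifts_ok_all (List.mem_range.1 hi)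

/-- The test that a mask lists only points of its set. -/
noncomputable def setOK (p : ℕ) : Bool :=
  forceN (mask p) fun m => allFrom 0 275 fun i => !(m.testBit i) || (sets126.getD p []).contains i

theorem sets_ok0 : allFrom 0 21 setOK = true := by decide +kernel

theorem sets_ok1 : allFrom 21 21 setOK = true := by decide +kernel

theorem sets_ok2 : allFrom 42 21 setOK = true := by decide +kernel

theorem sets_ok3 : allFrom 63 21 setOK = true := by decide +kernel

theorem sets_ok4 : allFrom 84 21 setOK = true := by decide +kernel

theorem sets_ok5 : allFrom 105 21 setOK = true := by decide +kernel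

theorem sets_ok_all {i : ℕ} (hi : i < 126) : setOK i = true := by
  by_cases h0 : i < 21
  · exact allFrom_eq_true.1 sets_ok0 i (by omega) (by omega)
  by_cases h1 : i < 42
  · exact allFrom_eq_true.1 sets_ok1 i (by omega) (by omega)
  by_cases h2 : i < 63
  · exact allFrom_eq_true.1 sets_ok2 i (by omega) (by omega)
  by_cases h3 : i < 84
  · exact allFrom_eq_true.1 sets_ok3 i (by omega) (by omega)
  by_cases h4 : i < 105
  · exact allFrom_eq_true.1 sets_ok4 i (by omega) (by omega)
  exact allFrom_eq_true.1 sets_ok5 i (by omega) (by omega)

theorem sets_ok : ((List.range 126).all fun p => forceN (mask p) fun m =>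
    allFrom 0 275 fun i => !(m.testBit i) || (sets126.getD p []).contains i) = true :=
  List.all_eq_true.2 fun _ hi => sets_ok_all (List.mem_range.1 hi)

end CfsgLib.Schur.MultiplierMcL
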