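/-
Monomial lifts of permutations of the 24 points: a lift lies over a permutation when it moves
labelled objects as that permutation does, commutes with the change of phase and keeps a connected
set of edges with phases.  A lift over the identity is then a change of phase by a constant.
-/
import Cfsg.Agent.Lib.Golay.Masks
import Mathlib.Algebra.Group.Action.Pointwise.Finset
import Mathlib.Data.Fin.Basic

set_option autoImplicit false

namespace CfsgLib.Schur.MonoCover

open CfsgLib.Golay Cfsg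
open scoped Pointwise

/-- The field of width `w` at position `k`. -/
def fld (N w k : ℕ) : ℕ := (N >>> (w * k)) % 2 ^ w

/-- Lookup in a list of blocks of 16. -/
def look {α : Type} (L : List (List α)) (i : ℕ) (d : α) : α := (L.getD (i / 16) []).getD (i % 16) d

/-- The objects and the edges. -/
structure Data where
  /-- the out-degree -/
  deg : ℕ
  /-- the objects, as pairs of masks -/
  objs : List (List (ℕ × ℕ))
  /-- the edges leaving a point -/
  rows : List (List ℕ)

/-- The object of a point. -/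
def Data.obj (D : Data) (p : ℕ) : ℕ × ℕ := look D.objs p (0, 0)

/-- An edge as coded. -/
def Data.code (D : Data) (p k : ℕ) : ℕ := fld (look D.rows p 0) 13 k

/-- An edge with phase. -/
def Edge (D : Data) {n m : ℕ} (p q : Fin n) (e : Fin m) : Prop :=
  ∃ k < D.deg, D.code p k = q * m + e

set_option linter.unusedSectionVars false

variable {n m : ℕ} [NeZero n] [NeZero m]

/-- The monomial map given by packed data. -/
def stepFun (N : ℕ) (u : Fin n × Fin m) : Fin n × Fin m :=
  (Fin.ofNat n (fld N 13 u.1 / m), Fin.ofNat m (fld N 13 u.1 % m) + u.2)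

/-- The lift `h` lies over `x`. -/
structure Over (D : Data) (x : Equiv.Perm GolayPt) (h : Equiv.Perm (Fin n × Fin m)) : Prop where
  obj : ∀ p : Fin n, x • decS (D.obj p).1 = decS (D.obj (h (p, 0)).1).1 ∧
    x • decS (D.obj p).2 = decS (D.obj (h (p, 0)).1).2
  shift : ∀ (p : Fin n) (c : Fin m), h (p, c) = ((h (p, 0)).1, (h (p, 0)).2 + c)
  edge : ∀ (p q : Fin n) (e : Fin m), Edge D p q e →
    Edge D (h (p, 0)).1 (h (q, e)).1 ((h (q, e)).2 - (h (p, 0)).2)

theorem over_one {D : Data} : Over D (1 : Equiv.Perm GolayPt) (1 : Equiv.Perm (Fin n × Fin m)) :=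
  ⟨fun p => ⟨one_smul _ _, one_smul _ _⟩, fun p c => by simp, fun p q e he => by simpa using he⟩

theorem Over.mul {D : Data} {x x' : Equiv.Perm GolayPt} {h h' : Equiv.Perm (Fin n × Fin m)}
    (a : Over D x h) (b : Over D x' h') : Over D (x * x') (h * h') := by
  have hfst : ∀ p c, (h (p, c)).1 = (h (p, 0)).1 := fun p c => by rw [a.shift p c]
  refine ⟨fun p => ?_, fun p c => ?_, fun p q e he => ?_⟩
  · obtain ⟨b1, b2⟩ := b.obj p
    obtain ⟨a1, a2⟩ := a.obj (h' (p, 0)).1
    rw [mul_smul, mul_smul, b1, b2, a1, a2, Equiv.Perm.mul_apply,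
      ← hfst (h' (p, 0)).1 (h' (p, 0)).2]
    exact ⟨rfl, rfl⟩
  · simp only [Equiv.Perm.mul_apply]
    rcases hp : h' (p, 0) with ⟨p', d⟩
    rw [b.shift p c, hp, a.shift p' (d + c), a.shift p' d, add_assoc]
  · have hb := b.edge p q e he
    rcases hp : h' (p, 0) with ⟨p', d⟩
    rcases hq : h' (q, e) with ⟨q', d'⟩
    rw [hp, hq] at hb
    have ha := a.edge p' q' _ hb
    simp only [Equiv.Perm.mul_apply, hp, hq]
    rw [a.shift q' d', a.shift p' d]
    rw [a.shift q' (d' - d)] at ha
    have he' : (h (q', 0)).2 + d' - ((h (p', 0)).2 + d) =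
        (h (q', 0)).2 + (d' - d) - (h (p', 0)).2 := by abel
    simpa [he'] using ha

/-- Check of the objects: bounded and strictly increasing. -/
def objOK (D : Data) (n : ℕ) : Bool :=
  (List.range n).all fun p => Nat.blt (D.obj p).1 (2 ^ 24) && Nat.blt (D.obj p).2 (2 ^ 24) &&
    (Nat.beq (p + 1) n ||
      Nat.blt ((D.obj p).1 * 2 ^ 24 + (D.obj p).2) ((D.obj (p + 1)).1 * 2 ^ 24 + (D.obj (p + 1)).2))

/-- Check that the tree reaches every point through edges with a unique phase. -/
def treeOK (D : Data) (n m : ℕ) : List (ℕ × ℕ) → ℕ → Bool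
  | [], vis => Nat.beq vis (2 ^ n - 1)
  | (p, k) :: l, vis =>
    Nat.blt k D.deg && Nat.blt p n && Nat.blt (D.code p k / m) n &&
    (vis.testBit p || vis.testBit (D.code p k / m)) &&
    ((List.range D.deg).all fun j => Nat.beq j k || !Nat.beq (D.code p j / m) (D.code p k / m)) &&
    treeOK D n m l (vis ||| 2 ^ p ||| 2 ^ (D.code p k / m))

/-- Check of a lift. -/
def liftOK (D : Data) (n m : ℕ) (a : List ℕ) (N I : ℕ) (H : List (List ℕ)) : Bool :=
  (List.range n).all fun p =>
    Nat.blt (fld N 13 p / m) n && Nat.beq (fld I 13 (fld N 13 p / m) / m) p &&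
    Nat.beq ((fld I 13 (fld N 13 p / m) % m + fld N 13 p % m) % m) 0 &&
    Nat.blt (fld I 13 p / m) n && Nat.beq (fld N 13 (fld I 13 p / m) / m) p &&
    Nat.beq ((fld N 13 (fld I 13 p / m) % m + fld I 13 p % m) % m) 0 &&
    Nat.beq (pmap a (D.obj p).1) (D.obj (fld N 13 p / m)).1 &&
    Nat.beq (pmap a (D.obj p).2) (D.obj (fld N 13 p / m)).2 &&
    (List.range D.deg).all fun k =>
      Nat.blt (fld (look H p 0) 6 k) D.deg &&
      Nat.beq (D.code (fld N 13 p / m) (fld (look H p 0) 6 k))
        (fld N 13 (D.code p k / m) / m * m +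
          (m - fld N 13 p % m + (fld N 13 (D.code p k / m) % m + D.code p k % m)) % m)

theorem pos_n : 0 < n := Nat.pos_of_ne_zero (NeZero.ne n)

theorem pos_m : 0 < m := Nat.pos_of_ne_zero (NeZero.ne m)

theorem obj_lt {D : Data} (ho : objOK D n = true) (p : Fin n) :
    (D.obj p).1 < 2 ^ 24 ∧ (D.obj p).2 < 2 ^ 24 := by
  have h := List.all_eq_true.mp ho p.val (List.mem_range.mpr p.isLt)
  simp only [Bool.and_eq_true, Nat.blt_eq] at h
  exact h.1

theorem obj_injective {D : Data} (ho : objOK D n = true) :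
    Function.Injective fun p : Fin n => D.obj p := by
  let f : ℕ → ℕ := fun p => (D.obj p).1 * 2 ^ 24 + (D.obj p).2
  have hmono : ∀ i j, i < j → j < n → f i < f j := by
    intro i j hij hj
    induction j with
    | zero => omega
    | succ j ih =>
      have h := List.all_eq_true.mp ho j (List.mem_range.mpr (by omega))
      simp only [Bool.and_eq_true, Bool.or_eq_true, Nat.blt_eq, Nat.beq_eq] at h
      have hj' : f j < f (j + 1) := h.2.resolve_left (by omega)
      rcases Nat.lt_or_ge i j with hlt | hge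
      · exact (ih hlt (by omega)).trans hj'
      · have : i = j := by omega
        subst this
        exact hj'
  intro p q hpq
  have : f p = f q := congrArg (fun o : ℕ × ℕ => o.1 * 2 ^ 24 + o.2) hpq
  rcases Nat.lt_trichotomy p.val q.val with h | h | h
  · exact absurd this (hmono _ _ h q.isLt).ne
  · exact Fin.ext h
  · exact absurd this.symm (hmono _ _ h p.isLt).ne

theorem const_of_treeOK {D : Data} {v : Fin n → Fin m}
    (hv : ∀ p q : Fin n, ∀ k < D.deg, D.code p k / m = q →
      (∀ j < D.deg, j ≠ k → D.code p j / m ≠ q) → v p = v q) :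
    ∀ (l : List (ℕ × ℕ)) (vis : ℕ), treeOK D n m l vis = true →
      (∀ i : Fin n, vis.testBit i = true → v i = v 0) → ∀ i, v i = v 0
  | [], vis, h, hinv, i => hinv i (by
      have h' : vis = 2 ^ n - 1 := Nat.eq_of_beq_eq_true h
      rw [h', Nat.testBit_two_pow_sub_one]
      simp)
  | (p, k) :: l, vis, h, hinv, i => by
    simp only [treeOK, Bool.and_eq_true, Bool.or_eq_true, Nat.blt_eq, List.all_eq_true,
      List.mem_range, Bool.not_eq_true', Nat.beq_eq] at h
    obtain ⟨⟨⟨⟨⟨hk, hp⟩, hq⟩, hvis⟩, huniq⟩, hrest⟩ := h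
    have hpq : v ⟨p, hp⟩ = v ⟨_, hq⟩ := hv ⟨p, hp⟩ ⟨_, hq⟩ k hk rfl fun j hj hjk he => by
      rcases huniq j hj with e | e
      · exact hjk e
      · exact Bool.eq_false_iff.mp e (by simp [he])
    refine const_of_treeOK hv l _ hrest (fun j hj => ?_) i
    simp only [Nat.testBit_or, Bool.or_eq_true, Nat.testBit_two_pow, decide_eq_true_eq] at hj
    rcases hj with (hj | hj) | hj
    · exact hinv j hj
    · rw [show j = ⟨p, hp⟩ from Fin.ext hj.symm]
      rcases hvis with h' | h'
      · exact hinv _ h'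
      · rw [hpq]; exact hinv _ h'
    · rw [show j = ⟨_, hq⟩ from Fin.ext hj.symm]
      rcases hvis with h' | h'
      · rw [← hpq]; exact hinv _ h'
      · exact hinv _ h'

theorem Over.scalar {D : Data} {h : Equiv.Perm (Fin n × Fin m)} (ho : objOK D n = true)
    {tree : List (ℕ × ℕ)} (ht : treeOK D n m tree 1 = true)
    (a : Over D (1 : Equiv.Perm GolayPt) h) :
    ∀ p c, h (p, c) = (p, (h (0, 0)).2 + c) := by
  have hfix : ∀ p, (h (p, 0)).1 = p := fun p => by
    obtain ⟨h1, h2⟩ := a.obj p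
    rw [one_smul] at h1 h2
    refine (obj_injective ho (Prod.ext ?_ ?_)).symm
    · have := congrArg encS h1
      rwa [encS_decS (obj_lt ho p).1, encS_decS (obj_lt ho _).1] at this
    · have := congrArg encS h2
      rwa [encS_decS (obj_lt ho p).2, encS_decS (obj_lt ho _).2] at this
  have hv : ∀ p q : Fin n, ∀ k < D.deg, D.code p k / m = q →
      (∀ j < D.deg, j ≠ k → D.code p j / m ≠ q) → (h (p, 0)).2 = (h (q, 0)).2 := by
    intro p q k hk hq huniq
    have he : Edge D p q (⟨D.code p k % m, Nat.mod_lt _ pos_m⟩ : Fin m) :=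
      ⟨k, hk, by rw [← hq]; exact (Nat.div_add_mod' _ m).symm⟩
    set e : Fin m := ⟨D.code p k % m, Nat.mod_lt _ pos_m⟩ with hedef
    obtain ⟨j, hj, hcode⟩ := a.edge p q _ he
    rw [a.shift q e, hfix p, hfix q] at hcode
    have hjk : j = k := by
      by_contra hne
      refine huniq j hj hne ?_
      rw [hcode, Nat.add_comm, Nat.add_mul_div_right _ _ pos_m, Nat.div_eq_of_lt (Fin.is_lt _),
        Nat.zero_add]
    subst hjk
    have he2 : (h (q, 0)).2 + e - (h (p, 0)).2 = e := by
      apply Fin.ext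
      have h2 := congrArg (· % m) hcode
      simp only [Nat.mul_add_mod_self_right, Nat.mod_eq_of_lt (Fin.is_lt _)] at h2
      simp only [hedef] at h2 ⊢
      exact h2.symm
    calc (h (p, 0)).2 = (h (q, 0)).2 + e - ((h (q, 0)).2 + e - (h (p, 0)).2) := by abel
      _ = (h (q, 0)).2 + e - e := by rw [he2]
      _ = (h (q, 0)).2 := by abel
  intro p c
  rw [a.shift p c, hfix p, const_of_treeOK hv tree 1 ht (fun i hi => by
    rw [show i = 0 from Fin.ext (by simpa [Nat.testBit_one_eq_true_iff_self_eq_zero] using hi)]) p]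

theorem Over.commute {D : Data} {x : Equiv.Perm GolayPt} {h z : Equiv.Perm (Fin n × Fin m)}
    (a : Over D x h) {v : Fin m} (hz : ∀ p c, z (p, c) = (p, v + c)) : z * h = h * z := by
  refine Equiv.ext fun ⟨p, c⟩ => ?_
  simp only [Equiv.Perm.mul_apply, hz]
  rw [a.shift p (v + c), a.shift p c]
  exact Prod.ext rfl (by simp only; abel)

theorem stepFun_stepFun {N I : ℕ}
    (h : ∀ p, p < n → fld N 13 p / m < n ∧ fld I 13 (fld N 13 p / m) / m = p ∧
      (fld I 13 (fld N 13 p / m) % m + fld N 13 p % m) % m = 0) (u : Fin n × Fin m) :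
    stepFun I (stepFun N u) = u := by
  obtain ⟨p, c⟩ := u
  obtain ⟨h1, h2, h3⟩ := h p p.isLt
  refine Prod.ext (Fin.ext ?_) ?_
  · simp only [stepFun, Fin.val_ofNat, Nat.mod_eq_of_lt h1, h2, Nat.mod_eq_of_lt p.isLt]
  · simp only [stepFun, Fin.val_ofNat, Nat.mod_eq_of_lt h1]
    rw [← add_assoc]
    have : Fin.ofNat m (fld I 13 (fld N 13 p / m) % m) + Fin.ofNat m (fld N 13 p % m) = 0 := by
      apply Fin.ext
      simp only [Fin.val_add, Fin.val_ofNat, Fin.val_zero, Nat.mod_mod]
      exact h3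
    rw [this, zero_add]

/-- A checked lift is a permutation over the given one. -/
theorem exists_over {D : Data} {x : Equiv.Perm GolayPt} {N I : ℕ} {H : List (List ℕ)}
    (ho : objOK D n = true) (hl : liftOK D n m (toList x) N I H = true) :
    ∃ h : Equiv.Perm (Fin n × Fin m), Over D x h ∧ ∀ u, h u = stepFun N u := by
  simp only [liftOK, Bool.and_eq_true, List.all_eq_true, List.mem_range, Nat.blt_eq,
    Nat.beq_eq] at hl
  let h : Equiv.Perm (Fin n × Fin m) := ⟨stepFun N, stepFun I,
    stepFun_stepFun fun p hp => ⟨(hl p hp).1.1.1.1.1.1.1.1, (hl p hp).1.1.1.1.1.1.1.2,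
      (hl p hp).1.1.1.1.1.1.2⟩,
    stepFun_stepFun fun p hp => ⟨(hl p hp).1.1.1.1.1.2, (hl p hp).1.1.1.1.2,
      (hl p hp).1.1.1.2⟩⟩
  have happ : ∀ u, h u = stepFun N u := fun u => rfl
  have hfst : ∀ (p : Fin n) c, ((h (p, c)).1 : ℕ) = fld N 13 p / m := fun p c => by
    simp only [happ, stepFun, Fin.val_ofNat, Nat.mod_eq_of_lt (hl p p.isLt).1.1.1.1.1.1.1.1]
  refine ⟨h, ⟨fun p => ?_, fun p c => ?_, fun p q e he => ?_⟩, happ⟩
  · obtain ⟨⟨⟨-, e1⟩, e2⟩, -⟩ := hl p p.isLt
    rw [hfst, ← decS_encS (x • decS (D.obj p).1), ← decS_encS (x • decS (D.obj p).2), encS_smul,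
      encS_smul, encS_decS (obj_lt ho p).1, encS_decS (obj_lt ho p).2, e1, e2]
    exact ⟨rfl, rfl⟩
  · simp [happ, stepFun]
  · obtain ⟨k, hk, hcode⟩ := he
    obtain ⟨hs, heq⟩ := (hl p p.isLt).2 k hk
    have hq : D.code p k / m = q := by
      rw [hcode, Nat.add_comm, Nat.add_mul_div_right _ _ pos_m, Nat.div_eq_of_lt (Fin.is_lt _),
        Nat.zero_add]
    have hem : D.code p k % m = e := by
      rw [hcode, Nat.mul_add_mod_self_right, Nat.mod_eq_of_lt (Fin.is_lt _)]
    refine ⟨_, hs, ?_⟩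
    rw [hfst, hfst, heq, hq, hem]
    congr 1
    simp only [happ, stepFun, Fin.val_sub, Fin.val_add, Fin.val_ofNat, Nat.mod_mod, add_zero]
    rw [Nat.add_mod_mod]

end CfsgLib.Schur.MonoCover
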