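import Cfsg.Agent.Lib.Schur.MultiplierCo1DataTwo
import Cfsg.Agent.Lib.Schur.MultiplierCo1DataThree
import Cfsg.Agent.Lib.Schur.MultiplierCo1DataFive
import Cfsg.Agent.Lib.Schur.MultiplierCo1DataSeven
import Cfsg.Agent.Lib.Schur.MultiplierCo1DataEleven
import Cfsg.Agent.Lib.Schur.MultiplierCo1DataThirteen
import Cfsg.Agent.Lib.Schur.MultiplierCo1DataTwentyThree

/-! Generated certificates for the multiplier of Co1, prime by prime. -/
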