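/-
The Schur multiplier of Co1 has order 2.
-/
import Cfsg.Agent.Lib.Schur.MultiplierCo1Data

set_option autoImplicit false

namespace CfsgLib.Schur.MultiplierCo1

open Cfsg CfsgLib.Schur CfsgLib.Schur.PcConway

theorem card_factor : (4157776806543360000 : ℕ) = 2 ^ 21 * 3 ^ 9 * 5 ^ 4 * 7 ^ 2 * 11 * 13 * 23 := by
  norm_num

theorem span_two : Pc.SpanAt 2 Cfsg.Spor.Co1 [2] := by
  have : Fact (Nat.Prime 2) := ⟨by norm_num⟩
  exact spanAt_quot (p := 2) two_members two_lt two_gens.1 two_gens.2 two_ok rfl (d := 1982582476875) (by norm_num)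
    (by rw [natCard_Co1]; norm_num [twoRules]) rfl rfl

theorem span_three : Pc.SpanAt 3 Cfsg.Spor.Co1 [] := by
  have : Fact (Nat.Prime 3) := ⟨by norm_num⟩
  exact spanAt_quot (p := 3) three_members three_lt three_gens.1 three_gens.2 three_ok rfl (d := 211236945920000) (by norm_num)
    (by rw [natCard_Co1]; norm_num [threeRules]) rfl rfl

theorem span_five : Pc.SpanAt 5 Cfsg.Spor.Co1 [] := by
  have : Fact (Nat.Prime 5) := ⟨by norm_num⟩
  exact spanAt_quot (p := 5) five_members five_lt five_gens.1 five_gens.2 five_ok rfl (d := 6652442890469376) (by norm_num)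
    (by rw [natCard_Co1]; norm_num [fiveRules]) rfl rfl

theorem span_seven : Pc.SpanAt 7 Cfsg.Spor.Co1 [] := by
  have : Fact (Nat.Prime 7) := ⟨by norm_num⟩
  exact spanAt_quot (p := 7) seven_members seven_lt seven_gens.1 seven_gens.2 seven_ok rfl (d := 84852587888640000) (by norm_num)
    (by rw [natCard_Co1]; norm_num [sevenRules]) rfl rfl

theorem span_eleven : Pc.SpanAt 11 Cfsg.Spor.Co1 [] := by
  have : Fact (Nat.Prime 11) := ⟨by norm_num⟩
  exact spanAt_quot (p := 11) eleven_members eleven_lt eleven_gens.1 eleven_gens.2 eleven_ok rfl (d := 377979709685760000) (by norm_num)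
    (by rw [natCard_Co1]; norm_num [elevenRules]) rfl rfl

theorem span_thirteen : Pc.SpanAt 13 Cfsg.Spor.Co1 [] := by
  have : Fact (Nat.Prime 13) := ⟨by norm_num⟩
  exact spanAt_quot (p := 13) thirteen_members thirteen_lt thirteen_gens.1 thirteen_gens.2 thirteen_ok rfl (d := 319828985118720000) (by norm_num)
    (by rw [natCard_Co1]; norm_num [thirteenRules]) rfl rfl

theorem span_twentyThree : Pc.SpanAt 23 Cfsg.Spor.Co1 [] := by
  have : Fact (Nat.Prime 23) := ⟨by norm_num⟩
  exact spanAt_quot (p := 23) twentyThree_members twentyThree_lt twentyThree_gens.1 twentyThree_gens.2 twentyThree_ok rfl (d := 180772904632320000) (by norm_num)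
    (by rw [natCard_Co1]; norm_num [twentyThreeRules]) rfl rfl

theorem span_rest (p : ℕ) (hp : p.Prime) (h2 : p ≠ 2) : Pc.SpanAt p Cfsg.Spor.Co1 [] := by
  have := finite_Co1
  have : Fact p.Prime := ⟨hp⟩
  by_cases hd : p ∣ Nat.card Cfsg.Spor.Co1
  · rw [natCard_Co1, card_factor] at hd
    rcases hp.dvd_mul.mp hd with hd | hd
    rcases hp.dvd_mul.mp hd with hd | hd
    rcases hp.dvd_mul.mp hd with hd | hd
    rcases hp.dvd_mul.mp hd with hd | hd
    rcases hp.dvd_mul.mp hd with hd | hd
    rcases hp.dvd_mul.mp hd with hd | hd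
    · exact absurd ((Nat.prime_dvd_prime_iff_eq hp Nat.prime_two).mp (hp.dvd_of_dvd_pow hd)) h2
    · obtain rfl := (Nat.prime_dvd_prime_iff_eq hp (by norm_num)).mp (hp.dvd_of_dvd_pow hd)
      exact span_three
    · obtain rfl := (Nat.prime_dvd_prime_iff_eq hp (by norm_num)).mp (hp.dvd_of_dvd_pow hd)
      exact span_five
    · obtain rfl := (Nat.prime_dvd_prime_iff_eq hp (by norm_num)).mp (hp.dvd_of_dvd_pow hd)
      exact span_seven
    · obtain rfl := (Nat.prime_dvd_prime_iff_eq hp (by norm_num)).mp hd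
      exact span_eleven
    · obtain rfl := (Nat.prime_dvd_prime_iff_eq hp (by norm_num)).mp hd
      exact span_thirteen
    · obtain rfl := (Nat.prime_dvd_prime_iff_eq hp (by norm_num)).mp hd
      exact span_twentyThree
  · exact Pc.spanAt_of_noMultiplierAt hp (noMultiplierAt_of_not_dvd hd)

theorem multiplier : Cfsg.HasCyclicSchurMultiplier Cfsg.Spor.Co1 2 := by
  have := finite_Co1
  exact Pc.hasCyclicSchurMultiplier_of_spans (a := 2) (b := 1) (pa := 2) (pb := 3) rfl
    (by norm_num) span_two (Pc.spanAt_one_of_spanAt_nil span_three)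
    (fun p hp h2 _ => span_rest p hp h2) exists_cover

end CfsgLib.Schur.MultiplierCo1
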