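import Cfsg.Agent.Lib.Schur.MultiplierCo1DataTwoDefs

/-! Generated polycyclic certificate for the multiplier of Co1 at 2. -/

set_option autoImplicit false
set_option maxRecDepth 100000
set_option Elab.async false

namespace CfsgLib.Schur.MultiplierCo1

open CfsgLib.Schur CfsgLib.Schur.MatFThree
theorem two_val0 : Pc.rangeOK (Pc.Cert.valsStep twoCert 9 twoVals) 0 3 = true := by
  decide +kernel

theorem two_val1 : Pc.rangeOK (Pc.Cert.valsStep twoCert 9 twoVals) 3 3 = true := by
  decide +kernel

theorem two_val2 : Pc.rangeOK (Pc.Cert.valsStep twoCert 9 twoVals) 6 3 = true := by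
  decide +kernel

theorem two_val3 : Pc.rangeOK (Pc.Cert.valsStep twoCert 9 twoVals) 9 3 = true := by
  decide +kernel

theorem two_val4 : Pc.rangeOK (Pc.Cert.valsStep twoCert 9 twoVals) 12 3 = true := by
  decide +kernel

theorem two_val5 : Pc.rangeOK (Pc.Cert.valsStep twoCert 9 twoVals) 15 3 = true := by
  decide +kernel

theorem two_val6 : Pc.rangeOK (Pc.Cert.valsStep twoCert 9 twoVals) 18 3 = true := by
  decide +kernel

theorem two_val7 : Pc.rangeOK (Pc.Cert.valsStep twoCert 9 twoVals) 21 3 = true := by
  decide +kernel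

theorem two_val8 : Pc.rangeOK (Pc.Cert.valsStep twoCert 9 twoVals) 24 3 = true := by
  decide +kernel

theorem two_val9 : Pc.rangeOK (Pc.Cert.valsStep twoCert 9 twoVals) 27 3 = true := by
  decide +kernel

theorem two_val10 : Pc.rangeOK (Pc.Cert.valsStep twoCert 9 twoVals) 30 3 = true := by
  decide +kernel

theorem two_val11 : Pc.rangeOK (Pc.Cert.valsStep twoCert 9 twoVals) 33 3 = true := by
  decide +kernel

theorem two_val12 : Pc.rangeOK (Pc.Cert.valsStep twoCert 9 twoVals) 36 3 = true := by
  decide +kernel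

theorem two_val13 : Pc.rangeOK (Pc.Cert.valsStep twoCert 9 twoVals) 39 3 = true := by
  decide +kernel

theorem two_val14 : Pc.rangeOK (Pc.Cert.valsStep twoCert 9 twoVals) 42 3 = true := by
  decide +kernel

theorem two_val15 : Pc.rangeOK (Pc.Cert.valsStep twoCert 9 twoVals) 45 3 = true := by
  decide +kernel

theorem two_val16 : Pc.rangeOK (Pc.Cert.valsStep twoCert 9 twoVals) 48 3 = true := by
  decide +kernel

theorem two_val17 : Pc.rangeOK (Pc.Cert.valsStep twoCert 9 twoVals) 51 3 = true := by
  decide +kernel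

theorem two_val18 : Pc.rangeOK (Pc.Cert.valsStep twoCert 9 twoVals) 54 3 = true := by
  decide +kernel

theorem two_val19 : Pc.rangeOK (Pc.Cert.valsStep twoCert 9 twoVals) 57 3 = true := by
  decide +kernel

theorem two_val20 : Pc.rangeOK (Pc.Cert.valsStep twoCert 9 twoVals) 60 3 = true := by
  decide +kernel

theorem two_val21 : Pc.rangeOK (Pc.Cert.valsStep twoCert 9 twoVals) 63 3 = true := by
  decide +kernel

theorem two_val22 : Pc.rangeOK (Pc.Cert.valsStep twoCert 9 twoVals) 66 3 = true := by
  decide +kernel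

theorem two_val23 : Pc.rangeOK (Pc.Cert.valsStep twoCert 9 twoVals) 69 3 = true := by
  decide +kernel

theorem two_val24 : Pc.rangeOK (Pc.Cert.valsStep twoCert 9 twoVals) 72 3 = true := by
  decide +kernel

theorem two_val25 : Pc.rangeOK (Pc.Cert.valsStep twoCert 9 twoVals) 75 3 = true := by
  decide +kernel

theorem two_val26 : Pc.rangeOK (Pc.Cert.valsStep twoCert 9 twoVals) 78 3 = true := by
  decide +kernel

theorem two_val27 : Pc.rangeOK (Pc.Cert.valsStep twoCert 9 twoVals) 81 3 = true := by
  decide +kernel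

theorem two_val28 : Pc.rangeOK (Pc.Cert.valsStep twoCert 9 twoVals) 84 3 = true := by
  decide +kernel

theorem two_val29 : Pc.rangeOK (Pc.Cert.valsStep twoCert 9 twoVals) 87 3 = true := by
  decide +kernel

theorem two_val30 : Pc.rangeOK (Pc.Cert.valsStep twoCert 9 twoVals) 90 3 = true := by
  decide +kernel

theorem two_val31 : Pc.rangeOK (Pc.Cert.valsStep twoCert 9 twoVals) 93 3 = true := by
  decide +kernel

theorem two_val32 : Pc.rangeOK (Pc.Cert.valsStep twoCert 9 twoVals) 96 3 = true := by
  decide +kernel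

theorem two_val33 : Pc.rangeOK (Pc.Cert.valsStep twoCert 9 twoVals) 99 3 = true := by
  decide +kernel

theorem two_val34 : Pc.rangeOK (Pc.Cert.valsStep twoCert 9 twoVals) 102 3 = true := by
  decide +kernel

theorem two_val35 : Pc.rangeOK (Pc.Cert.valsStep twoCert 9 twoVals) 105 3 = true := by
  decide +kernel

theorem two_val36 : Pc.rangeOK (Pc.Cert.valsStep twoCert 9 twoVals) 108 3 = true := by
  decide +kernel

theorem two_val37 : Pc.rangeOK (Pc.Cert.valsStep twoCert 9 twoVals) 111 3 = true := by
  decide +kernel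

theorem two_val38 : Pc.rangeOK (Pc.Cert.valsStep twoCert 9 twoVals) 114 3 = true := by
  decide +kernel

theorem two_val39 : Pc.rangeOK (Pc.Cert.valsStep twoCert 9 twoVals) 117 3 = true := by
  decide +kernel

theorem two_val40 : Pc.rangeOK (Pc.Cert.valsStep twoCert 9 twoVals) 120 3 = true := by
  decide +kernel

theorem two_val41 : Pc.rangeOK (Pc.Cert.valsStep twoCert 9 twoVals) 123 3 = true := by
  decide +kernel

theorem two_val42 : Pc.rangeOK (Pc.Cert.valsStep twoCert 9 twoVals) 126 3 = true := by
  decide +kernel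

theorem two_val43 : Pc.rangeOK (Pc.Cert.valsStep twoCert 9 twoVals) 129 3 = true := by
  decide +kernel

theorem two_val44 : Pc.rangeOK (Pc.Cert.valsStep twoCert 9 twoVals) 132 3 = true := by
  decide +kernel

theorem two_val45 : Pc.rangeOK (Pc.Cert.valsStep twoCert 9 twoVals) 135 3 = true := by
  decide +kernel

theorem two_val46 : Pc.rangeOK (Pc.Cert.valsStep twoCert 9 twoVals) 138 3 = true := by
  decide +kernel

theorem two_val47 : Pc.rangeOK (Pc.Cert.valsStep twoCert 9 twoVals) 141 3 = true := by
  decide +kernel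

theorem two_val48 : Pc.rangeOK (Pc.Cert.valsStep twoCert 9 twoVals) 144 3 = true := by
  decide +kernel

theorem two_val49 : Pc.rangeOK (Pc.Cert.valsStep twoCert 9 twoVals) 147 3 = true := by
  decide +kernel

theorem two_val50 : Pc.rangeOK (Pc.Cert.valsStep twoCert 9 twoVals) 150 3 = true := by
  decide +kernel

theorem two_val51 : Pc.rangeOK (Pc.Cert.valsStep twoCert 9 twoVals) 153 3 = true := by
  decide +kernel

theorem two_val52 : Pc.rangeOK (Pc.Cert.valsStep twoCert 9 twoVals) 156 3 = true := by
  decide +kernel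

theorem two_val53 : Pc.rangeOK (Pc.Cert.valsStep twoCert 9 twoVals) 159 3 = true := by
  decide +kernel

theorem two_val54 : Pc.rangeOK (Pc.Cert.valsStep twoCert 9 twoVals) 162 3 = true := by
  decide +kernel

theorem two_val55 : Pc.rangeOK (Pc.Cert.valsStep twoCert 9 twoVals) 165 3 = true := by
  decide +kernel

theorem two_val56 : Pc.rangeOK (Pc.Cert.valsStep twoCert 9 twoVals) 168 3 = true := by
  decide +kernel

theorem two_val57 : Pc.rangeOK (Pc.Cert.valsStep twoCert 9 twoVals) 171 3 = true := by
  decide +kernel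

theorem two_val58 : Pc.rangeOK (Pc.Cert.valsStep twoCert 9 twoVals) 174 3 = true := by
  decide +kernel

theorem two_val59 : Pc.rangeOK (Pc.Cert.valsStep twoCert 9 twoVals) 177 3 = true := by
  decide +kernel

theorem two_val60 : Pc.rangeOK (Pc.Cert.valsStep twoCert 9 twoVals) 180 3 = true := by
  decide +kernel

theorem two_val61 : Pc.rangeOK (Pc.Cert.valsStep twoCert 9 twoVals) 183 3 = true := by
  decide +kernel

theorem two_val62 : Pc.rangeOK (Pc.Cert.valsStep twoCert 9 twoVals) 186 3 = true := by
  decide +kernel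

theorem two_val63 : Pc.rangeOK (Pc.Cert.valsStep twoCert 9 twoVals) 189 3 = true := by
  decide +kernel

theorem two_val64 : Pc.rangeOK (Pc.Cert.valsStep twoCert 9 twoVals) 192 3 = true := by
  decide +kernel

theorem two_val65 : Pc.rangeOK (Pc.Cert.valsStep twoCert 9 twoVals) 195 3 = true := by
  decide +kernel

theorem two_val66 : Pc.rangeOK (Pc.Cert.valsStep twoCert 9 twoVals) 198 3 = true := by
  decide +kernel

theorem two_val67 : Pc.rangeOK (Pc.Cert.valsStep twoCert 9 twoVals) 201 3 = true := by
  decide +kernel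

theorem two_val68 : Pc.rangeOK (Pc.Cert.valsStep twoCert 9 twoVals) 204 3 = true := by
  decide +kernel

theorem two_val69 : Pc.rangeOK (Pc.Cert.valsStep twoCert 9 twoVals) 207 3 = true := by
  decide +kernel

theorem two_val70 : Pc.rangeOK (Pc.Cert.valsStep twoCert 9 twoVals) 210 3 = true := by
  decide +kernel

theorem two_val71 : Pc.rangeOK (Pc.Cert.valsStep twoCert 9 twoVals) 213 3 = true := by
  decide +kernel

theorem two_val72 : Pc.rangeOK (Pc.Cert.valsStep twoCert 9 twoVals) 216 3 = true := by
  decide +kernel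

theorem two_val73 : Pc.rangeOK (Pc.Cert.valsStep twoCert 9 twoVals) 219 3 = true := by
  decide +kernel

theorem two_val74 : Pc.rangeOK (Pc.Cert.valsStep twoCert 9 twoVals) 222 3 = true := by
  decide +kernel

theorem two_val75 : Pc.rangeOK (Pc.Cert.valsStep twoCert 9 twoVals) 225 3 = true := by
  decide +kernel

theorem two_val76 : Pc.rangeOK (Pc.Cert.valsStep twoCert 9 twoVals) 228 3 = true := by
  decide +kernel

theorem two_val77 : Pc.rangeOK (Pc.Cert.valsStep twoCert 9 twoVals) 231 2 = true := by
  decide +kernel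

theorem two_len0 : (twoCert.rows ++ twoCert.us).length = 233 ∧ twoVals.length = 233 := by
  decide +kernel

theorem two_len1 : twoCert.eqns.length = 232 ∧ twoCert.rows.length = 232 := by
  decide +kernel


end CfsgLib.Schur.MultiplierCo1
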