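import Cfsg.Agent.Lib.Schur.MultiplierCo1DataTwoDefs

/-! Generated polycyclic certificate for the multiplier of Co1 at 2. -/

set_option autoImplicit false
set_option maxRecDepth 100000
set_option Elab.async false

namespace CfsgLib.Schur.MultiplierCo1

open CfsgLib.Schur CfsgLib.Schur.MatFThree
theorem two_eqn0 : Pc.rangeOK (Pc.Cert.eqnStep twoCert twoRules 720 9 twoVals) 0 5 = true := by
  decide +kernel

theorem two_eqn1 : Pc.rangeOK (Pc.Cert.eqnStep twoCert twoRules 720 9 twoVals) 5 5 = true := by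
  decide +kernel

theorem two_eqn2 : Pc.rangeOK (Pc.Cert.eqnStep twoCert twoRules 720 9 twoVals) 10 5 = true := by
  decide +kernel

theorem two_eqn3 : Pc.rangeOK (Pc.Cert.eqnStep twoCert twoRules 720 9 twoVals) 15 5 = true := by
  decide +kernel

theorem two_eqn4 : Pc.rangeOK (Pc.Cert.eqnStep twoCert twoRules 720 9 twoVals) 20 5 = true := by
  decide +kernel

theorem two_eqn5 : Pc.rangeOK (Pc.Cert.eqnStep twoCert twoRules 720 9 twoVals) 25 5 = true := by
  decide +kernel

theorem two_eqn6 : Pc.rangeOK (Pc.Cert.eqnStep twoCert twoRules 720 9 twoVals) 30 5 = true := by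
  decide +kernel

theorem two_eqn7 : Pc.rangeOK (Pc.Cert.eqnStep twoCert twoRules 720 9 twoVals) 35 5 = true := by
  decide +kernel

theorem two_eqn8 : Pc.rangeOK (Pc.Cert.eqnStep twoCert twoRules 720 9 twoVals) 40 5 = true := by
  decide +kernel

theorem two_eqn9 : Pc.rangeOK (Pc.Cert.eqnStep twoCert twoRules 720 9 twoVals) 45 5 = true := by
  decide +kernel

theorem two_eqn10 : Pc.rangeOK (Pc.Cert.eqnStep twoCert twoRules 720 9 twoVals) 50 5 = true := by
  decide +kernel

theorem two_eqn11 : Pc.rangeOK (Pc.Cert.eqnStep twoCert twoRules 720 9 twoVals) 55 5 = true := by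
  decide +kernel

theorem two_eqn12 : Pc.rangeOK (Pc.Cert.eqnStep twoCert twoRules 720 9 twoVals) 60 5 = true := by
  decide +kernel

theorem two_eqn13 : Pc.rangeOK (Pc.Cert.eqnStep twoCert twoRules 720 9 twoVals) 65 5 = true := by
  decide +kernel

theorem two_eqn14 : Pc.rangeOK (Pc.Cert.eqnStep twoCert twoRules 720 9 twoVals) 70 5 = true := by
  decide +kernel

theorem two_eqn15 : Pc.rangeOK (Pc.Cert.eqnStep twoCert twoRules 720 9 twoVals) 75 5 = true := by
  decide +kernel

theorem two_eqn16 : Pc.rangeOK (Pc.Cert.eqnStep twoCert twoRules 720 9 twoVals) 80 5 = true := by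
  decide +kernel

theorem two_eqn17 : Pc.rangeOK (Pc.Cert.eqnStep twoCert twoRules 720 9 twoVals) 85 5 = true := by
  decide +kernel

theorem two_eqn18 : Pc.rangeOK (Pc.Cert.eqnStep twoCert twoRules 720 9 twoVals) 90 5 = true := by
  decide +kernel

theorem two_eqn19 : Pc.rangeOK (Pc.Cert.eqnStep twoCert twoRules 720 9 twoVals) 95 5 = true := by
  decide +kernel

theorem two_eqn20 : Pc.rangeOK (Pc.Cert.eqnStep twoCert twoRules 720 9 twoVals) 100 5 = true := by
  decide +kernel

theorem two_eqn21 : Pc.rangeOK (Pc.Cert.eqnStep twoCert twoRules 720 9 twoVals) 105 5 = true := by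
  decide +kernel

theorem two_eqn22 : Pc.rangeOK (Pc.Cert.eqnStep twoCert twoRules 720 9 twoVals) 110 5 = true := by
  decide +kernel

theorem two_eqn23 : Pc.rangeOK (Pc.Cert.eqnStep twoCert twoRules 720 9 twoVals) 115 5 = true := by
  decide +kernel

theorem two_eqn24 : Pc.rangeOK (Pc.Cert.eqnStep twoCert twoRules 720 9 twoVals) 120 5 = true := by
  decide +kernel

theorem two_eqn25 : Pc.rangeOK (Pc.Cert.eqnStep twoCert twoRules 720 9 twoVals) 125 5 = true := by
  decide +kernel

theorem two_eqn26 : Pc.rangeOK (Pc.Cert.eqnStep twoCert twoRules 720 9 twoVals) 130 5 = true := by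
  decide +kernel

theorem two_eqn27 : Pc.rangeOK (Pc.Cert.eqnStep twoCert twoRules 720 9 twoVals) 135 5 = true := by
  decide +kernel

theorem two_eqn28 : Pc.rangeOK (Pc.Cert.eqnStep twoCert twoRules 720 9 twoVals) 140 5 = true := by
  decide +kernel

theorem two_eqn29 : Pc.rangeOK (Pc.Cert.eqnStep twoCert twoRules 720 9 twoVals) 145 5 = true := by
  decide +kernel

theorem two_eqn30 : Pc.rangeOK (Pc.Cert.eqnStep twoCert twoRules 720 9 twoVals) 150 5 = true := by
  decide +kernel

theorem two_eqn31 : Pc.rangeOK (Pc.Cert.eqnStep twoCert twoRules 720 9 twoVals) 155 5 = true := by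
  decide +kernel

theorem two_eqn32 : Pc.rangeOK (Pc.Cert.eqnStep twoCert twoRules 720 9 twoVals) 160 5 = true := by
  decide +kernel

theorem two_eqn33 : Pc.rangeOK (Pc.Cert.eqnStep twoCert twoRules 720 9 twoVals) 165 5 = true := by
  decide +kernel

theorem two_eqn34 : Pc.rangeOK (Pc.Cert.eqnStep twoCert twoRules 720 9 twoVals) 170 5 = true := by
  decide +kernel

theorem two_eqn35 : Pc.rangeOK (Pc.Cert.eqnStep twoCert twoRules 720 9 twoVals) 175 5 = true := by
  decide +kernel

theorem two_eqn36 : Pc.rangeOK (Pc.Cert.eqnStep twoCert twoRules 720 9 twoVals) 180 5 = true := by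
  decide +kernel

theorem two_eqn37 : Pc.rangeOK (Pc.Cert.eqnStep twoCert twoRules 720 9 twoVals) 185 5 = true := by
  decide +kernel

theorem two_eqn38 : Pc.rangeOK (Pc.Cert.eqnStep twoCert twoRules 720 9 twoVals) 190 5 = true := by
  decide +kernel

theorem two_eqn39 : Pc.rangeOK (Pc.Cert.eqnStep twoCert twoRules 720 9 twoVals) 195 5 = true := by
  decide +kernel

theorem two_eqn40 : Pc.rangeOK (Pc.Cert.eqnStep twoCert twoRules 720 9 twoVals) 200 5 = true := by
  decide +kernel

theorem two_eqn41 : Pc.rangeOK (Pc.Cert.eqnStep twoCert twoRules 720 9 twoVals) 205 5 = true := by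
  decide +kernel

theorem two_eqn42 : Pc.rangeOK (Pc.Cert.eqnStep twoCert twoRules 720 9 twoVals) 210 5 = true := by
  decide +kernel

theorem two_eqn43 : Pc.rangeOK (Pc.Cert.eqnStep twoCert twoRules 720 9 twoVals) 215 5 = true := by
  decide +kernel

theorem two_eqn44 : Pc.rangeOK (Pc.Cert.eqnStep twoCert twoRules 720 9 twoVals) 220 5 = true := by
  decide +kernel

theorem two_eqn45 : Pc.rangeOK (Pc.Cert.eqnStep twoCert twoRules 720 9 twoVals) 225 5 = true := by
  decide +kernel

theorem two_eqn46 : Pc.rangeOK (Pc.Cert.eqnStep twoCert twoRules 720 9 twoVals) 230 2 = true := by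
  decide +kernel


end CfsgLib.Schur.MultiplierCo1
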