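import Cfsg.Agent.Lib.Schur.MultiplierCo1DataTwoDefs

/-! Generated polycyclic certificate for the multiplier of Co1 at 2. -/

set_option autoImplicit false
set_option maxRecDepth 100000
set_option Elab.async false

namespace CfsgLib.Schur.MultiplierCo1

open CfsgLib.Schur CfsgLib.Schur.MatFThree
theorem two_solve0 : Pc.rangeOK (Pc.Cert.solveStep twoCert twoRules 9 twoVals) 0 1 = true := by
  decide +kernel

theorem two_solve1 : Pc.rangeOK (Pc.Cert.solveStep twoCert twoRules 9 twoVals) 1 1 = true := by
  decide +kernel

theorem two_solve2 : Pc.rangeOK (Pc.Cert.solveStep twoCert twoRules 9 twoVals) 2 1 = true := by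
  decide +kernel

theorem two_solve3 : Pc.rangeOK (Pc.Cert.solveStep twoCert twoRules 9 twoVals) 3 1 = true := by
  decide +kernel

theorem two_solve4 : Pc.rangeOK (Pc.Cert.solveStep twoCert twoRules 9 twoVals) 4 1 = true := by
  decide +kernel

theorem two_solve5 : Pc.rangeOK (Pc.Cert.solveStep twoCert twoRules 9 twoVals) 5 1 = true := by
  decide +kernel

theorem two_solve6 : Pc.rangeOK (Pc.Cert.solveStep twoCert twoRules 9 twoVals) 6 1 = true := by
  decide +kernel

theorem two_solve7 : Pc.rangeOK (Pc.Cert.solveStep twoCert twoRules 9 twoVals) 7 1 = true := by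
  decide +kernel

theorem two_solve8 : Pc.rangeOK (Pc.Cert.solveStep twoCert twoRules 9 twoVals) 8 1 = true := by
  decide +kernel

theorem two_solve9 : Pc.rangeOK (Pc.Cert.solveStep twoCert twoRules 9 twoVals) 9 1 = true := by
  decide +kernel

theorem two_solve10 : Pc.rangeOK (Pc.Cert.solveStep twoCert twoRules 9 twoVals) 10 1 = true := by
  decide +kernel

theorem two_solve11 : Pc.rangeOK (Pc.Cert.solveStep twoCert twoRules 9 twoVals) 11 1 = true := by
  decide +kernel

theorem two_solve12 : Pc.rangeOK (Pc.Cert.solveStep twoCert twoRules 9 twoVals) 12 1 = true := by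
  decide +kernel

theorem two_solve13 : Pc.rangeOK (Pc.Cert.solveStep twoCert twoRules 9 twoVals) 13 1 = true := by
  decide +kernel

theorem two_solve14 : Pc.rangeOK (Pc.Cert.solveStep twoCert twoRules 9 twoVals) 14 1 = true := by
  decide +kernel

theorem two_solve15 : Pc.rangeOK (Pc.Cert.solveStep twoCert twoRules 9 twoVals) 15 1 = true := by
  decide +kernel

theorem two_solve16 : Pc.rangeOK (Pc.Cert.solveStep twoCert twoRules 9 twoVals) 16 1 = true := by
  decide +kernel

theorem two_solve17 : Pc.rangeOK (Pc.Cert.solveStep twoCert twoRules 9 twoVals) 17 1 = true := by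
  decide +kernel

theorem two_solve18 : Pc.rangeOK (Pc.Cert.solveStep twoCert twoRules 9 twoVals) 18 1 = true := by
  decide +kernel

theorem two_solve19 : Pc.rangeOK (Pc.Cert.solveStep twoCert twoRules 9 twoVals) 19 1 = true := by
  decide +kernel

theorem two_solve20 : Pc.rangeOK (Pc.Cert.solveStep twoCert twoRules 9 twoVals) 20 1 = true := by
  decide +kernel

theorem two_restA : (List.range twoCert.us.length).all (Pc.Cert.restStep twoCert 9 232 twoVals) = true := by
  decide +kernel

theorem two_restB : (List.range twoRules.d).all (fun i => (twoCert.shifts.getD i []).all fun x => x == 0) = true := by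
  decide +kernel

theorem two_shape : Pc.Rules.shapeOK twoRules = true := by
  decide +kernel


end CfsgLib.Schur.MultiplierCo1
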