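import Cfsg.Agent.Lib.Schur.MultiplierCo1DataTwoDefs

/-! Generated polycyclic certificate for the multiplier of Co1 at 2. -/

set_option autoImplicit false
set_option maxRecDepth 100000
set_option Elab.async false

namespace CfsgLib.Schur.MultiplierCo1

open CfsgLib.Schur CfsgLib.Schur.MatFThree
theorem two_pw0 : Pc.rangeOK (Pc.powStep (fun a b => PcConway.normSign (mulF3 24 a b)) (PcConway.normSign (MatFThree.oneF3 24)) twoRules twoGens) 0 3 = true := by
  decide +kernel

theorem two_pw1 : Pc.rangeOK (Pc.powStep (fun a b => PcConway.normSign (mulF3 24 a b)) (PcConway.normSign (MatFThree.oneF3 24)) twoRules twoGens) 3 3 = true := by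
  decide +kernel

theorem two_pw2 : Pc.rangeOK (Pc.powStep (fun a b => PcConway.normSign (mulF3 24 a b)) (PcConway.normSign (MatFThree.oneF3 24)) twoRules twoGens) 6 3 = true := by
  decide +kernel

theorem two_pw3 : Pc.rangeOK (Pc.powStep (fun a b => PcConway.normSign (mulF3 24 a b)) (PcConway.normSign (MatFThree.oneF3 24)) twoRules twoGens) 9 3 = true := by
  decide +kernel

theorem two_pw4 : Pc.rangeOK (Pc.powStep (fun a b => PcConway.normSign (mulF3 24 a b)) (PcConway.normSign (MatFThree.oneF3 24)) twoRules twoGens) 12 3 = true := by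
  decide +kernel

theorem two_pw5 : Pc.rangeOK (Pc.powStep (fun a b => PcConway.normSign (mulF3 24 a b)) (PcConway.normSign (MatFThree.oneF3 24)) twoRules twoGens) 15 3 = true := by
  decide +kernel

theorem two_pw6 : Pc.rangeOK (Pc.powStep (fun a b => PcConway.normSign (mulF3 24 a b)) (PcConway.normSign (MatFThree.oneF3 24)) twoRules twoGens) 18 3 = true := by
  decide +kernel

theorem two_cm0 : Pc.rangeOK (Pc.comStep (fun a b => PcConway.normSign (mulF3 24 a b)) (PcConway.normSign (MatFThree.oneF3 24)) twoRules twoGens) 0 2 = true := by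
  decide +kernel

theorem two_cm1 : Pc.rangeOK (Pc.comStep (fun a b => PcConway.normSign (mulF3 24 a b)) (PcConway.normSign (MatFThree.oneF3 24)) twoRules twoGens) 2 2 = true := by
  decide +kernel

theorem two_cm2 : Pc.rangeOK (Pc.comStep (fun a b => PcConway.normSign (mulF3 24 a b)) (PcConway.normSign (MatFThree.oneF3 24)) twoRules twoGens) 4 2 = true := by
  decide +kernel

theorem two_cm3 : Pc.rangeOK (Pc.comStep (fun a b => PcConway.normSign (mulF3 24 a b)) (PcConway.normSign (MatFThree.oneF3 24)) twoRules twoGens) 6 2 = true := by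
  decide +kernel

theorem two_cm4 : Pc.rangeOK (Pc.comStep (fun a b => PcConway.normSign (mulF3 24 a b)) (PcConway.normSign (MatFThree.oneF3 24)) twoRules twoGens) 8 2 = true := by
  decide +kernel

theorem two_cm5 : Pc.rangeOK (Pc.comStep (fun a b => PcConway.normSign (mulF3 24 a b)) (PcConway.normSign (MatFThree.oneF3 24)) twoRules twoGens) 10 2 = true := by
  decide +kernel

theorem two_cm6 : Pc.rangeOK (Pc.comStep (fun a b => PcConway.normSign (mulF3 24 a b)) (PcConway.normSign (MatFThree.oneF3 24)) twoRules twoGens) 12 2 = true := by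
  decide +kernel

theorem two_cm7 : Pc.rangeOK (Pc.comStep (fun a b => PcConway.normSign (mulF3 24 a b)) (PcConway.normSign (MatFThree.oneF3 24)) twoRules twoGens) 14 2 = true := by
  decide +kernel

theorem two_cm8 : Pc.rangeOK (Pc.comStep (fun a b => PcConway.normSign (mulF3 24 a b)) (PcConway.normSign (MatFThree.oneF3 24)) twoRules twoGens) 16 2 = true := by
  decide +kernel

theorem two_cm9 : Pc.rangeOK (Pc.comStep (fun a b => PcConway.normSign (mulF3 24 a b)) (PcConway.normSign (MatFThree.oneF3 24)) twoRules twoGens) 18 2 = true := by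
  decide +kernel

theorem two_cm10 : Pc.rangeOK (Pc.comStep (fun a b => PcConway.normSign (mulF3 24 a b)) (PcConway.normSign (MatFThree.oneF3 24)) twoRules twoGens) 20 1 = true := by
  decide +kernel

theorem two_fu0 : Pc.rangeOK (Pc.fuseStep (fun a b => PcConway.normSign (mulF3 24 a b)) (PcConway.normSign (MatFThree.oneF3 24)) twoCert twoGens twoConj) 0 4 = true := by
  decide +kernel

theorem two_fu1 : Pc.rangeOK (Pc.fuseStep (fun a b => PcConway.normSign (mulF3 24 a b)) (PcConway.normSign (MatFThree.oneF3 24)) twoCert twoGens twoConj) 4 4 = true := by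
  decide +kernel

theorem two_fu2 : Pc.rangeOK (Pc.fuseStep (fun a b => PcConway.normSign (mulF3 24 a b)) (PcConway.normSign (MatFThree.oneF3 24)) twoCert twoGens twoConj) 8 4 = true := by
  decide +kernel

theorem two_fu3 : Pc.rangeOK (Pc.fuseStep (fun a b => PcConway.normSign (mulF3 24 a b)) (PcConway.normSign (MatFThree.oneF3 24)) twoCert twoGens twoConj) 12 4 = true := by
  decide +kernel

theorem two_fu4 : Pc.rangeOK (Pc.fuseStep (fun a b => PcConway.normSign (mulF3 24 a b)) (PcConway.normSign (MatFThree.oneF3 24)) twoCert twoGens twoConj) 16 4 = true := by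
  decide +kernel

theorem two_fu5 : Pc.rangeOK (Pc.fuseStep (fun a b => PcConway.normSign (mulF3 24 a b)) (PcConway.normSign (MatFThree.oneF3 24)) twoCert twoGens twoConj) 20 4 = true := by
  decide +kernel

theorem two_fu6 : Pc.rangeOK (Pc.fuseStep (fun a b => PcConway.normSign (mulF3 24 a b)) (PcConway.normSign (MatFThree.oneF3 24)) twoCert twoGens twoConj) 24 4 = true := by
  decide +kernel

theorem two_fu7 : Pc.rangeOK (Pc.fuseStep (fun a b => PcConway.normSign (mulF3 24 a b)) (PcConway.normSign (MatFThree.oneF3 24)) twoCert twoGens twoConj) 28 4 = true := by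
  decide +kernel

theorem two_fu8 : Pc.rangeOK (Pc.fuseStep (fun a b => PcConway.normSign (mulF3 24 a b)) (PcConway.normSign (MatFThree.oneF3 24)) twoCert twoGens twoConj) 32 4 = true := by
  decide +kernel

theorem two_fu9 : Pc.rangeOK (Pc.fuseStep (fun a b => PcConway.normSign (mulF3 24 a b)) (PcConway.normSign (MatFThree.oneF3 24)) twoCert twoGens twoConj) 36 4 = true := by
  decide +kernel

theorem two_fu10 : Pc.rangeOK (Pc.fuseStep (fun a b => PcConway.normSign (mulF3 24 a b)) (PcConway.normSign (MatFThree.oneF3 24)) twoCert twoGens twoConj) 40 4 = true := by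
  decide +kernel

theorem two_fu11 : Pc.rangeOK (Pc.fuseStep (fun a b => PcConway.normSign (mulF3 24 a b)) (PcConway.normSign (MatFThree.oneF3 24)) twoCert twoGens twoConj) 44 4 = true := by
  decide +kernel

theorem two_fu12 : Pc.rangeOK (Pc.fuseStep (fun a b => PcConway.normSign (mulF3 24 a b)) (PcConway.normSign (MatFThree.oneF3 24)) twoCert twoGens twoConj) 48 4 = true := by
  decide +kernel

theorem two_fu13 : Pc.rangeOK (Pc.fuseStep (fun a b => PcConway.normSign (mulF3 24 a b)) (PcConway.normSign (MatFThree.oneF3 24)) twoCert twoGens twoConj) 52 4 = true := by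
  decide +kernel

theorem two_fu14 : Pc.rangeOK (Pc.fuseStep (fun a b => PcConway.normSign (mulF3 24 a b)) (PcConway.normSign (MatFThree.oneF3 24)) twoCert twoGens twoConj) 56 4 = true := by
  decide +kernel

theorem two_fu15 : Pc.rangeOK (Pc.fuseStep (fun a b => PcConway.normSign (mulF3 24 a b)) (PcConway.normSign (MatFThree.oneF3 24)) twoCert twoGens twoConj) 60 4 = true := by
  decide +kernel

theorem two_fu16 : Pc.rangeOK (Pc.fuseStep (fun a b => PcConway.normSign (mulF3 24 a b)) (PcConway.normSign (MatFThree.oneF3 24)) twoCert twoGens twoConj) 64 4 = true := by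
  decide +kernel

theorem two_fu17 : Pc.rangeOK (Pc.fuseStep (fun a b => PcConway.normSign (mulF3 24 a b)) (PcConway.normSign (MatFThree.oneF3 24)) twoCert twoGens twoConj) 68 4 = true := by
  decide +kernel

theorem two_fu18 : Pc.rangeOK (Pc.fuseStep (fun a b => PcConway.normSign (mulF3 24 a b)) (PcConway.normSign (MatFThree.oneF3 24)) twoCert twoGens twoConj) 72 4 = true := by
  decide +kernel

theorem two_fu19 : Pc.rangeOK (Pc.fuseStep (fun a b => PcConway.normSign (mulF3 24 a b)) (PcConway.normSign (MatFThree.oneF3 24)) twoCert twoGens twoConj) 76 4 = true := by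
  decide +kernel

theorem two_fu20 : Pc.rangeOK (Pc.fuseStep (fun a b => PcConway.normSign (mulF3 24 a b)) (PcConway.normSign (MatFThree.oneF3 24)) twoCert twoGens twoConj) 80 4 = true := by
  decide +kernel

theorem two_fu21 : Pc.rangeOK (Pc.fuseStep (fun a b => PcConway.normSign (mulF3 24 a b)) (PcConway.normSign (MatFThree.oneF3 24)) twoCert twoGens twoConj) 84 4 = true := by
  decide +kernel

theorem two_fu22 : Pc.rangeOK (Pc.fuseStep (fun a b => PcConway.normSign (mulF3 24 a b)) (PcConway.normSign (MatFThree.oneF3 24)) twoCert twoGens twoConj) 88 4 = true := by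
  decide +kernel

theorem two_fu23 : Pc.rangeOK (Pc.fuseStep (fun a b => PcConway.normSign (mulF3 24 a b)) (PcConway.normSign (MatFThree.oneF3 24)) twoCert twoGens twoConj) 92 4 = true := by
  decide +kernel

theorem two_fu24 : Pc.rangeOK (Pc.fuseStep (fun a b => PcConway.normSign (mulF3 24 a b)) (PcConway.normSign (MatFThree.oneF3 24)) twoCert twoGens twoConj) 96 4 = true := by
  decide +kernel

theorem two_fu25 : Pc.rangeOK (Pc.fuseStep (fun a b => PcConway.normSign (mulF3 24 a b)) (PcConway.normSign (MatFThree.oneF3 24)) twoCert twoGens twoConj) 100 4 = true := by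
  decide +kernel

theorem two_fu26 : Pc.rangeOK (Pc.fuseStep (fun a b => PcConway.normSign (mulF3 24 a b)) (PcConway.normSign (MatFThree.oneF3 24)) twoCert twoGens twoConj) 104 4 = true := by
  decide +kernel

theorem two_fu27 : Pc.rangeOK (Pc.fuseStep (fun a b => PcConway.normSign (mulF3 24 a b)) (PcConway.normSign (MatFThree.oneF3 24)) twoCert twoGens twoConj) 108 4 = true := by
  decide +kernel

theorem two_fu28 : Pc.rangeOK (Pc.fuseStep (fun a b => PcConway.normSign (mulF3 24 a b)) (PcConway.normSign (MatFThree.oneF3 24)) twoCert twoGens twoConj) 112 4 = true := by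
  decide +kernel

theorem two_fu29 : Pc.rangeOK (Pc.fuseStep (fun a b => PcConway.normSign (mulF3 24 a b)) (PcConway.normSign (MatFThree.oneF3 24)) twoCert twoGens twoConj) 116 4 = true := by
  decide +kernel

theorem two_fu30 : Pc.rangeOK (Pc.fuseStep (fun a b => PcConway.normSign (mulF3 24 a b)) (PcConway.normSign (MatFThree.oneF3 24)) twoCert twoGens twoConj) 120 4 = true := by
  decide +kernel

theorem two_fu31 : Pc.rangeOK (Pc.fuseStep (fun a b => PcConway.normSign (mulF3 24 a b)) (PcConway.normSign (MatFThree.oneF3 24)) twoCert twoGens twoConj) 124 4 = true := by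
  decide +kernel

theorem two_fu32 : Pc.rangeOK (Pc.fuseStep (fun a b => PcConway.normSign (mulF3 24 a b)) (PcConway.normSign (MatFThree.oneF3 24)) twoCert twoGens twoConj) 128 4 = true := by
  decide +kernel

theorem two_fu33 : Pc.rangeOK (Pc.fuseStep (fun a b => PcConway.normSign (mulF3 24 a b)) (PcConway.normSign (MatFThree.oneF3 24)) twoCert twoGens twoConj) 132 4 = true := by
  decide +kernel

theorem two_fu34 : Pc.rangeOK (Pc.fuseStep (fun a b => PcConway.normSign (mulF3 24 a b)) (PcConway.normSign (MatFThree.oneF3 24)) twoCert twoGens twoConj) 136 4 = true := by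
  decide +kernel

theorem two_fu35 : Pc.rangeOK (Pc.fuseStep (fun a b => PcConway.normSign (mulF3 24 a b)) (PcConway.normSign (MatFThree.oneF3 24)) twoCert twoGens twoConj) 140 4 = true := by
  decide +kernel

theorem two_fu36 : Pc.rangeOK (Pc.fuseStep (fun a b => PcConway.normSign (mulF3 24 a b)) (PcConway.normSign (MatFThree.oneF3 24)) twoCert twoGens twoConj) 144 4 = true := by
  decide +kernel

theorem two_fu37 : Pc.rangeOK (Pc.fuseStep (fun a b => PcConway.normSign (mulF3 24 a b)) (PcConway.normSign (MatFThree.oneF3 24)) twoCert twoGens twoConj) 148 4 = true := by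
  decide +kernel

theorem two_fu38 : Pc.rangeOK (Pc.fuseStep (fun a b => PcConway.normSign (mulF3 24 a b)) (PcConway.normSign (MatFThree.oneF3 24)) twoCert twoGens twoConj) 152 4 = true := by
  decide +kernel

theorem two_fu39 : Pc.rangeOK (Pc.fuseStep (fun a b => PcConway.normSign (mulF3 24 a b)) (PcConway.normSign (MatFThree.oneF3 24)) twoCert twoGens twoConj) 156 4 = true := by
  decide +kernel

theorem two_fu40 : Pc.rangeOK (Pc.fuseStep (fun a b => PcConway.normSign (mulF3 24 a b)) (PcConway.normSign (MatFThree.oneF3 24)) twoCert twoGens twoConj) 160 4 = true := by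
  decide +kernel

theorem two_fu41 : Pc.rangeOK (Pc.fuseStep (fun a b => PcConway.normSign (mulF3 24 a b)) (PcConway.normSign (MatFThree.oneF3 24)) twoCert twoGens twoConj) 164 4 = true := by
  decide +kernel

theorem two_fu42 : Pc.rangeOK (Pc.fuseStep (fun a b => PcConway.normSign (mulF3 24 a b)) (PcConway.normSign (MatFThree.oneF3 24)) twoCert twoGens twoConj) 168 4 = true := by
  decide +kernel

theorem two_fu43 : Pc.rangeOK (Pc.fuseStep (fun a b => PcConway.normSign (mulF3 24 a b)) (PcConway.normSign (MatFThree.oneF3 24)) twoCert twoGens twoConj) 172 4 = true := by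
  decide +kernel

theorem two_fu44 : Pc.rangeOK (Pc.fuseStep (fun a b => PcConway.normSign (mulF3 24 a b)) (PcConway.normSign (MatFThree.oneF3 24)) twoCert twoGens twoConj) 176 4 = true := by
  decide +kernel

theorem two_fu45 : Pc.rangeOK (Pc.fuseStep (fun a b => PcConway.normSign (mulF3 24 a b)) (PcConway.normSign (MatFThree.oneF3 24)) twoCert twoGens twoConj) 180 4 = true := by
  decide +kernel

theorem two_fu46 : Pc.rangeOK (Pc.fuseStep (fun a b => PcConway.normSign (mulF3 24 a b)) (PcConway.normSign (MatFThree.oneF3 24)) twoCert twoGens twoConj) 184 4 = true := by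
  decide +kernel

theorem two_fu47 : Pc.rangeOK (Pc.fuseStep (fun a b => PcConway.normSign (mulF3 24 a b)) (PcConway.normSign (MatFThree.oneF3 24)) twoCert twoGens twoConj) 188 4 = true := by
  decide +kernel

theorem two_fu48 : Pc.rangeOK (Pc.fuseStep (fun a b => PcConway.normSign (mulF3 24 a b)) (PcConway.normSign (MatFThree.oneF3 24)) twoCert twoGens twoConj) 192 4 = true := by
  decide +kernel

theorem two_fu49 : Pc.rangeOK (Pc.fuseStep (fun a b => PcConway.normSign (mulF3 24 a b)) (PcConway.normSign (MatFThree.oneF3 24)) twoCert twoGens twoConj) 196 4 = true := by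
  decide +kernel

theorem two_fu50 : Pc.rangeOK (Pc.fuseStep (fun a b => PcConway.normSign (mulF3 24 a b)) (PcConway.normSign (MatFThree.oneF3 24)) twoCert twoGens twoConj) 200 4 = true := by
  decide +kernel

theorem two_fu51 : Pc.rangeOK (Pc.fuseStep (fun a b => PcConway.normSign (mulF3 24 a b)) (PcConway.normSign (MatFThree.oneF3 24)) twoCert twoGens twoConj) 204 4 = true := by
  decide +kernel

theorem two_fu52 : Pc.rangeOK (Pc.fuseStep (fun a b => PcConway.normSign (mulF3 24 a b)) (PcConway.normSign (MatFThree.oneF3 24)) twoCert twoGens twoConj) 208 4 = true := by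
  decide +kernel

theorem two_fu53 : Pc.rangeOK (Pc.fuseStep (fun a b => PcConway.normSign (mulF3 24 a b)) (PcConway.normSign (MatFThree.oneF3 24)) twoCert twoGens twoConj) 212 4 = true := by
  decide +kernel

theorem two_fu54 : Pc.rangeOK (Pc.fuseStep (fun a b => PcConway.normSign (mulF3 24 a b)) (PcConway.normSign (MatFThree.oneF3 24)) twoCert twoGens twoConj) 216 4 = true := by
  decide +kernel

theorem two_fu55 : Pc.rangeOK (Pc.fuseStep (fun a b => PcConway.normSign (mulF3 24 a b)) (PcConway.normSign (MatFThree.oneF3 24)) twoCert twoGens twoConj) 220 4 = true := by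
  decide +kernel

theorem two_fu56 : Pc.rangeOK (Pc.fuseStep (fun a b => PcConway.normSign (mulF3 24 a b)) (PcConway.normSign (MatFThree.oneF3 24)) twoCert twoGens twoConj) 224 4 = true := by
  decide +kernel

theorem two_fu57 : Pc.rangeOK (Pc.fuseStep (fun a b => PcConway.normSign (mulF3 24 a b)) (PcConway.normSign (MatFThree.oneF3 24)) twoCert twoGens twoConj) 228 4 = true := by
  decide +kernel


end CfsgLib.Schur.MultiplierCo1
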