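import Cfsg.Agent.Lib.Schur.MultiplierCo1DataTwoM
import Cfsg.Agent.Lib.Schur.MultiplierCo1DataTwoA
import Cfsg.Agent.Lib.Schur.MultiplierCo1DataTwoB
import Cfsg.Agent.Lib.Schur.MultiplierCo1DataTwoC
import Cfsg.Agent.Lib.Schur.MultiplierCo1DataTwoD
import Cfsg.Agent.Lib.Schur.MultiplierCo1DataTwoE

/-! Generated polycyclic certificate for the multiplier of Co1 at 2. -/

set_option autoImplicit false
set_option maxRecDepth 100000
set_option Elab.async false

namespace CfsgLib.Schur.MultiplierCo1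

open CfsgLib.Schur CfsgLib.Schur.MatFThree

attribute [local irreducible] Pc.rangeOK Pc.Cert.valsOK Pc.Cert.eqnsOK Pc.Cert.solveOK

theorem two_vals : Pc.Cert.valsOK twoCert 9 twoVals = true :=
  Pc.Cert.valsOK_of_ranges (n := 233) two_len0.1 two_len0.2 (Pc.rangeOK_append (Pc.rangeOK_append (Pc.rangeOK_append (Pc.rangeOK_append (Pc.rangeOK_append (Pc.rangeOK_append (Pc.rangeOK_append (Pc.rangeOK_append (Pc.rangeOK_append (Pc.rangeOK_append (Pc.rangeOK_append (Pc.rangeOK_append (Pc.rangeOK_append (Pc.rangeOK_append (Pc.rangeOK_append (Pc.rangeOK_append (Pc.rangeOK_append (Pc.rangeOK_append (Pc.rangeOK_append (Pc.rangeOK_append (Pc.rangeOK_append (Pc.rangeOK_append (Pc.rangeOK_append (Pc.rangeOK_append (Pc.rangeOK_append (Pc.rangeOK_append (Pc.rangeOK_append (Pc.rangeOK_append (Pc.rangeOK_append (Pc.rangeOK_append (Pc.rangeOK_append (Pc.rangeOK_append (Pc.rangeOK_append (Pc.rangeOK_append (Pc.rangeOK_append (Pc.rangeOK_append (Pc.rangeOK_append (Pc.rangeOK_append (Pc.rangeOK_append (Pc.rangeOK_append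 (Pc.rangeOK_append (Pc.rangeOK_append (Pc.rangeOK_append (Pc.rangeOK_append (Pc.rangeOK_append (Pc.rangeOK_append (Pc.rangeOK_append (Pc.rangeOK_append (Pc.rangeOK_append (Pc.rangeOK_append (Pc.rangeOK_append (Pc.rangeOK_append (Pc.rangeOK_append (Pc.rangeOK_append (Pc.rangeOK_append (Pc.rangeOK_append (Pc.rangeOK_append (Pc.rangeOK_append (Pc.rangeOK_append (Pc.rangeOK_append (Pc.rangeOK_append (Pc.rangeOK_append (Pc.rangeOK_append (Pc.rangeOK_append (Pc.rangeOK_append (Pc.rangeOK_append (Pc.rangeOK_append (Pc.rangeOK_append (Pc.rangeOK_append (Pc.rangeOK_append (Pc.rangeOK_append (Pc.rangeOK_append (Pc.rangeOK_append (Pc.rangeOK_append (Pc.rangeOK_append (Pc.rangeOK_append (Pc.rangeOK_append two_val0 two_val1) two_val2) two_val3) two_val4) two_val5) two_val6) two_val7) two_val8) two_val9) two_val10) two_val11) two_val12) two_val13) two_val14) two_val15) two_val16) two_val17) two_val18) two_val19) two_val20) two_val21) two_val22) two_val23) two_val24) two_val25) two_val26) two_val27)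 two_val28) two_val29) two_val30) two_val31) two_val32) two_val33) two_val34) two_val35) two_val36) two_val37) two_val38) two_val39) two_val40) two_val41) two_val42) two_val43) two_val44) two_val45) two_val46) two_val47) two_val48) two_val49) two_val50) two_val51) two_val52) two_val53) two_val54) two_val55) two_val56) two_val57) two_val58) two_val59) two_val60) two_val61) two_val62) two_val63) two_val64) two_val65) two_val66) two_val67) two_val68) two_val69) two_val70) two_val71) two_val72) two_val73) two_val74) two_val75) two_val76) two_val77)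

theorem two_rest : Pc.Cert.solveRest twoCert twoRules = true :=
  Pc.Cert.solveRest_of_parts two_vals two_len1.2 two_restA two_restB

theorem two_holds : Pc.holdsOK (fun a b => PcConway.normSign (mulF3 24 a b)) (PcConway.normSign (MatFThree.oneF3 24)) twoRules twoCert twoGens twoConj = true :=
  Pc.holdsOK_of_parts _ _ (n := 21) rfl two_len1.1 (Pc.rangeOK_append (Pc.rangeOK_append (Pc.rangeOK_append (Pc.rangeOK_append (Pc.rangeOK_append (Pc.rangeOK_append two_pw0 two_pw1) two_pw2) two_pw3) two_pw4) two_pw5) two_pw6) (Pc.rangeOK_append (Pc.rangeOK_append (Pc.rangeOK_append (Pc.rangeOK_append (Pc.rangeOK_append (Pc.rangeOK_append (Pc.rangeOK_append (Pc.rangeOK_append (Pc.rangeOK_append (Pc.rangeOK_append two_cm0 two_cm1) two_cm2) two_cm3) two_cm4) two_cm5) two_cm6) two_cm7) two_cm8) two_cm9) two_cm10) (Pc.rangeOK_append (Pc.rangeOK_append (Pc.rangeOK_append (Pc.rangeOK_append (Pc.rangeOK_append (Pc.rangeOK_append (Pc.rangeOK_append (Pc.rangeOK_append (Pc.rangeOK_append (Pc.rangeOK_append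 (Pc.rangeOK_append (Pc.rangeOK_append (Pc.rangeOK_append (Pc.rangeOK_append (Pc.rangeOK_append (Pc.rangeOK_append (Pc.rangeOK_append (Pc.rangeOK_append (Pc.rangeOK_append (Pc.rangeOK_append (Pc.rangeOK_append (Pc.rangeOK_append (Pc.rangeOK_append (Pc.rangeOK_append (Pc.rangeOK_append (Pc.rangeOK_append (Pc.rangeOK_append (Pc.rangeOK_append (Pc.rangeOK_append (Pc.rangeOK_append (Pc.rangeOK_append (Pc.rangeOK_append (Pc.rangeOK_append (Pc.rangeOK_append (Pc.rangeOK_append (Pc.rangeOK_append (Pc.rangeOK_append (Pc.rangeOK_append (Pc.rangeOK_append (Pc.rangeOK_append (Pc.rangeOK_append (Pc.rangeOK_append (Pc.rangeOK_append (Pc.rangeOK_append (Pc.rangeOK_append (Pc.rangeOK_append (Pc.rangeOK_append (Pc.rangeOK_append (Pc.rangeOK_append (Pc.rangeOK_append (Pc.rangeOK_append (Pc.rangeOK_append (Pc.rangeOK_append (Pc.rangeOK_append (Pc.rangeOK_append (Pc.rangeOK_append (Pc.rangeOK_append two_fu0 two_fu1) two_fu2) two_fu3) two_fu4) two_fu5) two_fu6) two_fu7) two_fu8) two_fu9) two_fu10) two_fu11)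 two_fu12) two_fu13) two_fu14) two_fu15) two_fu16) two_fu17) two_fu18) two_fu19) two_fu20) two_fu21) two_fu22) two_fu23) two_fu24) two_fu25) two_fu26) two_fu27) two_fu28) two_fu29) two_fu30) two_fu31) two_fu32) two_fu33) two_fu34) two_fu35) two_fu36) two_fu37) two_fu38) two_fu39) two_fu40) two_fu41) two_fu42) two_fu43) two_fu44) two_fu45) two_fu46) two_fu47) two_fu48) two_fu49) two_fu50) two_fu51) two_fu52) two_fu53) two_fu54) two_fu55) two_fu56) two_fu57)

theorem two_ok : PcConway.pcOK PcConway.normSign (PcConway.normSign (MatFThree.oneF3 24)) [MatFThree.oneF3 24, PcConway.negOne] twoRules twoCert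
    twoGens twoConj 720 twoSeps = true :=
  PcConway.pcOK_of_parts _ (n := 21) rfl two_shape
    (Pc.Cert.eqnsOK_of_ranges (n := 232) two_vals two_len1.1 two_len1.2 (Pc.rangeOK_append (Pc.rangeOK_append (Pc.rangeOK_append (Pc.rangeOK_append (Pc.rangeOK_append (Pc.rangeOK_append (Pc.rangeOK_append (Pc.rangeOK_append (Pc.rangeOK_append (Pc.rangeOK_append (Pc.rangeOK_append (Pc.rangeOK_append (Pc.rangeOK_append (Pc.rangeOK_append (Pc.rangeOK_append (Pc.rangeOK_append (Pc.rangeOK_append (Pc.rangeOK_append (Pc.rangeOK_append (Pc.rangeOK_append (Pc.rangeOK_append (Pc.rangeOK_append (Pc.rangeOK_append (Pc.rangeOK_append (Pc.rangeOK_append (Pc.rangeOK_append (Pc.rangeOK_append (Pc.rangeOK_append (Pc.rangeOK_append (Pc.rangeOK_append (Pc.rangeOK_append (Pc.rangeOK_append (Pc.rangeOK_append (Pc.rangeOK_append (Pc.rangeOK_append (Pc.rangeOK_append (Pc.rangeOK_append (Pc.rangeOK_append (Pc.rangeOK_append (Pc.rangeOK_append (Pc.rangeOK_append (Pc.rangeOK_append (Pc.rangeOK_append (Pc.rangeOK_append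 (Pc.rangeOK_append (Pc.rangeOK_append two_eqn0 two_eqn1) two_eqn2) two_eqn3) two_eqn4) two_eqn5) two_eqn6) two_eqn7) two_eqn8) two_eqn9) two_eqn10) two_eqn11) two_eqn12) two_eqn13) two_eqn14) two_eqn15) two_eqn16) two_eqn17) two_eqn18) two_eqn19) two_eqn20) two_eqn21) two_eqn22) two_eqn23) two_eqn24) two_eqn25) two_eqn26) two_eqn27) two_eqn28) two_eqn29) two_eqn30) two_eqn31) two_eqn32) two_eqn33) two_eqn34) two_eqn35) two_eqn36) two_eqn37) two_eqn38) two_eqn39) two_eqn40) two_eqn41) two_eqn42) two_eqn43) two_eqn44) two_eqn45) two_eqn46))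
    (Pc.Cert.solveOK_of_ranges (n := 21) rfl two_vals two_rest (Pc.rangeOK_append (Pc.rangeOK_append (Pc.rangeOK_append (Pc.rangeOK_append (Pc.rangeOK_append (Pc.rangeOK_append (Pc.rangeOK_append (Pc.rangeOK_append (Pc.rangeOK_append (Pc.rangeOK_append (Pc.rangeOK_append (Pc.rangeOK_append (Pc.rangeOK_append (Pc.rangeOK_append (Pc.rangeOK_append (Pc.rangeOK_append (Pc.rangeOK_append (Pc.rangeOK_append (Pc.rangeOK_append (Pc.rangeOK_append two_solve0 two_solve1) two_solve2) two_solve3) two_solve4) two_solve5) two_solve6) two_solve7) two_solve8) two_solve9) two_solve10) two_solve11) two_solve12) two_solve13) two_solve14) two_solve15) two_solve16) two_solve17) two_solve18) two_solve19) two_solve20))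
    two_holds (Pc.rangeOK_append (Pc.rangeOK_append (Pc.rangeOK_append (Pc.rangeOK_append (Pc.rangeOK_append (Pc.rangeOK_append (Pc.rangeOK_append (Pc.rangeOK_append (Pc.rangeOK_append (Pc.rangeOK_append (Pc.rangeOK_append (Pc.rangeOK_append (Pc.rangeOK_append (Pc.rangeOK_append (Pc.rangeOK_append (Pc.rangeOK_append (Pc.rangeOK_append (Pc.rangeOK_append (Pc.rangeOK_append (Pc.rangeOK_append two_sep0 two_sep1) two_sep2) two_sep3) two_sep4) two_sep5) two_sep6) two_sep7) two_sep8) two_sep9) two_sep10) two_sep11) two_sep12) two_sep13) two_sep14) two_sep15) two_sep16) two_sep17) two_sep18) two_sep19) two_sep20)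


end CfsgLib.Schur.MultiplierCo1
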