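import Cfsg.Agent.Lib.Schur.MultiplierCo1DataTwoDefs

/-! Generated polycyclic certificate for the multiplier of Co1 at 2. -/

set_option autoImplicit false
set_option maxRecDepth 100000
set_option Elab.async false

namespace CfsgLib.Schur.MultiplierCo1

open CfsgLib.Schur CfsgLib.Schur.MatFThree
theorem two_members : CfsgLib.Sporadic.allFrom 0 2304 (PcConway.slpStep ConwayBase.baseCodes 2304 twoT twoO) = true := two_prog


theorem two_lt : (([33,197,342,502,1,506,508,515,523,526,527,540,548,49,557,571,580,584,589,594,601] : List ℕ) ++ ([630,650,1074,1362,1376,1672,1987,2003,2019,2303] : List ℕ)).all (fun i => Nat.blt i 2304) = true := by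
  decide +kernel

theorem two_gens : ([33,197,342,502,1,506,508,515,523,526,527,540,548,49,557,571,580,584,589,594,601] : List ℕ).map (fun i => PcConway.normSign (twoT.get i)) = twoGens ∧ ([630,650,1074,1362,1376,1672,1987,2003,2019,2303] : List ℕ).map (fun i => PcConway.normSign (twoT.get i)) = twoConj := by
  decide +kernel


end CfsgLib.Schur.MultiplierCo1
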