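import Cfsg.Agent.Lib.Schur.MultiplierCo2DataTwo
import Cfsg.Agent.Lib.Schur.MultiplierCo2DataThree
import Cfsg.Agent.Lib.Schur.MultiplierCo2DataFive
import Cfsg.Agent.Lib.Schur.MultiplierCo2DataSeven
import Cfsg.Agent.Lib.Schur.MultiplierCo2DataEleven
import Cfsg.Agent.Lib.Schur.MultiplierCo2DataTwentyThree

/-! Generated certificates for the multiplier of Co2, prime by prime. -/
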