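/-
The Schur multiplier of Co2 is trivial.
-/
import Cfsg.Agent.Lib.Schur.MultiplierCo2Data
import Cfsg.Agent.Lib.Golay.LeechCount

set_option autoImplicit false

namespace CfsgLib.Schur.MultiplierCo2

open Cfsg CfsgLib.Golay CfsgLib.Schur CfsgLib.Schur.PcConway

theorem sqNorm_vec : sqNorm ((Spor.leechU : leechLattice) : GolayPt → ℤ) = 32 := by decide +kernel

theorem natCard_eq : Nat.card (stabPerm Spor.leechU) = 42305421312000 := by
  have h := natCard_stabilizer_of_trans (v := Spor.leechU) (N := 32) sqNorm_vec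
    fun w hw => exists_smul_eq_norm32 sqNorm_vec hw
  rw [ncard_norm_32, natCard_Co0] at h
  rw [natCard_stabPerm]
  omega

theorem vec_code : ∀ i, MatFThree.decF3 24 fixCode i 0 = ConwayModel.red Spor.leechU i := by
  decide +kernel

theorem multiplier : Cfsg.HasCyclicSchurMultiplier ↥Cfsg.Spor.Co2 1 := by
  show Cfsg.HasCyclicSchurMultiplier (stabPerm Spor.leechU) 1
  have := finite_stabPerm Spor.leechU
  refine hasCyclicSchurMultiplier_one fun p hp => ?_
  have : Fact p.Prime := ⟨hp⟩
  by_cases hd : p ∣ Nat.card (stabPerm Spor.leechU)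
  · rw [natCard_eq, show (42305421312000 : ℕ) = 2 ^ 18 * 3 ^ 6 * 5 ^ 3 * 7 * 11 * 23 by norm_num] at hd
    rcases hp.dvd_mul.mp hd with hd | hd
    rcases hp.dvd_mul.mp hd with hd | hd
    rcases hp.dvd_mul.mp hd with hd | hd
    rcases hp.dvd_mul.mp hd with hd | hd
    rcases hp.dvd_mul.mp hd with hd | hd
    · obtain rfl := (Nat.prime_dvd_prime_iff_eq hp Nat.prime_two).mp (hp.dvd_of_dvd_pow hd)
      exact Pc.noMultiplierAt_of_spanAt (spanAt_stab (p := 2) (by rw [sqNorm_vec]; norm_num) vec_code
        two_members two_gens.1 two_gens.2 two_ok rfl (d := 161382375) (by norm_num)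
        (by rw [natCard_eq]; norm_num [twoRules]) rfl rfl)
    · obtain rfl := (Nat.prime_dvd_prime_iff_eq hp Nat.prime_three).mp (hp.dvd_of_dvd_pow hd)
      exact Pc.noMultiplierAt_of_spanAt (spanAt_stab (p := 3) (by rw [sqNorm_vec]; norm_num) vec_code
        three_members three_gens.1 three_gens.2 three_ok rfl (d := 58032128000) (by norm_num)
        (by rw [natCard_eq]; norm_num [threeRules]) rfl rfl)
    · obtain rfl := (Nat.prime_dvd_prime_iff_eq hp (by norm_num)).mp (hp.dvd_of_dvd_pow hd)
      exact Pc.noMultiplierAt_of_spanAt (spanAt_stab (p := 5) (by rw [sqNorm_vec]; norm_num) vec_code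
        five_members five_gens.1 five_gens.2 five_ok rfl (d := 338443370496) (by norm_num)
        (by rw [natCard_eq]; norm_num [fiveRules]) rfl rfl)
    · obtain rfl := (Nat.prime_dvd_prime_iff_eq hp (by norm_num)).mp hd
      exact Pc.noMultiplierAt_of_spanAt (spanAt_stab (p := 7) (by rw [sqNorm_vec]; norm_num) vec_code
        seven_members seven_gens.1 seven_gens.2 seven_ok rfl (d := 6043631616000) (by norm_num)
        (by rw [natCard_eq]; norm_num [sevenRules]) rfl rfl)
    · obtain rfl := (Nat.prime_dvd_prime_iff_eq hp (by norm_num)).mp hd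
      exact Pc.noMultiplierAt_of_spanAt (spanAt_stab (p := 11) (by rw [sqNorm_vec]; norm_num) vec_code
        eleven_members eleven_gens.1 eleven_gens.2 eleven_ok rfl (d := 3845947392000) (by norm_num)
        (by rw [natCard_eq]; norm_num [elevenRules]) rfl rfl)
    · obtain rfl := (Nat.prime_dvd_prime_iff_eq hp (by norm_num)).mp hd
      exact Pc.noMultiplierAt_of_spanAt (spanAt_stab (p := 23) (by rw [sqNorm_vec]; norm_num) vec_code
        twentyThree_members twentyThree_gens.1 twentyThree_gens.2 twentyThree_ok rfl (d := 1839366144000) (by norm_num)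
        (by rw [natCard_eq]; norm_num [twentyThreeRules]) rfl rfl)
  · exact noMultiplierAt_of_not_dvd hd

end CfsgLib.Schur.MultiplierCo2
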