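import Cfsg.Agent.Lib.Schur.MultiplierCo2DataTwoDefs

/-! Generated polycyclic certificate for the multiplier of Co2 at 2. -/

set_option autoImplicit false
set_option maxRecDepth 100000
set_option Elab.async false

namespace CfsgLib.Schur.MultiplierCo2

open CfsgLib.Schur CfsgLib.Schur.MatFThree
theorem two_solve0 : Pc.rangeOK (Pc.Cert.solveStep twoCert twoRules 9 twoVals) 0 2 = true := by
  decide +kernel

theorem two_solve1 : Pc.rangeOK (Pc.Cert.solveStep twoCert twoRules 9 twoVals) 2 2 = true := by
  decide +kernel

theorem two_solve2 : Pc.rangeOK (Pc.Cert.solveStep twoCert twoRules 9 twoVals) 4 2 = true := by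
  decide +kernel

theorem two_solve3 : Pc.rangeOK (Pc.Cert.solveStep twoCert twoRules 9 twoVals) 6 2 = true := by
  decide +kernel

theorem two_solve4 : Pc.rangeOK (Pc.Cert.solveStep twoCert twoRules 9 twoVals) 8 2 = true := by
  decide +kernel

theorem two_solve5 : Pc.rangeOK (Pc.Cert.solveStep twoCert twoRules 9 twoVals) 10 2 = true := by
  decide +kernel

theorem two_solve6 : Pc.rangeOK (Pc.Cert.solveStep twoCert twoRules 9 twoVals) 12 2 = true := by
  decide +kernel

theorem two_solve7 : Pc.rangeOK (Pc.Cert.solveStep twoCert twoRules 9 twoVals) 14 2 = true := by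
  decide +kernel

theorem two_solve8 : Pc.rangeOK (Pc.Cert.solveStep twoCert twoRules 9 twoVals) 16 2 = true := by
  decide +kernel

theorem two_rest : Pc.Cert.solveRest twoCert twoRules = true := by
  decide +kernel

theorem two_shape : Pc.Rules.shapeOK twoRules = true := by
  decide +kernel

theorem two_holds : Pc.holdsOK (fun a b => (fun c => c) (mulF3 24 a b)) (MatFThree.oneF3 24) twoRules twoCert twoGens twoConj = true := by
  decide +kernel


end CfsgLib.Schur.MultiplierCo2
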