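import Cfsg.Agent.Lib.Schur.MultiplierCo2DataTwoDefs

/-! Generated polycyclic certificate for the multiplier of Co2 at 2. -/

set_option autoImplicit false
set_option maxRecDepth 100000
set_option Elab.async false

namespace CfsgLib.Schur.MultiplierCo2

open CfsgLib.Schur CfsgLib.Schur.MatFThree
theorem two_members : PcConway.membersOK fixCode 2971 twoT twoO ([277,668,881,1216,1398,1402,1406,1410,1414,1420,1423,1424,1584,1588,1600,1603,1073,1074] ++ [1761,1985,2402,2579,2810,2970]) = true :=
  PcConway.membersOK_of two_prog two_fix

theorem two_gens : ([277,668,881,1216,1398,1402,1406,1410,1414,1420,1423,1424,1584,1588,1600,1603,1073,1074] : List ℕ).map twoT.get = twoGens ∧ ([1761,1985,2402,2579,2810,2970] : List ℕ).map twoT.get = twoConj := by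
  decide +kernel


end CfsgLib.Schur.MultiplierCo2
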