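import Cfsg.Agent.Lib.Schur.PcConwayStab

/-! The fixed vector of Co3 as a code. -/

set_option autoImplicit false

namespace CfsgLib.Schur.MultiplierCo3

/-- The fixed vector as a column. -/
def fixCode : ℕ := 0x1000001000001000001000001000001000001000001000001000001000001000001000001000001000001000001000001000001000001000001000001000001000001000001000000000000000000000000000000000000000000000000000000000000000000000000000000000000000000000000000000000000000000000000000000000000000000

end CfsgLib.Schur.MultiplierCo3
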