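import Cfsg.Agent.Lib.Schur.MultiplierG2FourLines
import Cfsg.Agent.Lib.Presented.SuzG2.Iso
import Cfsg.Agent.Lib.Spin.Basic
import Cfsg.Agent.Lib.ChevStr.Perfect
import Cfsg.Prelude.Def_KGroupFacts

/-!
The double cover of `G₂(4)`: its pullback to the spin cover of the alternating group on the 1365
lines of the hexagon, where a short root involution moves 670 pairs and so lifts to an element
of order four.
-/

set_option autoImplicit false
set_option maxRecDepth 100000

noncomputable section

namespace CfsgLib.Spin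

open CliffordAlgebra

/-- The sum of the numbers below `k`. -/
def tri : ℕ → ℕ
  | 0 => 0
  | k + 1 => tri k + k

variable {n : ℕ}

/-- The lift of an involution with `k` two-cycles squares to `(-1) ^ tri k`. -/
theorem exists_lift_sq : ∀ (k : ℕ) (σ : Equiv.Perm (Fin n)), (∀ i, σ (σ i) = i) →
    σ.support.card = 2 * k → ∃ u : (Cl n)ˣ, (u : Cl n) ∈ W n k ∧ reverse (u : Cl n) * u = 1 ∧
      Equiv.Perm.sign σ = (-1) ^ k ∧
      (∀ i, (u : Cl n) * gen i = (-1 : ℝ) ^ k • (gen (σ i) * u)) ∧
      (u : Cl n) * u = (-1 : ℝ) ^ tri k • (1 : Cl n) := by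
  intro k
  induction k with
  | zero =>
    intro σ _ hc
    obtain rfl : σ = 1 := Equiv.Perm.support_eq_empty_iff.1 (Finset.card_eq_zero.1 hc)
    exact ⟨1, one_mem_W, by simp, by simp, fun i => by simp, by simp [tri]⟩
  | succ k ih =>
    intro σ hinv hc
    obtain ⟨a, ha⟩ := Finset.card_pos.1 (show 0 < σ.support.card by omega)
    have hab : a ≠ σ a := fun h => Equiv.Perm.mem_support.1 ha h.symm
    set b := σ a with hb
    have hba : σ b = a := hinv a
    set f := Equiv.swap a b * σ with hf
    have hfx : ∀ i, i ≠ a → i ≠ b → f i = σ i := fun i h1 h2 => by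
      rw [hf, Equiv.Perm.mul_apply]
      refine Equiv.swap_apply_of_ne_of_ne (fun h => h2 ?_) (fun h => h1 ?_)
      · rw [← hinv i, h]
      · exact σ.injective h
    have hfa : f a = a := by rw [hf, Equiv.Perm.mul_apply, ← hb, Equiv.swap_apply_right]
    have hfb : f b = b := by rw [hf, Equiv.Perm.mul_apply, hba, Equiv.swap_apply_left]
    have hfinv : ∀ i, f (f i) = i := by
      intro i
      by_cases h1 : i = a
      · rw [h1, hfa, hfa]
      by_cases h2 : i = b
      · rw [h2, hfb, hfb]
      rw [hfx i h1 h2, hfx (σ i) (fun h => h2 (by rw [← hinv i, h])) (fun h => h1 (σ.injective h)),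
        hinv]
    have hsupp : f.support = σ.support \ {a, b} := by
      ext i
      simp only [Equiv.Perm.mem_support, Finset.mem_sdiff, Finset.mem_insert, Finset.mem_singleton,
        not_or]
      by_cases h1 : i = a
      · simp [h1, hfa]
      by_cases h2 : i = b
      · simp [h2, hfb]
      simp [hfx i h1 h2, h1, h2]
    have hbs : b ∈ σ.support := Equiv.Perm.mem_support.2 (by rw [hba]; exact hab)
    have hcard : f.support.card = 2 * k := by
      rw [hsupp, Finset.card_sdiff_of_subset (Finset.insert_subset ha (Finset.singleton_subset_iff.2 hbs)),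
        Finset.card_pair hab, hc]
      omega
    obtain ⟨u, hW, hrev, hsgn, hact, hsq⟩ := ih f hfinv hcard
    let t : (Cl n)ˣ := ⟨tr a b, tr a b, tr_sq hab, tr_sq hab⟩
    have hσ : σ = Equiv.swap a b * f := by rw [hf, ← mul_assoc, Equiv.swap_mul_self, one_mul]
    have hut : (u : Cl n) * tr a b = (-1 : ℝ) ^ k • (tr a b * u) := by
      rw [tr, mul_smul_comm, mul_sub, hact a, hact b, hfa, hfb, ← smul_sub, ← sub_mul, smul_comm,
        smul_mul_assoc]
    refine ⟨t * u, ?_, ?_, ?_, fun i => ?_, ?_⟩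
    · rw [W_congr (k := k + 1) (m := 1 + k) (by rw [add_comm]), Units.val_mul]
      exact mul_mem_W (tr_mem_W a b) hW
    · show reverse (tr a b * (u : Cl n)) * (tr a b * (u : Cl n)) = 1
      rw [reverse.map_mul, reverse_tr, mul_assoc, ← mul_assoc (tr a b), tr_sq hab, one_mul, hrev]
    · rw [hσ, Equiv.Perm.sign_mul, Equiv.Perm.sign_swap hab, hsgn, pow_succ']
    · show tr a b * (u : Cl n) * gen i = (-1 : ℝ) ^ (k + 1) • (gen (σ i) * (tr a b * (u : Cl n)))
      rw [hσ, mul_assoc, hact i, mul_smul_comm, ← mul_assoc, tr_mul_gen hab, pow_succ',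
        neg_one_mul, neg_smul, ← smul_neg, neg_mul, mul_assoc]
      rfl
    · show tr a b * (u : Cl n) * (tr a b * (u : Cl n)) = _
      rw [mul_assoc, ← mul_assoc (u : Cl n), hut, smul_mul_assoc, mul_smul_comm, mul_assoc, ← mul_assoc,
        tr_sq hab, one_mul, hsq, smul_smul, tri, pow_add, mul_comm]

/-- An involution with `k` two-cycles, `k` even and `tri k` odd, lifts to an element squaring to the
central involution. -/
theorem exists_lift_order_four {σ : Equiv.Perm (Fin n)} (hσ : σ ∈ alternatingGroup (Fin n))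
    (hinv : ∀ i, σ (σ i) = i) {k : ℕ} (hc : σ.support.card = 2 * k) (hk : k % 2 = 0)
    (ht : tri k % 2 = 1) :
    ∃ u : spinAlt n, toAlt n u = ⟨σ, hσ⟩ ∧ u * u = negOne n := by
  obtain ⟨u, hW, hrev, -, hact, hsq⟩ := exists_lift_sq k σ hinv hc
  have hk' : Even k := Nat.even_iff.2 hk
  have hW0 : (u : Cl n) ∈ W n 0 := by
    rw [W_congr (k := 0) (m := k) (by rw [hk])]
    exact hW
  have hact' : ∀ i, (u : Cl n) * gen i = gen (σ i) * u := fun i => by
    rw [hact i, hk'.neg_one_pow, one_smul]
  refine ⟨⟨u, hW0, hrev, σ, hσ, hact'⟩, Subtype.ext (permOf_eq _ hact'), Subtype.ext (Units.ext ?_)⟩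
  show (u : Cl n) * u = -1
  rw [hsq, (Nat.odd_iff.2 ht).neg_one_pow, neg_one_smul]

end CfsgLib.Spin

namespace CfsgLib.Schur.MultiplierG2Four

open CfsgLib.Presented CfsgLib.Presented.SuzG2 CfsgLib.Recognition.G2Four Cfsg

/-- The image of a line under a letter. -/
def lineImg (i : ℕ) (x : Fin 1365) : Fin 1365 :=
  if i < 6 then ⟨(((lineTab.getD i 0) >>> (11 * x.val)) % 2048) % 1365, Nat.mod_lt _ (by norm_num)⟩
  else x

theorem img_sq_check : (List.range 6).all (fun i => (List.finRange 1365).all fun x =>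
    (lineImg i (lineImg i x)).val == x.val) = true := by
  decide +kernel

theorem img_sq (i : ℕ) (x : Fin 1365) : lineImg i (lineImg i x) = x := by
  by_cases h : i < 6
  · exact Fin.ext (beq_iff_eq.1
      (List.all_eq_true.1 (List.all_eq_true.1 img_sq_check i (List.mem_range.2 h)) x (List.mem_finRange x)))
  · simp [lineImg, h]

/-- The permutation of a letter. -/
def linePerm (i : ℕ) : Equiv.Perm (Fin 1365) := ⟨lineImg i, lineImg i, img_sq i, img_sq i⟩

theorem evW_linePerm : ∀ (w : List ℕ) (x : Fin 1365), evW linePerm w x = w.foldr lineImg x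
  | [], x => rfl
  | i :: w, x => by
    show evW linePerm (i :: w) x = lineImg i (w.foldr lineImg x)
    rw [← evW_linePerm w x]
    rfl

theorem rel_img_check : relsH.all (fun w => (List.finRange 1365).all fun x =>
    (w.foldr lineImg x).val == x.val) = true := by
  decide +kernel

theorem linePerm_rels : ∀ w ∈ relsH, evW linePerm w = 1 := fun w hw => Equiv.ext fun x => by
  rw [evW_linePerm, Equiv.Perm.one_apply]
  exact Fin.ext (beq_iff_eq.1
    (List.all_eq_true.1 (List.all_eq_true.1 rel_img_check w hw) x (List.mem_finRange x)))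

/-- The values in the product. -/
def evQ (x : ℕ) : Equiv.Perm (Fin 1365) × grp := (linePerm x, xGrp x)

theorem evQ_one : evQ SuzCert.alphabet.eps = 1 := by
  rw [alph.1]
  exact Prod.ext (Equiv.ext fun x => rfl) rfl

theorem evQ_inv : ∀ x, x < SuzCert.alphabet.eps → evQ (SuzCert.alphabet.invl x) * evQ x = 1 := by
  intro x hx
  rw [alph.1] at hx
  rw [alph.2 x hx]
  refine Prod.ext (Equiv.ext fun y => img_sq x y) (mat6_injective ?_)
  show mat6 (xGrp x * xGrp x) = mat6 1
  rw [map_mul, map_one, mat6_xGrp]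
  exact sq_check ⟨x, by omega⟩

theorem evQ_rels : ∀ w ∈ relsH, evW evQ w = 1 := by
  intro w hw
  refine Prod.ext ?_ ?_
  · show MonoidHom.fst _ _ (w.map evQ).prod = 1
    rw [map_list_prod, List.map_map]
    exact linePerm_rels w hw
  · show MonoidHom.snd _ _ (w.map evQ).prod = 1
    rw [map_list_prod, List.map_map]
    exact xGrp_rels w hw

theorem exists_hom : ∃ φ : grp →* Equiv.Perm (Fin 1365),
    ∀ w : List ℕ, (∀ x ∈ w, x ∈ [0, 1, 2, 3, 4, 5]) → φ (evW xGrp w) = evW linePerm w := by
  obtain ⟨hne, hle⟩ := SuzG2.card_le evQ_one evQ_inv evQ_rels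
  have hfin : Finite (genBy evQ [0, 1, 2, 3, 4, 5]) := Nat.finite_of_card_ne_zero hne
  have h2 : (genBy evQ [0, 1, 2, 3, 4, 5]).map (MonoidHom.snd _ _) = ⊤ := by
    rw [genBy, MonoidHom.map_closure, Set.image_image]
    exact genBy_xGrp
  let f2 : genBy evQ [0, 1, 2, 3, 4, 5] →* grp := (MonoidHom.snd _ _).comp (Subgroup.subtype _)
  have s2 : Function.Surjective f2 := by
    intro y
    obtain ⟨z, hz, rfl⟩ : y ∈ (genBy evQ [0, 1, 2, 3, 4, 5]).map (MonoidHom.snd _ _) :=
      h2 ▸ Subgroup.mem_top y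
    exact ⟨⟨z, hz⟩, rfl⟩
  have b2 := s2.bijective_of_nat_card_le (by rw [card_grp]; exact hle)
  refine ⟨((MonoidHom.fst _ _).comp (Subgroup.subtype _)).comp
    (MulEquiv.ofBijective f2 b2).symm.toMonoidHom, fun w hw => ?_⟩
  have hmem : evW evQ w ∈ genBy evQ [0, 1, 2, 3, 4, 5] := by
    refine list_prod_mem fun x hx => ?_
    obtain ⟨i, hi, rfl⟩ := List.mem_map.1 hx
    exact mem_genBy evQ (hw i hi)
  have h1 : (evW evQ w).1 = evW linePerm w := by
    show MonoidHom.fst _ _ (w.map evQ).prod = _
    rw [map_list_prod, List.map_map]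
    rfl
  have h3 : (evW evQ w).2 = evW xGrp w := by
    show MonoidHom.snd _ _ (w.map evQ).prod = _
    rw [map_list_prod, List.map_map]
    rfl
  have h4 : (MulEquiv.ofBijective f2 b2).symm (evW xGrp w) = ⟨evW evQ w, hmem⟩ :=
    (MulEquiv.symm_apply_eq _).2 h3.symm
  show ((MulEquiv.ofBijective f2 b2).symm (evW xGrp w)).1.1 = _
  rw [h4, h1]

/-- A word for a short root involution. -/
def shortWord : List ℕ := gw.getD 9 []

theorem short_check : (List.finRange 1365).all (fun x =>
      (shortWord.foldr lineImg (shortWord.foldr lineImg x)).val == x.val) = true ∧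
    ((List.finRange 1365).filter (fun x => !((shortWord.foldr lineImg x).val == x.val))).length = 1340 := by
  decide +kernel

theorem short_support : (evW linePerm shortWord).support.card = 2 * 670 := by
  have h : (evW linePerm shortWord).support =
      ((List.finRange 1365).filter (fun x => !((shortWord.foldr lineImg x).val == x.val))).toFinset := by
    ext x
    simp [Equiv.Perm.mem_support, evW_linePerm, Fin.ext_iff]
  rw [h, List.toFinset_card_of_nodup ((List.nodup_finRange _).filter _)]
  exact short_check.2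

theorem perfect_grp : commutator grp = ⊤ := by
  have h := CfsgLib.ChevStr.perfectG2 (F := F4) ⟨⟨2⟩, by decide, by decide⟩
  have h1 := congrArg (Subgroup.map equivGroup.symm.toMonoidHom) h
  rw [commutator_def, Subgroup.map_commutator, Subgroup.map_top_of_surjective _ equivGroup.symm.surjective,
    ← commutator_def] at h1
  exact h1

/-- The cover. -/
theorem exists_cover : ∃ (Γ : Type) (_ : Group Γ) (_ : Finite Γ) (σ : Γ →* grp),
    IsStemExtension σ ∧ Nat.card σ.ker = 2 := by
  have : Finite grp := Nat.finite_of_card_ne_zero (by rw [card_grp]; norm_num)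
  obtain ⟨φ, hφ⟩ := exists_hom
  have heven : ∀ g, φ g ∈ alternatingGroup (Fin 1365) := fun g => by
    have hle : commutator grp ≤ (Equiv.Perm.sign.comp φ).ker := Abelianization.commutator_subset_ker _
    exact hle (perfect_grp ▸ Subgroup.mem_top g)
  let ψ : grp →* alternatingGroup (Fin 1365) := φ.codRestrict _ heven
  let E : Subgroup (CfsgLib.Spin.spinAlt 1365 × grp) :=
    MonoidHom.eqLocus ((CfsgLib.Spin.toAlt 1365).comp (MonoidHom.fst _ _)) (ψ.comp (MonoidHom.snd _ _))
  let σ : E →* grp := (MonoidHom.snd _ _).comp E.subtype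
  have : Finite (CfsgLib.Spin.spinAlt 1365) := CfsgLib.Spin.finite_spinAlt 1365
  have hsurj : Function.Surjective σ := fun g => by
    obtain ⟨u, hu⟩ := CfsgLib.Spin.toAlt_surjective 1365 (ψ g)
    exact ⟨⟨(u, g), hu⟩, rfl⟩
  have hker : ∀ e : E, e ∈ σ.ker → e.1.1 ∈ Subgroup.zpowers (CfsgLib.Spin.negOne 1365) := by
    intro e he
    rw [← CfsgLib.Spin.ker_toAlt, MonoidHom.mem_ker]
    have h1 : CfsgLib.Spin.toAlt 1365 e.1.1 = ψ e.1.2 := e.2
    rw [h1, show e.1.2 = 1 from he, map_one]
  have hcent : σ.ker ≤ Subgroup.center E := by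
    intro e he
    refine Subgroup.mem_center_iff.2 fun g => Subtype.ext (Prod.ext ?_ ?_)
    · exact Subgroup.mem_center_iff.1
        ((Subgroup.zpowers_le.2 (CfsgLib.Spin.negOne_mem_center 1365)) (hker e he)) g.1.1
    · show g.1.2 * e.1.2 = e.1.2 * g.1.2
      rw [show e.1.2 = 1 from he, mul_one, one_mul]
  have hnegMem : ((CfsgLib.Spin.negOne 1365, 1) : CfsgLib.Spin.spinAlt 1365 × grp) ∈ E := by
    show CfsgLib.Spin.toAlt 1365 _ = ψ 1
    rw [map_one, ← MonoidHom.mem_ker, CfsgLib.Spin.ker_toAlt]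
    exact Subgroup.mem_zpowers _
  let z : E := ⟨_, hnegMem⟩
  have hkerz : σ.ker = Subgroup.zpowers z := by
    refine le_antisymm (fun e he => ?_) (Subgroup.zpowers_le.2 rfl)
    obtain ⟨m, hm⟩ := Subgroup.mem_zpowers_iff.1 (hker e he)
    exact Subgroup.mem_zpowers_iff.2 ⟨m, Subtype.ext (Prod.ext hm ((one_zpow m).trans (Eq.symm he)))⟩
  have hz : orderOf z = 2 := by
    refine orderOf_eq_prime (Subtype.ext (Prod.ext ?_ (one_pow 2))) fun h => ?_
    · show CfsgLib.Spin.negOne 1365 ^ 2 = 1
      rw [← CfsgLib.Spin.orderOf_negOne 1365]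
      exact pow_orderOf_eq_one _
    · exact CfsgLib.Spin.negOne_ne_one 1365 (congrArg (fun e : E => e.1.1) h)
  -- an element squaring to the central involution
  have hsw : ∀ x ∈ shortWord, x ∈ [0, 1, 2, 3, 4, 5] := gw_letters 9 (by norm_num)
  have hσ' : φ (evW xGrp shortWord) = evW linePerm shortWord := hφ _ hsw
  obtain ⟨u, hu, huu⟩ := CfsgLib.Spin.exists_lift_order_four (σ := evW linePerm shortWord)
    (hσ' ▸ heven _) (fun x => by
      rw [evW_linePerm, evW_linePerm]
      exact Fin.ext (beq_iff_eq.1 (List.all_eq_true.1 short_check.1 x (List.mem_finRange x))))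
    short_support (by norm_num) (by decide +kernel)
  let g : E := ⟨(u, evW xGrp shortWord), hu.trans (Subtype.ext hσ'.symm)⟩
  have hgg : g * g = z := by
    refine Subtype.ext (Prod.ext huu (mat6_injective ?_))
    show mat6 (evW xGrp shortWord * evW xGrp shortWord) = mat6 1
    rw [map_mul, map_one, mat6_evW]
    exact (congrArg (fun M => M * M) (gen_check ⟨2, by norm_num⟩ ⟨1, by norm_num⟩)).trans
      (a6_sq _ _)
  have htop : commutator E ⊔ σ.ker = ⊤ := by
    have h1 := Subgroup.comap_map_eq σ (commutator E)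
    rw [commutator_def, Subgroup.map_commutator, Subgroup.map_top_of_surjective σ hsurj,
      ← commutator_def, perfect_grp, Subgroup.comap_top] at h1
    rw [commutator_def]
    exact h1.symm
  have hzc : z ∈ commutator E := by
    obtain ⟨c, hc, w, hw, e⟩ := Subgroup.mem_sup_of_normal_right.1 (htop ▸ Subgroup.mem_top g)
    have hw2 : w * w = 1 := by
      have hw' : w ∈ Subgroup.zpowers z := hkerz ▸ hw
      obtain ⟨m, rfl⟩ := Subgroup.mem_zpowers_iff.1 hw'
      have hzz : z * z = 1 := by rw [← pow_two, ← hz]; exact pow_orderOf_eq_one z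
      rw [← (Commute.refl z).mul_zpow, hzz, one_zpow]
    rw [← hgg, ← e, mul_assoc, ← mul_assoc w c, ← Subgroup.mem_center_iff.1 (hcent hw) c, mul_assoc c w,
      hw2, mul_one]
    exact mul_mem hc hc
  exact ⟨E, inferInstance, inferInstance, σ,
    ⟨hsurj, hcent, hkerz ▸ Subgroup.zpowers_le.2 hzc⟩,
    by rw [hkerz, Nat.card_zpowers, hz]⟩

end CfsgLib.Schur.MultiplierG2Four

end
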