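import Cfsg.Agent.Lib.Schur.MultiplierG2FourUpper
import Cfsg.Agent.Lib.Schur.MultiplierG2FourCover
import Cfsg.Agent.Lib.Recognition.Transport.Chevalley
import Mathlib.Algebra.Group.Shrink
import Mathlib.Data.Countable.Small
import Mathlib.Algebra.Group.ULift
import Mathlib.FieldTheory.Finite.GaloisField

/-!
The Schur multiplier of `G₂(4)` is cyclic of order two.
-/

set_option autoImplicit false

namespace CfsgLib.Schur.MultiplierG2Four

open Cfsg

universe u

/-- A bound passes to a copy of the group in any universe. -/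
theorem spanAt_transport {H : Type} [Group H] {G : Type u} [Group G] (e : H ≃* G) {p : ℕ}
    {ords : List ℕ} (h : Pc.SpanAt p H ords) : Pc.SpanAt p G ords := by
  intro Γ _ _ σ hσ
  have : Small.{0} Γ := Countable.toSmall Γ
  let f : Shrink.{0} Γ ≃* Γ := Shrink.mulEquiv
  have : Finite (Shrink.{0} Γ) := Finite.of_equiv _ f.symm.toEquiv
  let τ : Shrink.{0} Γ →* H := e.symm.toMonoidHom.comp (σ.comp f.toMonoidHom)
  have hk : τ.ker = σ.ker.comap f.toMonoidHom := by
    ext x
    show e.symm (σ (f x)) = 1 ↔ σ (f x) = 1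
    exact map_eq_one_iff _ e.symm.injective
  have hc : ∀ x, x ∈ Subgroup.center (Shrink.{0} Γ) ↔ f x ∈ Subgroup.center Γ := fun x => by
    simp only [Subgroup.mem_center_iff]
    exact ⟨fun hx g => by
        obtain ⟨y, rfl⟩ := f.surjective g
        rw [← map_mul, ← map_mul, hx],
      fun hx g => f.injective (by rw [map_mul, map_mul, hx])⟩
  have hst : IsStemExtension τ := by
    refine ⟨e.symm.surjective.comp (hσ.1.comp f.surjective), ?_, ?_⟩ <;> rw [hk]
    · exact fun x hx => (hc x).2 (hσ.2.1 hx)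
    · intro x hx
      obtain ⟨y, hy, hyx⟩ : f x ∈ (commutator (Shrink.{0} Γ)).map f.toMonoidHom := by
        rw [commutator_def, Subgroup.map_commutator, Subgroup.map_top_of_surjective _ f.surjective,
          ← commutator_def]
        exact hσ.2.2 hx
      exact f.injective hyx ▸ hy
  obtain ⟨us, h1, h2⟩ := h _ τ hst
  refine ⟨fun k => f (us k), fun k => ⟨?_, fun hk' => ?_⟩, fun z hz ⟨m, hm⟩ => ?_⟩
  · exact Subgroup.mem_comap.1 (hk ▸ (h1 k).1 : us k ∈ σ.ker.comap f.toMonoidHom)
  · rw [← map_pow, (h1 k).2 hk', map_one]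
  · have hz' : f.symm z ∈ τ.ker := by
      rw [hk, Subgroup.mem_comap]
      simpa using hz
    have hmem := Subgroup.mem_map_of_mem f.toMonoidHom
      (h2 _ hz' ⟨m, f.injective (by rw [map_pow, MulEquiv.apply_symm_apply, hm, map_one])⟩)
    rw [MonoidHom.map_closure, Set.image_image] at hmem
    simpa using hmem

theorem multiplier {F : Type u} [Field F] [Fintype F] (hF : Fintype.card F = 4) :
    HasCyclicSchurMultiplier ↥(Cfsg.Lie.chevG2.group F) 2 := by
  obtain ⟨e⟩ : Nonempty (CfsgLib.Recognition.G2Four.F4 ≃+* F) :=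
    ⟨FiniteField.ringEquivOfCardEq (CfsgLib.Recognition.G2Four.F4.card_eq.trans hF.symm)⟩
  obtain ⟨f⟩ := CfsgLib.Recognition.Transport.nonempty_group_congr (D := Cfsg.Lie.chevG2) e
  let ψ := CfsgLib.Recognition.G2Four.equivGroup.trans f
  have : Finite ↥(Cfsg.Lie.chevG2.group F) := Finite.of_equiv _ ψ.toEquiv
  refine Pc.hasCyclicSchurMultiplier_of_spans (a := 2) (b := 1) (pa := 2) (pb := 3) rfl (by norm_num)
    (spanAt_transport ψ span_two)
    (Pc.spanAt_one_of_spanAt_nil (spanAt_transport ψ (span_rest 3 Nat.prime_three (by norm_num))))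
    (fun p hp h2 _ => spanAt_transport ψ (span_rest p hp h2)) ?_
  obtain ⟨Γ, i1, i2, σ, hσ, hcard⟩ := exists_cover
  let up : ULift.{u} Γ ≃* Γ := MulEquiv.ulift
  let τ : ULift.{u} Γ →* ↥(Cfsg.Lie.chevG2.group F) := ψ.toMonoidHom.comp (σ.comp up.toMonoidHom)
  have hk : τ.ker = σ.ker.comap up.toMonoidHom := by
    ext x
    show ψ (σ (up x)) = 1 ↔ σ (up x) = 1
    exact map_eq_one_iff _ ψ.injective
  refine ⟨ULift.{u} Γ, inferInstance, inferInstance, τ, ⟨ψ.surjective.comp (hσ.1.comp up.surjective), ?_, ?_⟩,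
    ⟨?_⟩⟩
  · rw [hk]
    exact fun x hx => Subgroup.mem_center_iff.2 fun g => up.injective (by
      rw [map_mul, map_mul]; exact Subgroup.mem_center_iff.1 (hσ.2.1 hx) (up g))
  · rw [hk]
    intro x hx
    obtain ⟨y, hy, hyx⟩ : up x ∈ (commutator (ULift.{u} Γ)).map up.toMonoidHom := by
      rw [commutator_def, Subgroup.map_commutator, Subgroup.map_top_of_surjective _ up.surjective,
        ← commutator_def]
      exact hσ.2.2 hx
    exact up.injective hyx ▸ hy
  · have : Fact (Nat.Prime 2) := ⟨Nat.prime_two⟩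
    refine mulEquivOfPrimeCardEq (p := 2) ?_ (by simp [Nat.card_eq_fintype_card])
    rw [hk]
    refine (Nat.card_congr ?_).trans hcard
    exact up.toEquiv.subtypeEquiv fun _ => Iff.rfl

end CfsgLib.Schur.MultiplierG2Four
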