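import Cfsg.Agent.Lib.Schur.PcData

/-! Generated polycyclic certificates for the multiplier of `G₂(4)`, on matrices coded over two elements. -/

set_option autoImplicit false
set_option maxRecDepth 20000

namespace CfsgLib.Schur.MultiplierG2Four

open CfsgLib.Schur

/-- The codes of the root elements. -/
def rootCodes : List ℕ := [0x800400200100080040020010008004002001,
  0x800400200100080040020010808404202101,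
  0x800400200100080040020010c08804302201,
  0x800400200100080040020010408c04102301,
  0x800400200100080040020010008004002001,
  0x800400200100080040820410008004082041,
  0x800400200100080040c208100080040c2081,
  0x800400200100080040420c100080040420c1,
  0x800400200100080040020010008004002001,
  0x800400200100080040220110088044802401,
  0x8004002001000800403202100c8084402c01,
  0x8004002001000800401203100480c4c02801,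
  0x800400200100080040020010008004002001,
  0x800400200100880440020010208104022011,
  0x800400200100c80840020010108304032021,
  0x800400200100480c40020010308204012031,
  0x800400200100080040020010008004002001,
  0x800400a005000800400a005000800400a005,
  0x800400e009000800400600d000800400e009,
  0x800400600d000800400e009000800400600d,
  0x800400200100080040020010008004002001,
  0x800400200100280140020010028014002001,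
  0x800400200100380240020010038024002001,
  0x800400200100180340020010018034002001,
  0x800400200100080040020010008004002001,
  0x800400280140080040028014008004002001,
  0x8004002c018008004002c018008004002001,
  0x8004002401c008004002401c008004002001,
  0x800400200100080040020010008004002001,
  0xa005002001000a005002001000a005002001,
  0xb0060020010009007002001000b006002001,
  0x9007002001000b0060020010009007002001,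
  0x800400200100080040020010008004002001,
  0x880440208104080040022011008004002001,
  0x8c048020410c080040023012008004002001,
  0x8404c020c108080040021013008004002001,
  0x800400200100080040020010008004002001,
  0x802401220110088044020010008004002001,
  0x80140323012008c048020010008004002001,
  0x80340221013008404c020010008004002001,
  0x800400200100080040020010008004002001,
  0x820410200100082041020010008004002001,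
  0x830420200100083042020010008004002001,
  0x810430200100081043020010008004002001,
  0x800400200100080040020010008004002001,
  0x808404202101080040020010008004002001,
  0x80c408203102080040020010008004002001,
  0x80440c201103080040020010008004002001]

/-- The relations at the prime 2. -/
def twoRules : Pc.Rules where
  p := 2
  n := 12
  d := 4
  pw := [[],[],[],[],[10],[10,11],[10],[10,11],[],[],[],[]]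
  cm := [[[],[],[4],[6],[10],[11],[10],[11],[10],[11],[],[]],
    [[],[],[5],[7],[11],[10,11],[11],[10,11],[11],[10,11],[],[]],
    [[],[],[],[],[10],[10,11],[8,10],[9,10,11],[],[],[],[]],
    [[],[],[],[],[8],[9],[10],[10,11],[],[],[],[]],
    [[],[],[],[],[],[],[10],[11],[],[],[],[]],
    [[],[],[],[],[],[],[11],[10,11],[],[],[],[]],
    [[],[],[],[],[],[],[],[],[],[],[],[]],
    [[],[],[],[],[],[],[],[],[],[],[],[]],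
    [[],[],[],[],[],[],[],[],[],[],[],[]],
    [[],[],[],[],[],[],[],[],[],[],[],[]],
    [[],[],[],[],[],[],[],[],[],[],[],[]],
    [[],[],[],[],[],[],[],[],[],[],[],[]]]

/-- The certificate at the prime 2. -/
def twoCert : Pc.Cert where
  eqns := [.assoc [1] [0] [0],
    .assoc [2] [0] [0],
    .assoc [3] [0] [0],
    .assoc [4] [0] [0],
    .assoc [5] [0] [0],
    .assoc [6] [0] [0],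
    .assoc [7] [0] [0],
    .assoc [8] [0] [0],
    .assoc [9] [0] [0],
    .assoc [10] [0] [0],
    .assoc [11] [0] [0],
    .assoc [2] [1] [0],
    .assoc [3] [1] [0],
    .assoc [4] [1] [0],
    .assoc [5] [1] [0],
    .assoc [2] [2] [0],
    .assoc [3] [2] [0],
    .assoc [4] [2] [0],
    .assoc [5] [2] [0],
    .assoc [6] [2] [0],
    .assoc [7] [2] [0],
    .assoc [8] [2] [0],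
    .assoc [9] [2] [0],
    .assoc [10] [2] [0],
    .assoc [11] [2] [0],
    .assoc [3] [3] [0],
    .assoc [4] [3] [0],
    .assoc [5] [3] [0],
    .assoc [6] [3] [0],
    .assoc [7] [3] [0],
    .assoc [9] [3] [0],
    .assoc [10] [3] [0],
    .assoc [11] [3] [0],
    .assoc [5] [4] [0],
    .assoc [6] [4] [0],
    .assoc [7] [4] [0],
    .assoc [8] [4] [0],
    .assoc [9] [4] [0],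
    .assoc [11] [4] [0],
    .assoc [5] [5] [0],
    .assoc [6] [5] [0],
    .assoc [7] [5] [0],
    .assoc [8] [5] [0],
    .assoc [9] [5] [0],
    .assoc [2] [1] [1],
    .assoc [3] [1] [1],
    .assoc [4] [1] [1],
    .assoc [5] [1] [1],
    .assoc [6] [1] [1],
    .assoc [7] [1] [1],
    .assoc [8] [1] [1],
    .assoc [9] [1] [1],
    .assoc [2] [2] [1],
    .assoc [3] [2] [1],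
    .assoc [5] [2] [1],
    .assoc [6] [2] [1],
    .assoc [7] [2] [1],
    .assoc [8] [2] [1],
    .assoc [9] [2] [1],
    .assoc [3] [3] [1],
    .assoc [4] [3] [1],
    .assoc [5] [3] [1],
    .assoc [7] [3] [1],
    .assoc [3] [2] [2],
    .assoc [6] [2] [2],
    .assoc [7] [2] [2],
    .assoc [8] [2] [2],
    .assoc [9] [2] [2],
    .assoc [4] [3] [2],
    .assoc [5] [3] [2],
    .assoc [6] [3] [2],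
    .assoc [7] [3] [2],
    .assoc [7] [6] [2],
    .fuse 0 [[0,4,9,10],[0,1,4,5,7,8,10,11]] [[0,1,4,11],[4,7,11]] [0,1] [1,0],
    .fuse 0 [[0,6,7,9,10],[1,4,6,8,11]] [[0,4,5,6,7,8],[0,6,8,9,11]] [0,1] [1,0],
    .fuse 0 [[1,4,5,6,9,11],[1,5,6,7,8,10]] [[5,6,8,10],[4,6,7]] [0,1] [1,0],
    .fuse 0 [[1,5,8,9,10,11],[0,1,4,5,7,8,10,11]] [[0,5,10],[4,7,11]] [0,1] [1,0],
    .fuse 0 [[1,5,8,9,11],[1,7,8,10]] [[0,5],[0,1,5,7,9,10]] [0,1] [1,0],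
    .fuse 0 [[0,1,5,6,9,10,11],[0,5,7]] [[0,4,5,6,8,10,11],[7,8,9,10]] [0,1] [1,0],
    .fuse 0 [[4,5,6,7,9,11],[4,5,6,7,8]] [[1,6,7,8,9,10,11],[0,6,7,8,9,11]] [0,1] [1,0],
    .fuse 1 [[3,4,6,7],[2,4,5,6,7,10,11]] [[6,9,10,11],[3,4,9,10,11]] [0,1] [1,0]]
  rows := [[0,0,0,0,0,0,0,0,0,0,0,0,0,2],
    [0,0,0,0,1,0,0,0,0,0,1,0,0,0,2,0,1],
    [0,0,0,0,0,0,1,0,0,0,1,0,0,0,0,2,0,0,1],
    [0,0,0,0,0,0,0,0,0,0,1,0,0,0,0,0,2,0,0,0,0,0,1],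
    [0,0,0,0,0,0,0,0,0,0,0,1,0,0,0,0,0,2,0,0,0,0,0,1],
    [0,0,0,0,0,0,0,0,0,0,1,0,0,0,0,0,0,0,2,0,0,0,1],
    [0,0,0,0,0,0,0,0,0,0,0,1,0,0,0,0,0,0,0,2,0,0,0,1],
    [0,0,0,0,0,0,0,0,0,0,1,0,0,0,0,0,0,0,0,0,2,0,1],
    [0,0,0,0,0,0,0,0,0,0,0,1,0,0,0,0,0,0,0,0,0,2,0,1],
    [0,0,0,0,0,0,0,0,0,0,0,0,0,0,0,0,0,0,0,0,0,0,2],
    [0,0,0,0,0,0,0,0,0,0,0,0,0,0,0,0,0,0,0,0,0,0,0,2],
    [0,0,0,0,0,0,0,0,0,0,0,0,0,0,0,0,0,1,0,0,0,0,0,0,0,0,0,0,(-1),0,0,0,0,0,0,0,0,0,0,0,0,0,0,0,0,0,0,0,0,0,0,0,0,0,0,0,0,0,0,0,0,0,0,0,0,(-1)],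
    [0,0,0,0,0,0,0,0,0,0,0,0,0,0,0,0,0,0,0,1,0,0,0,0,0,0,0,0,0,0,(-1),0,0,0,0,0,0,0,0,0,0,0,0,0,0,0,0,0,0,0,0,0,0,0,0,0,0,0,0,0,0,0,0,0,0,0,0,0,0,0,0,0,0,0,0,0,0,0,0,0,0,0,0,0,0,0,0,0,0,0,0,(-1)],
    [0,0,0,0,0,0,0,0,0,0,0,0,0,0,0,0,0,0,0,0,0,0,0,1,0,0,0,0,0,0,0,0,0,0,(-1),0,0,0,0,0,0,0,0,0,0,0,0,0,0,0,0,0,0,0,0,0,0,0,0,0,0,0,0,0,0,0,0,0,0,0,0,0,0,0,0,0,0,0,0,0,0,0,0,0,0,0,0,0,0,0,0,0,0,0,0,0,0,0,0,0,0,0,0,0,0,0,0,0,0,0,0,0,0,0,0,0,0,0,0,0,0,0,0,0,0,0,0,0,0,0,0,0,0,0,0,0,0,0,0,0,0,0,0,(-1)],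
    [0,0,0,0,0,0,0,0,0,0,0,0,0,0,0,0,0,0,0,0,0,0,1,1,0,0,0,0,0,0,0,0,0,0,0,(-1),0,0,0,0,0,0,0,0,0,0,0,0,0,0,0,0,0,0,0,0,0,0,0,0,0,0,0,0,0,0,0,0,0,0,0,0,0,0,0,0,0,0,0,0,0,0,0,0,0,0,0,0,0,0,0,0,0,0,0,0,0,0,0,0,0,0,0,0,0,0,0,0,0,0,0,0,0,0,0,0,0,0,0,0,0,0,0,0,0,0,0,0,0,0,0,0,0,0,0,0,0,0,0,0,0,0,0,1],
    [0,0,0,0,(-1),0,0,0,0,0,(-1),0,0,0,(-2),0,0,0,0,0,0,0,0,0,0,0,0,0,0,0,0,0,0,0,0,0,0,0,0,0,(-1),0,0,0,0,0,0,0,0,0,0,0,0,0,0,0,0,0,0,0,0,0,0,0,0,0,0,0,0,0,(-1)],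
    [0,0,0,0,0,0,0,0,0,0,(-1),0,0,0,0,0,0,0,0,0,0,0,0,0,0,0,0,0,0,0,0,0,0,0,0,0,0,0,0,0,0,0,(-1),0,0,0,0,0,0,0,0,0,1,0,0,0,0,0,0,0,0,0,0,0,0,0,(-1),0,(-1),0,(-1),0,0,0,0,0,0,0,0,0,0,0,0,0,0,0,0,0,0,0,0,0,1,0,0,0,0,0,0,0,0,0,0,0,0,0,0,0,0,0,0,0,0,0,0,0,0,0,(-1)],
    [0,0,0,0,0,0,0,0,0,0,0,0,0,0,0,0,0,0,0,0,0,0,1,0,0,0,0,0,0,0,0,0,0,0,0,0,0,0,0,0,0,0,0,0,0,0,(-1)],
    [0,0,0,0,0,0,0,0,0,0,0,0,0,0,0,0,0,0,0,0,0,0,1,1,0,0,0,0,0,0,0,0,0,0,0,0,0,0,0,0,0,0,0,0,0,0,0,(-1),0,0,0,0,0,0,0,0,0,0,0,0,0,0,0,0,0,(-1),0,0,0,0,(-1),0,0,0,0,0,0,0,0,0,0,0,0,0,0,0,0,0,0,0,0,0,0,0,0,0,0,0,0,0,0,0,0,0,0,0,0,0,0,0,0,0,0,0,0,0,0,0,0,0,0,0,0,0,0,0,0,0,0,0,0,0,0,0,0,0,0,0,0,0,0,0,0,1],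
    [0,0,0,0,0,0,0,0,0,0,0,0,0,0,0,0,0,0,0,0,1,0,1,0,0,0,0,0,0,0,0,0,0,0,0,0,0,0,0,0,0,0,0,0,0,0,(-1),0,0,0,0,0,0,0,0,0,0,0,0,0,0,0,0,0,0,0,(-1),0,(-1)],
    [0,0,0,0,0,0,0,0,0,0,0,0,0,0,0,0,0,0,0,0,0,1,1,1,0,0,0,0,0,0,0,0,0,0,0,0,0,0,0,0,0,0,0,0,0,0,0,(-1),0,0,0,0,0,0,0,0,0,0,0,0,0,0,0,0,0,0,0,(-1),0,(-1),(-1),0,0,0,0,0,0,0,0,0,0,0,0,0,0,0,0,0,0,0,0,0,0,0,0,0,0,0,0,0,0,0,0,0,0,0,0,0,0,0,0,0,0,0,0,0,0,0,0,0,0,0,0,0,0,0,0,0,0,0,0,0,0,0,0,0,0,0,0,0,0,0,0,(-1)],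
    [0,0,0,0,0,0,0,0,0,0,0,0,0,0,0,0,0,0,0,0,0,0,0,0,0,0,0,0,0,0,0,0,0,0,0,0,0,0,0,0,0,0,0,0,0,0,(-1),0,0,0,0,0,0,0,0,0,0,0,0,0,0,0,0,0,0,0,0,0,(-1),0,(-1)],
    [0,0,0,0,0,0,0,0,0,0,0,0,0,0,0,0,0,0,0,0,0,0,0,0,0,0,0,0,0,0,0,0,0,0,0,0,0,0,0,0,0,0,0,0,0,0,0,(-1),0,0,0,0,0,0,0,0,0,0,0,0,0,0,0,0,0,0,0,0,0,(-1),0,(-1)],
    [0,0,0,0,0,0,0,0,0,0,0,0,0,0,0,0,0,0,0,0,0,0,0,0,0,0,0,0,0,0,0,0,0,0,0,0,0,0,0,0,0,0,0,0,0,0,0,0,0,0,0,0,0,0,0,0,0,0,0,0,0,0,0,0,0,0,0,0,0,0,(-1)],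
    [0,0,0,0,0,0,0,0,0,0,0,0,0,0,0,0,0,0,0,0,0,0,0,0,0,0,0,0,0,0,0,0,0,0,0,0,0,0,0,0,0,0,0,0,0,0,0,0,0,0,0,0,0,0,0,0,0,0,0,0,0,0,0,0,0,0,0,0,0,0,0,(-1)],
    [0,0,0,0,0,0,(-1),0,0,0,(-1),0,0,0,0,(-2),0,0,0,0,0,0,0,0,0,0,0,0,0,0,0,0,0,0,0,0,0,0,0,0,0,0,0,0,0,0,0,0,0,0,0,0,0,0,(-1),0,0,0,0,0,0,0,0,0,0,0,0,0,0,0,0,0,0,0,0,0,0,0,0,0,0,0,0,0,0,0,0,0,0,0,0,0,0,0,(-1)],
    [0,0,0,0,0,0,0,0,0,0,1,0,0,0,0,0,0,0,0,0,1,0,0,0,0,0,0,0,0,0,0,0,0,0,0,0,0,0,0,0,0,0,0,0,0,0,0,0,0,0,0,0,0,0,0,0,0,0,(-1),0,0,0,0,0,0,0,1,0,0,0,0,0,0,0,0,0,0,0,0,0,0,0,0,0,0,0,0,0,0,0,0,0,(-1),0,(-1)],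
    [0,0,0,0,0,0,0,0,0,0,0,1,0,0,0,0,0,0,0,0,0,1,0,0,0,0,0,0,0,0,0,0,0,0,0,0,0,0,0,0,0,0,0,0,0,0,0,0,0,0,0,0,0,0,0,0,0,0,0,(-1),0,0,0,0,0,0,0,0,0,0,0,0,0,0,0,0,0,0,1,0,0,0,0,0,0,0,0,0,0,0,0,0,0,(-1),0,(-1)],
    [0,0,0,0,0,0,0,0,0,0,0,0,0,0,0,0,0,0,0,0,0,0,1,0,0,0,0,0,0,0,0,0,0,0,0,0,0,0,0,0,0,0,0,0,0,0,0,0,0,0,0,0,0,0,0,0,0,0,(-1)],
    [0,0,0,0,0,0,0,0,0,0,0,0,0,0,0,0,0,0,0,0,0,0,1,1,0,0,0,0,0,0,0,0,0,0,0,0,0,0,0,0,0,0,0,0,0,0,0,0,0,0,0,0,0,0,0,0,0,0,0,(-1),0,0,0,0,0,0,0,0,0,0,0,0,0,0,0,0,0,0,0,0,0,0,0,0,0,0,0,0,0,0,0,(-1),0,0,(-1),0,0,0,0,0,0,0,0,0,0,0,0,0,0,0,0,0,0,0,0,0,0,0,0,0,0,0,0,0,0,0,0,0,0,0,0,0,0,0,0,0,0,0,0,0,0,0,0,1],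
    [0,0,0,0,0,0,0,0,0,0,0,0,0,0,0,0,0,0,0,0,0,0,0,0,0,0,0,0,0,0,0,0,0,0,0,0,0,0,0,0,0,0,0,0,0,0,0,0,0,0,0,0,0,0,0,0,0,0,0,(-1),0,0,0,0,0,0,0,0,0,0,0,0,0,0,0,0,0,0,0,0,0,0,0,0,0,0,0,0,0,0,0,0,0,(-1),0,(-1)],
    [0,0,0,0,0,0,0,0,0,0,0,0,0,0,0,0,0,0,0,0,0,0,0,0,0,0,0,0,0,0,0,0,0,0,0,0,0,0,0,0,0,0,0,0,0,0,0,0,0,0,0,0,0,0,0,0,0,0,0,0,0,0,0,0,0,0,0,0,0,0,0,0,0,0,0,0,0,0,0,0,0,0,0,0,0,0,0,0,0,0,0,0,0,0,(-1)],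
    [0,0,0,0,0,0,0,0,0,0,0,0,0,0,0,0,0,0,0,0,0,0,0,0,0,0,0,0,0,0,0,0,0,0,0,0,0,0,0,0,0,0,0,0,0,0,0,0,0,0,0,0,0,0,0,0,0,0,0,0,0,0,0,0,0,0,0,0,0,0,0,0,0,0,0,0,0,0,0,0,0,0,0,0,0,0,0,0,0,0,0,0,0,0,0,(-1)],
    [0,0,0,0,0,0,0,0,0,0,0,0,0,0,0,0,0,0,0,0,0,0,0,0,0,0,0,0,0,0,0,0,0,0,0,0,0,0,0,0,0,0,0,0,0,0,0,0,0,0,0,0,0,0,0,0,0,0,0,0,0,0,0,0,0,0,0,0,0,0,0,(-1),0,0,0,0,0,0,0,0,0,0,1,0,0,0,0,0,0,0,0,0,0,0,0,0,0,0,0,0,0,0,0,0,0,0,0,0,0,0,0,0,0,0,0,0,0,0,0,0,0,0,0,0,0,0,0,0,0,0,0,0,0,0,0,0,0,0,0,0,0,0,0,(-1)],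
    [0,0,0,0,0,0,0,0,0,0,0,0,0,0,0,0,0,0,0,0,0,0,1,0,0,0,0,0,0,0,0,0,0,0,0,0,0,0,0,0,0,0,0,0,0,0,0,0,0,0,0,0,0,0,0,0,0,0,0,0,0,0,0,0,0,0,0,0,0,0,(-1),0,0,0,0,0,0,0,0,0,0,0,0,0,0,0,0,0,0,0,0,0,0,0,1],
    [0,0,0,0,0,0,0,0,0,0,0,0,0,0,0,0,0,0,0,0,0,0,0,1,0,0,0,0,0,0,0,0,0,0,0,0,0,0,0,0,0,0,0,0,0,0,0,0,0,0,0,0,0,0,0,0,0,0,0,0,0,0,0,0,0,0,0,0,0,0,0,(-1),0,0,0,0,0,0,0,0,0,0,0,0,0,0,0,0,0,0,0,0,0,0,0,0,0,0,0,0,0,0,0,0,0,0,1],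
    [0,0,0,0,0,0,0,0,0,0,0,0,0,0,0,0,0,0,0,0,0,0,0,0,0,0,0,0,0,0,0,0,0,0,0,0,0,0,0,0,0,0,0,0,0,0,0,0,0,0,0,0,0,0,0,0,0,0,0,0,0,0,0,0,0,0,0,0,0,0,(-1),0,0,0,0,0,0,0,0,0,0,0,0,0,0,0,0,0,0,0,0,0,0,0,0,0,0,0,0,0,0,0,0,0,0,0,0,0,0,0,0,0,0,0,0,0,0,0,1],
    [0,0,0,0,0,0,0,0,0,0,0,0,0,0,0,0,0,0,0,0,0,0,0,0,0,0,0,0,0,0,0,0,0,0,0,0,0,0,0,0,0,0,0,0,0,0,0,0,0,0,0,0,0,0,0,0,0,0,0,0,0,0,0,0,0,0,0,0,0,0,0,(-1),0,0,0,0,0,0,0,0,0,0,0,0,0,0,0,0,0,0,0,0,0,0,0,0,0,0,0,0,0,0,0,0,0,0,0,0,0,0,0,0,0,0,0,0,0,0,0,0,0,0,0,0,0,0,0,0,0,0,1,0,0,0,0,0,0,0,0,0,0,0,0,(-1)],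
    [0,0,0,0,0,0,0,0,0,0,0,0,0,0,0,0,0,0,0,0,0,0,0,0,0,0,0,0,0,0,0,0,0,0,0,0,0,0,0,0,0,0,0,0,0,0,0,0,0,0,0,0,0,0,0,0,0,0,0,0,0,0,0,0,0,0,0,0,0,0,0,0,0,0,0,0,0,0,0,0,0,0,0,0,0,0,0,0,0,0,0,0,0,0,0,0,0,0,0,0,0,0,0,0,0,0,0,0,0,0,0,0,0,0,0,0,0,0,0,0,0,0,0,0,0,0,0,0,0,0,0,0,0,0,0,0,0,0,0,0,0,0,0,(-1)],
    [0,0,0,0,0,0,0,0,0,0,0,(-1),0,0,0,0,0,(-2),0,0,0,0,1,1,0,0,0,0,0,0,0,0,0,0,0,0,0,0,0,0,0,0,0,0,0,0,0,0,0,0,0,0,0,0,0,0,0,0,0,0,0,0,0,0,0,0,0,0,0,0,0,0,0,0,0,0,0,0,0,0,0,0,0,(-1)],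
    [0,0,0,0,0,0,0,0,0,0,0,0,0,0,0,0,0,0,0,0,0,0,0,1,0,0,0,0,0,0,0,0,0,0,0,0,0,0,0,0,0,0,0,0,0,0,0,0,0,0,0,0,0,0,0,0,0,0,0,0,0,0,0,0,0,0,0,0,0,0,0,0,0,0,0,0,0,0,0,0,0,0,(-1),0,0,0,0,0,0,0,0,0,0,0,0,1],
    [0,0,0,0,0,0,0,0,0,0,0,0,0,0,0,0,0,0,0,0,0,0,1,1,0,0,0,0,0,0,0,0,0,0,0,0,0,0,0,0,0,0,0,0,0,0,0,0,0,0,0,0,0,0,0,0,0,0,0,0,0,0,0,0,0,0,0,0,0,0,0,0,0,0,0,0,0,0,0,0,0,0,0,(-1),0,0,0,0,0,0,0,0,0,0,0,0,0,0,0,0,0,0,0,0,0,0,0,1],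
    [0,0,0,0,0,0,0,0,0,0,0,0,0,0,0,0,0,0,0,0,0,0,0,0,0,0,0,0,0,0,0,0,0,0,0,0,0,0,0,0,0,0,0,0,0,0,0,0,0,0,0,0,0,0,0,0,0,0,0,0,0,0,0,0,0,0,0,0,0,0,0,0,0,0,0,0,0,0,0,0,0,0,(-1),0,0,0,0,0,0,0,0,0,0,0,0,0,0,0,0,0,0,0,0,0,0,0,0,0,0,0,0,0,0,0,0,0,0,0,0,1,0,0,0,0,0,0,0,0,0,0,0,0,0,0,0,0,0,0,0,0,0,0,0,1],
    [0,0,0,0,0,0,0,0,0,0,0,0,0,0,0,0,0,0,0,0,0,0,0,0,0,0,0,0,0,0,0,0,0,0,0,0,0,0,0,0,0,0,0,0,0,0,0,0,0,0,0,0,0,0,0,0,0,0,0,0,0,0,0,0,0,0,0,0,0,0,0,0,0,0,0,0,0,0,0,0,0,0,0,(-1),0,0,0,0,0,0,0,0,0,0,0,0,0,0,0,0,0,0,0,0,0,0,0,0,0,0,0,0,0,0,0,0,0,0,0,0,0,0,0,0,0,0,0,0,0,0,0,1],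
    [0,0,0,0,0,1,0,0,0,0,1,1,0,0,0,0,0,0,0,0,0,0,0,0,0,0,2,0,0,1,0,0,0,0,0,0,0,0,0,0,0,0,0,0,0,0,0,0,0,0,0,0,0,0,0,0,0,0,0,0,0,0,0,0,0,0,0,0,0,0,0,0,0,0,0,0,0,0,0,0,0,0,0,0,0,0,0,0,0,0,0,0,0,0,0,0,0,0,0,0,0,0,0,0,0,0,0,0,0,0,0,0,0,0,0,0,0,0,0,0,0,0,0,0,0,0,0,0,0,0,0,0,0,0,0,0,0,0,0,0,0,0,0,1],
    [0,0,0,0,0,0,0,1,0,0,1,1,0,0,0,0,0,0,0,0,0,0,0,0,0,0,0,2,0,0,0,1,0,0,0,0,0,0,0,0,0,0,0,0,0,0,0,0,0,0,0,0,0,0,0,0,0,0,0,0,0,0,0,0,0,0,0,0,0,0,0,0,0,0,0,0,0,0,0,0,0,0,0,0,0,0,0,0,0,0,0,0,0,0,0,0,0,0,0,0,0,0,0,0,0,0,0,0,0,0,0,0,0,0,0,0,0,0,0,0,0,0,0,0,0,0,0,0,0,0,0,0,0,0,0,0,0,0,0,0,0,0,0,1],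
    [0,0,0,0,0,0,0,0,0,0,0,1,0,0,0,0,0,0,0,0,0,0,0,0,0,0,0,0,2,0,0,0,0,0,0,1],
    [0,0,0,0,0,0,0,0,0,0,1,1,0,0,0,0,0,0,0,0,0,0,0,0,0,0,0,0,0,2,0,0,0,0,1,1,0,0,0,0,0,0,0,0,0,0,0,0,0,0,0,0,0,0,0,0,0,0,0,0,0,0,0,0,0,0,0,0,0,0,0,0,0,0,0,0,0,0,0,0,0,0,0,0,0,0,0,0,0,0,0,0,0,0,0,0,0,0,0,0,0,0,0,0,0,0,0,0,0,0,0,0,0,0,0,0,0,0,0,0,0,0,0,0,0,0,0,0,0,0,0,0,0,0,0,0,0,0,0,0,0,0,0,1],
    [0,0,0,0,0,0,0,0,0,0,0,1,0,0,0,0,0,0,0,0,0,0,0,0,0,0,0,0,0,0,2,0,0,0,0,1],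
    [0,0,0,0,0,0,0,0,0,0,1,1,0,0,0,0,0,0,0,0,0,0,0,0,0,0,0,0,0,0,0,2,0,0,1,1,0,0,0,0,0,0,0,0,0,0,0,0,0,0,0,0,0,0,0,0,0,0,0,0,0,0,0,0,0,0,0,0,0,0,0,0,0,0,0,0,0,0,0,0,0,0,0,0,0,0,0,0,0,0,0,0,0,0,0,0,0,0,0,0,0,0,0,0,0,0,0,0,0,0,0,0,0,0,0,0,0,0,0,0,0,0,0,0,0,0,0,0,0,0,0,0,0,0,0,0,0,0,0,0,0,0,0,1],
    [0,0,0,0,0,0,0,0,0,0,0,1,0,0,0,0,0,0,0,0,0,0,0,0,0,0,0,0,0,0,0,0,2,0,0,1],
    [0,0,0,0,0,0,0,0,0,0,1,1,0,0,0,0,0,0,0,0,0,0,0,0,0,0,0,0,0,0,0,0,0,2,1,1,0,0,0,0,0,0,0,0,0,0,0,0,0,0,0,0,0,0,0,0,0,0,0,0,0,0,0,0,0,0,0,0,0,0,0,0,0,0,0,0,0,0,0,0,0,0,0,0,0,0,0,0,0,0,0,0,0,0,0,0,0,0,0,0,0,0,0,0,0,0,0,0,0,0,0,0,0,0,0,0,0,0,0,0,0,0,0,0,0,0,0,0,0,0,0,0,0,0,0,0,0,0,0,0,0,0,0,1],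
    [0,0,0,0,0,(-1),0,0,0,0,(-1),(-1),0,0,0,0,0,0,0,0,0,0,0,0,0,0,(-2),0,0,0,0,0,0,0,0,0,0,0,0,0,0,(-1),0,0,0,0,0,0,0,0,0,0,0,0,0,0,0,0,0,0,0,0,0,0,0,0,0,0,0,0,0,0,0,0,0,0,0,0,0,0,0,0,(-1),(-1),0,0,0,0,0,0,0,0,0,0,0,0,0,0,0,0,0,0,0,0,0,0,0,0,0,0,0,0,0,0,0,0,0,0,0,0,0,0,0,0,0,0,0,0,0,0,0,0,0,0,0,0,0,0,0,0,0,0,0,(-1)],
    [0,0,0,0,0,0,0,0,0,0,(-1),(-1),0,0,0,0,0,0,0,0,0,0,0,0,0,0,0,0,0,0,0,0,0,0,0,0,0,0,0,0,0,0,0,(-1),0,0,0,0,0,0,0,0,0,1,0,0,0,0,0,0,0,0,0,0,0,0,0,0,0,0,0,0,0,0,0,0,0,0,0,(-1),0,(-1),(-1),(-1),0,0,0,0,0,0,0,0,0,0,0,0,0,0,0,0,0,0,0,0,0,1,0,0,0,0,0,0,0,0,0,0,0,0,0,0,0,0,0,0,0,0,0,0,0,0,(-1),(-1),0,0,0,0,0,0,0,0,0,0,0,(-1)],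
    [0,0,0,0,0,0,0,0,0,0,0,0,0,0,0,0,0,0,0,0,0,0,0,0,0,0,0,0,0,0,0,0,0,0,1,1,0,0,0,0,0,0,0,0,0,0,(-1),(-1)],
    [0,0,0,0,0,0,0,0,0,0,0,0,0,0,0,0,0,0,0,0,0,0,0,0,0,0,0,0,0,0,0,0,1,0,1,0,0,0,0,0,0,0,0,0,0,0,0,(-1),0,0,0,0,0,0,0,0,0,0,0,0,0,0,0,0,0,0,0,0,0,0,0,0,0,0,0,0,0,0,(-1),0,(-1),0,(-1),(-1),0,0,0,0,0,0,0,0,0,0,0,0,0,0,0,0,0,0,0,0,0,0,0,0,0,0,0,0,0,0,0,0,0,0,0,0,0,0,0,0,0,0,0,0,0,0,0,0,0,0,0,0,0,0,0,0,0,0,0,(-1)],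
    [0,0,0,0,0,0,0,0,0,0,0,0,0,0,0,0,0,0,0,0,0,0,0,0,0,0,0,0,0,0,0,0,0,1,1,1,0,0,0,0,0,0,0,0,0,0,(-1),(-1),0,0,0,0,0,0,0,0,0,0,0,0,0,0,0,0,0,0,0,0,0,0,0,0,0,0,0,0,0,0,0,(-1),0,(-1)],
    [0,0,0,0,0,0,0,0,0,0,0,0,0,0,0,0,0,0,0,0,0,0,0,0,0,0,0,0,0,0,0,0,0,0,0,0,0,0,0,0,0,0,0,0,0,0,0,(-1),0,0,0,0,0,0,0,0,0,0,0,0,0,0,0,0,0,0,0,0,0,0,0,0,0,0,0,0,0,0,0,0,(-1),0,0,(-1)],
    [0,0,0,0,0,0,0,0,0,0,0,0,0,0,0,0,0,0,0,0,0,0,0,0,0,0,0,0,0,0,0,0,0,0,0,0,0,0,0,0,0,0,0,0,0,0,(-1),(-1),0,0,0,0,0,0,0,0,0,0,0,0,0,0,0,0,0,0,0,0,0,0,0,0,0,0,0,0,0,0,0,0,0,(-1),(-1),(-1)],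
    [0,0,0,0,0,0,0,(-1),0,0,(-1),(-1),0,0,0,0,0,0,0,0,0,0,0,0,0,0,0,(-2),0,0,0,0,0,0,0,0,0,0,0,0,0,0,0,0,0,0,0,0,0,0,0,0,0,0,0,(-1),0,0,0,0,0,0,0,0,0,0,0,0,0,0,0,0,0,0,0,0,0,0,0,0,0,0,0,0,0,0,0,0,0,0,0,0,0,0,0,0,0,0,0,0,0,0,0,0,0,0,(-1),(-1),0,0,0,0,0,0,0,0,0,0,0,0,0,0,0,0,0,0,0,0,0,0,0,0,0,0,0,0,0,0,0,0,0,0,0,(-1)],
    [0,0,0,0,0,0,0,0,0,0,0,1,0,0,0,0,0,0,0,0,0,0,0,0,0,0,0,0,0,0,0,0,1,0,0,0,0,0,0,0,0,0,0,0,0,0,0,0,0,0,0,0,0,0,0,0,0,0,0,(-1),0,0,0,0,0,0,0,1,0,0,0,0,0,0,0,0,0,0,0,0,0,0,0,0,0,0,0,0,0,0,0,0,0,0,0,0,0,0,0,0,0,0,0,0,(-1),0,0,(-1)],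
    [0,0,0,0,0,0,0,0,0,0,1,1,0,0,0,0,0,0,0,0,0,0,0,0,0,0,0,0,0,0,0,0,0,1,0,0,0,0,0,0,0,0,0,0,0,0,0,0,0,0,0,0,0,0,0,0,0,0,(-1),(-1),0,0,0,0,0,0,0,0,0,0,0,0,0,0,0,0,0,0,0,1,0,0,0,0,0,0,0,0,0,0,0,0,0,0,0,0,0,0,0,0,0,0,0,0,0,(-1),(-1),(-1),0,0,0,0,0,0,0,0,0,0,0,0,0,0,0,0,0,0,0,0,0,0,0,0,0,0,0,0,0,0,0,0,0,0,0,1],
    [0,0,0,0,0,0,0,0,0,0,0,0,0,0,0,0,0,0,0,0,0,0,0,0,0,0,0,0,0,0,0,0,0,0,1,1,0,0,0,0,0,0,0,0,0,0,0,0,0,0,0,0,0,0,0,0,0,0,(-1),(-1)],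
    [0,0,0,0,0,0,0,0,0,0,0,0,0,0,0,0,0,0,0,0,0,0,0,0,0,0,0,0,0,0,0,0,0,0,0,0,0,0,0,2],
    [0,0,0,0,0,0,0,0,1,0,1,0,0,0,0,0,0,0,0,0,0,0,0,0,0,0,0,0,0,0,0,0,0,0,0,0,0,0,0,0,0,0,2,0,1,0,1,0,0,0,0,0,0,0,0,0,0,0,0,0,0,0,0,0,0,0,0,0,0,0,0,0,0,0,0,0,0,0,0,0,0,0,0,0,0,0,0,0,0,0,0,0,0,0,0,0,0,0,0,0,0,0,0,0,0,0,0,0,0,0,0,0,0,0,0,0,0,0,1],
    [0,0,0,0,0,0,0,0,0,1,1,1,0,0,0,0,0,0,0,0,0,0,0,0,0,0,0,0,0,0,0,0,0,0,0,0,0,0,0,0,0,0,0,2,0,1,1,1,0,0,0,0,0,0,0,0,0,0,0,0,0,0,0,0,0,0,0,0,0,0,0,0,0,0,0,0,0,0,0,0,0,0,0,0,0,0,0,0,0,0,0,0,0,0,0,0,0,0,0,0,0,0,0,0,0,0,0,0,0,0,0,0,0,0,0,0,0,0,0,0,0,0,0,0,0,0,0,0,0,0,1,1,0,0,0,0,0,0,0,0,0,0,0,1],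
    [0,0,0,0,0,0,0,0,0,0,0,0,0,0,0,0,0,0,0,0,0,0,0,0,0,0,0,0,0,0,0,0,0,0,0,0,0,0,0,0,0,0,0,0,2],
    [0,0,0,0,0,0,0,0,0,0,0,0,0,0,0,0,0,0,0,0,0,0,0,0,0,0,0,0,0,0,0,0,0,0,0,0,0,0,0,0,0,0,0,0,0,2],
    [0,0,0,0,0,0,0,0,0,0,0,0,0,0,0,0,0,0,0,0,0,0,0,0,0,0,0,0,0,0,0,0,0,0,0,0,0,0,0,0,0,0,0,0,1,0,0,0,0,0,0,0,0,0,0,0,0,0,(-1),0,0,0,0,0,0,0,0,0,0,0,0,0,0,0,0,0,0,0,0,0,0,0,0,0,0,0,0,0,0,0,0,0,0,0,0,0,0,0,0,0,0,0,0,0,0,0,0,0,0,0,0,0,0,0,0,0,0,0,1],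
    [0,0,0,0,0,0,0,0,0,0,0,0,0,0,0,0,0,0,0,0,0,0,0,0,0,0,0,0,0,0,0,0,0,0,0,0,0,0,0,0,0,0,0,0,0,1,0,0,0,0,0,0,0,0,0,0,0,0,(-1),(-1),0,0,0,0,0,0,0,0,0,0,0,0,0,0,0,0,0,0,0,0,0,0,0,0,0,0,0,0,0,0,0,0,0,0,0,0,0,0,0,0,0,0,0,0,0,0,0,0,0,0,0,0,0,0,0,0,0,0,0,0,0,0,0,0,0,0,0,0,0,0,1,1],
    [0,0,0,0,0,0,0,0,0,0,0,0,0,0,0,0,0,0,0,0,0,0,0,0,0,0,0,0,0,0,0,0,0,0,0,0,0,0,0,0,0,0,0,0,0,0,1,0,0,0,0,0,0,0,0,0,(-1),0,(-1),0,0,0,0,0,0,0,0,0,0,0,0,0,0,0,0,0,0,0,0,0,0,0,0,0,0,0,0,0,0,0,0,0,0,0,0,0,0,0,0,0,0,0,0,0,0,0,0,0,0,0,0,0,0,0,0,0,0,0,(-1)],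
    [0,0,0,0,0,0,0,0,0,0,0,0,0,0,0,0,0,0,0,0,0,0,0,0,0,0,0,0,0,0,0,0,0,0,0,0,0,0,0,0,0,0,0,0,0,0,1,1,0,0,0,0,0,0,0,0,0,(-1),(-1),(-1),0,0,0,0,0,0,0,0,0,0,0,0,0,0,0,0,0,0,0,0,0,0,0,0,0,0,0,0,0,0,0,0,0,0,0,0,0,0,0,0,0,0,0,0,0,0,0,0,0,0,0,0,0,0,0,0,0,0,0,0,0,0,0,0,0,0,0,0,0,0,(-1),(-1)],
    [0,0,0,0,0,0,0,0,0,0,0,0,0,0,0,0,0,0,0,0,0,0,0,0,0,0,0,0,0,0,0,0,0,0,0,0,0,0,0,0,0,0,0,0,0,0,0,0,0,0,0,0,0,0,0,0,0,0,0,0,0,0,0,0,0,0,0,0,0,0,0,0,0,0,0,0,0,0,0,0,0,0,0,0,0,0,0,0,0,0,0,0,0,(-1),(-1),(-1),0,0,0,0,0,0,0,0,1,0,1,0,0,0,0,0,0,0,0,0,0,(-1),(-1),(-1),0,0,0,0,0,0,0,0,0,0,1,0,0,0,0,0,0,0,0,0,0,0,0,(-1)],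
    [0,0,0,0,0,0,0,0,0,0,(-1),(-2),0,1,0,0,(-1),1,0,0,1,(-1),0,0,0,0,0,0,(-2),0,0,(-1),0,(-1),(-1),(-1),0,0,0,0,0,0,0,0,0,0,0,0,0,0,0,0,0,0,0,0,0,0,0,0,0,0,0,0,0,1,0,0,1,(-1),0,1,0,0,0,0,0,0,0,0,0,(-1),2,(-1),0,0,0,0,0,0,0,0,0,0,0,0,0,0,0,0,0,0,0,0,0,(-1),1,0,0,0,0,0,0,0,0,0,0,(-1),2,0,0,0,0,0,0,0,0,0,0,0,(-2),(-1),0,0,0,0,0,0,0,0,0,0,0,(-3)],
    [0,0,0,0,0,0,0,0,0,0,0,(-2),0,1,0,0,2,1,1,1,1,(-1),0,0,0,0,0,0,0,0,(-1),(-1),0,(-1),(-1),0,0,0,0,0,0,0,0,0,0,0,0,0,0,0,0,0,0,0,0,0,0,0,0,0,0,0,0,0,0,0,(-2),(-1),(-1),(-2),(-1),(-1),0,0,0,0,0,0,(-1),0,(-1),(-1),0,0,0,0,0,0,0,0,0,0,1,(-2),3,1,0,0,0,0,0,0,0,0,0,(-1),(-1),0,0,0,0,0,0,0,0,0,0,(-2),(-2),(-2),0,0,0,0,0,0,0,0,0,0,(-5),(-1),0,0,0,0,0,0,0,0,0,0,0,(-2)],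
    [0,0,0,0,0,0,0,0,0,0,1,0,0,0,0,0,0,0,0,0,0,0,0,0,0,0,0,0,(-1),0,0,1,1,(-1),1,(-1),0,0,0,0,0,0,0,0,0,0,0,0,0,0,0,0,0,0,0,0,0,0,0,0,0,0,0,0,0,2,2,1,2,0,2,0,0,0,0,0,0,0,(-1),0,1,(-1),0,(-1),0,0,0,0,0,0,0,0,2,(-1),(-2),0,0,0,0,0,0,0,0,0,1,(-1),4,(-2),0,0,0,0,0,0,0,0,0,(-1),4,2,0,0,0,0,0,0,0,0,0,0,(-2),(-1),0,0,0,0,0,0,0,0,0,0,0,(-3)],
    [0,0,0,0,0,0,0,0,0,0,(-1),(-1),0,(-1),0,0,(-1),(-1),0,(-1),(-1),(-1),(-1),(-2),0,0,0,0,1,0,0,1,0,(-1),1,0,0,0,0,0,0,0,0,0,0,0,0,0,0,0,0,0,0,0,0,0,0,0,0,0,0,0,0,0,0,0,0,0,(-1),(-1),1,0,0,0,0,0,0,0,0,0,0,(-1),0,2,0,0,0,0,0,0,0,0,0,0,0,0,0,0,0,0,0,0,0,0,(-1),(-1),1,0,0,0,0,0,0,0,0,0,0,(-1),(-2),(-2),0,0,0,0,0,0,0,0,0,0,(-2),(-1),0,0,0,0,0,0,0,0,0,0,0,(-1)],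
    [0,0,0,0,0,0,0,0,0,0,0,(-1),0,(-1),0,0,0,0,0,(-1),0,(-1),(-1),0,0,0,0,0,0,0,0,1,0,(-1),1,0,0,0,0,0,0,0,0,0,0,0,0,0,0,0,0,0,0,0,0,0,0,0,0,0,0,0,0,0,0,0,0,0,0,0,0,0,0,0,0,0,0,0,0,0,1,(-1),0,(-1),0,0,0,0,0,0,0,0,0,0,0,0,0,0,0,0,0,0,0,0,(-1),(-1),(-1),(-1),0,0,0,0,0,0,0,0,0,(-1),2,2,0,0,0,0,0,0,0,0,0,0,0,2],
    [0,0,0,0,0,0,0,0,0,0,0,(-1),0,(-1),0,0,0,0,(-1),0,(-1),(-2),(-2),(-1),0,0,0,0,0,1,0,1,0,0,0,0,0,0,0,0,0,0,0,0,0,0,0,0,0,0,0,0,0,0,0,0,0,0,0,0,0,0,0,0,0,0,0,(-1),(-1),(-1),0,0,0,0,0,0,0,0,(-1),0,(-1),(-2),0,(-2),0,0,0,0,0,0,0,0,(-1),(-1),(-2),(-2),0,0,0,0,0,0,0,0,1,(-1),2,3,0,0,0,0,0,0,0,0,0,(-1),(-1),(-2),0,0,0,0,0,0,0,0,0,0,(-3),(-3),0,0,0,0,0,0,0,0,0,0,0,1],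
    [0,0,0,0,0,0,0,0,0,0,0,(-1),0,1,0,0,0,0,1,1,1,1,1,1,0,0,0,0,0,0,(-1),(-1),(-1),(-1),0,(-1),0,0,0,0,0,0,0,0,0,0,0,0,0,0,0,0,0,0,0,0,0,0,0,0,0,0,0,0,0,0,0,0,1,(-1),0,(-1),0,0,0,0,0,0,0,0,1,(-1),0,1,0,0,0,0,0,0,0,0,1,(-1),1,(-1),0,0,0,0,0,0,0,0,1,(-1),0,(-2),0,0,0,0,0,0,0,0,0,(-1),3,4,0,0,0,0,0,0,0,0,0,0,(-2),(-2),0,0,0,0,0,0,0,0,0,0,0,(-2)],
    [0,0,0,0,0,0,0,0,0,0,0,(-1),0,0,0,0,0,0,0,0,0,0,0,0,0,0,0,0,0,0,0,0,0,0,0,0,0,0,0,(-1),(-1),0,(-1),(-1),0,0,0,0,0,0,0,0,1,1,2,1,0,1,2,2,0,0,0,0,0,1,1,0,0,1,0,0,0,0,0,0,0,0,(-1),(-1),0,(-1),0,0,0,0,0,0,0,0,0,0,1,0,(-1),0,0,0,0,0,0,0,0,0,0,1,0,0,0,0,0,0,0,0,0,0,0,0,(-2),0,0,0,0,0,0,0,0,0,0,0,1,0,0,0,0,0,0,0,0,0,0,0,0,(-2)]]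
  us := [[0,0,0,0,0,1,0,0,0,0,0,0,0,0,0,0,(-1),(-1),0,0,0,0,0,0,0,0,2]]
  ords := [2]
  ordComb := [[(3,346),(4,(-530)),(5,126),(7,(-11)),(8,15),(11,(-546)),(12,254),(13,(-1855)),(14,(-1841)),(17,834),(18,798),(19,232),(20,476),(21,294),(22,(-188)),(23,172),(24,(-765)),(26,(-252)),(27,(-488)),(28,482),(29,(-254)),(30,740),(31,(-1138)),(32,3557),(33,3173),(34,(-664)),(35,(-648)),(36,(-876)),(37,(-1066)),(38,(-2596)),(39,(-776)),(40,4281),(41,260),(42,(-362)),(43,(-146)),(44,2),(51,(-5)),(54,(-1366)),(55,(-244)),(56,4),(57,518),(58,2),(60,232),(61,4),(62,(-234)),(72,246),(73,252),(74,(-242)),(76,(-42)),(77,42),(78,(-2)),(79,(-12))]]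
  shifts := [[],
    [],
    [],
    [],
    [0,0,0,0,0,0,0,0,0,0,0,0,0,0,1],
    [0,0,0,0,0,0,0,0,0,0,0,0,0,0,0,0,0,0,0,0,0,0,0,0,0,0,1],
    [0,0,0,0,0,0,0,0,0,0,0,0,0,0,0,1],
    [0,0,0,0,0,0,0,0,0,0,0,0,0,0,0,0,0,0,0,0,0,0,0,0,0,0,0,1],
    [0,0,0,0,0,0,0,0,0,0,0,0,0,0,0,0,0,0,0,0,0,0,0,0,0,0,0,0,0,0,0,0,0,0,0,0,0,0,0,0,0,0,0,0,0,0,0,0,0,0,0,0,1],
    [0,0,0,0,0,0,0,0,0,0,0,0,0,0,0,0,0,0,0,0,0,0,0,0,0,0,0,0,0,0,0,0,0,0,0,0,0,0,0,0,0,0,0,0,0,0,0,0,0,0,0,0,0,1],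
    [0,0,0,0,0,0,0,0,0,0,0,0,0,0,0,0,1],
    [0,0,0,0,0,0,0,0,0,0,0,0,0,0,0,0,0,1]]
  pwComb := [[],
    [],
    [],
    [],
    [(1,1),(3,(-18)),(4,28),(5,(-6)),(7,1),(11,26),(12,(-12)),(13,90),(14,90),(17,(-40)),(18,(-38)),(19,(-12)),(20,(-24)),(21,(-14)),(22,10),(23,(-11)),(24,38),(26,12),(27,24),(28,(-24)),(29,12),(30,(-36)),(31,57),(32,(-176)),(33,(-156)),(34,33),(35,32),(36,44),(37,52),(38,132),(39,40),(40,(-212)),(41,(-14)),(42,20),(43,6),(54,66),(55,12),(57,(-26)),(60,(-12)),(62,12),(72,(-12)),(73,(-12)),(74,12),(76,2),(77,(-2))],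
    [(81,1)],
    [(2,1),(3,1),(4,(-2)),(11,(-2)),(12,1),(13,(-7)),(14,(-7)),(17,3),(18,3),(19,1),(20,2),(21,1),(22,(-1)),(24,(-3)),(26,(-1)),(27,(-2)),(28,2),(29,(-1)),(30,3),(31,(-4)),(32,14),(33,13),(34,(-2)),(35,(-3)),(36,(-3)),(37,(-4)),(38,(-11)),(39,(-3)),(40,17),(41,1),(42,(-1)),(54,(-5)),(55,(-1)),(57,2),(60,1),(62,(-1)),(72,1),(73,1),(74,(-1))],
    [(3,(-148)),(4,226),(5,(-54)),(7,7),(8,(-7)),(11,235),(12,(-109)),(13,794),(14,788),(17,(-359)),(18,(-345)),(19,(-102)),(20,(-203)),(21,(-124)),(22,80),(23,(-76)),(24,330),(26,106),(27,208),(28,(-203)),(29,109),(30,(-316)),(31,488),(32,(-1526)),(33,(-1359)),(34,284),(35,280),(36,377),(37,452),(38,1113),(39,332),(40,(-1833)),(41,(-110)),(42,154),(43,63),(44,(-1)),(45,1),(51,1),(54,587),(55,105),(56,(-1)),(57,(-222)),(58,(-1)),(60,(-98)),(61,(-1)),(62,98),(72,(-104)),(73,(-108)),(74,103),(75,(-1)),(76,18),(77,(-18)),(78,1),(79,6),(81,1)],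
    [(7,(-1)),(16,2),(17,3),(21,(-2)),(23,(-1)),(26,2),(28,(-1)),(31,(-3)),(34,(-1)),(36,2),(64,1),(68,(-1))],
    [(3,395),(4,(-607)),(5,144),(7,(-12)),(8,18),(11,(-624)),(12,290),(13,(-2114)),(14,(-2098)),(17,952),(18,912),(19,264),(20,542),(21,336),(22,(-214)),(23,195),(24,(-877)),(26,(-288)),(27,(-556)),(28,550),(29,(-290)),(30,844),(31,(-1297)),(32,4057),(33,3619),(34,(-757)),(35,(-738)),(36,(-1000)),(37,(-1212)),(38,(-2962)),(39,(-888)),(40,4883),(41,296),(42,(-412)),(43,(-164)),(44,2),(51,(-6)),(53,2),(54,(-1555)),(55,(-278)),(56,4),(57,590),(60,264),(61,6),(62,(-267)),(65,1),(69,(-1)),(72,280),(73,288),(74,(-276)),(76,(-48)),(77,48),(78,(-2)),(79,(-14)),(81,(-2))],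
    [(3,18),(4,(-28)),(5,6),(7,(-1)),(11,(-26)),(12,12),(13,(-90)),(14,(-90)),(17,40),(18,38),(19,12),(20,24),(21,14),(22,(-10)),(23,11),(24,(-38)),(26,(-12)),(27,(-24)),(28,24),(29,(-12)),(30,36),(31,(-57)),(32,176),(33,156),(34,(-33)),(35,(-32)),(36,(-44)),(37,(-52)),(38,(-132)),(39,(-40)),(40,212),(41,14),(42,(-20)),(43,(-6)),(54,(-66)),(55,(-12)),(57,26),(60,12),(62,(-12)),(72,12),(73,12),(74,(-12)),(76,(-2)),(77,2)],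
    [(3,(-17)),(4,29),(5,(-6)),(7,1),(11,26),(12,(-12)),(13,90),(14,90),(17,(-40)),(18,(-38)),(19,(-12)),(20,(-24)),(21,(-14)),(22,10),(23,(-10)),(24,39),(26,12),(27,24),(28,(-24)),(29,12),(30,(-36)),(31,56),(32,(-177)),(33,(-157)),(34,32),(35,32),(36,44),(37,52),(38,133),(39,40),(40,(-213)),(41,(-14)),(42,20),(43,6),(54,66),(55,12),(57,(-26)),(60,(-12)),(62,12),(72,(-12)),(73,(-12)),(74,12),(76,2),(77,(-2))]]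
  cmComb := [[[],[(3,255),(4,(-390)),(5,93),(7,(-11)),(8,12),(11,(-406)),(12,188),(13,(-1371)),(14,(-1361)),(17,619),(18,595),(19,174),(20,350),(21,216),(22,(-138)),(23,128),(24,(-568)),(26,(-184)),(27,(-359)),(28,352),(29,(-188)),(30,546),(31,(-840)),(32,2631),(33,2344),(34,(-490)),(35,(-481)),(36,(-650)),(37,(-782)),(38,(-1918)),(39,(-572)),(40,3162),(41,190),(42,(-266)),(43,(-109)),(44,2),(51,(-2)),(54,(-1013)),(55,(-180)),(56,2),(57,382),(58,2),(60,169),(61,2),(62,(-170)),(72,180),(73,187),(74,(-178)),(75,1),(76,(-31)),(77,31),(78,(-2)),(79,(-10)),(81,(-2))],[],[],[],[],[(3,(-19)),(4,30),(5,(-6)),(7,1),(11,28),(12,(-13)),(13,97),(14,97),(17,(-43)),(18,(-41)),(19,(-13)),(20,(-26)),(21,(-15)),(22,11),(23,(-11)),(24,41),(26,13),(27,26),(28,(-26)),(29,13),(30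,(-39)),(31,61),(32,(-190)),(33,(-169)),(34,35),(35,35),(36,47),(37,56),(38,143),(39,43),(40,(-229)),(41,(-15)),(42,21),(43,6),(54,71),(55,13),(57,(-28)),(60,(-13)),(62,13),(72,(-13)),(73,(-13)),(74,13),(76,2),(77,(-2))],[(3,(-232)),(4,351),(5,(-84)),(7,8),(8,(-10)),(11,365),(12,(-170)),(13,1236),(14,1230),(17,(-558)),(18,(-534)),(19,(-156)),(20,(-317)),(21,(-196)),(22,125),(23,(-120)),(24,506),(26,168),(27,325),(28,(-321)),(29,170),(30,(-495)),(31,762),(32,(-2371)),(33,(-2116)),(34,446),(35,434),(36,586),(37,712),(38,1736),(39,516),(40,(-2855)),(41,(-173)),(42,242),(43,98),(44,(-2)),(51,2),(54,914),(55,161),(56,(-2)),(57,(-345)),(58,(-2)),(60,(-153)),(61,(-2)),(62,155),(72,(-164)),(73,(-169)),(74,162),(76,27),(77,(-28)),(78,2),(79,8),(81,2)],[(3,8),(4,(-14)),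(5,3),(11,(-13)),(12,6),(13,(-45)),(14,(-45)),(17,20),(18,19),(19,6),(20,12),(21,7),(22,(-5)),(23,5),(24,(-19)),(26,(-6)),(27,(-12)),(28,12),(29,(-6)),(30,18),(31,(-28)),(32,88),(33,78),(34,(-16)),(35,(-16)),(36,(-22)),(37,(-26)),(38,(-66)),(39,(-20)),(40,106),(41,7),(42,(-10)),(43,(-3)),(54,(-33)),(55,(-6)),(57,13),(60,6),(62,(-6)),(72,6),(73,6),(74,(-6)),(76,(-1)),(77,1)],[(3,(-16)),(4,22),(5,(-6)),(8,(-1)),(11,26),(12,(-12)),(13,85),(14,84),(17,(-39)),(18,(-38)),(19,(-10)),(20,(-21)),(21,(-14)),(22,8),(23,(-7)),(24,34),(26,12),(27,22),(28,(-22)),(29,12),(30,(-34)),(31,52),(32,(-161)),(33,(-144)),(34,31),(35,30),(36,40),(37,48),(38,115),(39,34),(40,(-194)),(41,(-10)),(42,15),(43,7),(54,63),(55,11),(57,(-23)),(60,(-10)),(62,10),(72,(-11)),(73,(-12)),(74,11),(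76,2),(77,(-2)),(79,1)],[(3,(-17)),(4,28),(5,(-6)),(7,1),(11,26),(12,(-12)),(13,90),(14,90),(17,(-40)),(18,(-38)),(19,(-12)),(20,(-24)),(21,(-14)),(22,10),(23,(-11)),(24,38),(26,12),(27,24),(28,(-24)),(29,12),(30,(-36)),(31,57),(32,(-176)),(33,(-156)),(34,33),(35,32),(36,44),(37,52),(38,132),(39,40),(40,(-212)),(41,(-14)),(42,20),(43,6),(54,66),(55,12),(57,(-26)),(60,(-12)),(62,12),(72,(-12)),(73,(-12)),(74,12),(76,2),(77,(-2))],[(3,17),(4,(-28)),(5,6),(7,(-1)),(11,(-26)),(12,12),(13,(-90)),(14,(-90)),(17,40),(18,38),(19,12),(20,24),(21,14),(22,(-10)),(23,10),(24,(-39)),(26,(-12)),(27,(-24)),(28,24),(29,(-12)),(30,36),(31,(-56)),(32,177),(33,157),(34,(-32)),(35,(-32)),(36,(-44)),(37,(-52)),(38,(-133)),(39,(-40)),(40,213),(41,14),(42,(-20)),(43,(-6)),(54,(-66)),(55,(-12)),(57,26),(60,12),(62,(-12)),(72,12),(73,12),(74,(-12)),(76,(-2)),(77,2)]],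
    [[],[],[],[],[(11,(-1)),(13,(-1)),(14,(-1)),(17,1),(18,1),(24,(-1)),(31,(-1)),(32,1),(33,1),(34,(-1)),(40,1),(54,(-1))],[(3,(-1)),(4,(-1)),(23,(-1)),(24,(-1)),(31,1),(32,1),(33,1),(34,1),(40,1),(44,1),(81,(-1))],[(3,(-232)),(4,351),(5,(-84)),(7,8),(8,(-10)),(11,365),(12,(-171)),(13,1235),(14,1229),(17,(-558)),(18,(-534)),(19,(-156)),(20,(-317)),(21,(-196)),(22,125),(23,(-119)),(24,505),(26,168),(27,325),(28,(-320)),(29,171),(30,(-495)),(31,760),(32,(-2370)),(33,(-2115)),(34,445),(35,434),(36,586),(37,712),(38,1736),(39,516),(40,(-2854)),(41,(-173)),(42,242),(43,98),(44,(-2)),(51,2),(54,914),(55,161),(56,(-2)),(57,(-345)),(58,(-2)),(60,(-153)),(61,(-2)),(62,154),(72,(-164)),(73,(-169)),(74,162),(76,27),(77,(-28)),(78,2),(79,8),(81,2)],[(3,147),(4,(-227)),(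5,54),(7,(-7)),(8,7),(11,(-235)),(12,109),(13,(-794)),(14,(-788)),(17,359),(18,345),(19,102),(20,203),(21,124),(22,(-80)),(23,75),(24,(-331)),(26,(-106)),(27,(-208)),(28,203),(29,(-109)),(30,316),(31,(-487)),(32,1527),(33,1360),(34,(-283)),(35,(-280)),(36,(-377)),(37,(-452)),(38,(-1113)),(39,(-332)),(40,1834),(41,110),(42,(-154)),(43,(-63)),(44,1),(51,(-1)),(54,(-587)),(55,(-105)),(56,1),(57,222),(58,1),(60,98),(61,1),(62,(-98)),(72,104),(73,108),(74,(-103)),(75,1),(76,(-18)),(77,18),(78,(-1)),(79,(-6)),(81,(-1))],[(3,(-33)),(4,50),(5,(-12)),(7,1),(8,(-2)),(11,52),(12,(-24)),(13,176),(14,174),(17,(-79)),(18,(-76)),(19,(-22)),(20,(-45)),(21,(-28)),(22,18),(23,(-17)),(24,71),(26,24),(27,47),(28,(-46)),(29,24),(30,(-71)),(31,108),(32,(-337)),(33,(-299)),(34,63),(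35,62),(36,84),(37,100),(38,244),(39,74),(40,(-406)),(41,(-24)),(42,35),(43,13),(54,129),(55,24),(57,(-50)),(60,(-22)),(62,22),(72,(-23)),(73,(-24)),(74,23),(76,4),(77,(-4)),(79,1)],[(3,131),(4,(-201)),(5,48),(7,(-4)),(8,6),(11,(-208)),(12,97),(13,(-707)),(14,(-701)),(17,318),(18,304),(19,88),(20,181),(21,112),(22,(-71)),(23,64),(24,(-291)),(26,(-96)),(27,(-186)),(28,183),(29,(-97)),(30,282),(31,(-433)),(32,1353),(33,1208),(34,(-253)),(35,(-246)),(36,(-332)),(37,(-407)),(38,(-984)),(39,(-294)),(40,1628),(41,99),(42,(-136)),(43,(-57)),(44,1),(51,(-2)),(54,(-521)),(55,(-93)),(56,2),(57,197),(58,1),(60,88),(61,2),(62,(-89)),(72,94),(73,96),(74,(-92)),(76,(-16)),(77,16),(78,(-1)),(79,(-5)),(81,(-1))],[(3,17),(4,(-28)),(5,6),(7,(-1)),(11,(-26)),(12,12),(13,(-91)),(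14,(-90)),(17,40),(18,38),(19,12),(20,24),(21,14),(22,(-10)),(23,10),(24,(-39)),(26,(-12)),(27,(-24)),(28,24),(29,(-12)),(30,36),(31,(-56)),(32,177),(33,157),(34,(-32)),(35,(-32)),(36,(-44)),(37,(-52)),(38,(-132)),(39,(-40)),(40,213),(41,14),(42,(-20)),(43,(-6)),(54,(-66)),(55,(-12)),(57,26),(60,12),(62,(-12)),(72,12),(73,12),(74,(-12)),(76,(-2)),(77,2)],[(14,(-1)),(23,(-1)),(24,(-1)),(31,1),(32,1),(33,1),(34,1),(38,(-2)),(40,1)]],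
    [[],[],[],[(1,1),(2,(-2)),(3,192),(4,(-290)),(5,72),(7,(-6)),(8,12),(11,(-309)),(12,143),(13,(-1035)),(14,(-1026)),(15,1),(16,1),(17,469),(18,452),(19,128),(20,262),(21,165),(22,(-103)),(23,90),(24,(-429)),(25,(-2)),(26,(-140)),(27,(-271)),(28,265),(29,(-143)),(30,413),(31,(-627)),(32,1984),(33,1769),(34,(-367)),(35,(-365)),(36,(-492)),(37,(-587)),(38,(-1440)),(39,(-428)),(40,2384),(41,137),(42,(-197)),(43,(-84)),(44,1),(45,(-1)),(51,(-1)),(53,1),(54,(-765)),(55,(-136)),(56,1),(57,287),(58,1),(59,(-1)),(60,126),(61,1),(62,(-127)),(71,(-1)),(72,135),(73,142),(74,(-134)),(75,1),(76,(-24)),(77,24),(78,(-1)),(79,(-9)),(80,(-1)),(81,(-1))],[(1,(-1)),(15,(-1)),(23,1)],[(3,(-1)),(24,2),(32,(-1)),(33,(-2)),(38,3),(39,1),(40,(-1)),(52,(-1)),(81,(-1))],[(3,(-9)),(4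,14),(5,(-3)),(7,1),(11,13),(12,(-6)),(13,45),(14,45),(16,(-1)),(17,(-21)),(18,(-19)),(19,(-6)),(20,(-12)),(21,(-6)),(22,5),(23,(-4)),(24,19),(26,5),(27,12),(28,(-11)),(29,6),(30,(-18)),(31,29),(32,(-88)),(33,(-78)),(34,16),(35,16),(36,21),(37,26),(38,66),(39,20),(40,(-106)),(41,(-7)),(42,10),(43,3),(54,33),(55,6),(57,(-13)),(60,(-6)),(62,6),(72,(-6)),(73,(-6)),(74,6),(76,1),(77,(-1))],[(3,(-198)),(4,303),(5,(-72)),(7,6),(8,(-9)),(11,312),(12,(-145)),(13,1058),(14,1050),(17,(-476)),(18,(-456)),(19,(-132)),(20,(-271)),(21,(-168)),(22,107),(23,(-97)),(24,440),(26,144),(27,278),(28,(-275)),(29,145),(30,(-422)),(31,648),(32,(-2030)),(33,(-1811)),(34,378),(35,369),(36,500),(37,606),(38,1483),(39,444),(40,(-2443)),(41,(-148)),(42,206),(43,82),(44,(-1)),(51,3),(53,(-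1)),(54,778),(55,139),(56,(-2)),(57,(-295)),(60,(-132)),(61,(-3)),(62,134),(72,(-140)),(73,(-144)),(74,138),(76,24),(77,(-24)),(78,1),(79,7),(81,1)],[(28,(-1)),(31,1),(34,1),(36,(-1)),(68,1)],[(4,1),(13,(-1)),(14,(-1)),(24,1),(37,(-1)),(38,1),(39,1),(43,(-1)),(62,(-1)),(69,1)],[(17,(-1)),(23,(-1)),(31,1),(34,1)],[(13,(-1)),(14,(-1)),(17,1),(24,(-2)),(32,2),(33,2),(38,(-2)),(40,2),(54,(-1))]],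
    [[],[],[],[],[],[],[(2,(-1)),(3,(-19)),(4,30),(5,(-6)),(7,1),(11,28),(12,(-13)),(13,97),(14,97),(17,(-43)),(18,(-41)),(19,(-13)),(20,(-26)),(21,(-15)),(22,11),(23,(-11)),(24,41),(25,(-1)),(26,13),(27,26),(28,(-26)),(29,13),(30,(-39)),(31,62),(32,(-190)),(33,(-169)),(34,35),(35,35),(36,47),(37,56),(38,143),(39,43),(40,(-229)),(41,(-15)),(42,21),(43,6),(54,71),(55,13),(57,(-28)),(60,(-13)),(62,13),(72,(-13)),(73,(-13)),(74,13),(76,2),(77,(-2))],[(3,147),(4,(-226)),(5,54),(7,(-7)),(8,7),(11,(-235)),(12,109),(13,(-794)),(14,(-788)),(17,359),(18,345),(19,102),(20,203),(21,124),(22,(-80)),(23,75),(24,(-330)),(26,(-106)),(27,(-208)),(28,203),(29,(-109)),(30,316),(31,(-487)),(32,1527),(33,1360),(34,(-283)),(35,(-281)),(36,(-377)),(37,(-452)),(38,(-1113)),(39,(-33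1)),(40,1834),(41,109),(42,(-154)),(43,(-63)),(44,1),(45,(-1)),(51,(-1)),(54,(-587)),(55,(-105)),(56,1),(57,222),(58,1),(59,(-1)),(60,98),(61,1),(62,(-98)),(72,104),(73,108),(74,(-103)),(75,1),(76,(-18)),(77,18),(78,(-1)),(79,(-6)),(81,(-1))],[(17,(-1)),(23,1),(28,1),(36,(-1)),(70,(-1))],[(4,1),(23,1),(24,3),(31,(-1)),(32,(-2)),(33,(-2)),(34,(-1)),(37,(-1)),(38,3),(39,1),(40,(-2)),(43,(-1)),(54,(-1)),(62,1),(71,(-1))],[(23,(-1)),(28,(-1)),(31,1),(34,1)],[(13,(-1)),(14,(-1)),(24,(-2)),(28,1),(32,2),(33,2),(38,(-2)),(40,2),(62,(-1))]],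
    [[],[],[],[],[],[(13,1),(14,1),(17,(-1)),(18,(-1)),(24,1),(31,1),(32,(-1)),(33,(-1)),(34,1),(40,(-1)),(54,1)],[(3,(-9)),(4,14),(5,(-3)),(7,1),(11,13),(12,(-6)),(13,45),(14,45),(17,(-20)),(18,(-19)),(19,(-7)),(20,(-12)),(21,(-6)),(22,5),(23,(-7)),(24,19),(26,6),(27,12),(28,(-12)),(29,6),(30,(-18)),(31,29),(32,(-88)),(33,(-78)),(34,17),(35,16),(36,22),(37,26),(38,66),(39,20),(40,(-106)),(41,(-7)),(42,10),(43,3),(54,33),(55,6),(57,(-13)),(60,(-6)),(62,6),(72,(-6)),(73,(-6)),(74,6),(76,1),(77,(-1))],[(3,(-16)),(4,22),(5,(-6)),(8,(-1)),(11,26),(12,(-12)),(13,85),(14,84),(17,(-39)),(18,(-38)),(19,(-10)),(20,(-22)),(21,(-14)),(22,9),(23,(-7)),(24,32),(26,12),(27,22),(28,(-22)),(29,12),(30,(-34)),(31,53),(32,(-160)),(33,(-143)),(34,32),(35,30),(36,40),(37,48),(38,115),(39,34),(40,(-193)),(41,(-10)),(42,15),(43,7),(54,63),(55,11),(57,(-23)),(60,(-10)),(62,10),(72,(-11)),(73,(-12)),(74,11),(76,2),(77,(-2)),(79,1)],[(17,1),(21,(-1)),(23,2),(31,(-1)),(34,(-1))],[(13,1),(14,1),(17,(-1)),(22,(-1)),(24,3),(32,(-2)),(33,(-2)),(38,2),(40,(-2)),(54,1)],[(23,(-1))],[(24,(-1))]],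
    [[],[],[],[],[],[],[(3,(-16)),(4,22),(5,(-6)),(8,(-2)),(11,26),(12,(-12)),(13,85),(14,84),(17,(-39)),(18,(-38)),(19,(-10)),(20,(-21)),(21,(-14)),(22,8),(23,(-7)),(24,33),(26,12),(27,23),(28,(-22)),(29,12),(30,(-35)),(31,52),(32,(-160)),(33,(-143)),(34,31),(35,30),(36,40),(37,48),(38,114),(39,34),(40,(-193)),(41,(-10)),(42,15),(43,7),(54,63),(55,11),(57,(-23)),(60,(-10)),(62,10),(72,(-11)),(73,(-12)),(74,11),(76,2),(77,(-2)),(79,1)],[(3,148),(4,(-230)),(5,54),(7,(-5)),(8,6),(11,(-234)),(12,109),(13,(-798)),(14,(-792)),(17,358),(18,342),(19,100),(20,205),(21,126),(22,(-81)),(23,72),(24,(-334)),(26,(-108)),(27,(-210)),(28,207),(29,(-109)),(30,318),(31,(-487)),(32,1533),(33,1369),(34,(-283)),(35,(-278)),(36,(-376)),(37,(-459)),(38,(-1121)),(39,(-335)),(40,184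4),(41,113),(42,(-156)),(43,(-63)),(44,1),(51,(-2)),(54,(-587)),(55,(-105)),(56,1),(57,223),(58,2),(60,100),(61,2),(62,(-101)),(72,106),(73,108),(74,(-104)),(76,(-18)),(77,18),(78,(-1)),(79,(-5)),(81,(-1))],[(4,1),(13,1),(14,1),(17,(-1)),(23,1),(24,4),(31,(-1)),(32,(-4)),(33,(-4)),(34,(-1)),(38,4),(39,1),(40,(-4)),(54,1),(57,(-1))],[(4,1),(13,1),(14,1),(23,2),(24,5),(31,(-2)),(32,(-4)),(33,(-5)),(34,(-2)),(38,5),(39,1),(40,(-4)),(54,1),(58,(-1))],[(24,(-1)),(33,1),(38,(-1))],[(4,(-1)),(23,(-1)),(24,(-2)),(31,1),(32,2),(33,2),(34,1),(38,(-2)),(39,(-1)),(40,2)]],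
    [[],[],[],[],[],[],[],[(13,1),(14,1),(23,(-1)),(24,1),(28,(-1)),(29,(-1)),(31,2),(32,(-1)),(33,(-1)),(34,1),(40,(-1)),(62,1)],[(7,1),(19,(-1)),(21,1),(26,(-1)),(28,1),(34,(-1))],[(13,1),(14,1),(24,2),(28,(-1)),(30,(-1)),(32,(-1)),(33,(-2)),(38,2),(40,(-2)),(62,1)],[(31,(-1))],[(32,(-1))]],
    [[],[],[],[],[],[],[],[],[(4,1),(13,2),(14,1),(20,(-1)),(22,1),(24,1),(27,1),(28,(-1)),(30,(-1)),(31,1),(32,(-3)),(33,(-2)),(34,1),(38,1),(39,1),(40,(-3)),(41,(-1)),(55,1),(57,(-1)),(60,(-1)),(62,1)],[(13,1),(14,1),(33,1),(35,(-1)),(38,(-1)),(41,(-1)),(51,1),(56,(-1)),(58,1),(61,(-1)),(62,1)],[(32,(-1)),(33,(-1)),(35,1),(38,1),(40,(-1))],[(4,(-1)),(24,(-1)),(32,1),(33,1),(38,(-1)),(39,(-1)),(40,1),(41,1)]],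
    [[],[],[],[],[],[],[],[],[],[(4,1),(13,1),(20,(-1)),(22,1),(23,1),(24,(-1)),(27,1),(31,2),(32,(-2)),(33,(-2)),(34,1),(35,1),(36,(-1)),(37,1),(39,1),(40,(-2)),(41,(-1)),(42,(-1)),(55,1),(57,(-1)),(60,(-1)),(72,(-1))],[(23,(-1)),(36,1)],[(24,(-1)),(33,1),(42,1)]],
    [[],[],[],[],[],[],[],[],[],[],[(24,(-1)),(37,1),(38,(-1))],[(4,(-1)),(23,(-1)),(24,(-2)),(31,1),(32,2),(33,2),(34,1),(38,(-2)),(39,(-1)),(40,2),(43,1)]],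
    [[],[],[],[],[],[],[],[],[],[],[],[(38,(-1))]],
    [[],[],[],[],[],[],[],[],[],[],[],[]]]

/-- The pcgs at the prime 2, as words in root elements. -/
def twoWords : List (List (ℕ × ℕ)) := [[(6,1)],
  [(6,2)],
  [(7,1)],
  [(7,2)],
  [(7,1),(6,1),(7,1),(6,1)],
  [(7,1),(6,2),(7,1),(6,2)],
  [(7,2),(6,1),(7,2),(6,1)],
  [(7,2),(6,2),(7,2),(6,2)],
  [(6,1),(7,1),(6,1),(7,1),(7,2),(7,1),(6,1),(7,1),(6,1),(7,2)],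
  [(6,2),(7,1),(6,2),(7,1),(7,2),(7,1),(6,2),(7,1),(6,2),(7,2)],
  [(7,2),(6,1),(7,1),(6,1),(7,1),(7,2),(7,1),(6,1),(7,1),(6,1),(6,1),(6,1),(7,1),(6,1),(7,1),(7,2),(7,1),(6,1),(7,1),(6,1),(7,2),(6,1)],
  [(7,2),(6,1),(7,1),(6,1),(7,1),(7,2),(7,1),(6,1),(7,1),(6,1),(6,2),(6,1),(7,1),(6,1),(7,1),(7,2),(7,1),(6,1),(7,1),(6,1),(7,2),(6,2)]]

/-- The pcgs at the prime 2. -/
def twoGens : List ℕ := [0x800400280140080040028014008004002001,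
  0x8004002c018008004002c018008004002001,
  0xa005002001000a005002001000a005002001,
  0xb0060020010009007002001000b006002001,
  0x8a845422811408a045022011008004002001,
  0x8f44ac23412c08f04a023012008004002001,
  0x8e849421413c08604d023012008004002001,
  0x8744ec22c11808b046021013008004002001,
  0x82c418203102082041020010008004002001,
  0x838424202101083042020010008004002001,
  0x808404202101080040020010008004002001,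
  0x80c408203102080040020010008004002001]

/-- Conjugators at the prime 2. -/
def twoConjWords : List (List (ℕ × ℕ)) := [[(7,1),(4,1),(7,1)],
  [(6,1),(5,1),(6,1)]]

/-- Their codes. -/
def twoConj : List ℕ := [0x200100800400020010080040002001008004,
  0x800400080040200100008004020010002001]

/-- Steps of collection allowed at the prime 2. -/
def twoFuel : ℕ := 52

/-- The relations at the prime 3. -/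
def threeRules : Pc.Rules where
  p := 3
  n := 3
  d := 2
  pw := [[],[],[]]
  cm := [[[],[2],[]],
    [[],[],[]],
    [[],[],[]]]

/-- The certificate at the prime 3. -/
def threeCert : Pc.Cert where
  eqns := [.assoc [1] [0,0] [0],
    .assoc [1,1] [1] [0],
    .assoc [2,2] [2] [0],
    .fuse 0 [[0,0,1,1,2],[2,2]] [[0,1,1,2],[2]] [0,1] [1,0],
    .fuse 1 [[0],[2,2]] [[0,0],[2,2]] [0,1] [1,0]]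
  rows := [[0,0,1,0,3,3],
    [0,0,(-1),0,(-3),0,0,0,(-3)],
    [0,0,0,0,0,(-3)],
    [0,0,0,0,0,3,0,0,2],
    [0,0,0,0,0,(-2)]]
  us := []
  ords := []
  ordComb := []
  shifts := [[],
    [],
    [0,0,0,0,1]]
  pwComb := [[],
    [],
    [(0,(-5)),(1,(-6)),(2,(-18)),(3,(-9)),(4,6)]]
  cmComb := [[[],[],[(0,2),(1,2),(2,6),(3,3),(4,(-2))]],
    [[],[],[(0,(-1)),(1,(-1)),(2,(-2)),(3,(-1))]],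
    [[],[],[]]]

/-- The pcgs at the prime 3, as words in root elements. -/
def threeWords : List (List (ℕ × ℕ)) := [[(7,1),(4,1),(7,1),(6,1),(5,1),(6,1),(7,1),(4,1),(7,1),(6,1),(5,1),(6,1)],
  [(6,2),(5,3),(6,2),(6,1),(5,1),(6,1)],
  [(6,1),(5,1),(6,1),(6,2),(5,3),(6,2),(6,1),(5,1),(6,1),(7,1),(4,1),(7,1),(6,1),(5,1),(6,1),(7,1),(4,1),(7,1),(6,2),(5,3),(6,2),(6,1),(5,1),(6,1),(7,1),(4,1),(7,1),(6,1),(5,1),(6,1),(7,1),(4,1),(7,1),(6,1),(5,1),(6,1)]]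

/-- The pcgs at the prime 3. -/
def threeGens : List ℕ := [0x8004080040002001800400020010200100,
  0x8004003002000400c003002000400c002001,
  0xc008001003000400c003002000c008001003]

/-- Conjugators at the prime 3. -/
def threeConjWords : List (List (ℕ × ℕ)) := [[(7,1),(4,1),(7,1)],
  [(6,1),(5,1),(6,1)]]

/-- Their codes. -/
def threeConj : List ℕ := [0x200100800400020010080040002001008004,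
  0x800400080040200100008004020010002001]

/-- Steps of collection allowed at the prime 3. -/
def threeFuel : ℕ := 10

/-- The relations at the prime 5. -/
def fiveRules : Pc.Rules where
  p := 5
  n := 2
  d := 2
  pw := [[],[]]
  cm := [[[],[]],
    [[],[]]]

/-- The certificate at the prime 5. -/
def fiveCert : Pc.Cert where
  eqns := [.assoc [1] [0,0,0,0] [0],
    .fuse 0 [[0,0,0,0,1,1,1,1],[0,1,1,1,1]] [[0,1,1,1,1],[0,0,0,0,1,1,1,1]] [0,1] [1,0]]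
  rows := [[0,0,0,5],
    [0,0,0,24]]
  us := []
  ords := []
  ordComb := []
  shifts := [[],
    []]
  pwComb := [[],
    []]
  cmComb := [[[],[(0,5),(1,(-1))]],
    [[],[]]]

/-- The pcgs at the prime 5, as words in root elements. -/
def fiveWords : List (List (ℕ × ℕ)) := [[(11,1),(0,2)],
  [(7,1),(4,2)]]

/-- The pcgs at the prime 5. -/
def fiveGens : List ℕ := [0x408c04102301080040020010c08804302201,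
  0x600d00e009000e00900600d000600d00e009]

/-- Conjugators at the prime 5. -/
def fiveConjWords : List (List (ℕ × ℕ)) := [[(0,2)]]

/-- Their codes. -/
def fiveConj : List ℕ := [0x800400200100080040020010c08804302201]

/-- Steps of collection allowed at the prime 5. -/
def fiveFuel : ℕ := 19

end CfsgLib.Schur.MultiplierG2Four
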