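import Cfsg.Agent.Lib.Schur.MultiplierG2FourData
import Cfsg.Agent.Lib.Schur.PcAssemble
import Cfsg.Agent.Lib.Schur.CriteriaElements
import Cfsg.Agent.Lib.Sporadic.MatF2
import Cfsg.Agent.Lib.Recognition.G2Four.Model
import Mathlib.Data.Matrix.Composition

/-!
The bounds at all primes for the Schur multiplier of `G₂(4)`: its six-dimensional matrices over
four elements are coded as twelve-dimensional ones over two, and the polycyclic certificates are
checked on the codes.
-/

set_option autoImplicit false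
set_option maxRecDepth 100000

noncomputable section

namespace CfsgLib.Schur.MultiplierG2Four

open CfsgLib.Sporadic CfsgLib.Schur CfsgLib.Recognition.G2Four Matrix

/-- The entry of the block of a scalar. -/
def blockEntry (x : F4) (p q : Fin 2) : ZMod 2 :=
  ((((x * F4.ofN (q.val + 1)).v.val).testBit p.val).toNat : ZMod 2)

theorem block_one : ∀ p q : Fin 2, blockEntry 1 p q = if p = q then 1 else 0 := by
  decide +kernel

theorem block_zero : ∀ p q : Fin 2, blockEntry 0 p q = 0 := by decide +kernel

theorem block_add' : ∀ a b : Fin 4, ∀ p q : Fin 2,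
    blockEntry ((⟨a⟩ : F4) + ⟨b⟩) p q = blockEntry ⟨a⟩ p q + blockEntry ⟨b⟩ p q := by decide +kernel

theorem block_mul' : ∀ a b : Fin 4, ∀ p q : Fin 2,
    blockEntry ((⟨a⟩ : F4) * ⟨b⟩) p q =
      blockEntry ⟨a⟩ p 0 * blockEntry ⟨b⟩ 0 q + blockEntry ⟨a⟩ p 1 * blockEntry ⟨b⟩ 1 q := by
  decide +kernel

/-- The regular representation of the field with four elements over the prime field. -/
def block : F4 →+* Matrix (Fin 2) (Fin 2) (ZMod 2) where
  toFun x := Matrix.of (blockEntry x)
  map_one' := Matrix.ext fun p q => (block_one p q).trans Matrix.one_apply.symm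
  map_zero' := Matrix.ext block_zero
  map_add' a b := Matrix.ext fun p q => block_add' a.v b.v p q
  map_mul' a b := Matrix.ext fun p q => by
    rw [Matrix.mul_apply, Fin.sum_univ_two]
    exact block_mul' a.v b.v p q

/-- The block and the position inside it. -/
def pr (i : Fin 12) : Fin 6 × Fin 2 := (finProdFinEquiv : Fin 6 × Fin 2 ≃ Fin (6 * 2)).symm i

/-- Six by six over four elements as twelve by twelve over two. -/
def big : Matrix (Fin 6) (Fin 6) F4 →* Matrix (Fin 12) (Fin 12) (ZMod 2) :=
  ((Matrix.reindexAlgEquiv (ZMod 2) (ZMod 2) (finProdFinEquiv : Fin 6 × Fin 2 ≃ Fin (6 * 2))).toMulEquiv.toMonoidHom).comp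
    (((Matrix.compRingEquiv (Fin 6) (Fin 2) (ZMod 2)).toMulEquiv.toMonoidHom).comp
      block.mapMatrix.toMonoidHom)

theorem big_apply (M : Matrix (Fin 6) (Fin 6) F4) (i j : Fin 12) :
    big M i j = blockEntry (M (pr i).1 (pr j).1)
      (pr i).2 (pr j).2 := rfl

theorem big_injective : Function.Injective big := by
  intro A B h
  ext i j
  have h1 : ∀ p q, blockEntry (A i j) p q = blockEntry (B i j) p q := fun p q => by
    have h' := congrFun (congrFun h (finProdFinEquiv (i, p))) (finProdFinEquiv (j, q))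
    rw [big_apply, big_apply] at h'
    simpa only [pr, Equiv.symm_apply_apply] using h'
  have key : ∀ a b : Fin 4, (∀ p q : Fin 2, blockEntry ⟨a⟩ p q = blockEntry ⟨b⟩ p q) → a = b := by
    decide +kernel
  exact congrArg F4.mk (key (A i j).v (B i j).v h1)

/-- An entry of a coded matrix. -/
def ent (c : ℕ) (i j : Fin 12) : ZMod 2 := decF2 12 c i j

/-- An entry of a root element. -/
def rootEnt (p : Fin 12 × F4) (i j : Fin 12) : ZMod 2 :=
  blockEntry (a6 p (pr i).1 (pr j).1) (pr i).2 (pr j).2

theorem root_check : ∀ r : Fin 12, ∀ t : Fin 4, ∀ i j : Fin 12,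
    rootEnt (r, ⟨t⟩) i j = ent (rootCodes.getD (4 * r.val + t.val) (oneF2 12)) i j := by
  decide +kernel

theorem root_canon : rootCodes.all (canonF2 12) = true := by decide +kernel

theorem canon_one : canonF2 12 (oneF2 12) = true := by decide +kernel

theorem canon_mulF2 (a b : ℕ) : canonF2 12 (mulF2 12 a b) = true := by
  rw [canonF2, Nat.blt_eq]
  have h : ∀ m ≤ 12, xorUpto (fun k => ((a >>> k) &&& colMask 12 12) * ((b >>> (12 * k)) % 2 ^ 12)) m
      < 2 ^ (12 * 12) := by
    intro m
    induction m with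
    | zero => intro _; exact Nat.two_pow_pos _
    | succ m ih =>
      intro hm
      refine Nat.xor_lt_two_pow (ih (by omega)) ?_
      have h1 : (a >>> m) &&& colMask 12 12 ≤ colMask 12 12 := Nat.and_le_right
      have h2 : (b >>> (12 * m)) % 2 ^ 12 ≤ 2 ^ 12 - 1 :=
        Nat.le_sub_one_of_lt (Nat.mod_lt _ (Nat.two_pow_pos _))
      refine Nat.lt_of_le_of_lt (Nat.mul_le_mul h1 h2) ?_
      decide +kernel
  exact h 12 le_rfl

/-- The six-dimensional matrix of an element. -/
def six : grp →* Matrix (Fin 6) (Fin 6) F4 :=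
  (Units.coeHom _).comp ((MonoidHom.fst _ _).comp grp.subtype)

/-- The twelve-dimensional matrix of an element. -/
def bigRep : grp →* Matrix (Fin 12) (Fin 12) (ZMod 2) := big.comp six

theorem bigRep_injective : Function.Injective bigRep := fun _ _ h =>
  grp_fst_injective (Units.ext (big_injective h))

/-- The code of an element. -/
def Rep (a : ℕ) (x : grp) : Prop := canonF2 12 a = true ∧ bigRep x = decF2 12 a

theorem rep_one : Rep (oneF2 12) 1 := ⟨canon_one, by rw [map_one, decF2_oneF2]⟩

theorem rep_mul {a b : ℕ} {x y : grp} (hx : Rep a x) (hy : Rep b y) : Rep (mulF2 12 a b) (x * y) :=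
  ⟨canon_mulF2 a b, by rw [map_mul, decF2_mulF2, hx.2, hy.2]⟩

theorem rep_uniq {a : ℕ} {x y : grp} (hx : Rep a x) (hy : Rep a y) : x = y :=
  bigRep_injective (hx.2.trans hy.2.symm)

theorem rep_code {a b : ℕ} {x : grp} (hx : Rep a x) (hy : Rep b x) : a = b :=
  decF2_injOn hx.1 hy.1 (hx.2.symm.trans hy.2)

/-- The code of a word in root elements. -/
def wordCode : List (ℕ × ℕ) → ℕ
  | [] => oneF2 12
  | p :: w => mulF2 12 (rootCodes.getD (4 * p.1 + p.2) (oneF2 12)) (wordCode w)

theorem exists_rep_root {k : ℕ} : ∃ x, Rep (rootCodes.getD k (oneF2 12)) x := by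
  rcases Nat.lt_or_ge k rootCodes.length with hk | hk
  · have hlen : rootCodes.length = 48 := by decide +kernel
    refine ⟨⟨(a6GL (⟨k / 4, by omega⟩, ⟨⟨k % 4, Nat.mod_lt _ (by norm_num)⟩⟩),
      x14GL (⟨k / 4, by omega⟩, ⟨⟨k % 4, Nat.mod_lt _ (by norm_num)⟩⟩)),
      Subgroup.subset_closure ⟨_, rfl⟩⟩, ?_, ?_⟩
    · rw [List.getD_eq_getElem _ _ hk]
      exact List.all_eq_true.1 root_canon _ (List.getElem_mem hk)
    · refine Matrix.ext fun i j => ?_
      show big (a6 _) i j = _
      rw [big_apply]
      refine (root_check ⟨k / 4, by omega⟩ ⟨k % 4, Nat.mod_lt _ (by norm_num)⟩ i j).trans ?_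
      simp only [ent, Nat.div_add_mod]
  · rw [List.getD_eq_default _ _ hk]
    exact ⟨1, rep_one⟩

theorem exists_rep_word : ∀ w : List (ℕ × ℕ), ∃ x, Rep (wordCode w) x
  | [] => ⟨1, rep_one⟩
  | p :: w => by
    obtain ⟨x, hx⟩ := exists_rep_root (k := 4 * p.1 + p.2)
    obtain ⟨y, hy⟩ := exists_rep_word w
    exact ⟨x * y, rep_mul hx hy⟩

theorem exists_rep {cs : List ℕ} {ws : List (List (ℕ × ℕ))} (h : ws.map wordCode = cs) (i : ℕ) :
    ∃ x, Rep (cs.getD i (oneF2 12)) x := by
  rcases Nat.lt_or_ge i cs.length with hi | hi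
  · rw [List.getD_eq_getElem _ _ hi]
    obtain ⟨w, -, e⟩ := List.mem_map.1 (by rw [h]; exact List.getElem_mem hi :
      cs[i] ∈ ws.map wordCode)
    exact e ▸ exists_rep_word w
  · rw [List.getD_eq_default _ _ hi]
    exact ⟨1, rep_one⟩

/-- Merge of two lists. -/
def merge : ℕ → List ℕ → List ℕ → List ℕ
  | 0, l, m => l ++ m
  | _ + 1, [], m => m
  | _ + 1, a :: l, [] => a :: l
  | k + 1, a :: l, b :: m => if Nat.ble a b then a :: merge k l (b :: m) else b :: merge k (a :: l) m

/-- Sorting by merging. -/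
def msort : ℕ → List ℕ → List ℕ
  | 0, l => l
  | d + 1, l => merge l.length (msort d (l.take (l.length / 2))) (msort d (l.drop (l.length / 2)))

theorem merge_perm : ∀ (k : ℕ) (l m : List ℕ), (merge k l m).Perm (l ++ m)
  | 0, l, m => List.Perm.refl _
  | k + 1, [], m => List.Perm.refl _
  | k + 1, a :: l, [] => by rw [merge, List.append_nil]
  | k + 1, a :: l, b :: m => by
    rw [merge]
    split
    · exact (merge_perm k l (b :: m)).cons a
    · exact ((merge_perm k (a :: l) m).cons b).trans List.perm_middle.symm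

theorem msort_perm : ∀ (d : ℕ) (l : List ℕ), (msort d l).Perm l
  | 0, l => List.Perm.refl _
  | d + 1, l => by
    rw [msort]
    refine (merge_perm _ _ _).trans (((msort_perm d _).append (msort_perm d _)).trans ?_)
    rw [List.take_append_drop]

/-- Increasing lists. -/
def incr : List ℕ → Bool
  | a :: b :: l => Nat.blt a b && incr (b :: l)
  | _ => true

theorem pairwise_of_incr : ∀ {l : List ℕ}, incr l = true → l.Pairwise (· < ·)
  | [], _ => List.Pairwise.nil
  | [a], _ => List.pairwise_singleton _ _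
  | a :: b :: l, h => by
    simp only [incr, Bool.and_eq_true, Nat.blt_eq] at h
    have ih := pairwise_of_incr h.2
    refine List.pairwise_cons.2 ⟨fun c hc => ?_, ih⟩
    rcases List.mem_cons.1 hc with rfl | hc
    · exact h.1
    · exact h.1.trans ((List.pairwise_cons.1 ih).1 c hc)

/-- Everything to check for a certificate. -/
def certOK (R : Pc.Rules) (C : Pc.Cert) (gl kl : List ℕ) (gw kw : List (List (ℕ × ℕ))) (fuel : ℕ) :
    Bool :=
  (gw.map wordCode == gl) && (kw.map wordCode == kl) && R.shapeOK && C.eqnsOK R fuel && C.solveOK R &&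
    Pc.holdsOK (mulF2 12) (oneF2 12) R C gl kl &&
    incr (msort 13 (Pc.pcElems (mulF2 12) (oneF2 12) R.p R.n gl R.n)) &&
    (Pc.pcElems (mulF2 12) (oneF2 12) R.p R.n gl R.n).length == R.p ^ R.n

instance finite_grp : Finite grp := Nat.finite_of_card_ne_zero (by rw [card_grp]; norm_num)

theorem spanAt_of_certOK {p : ℕ} [Fact p.Prime] {R : Pc.Rules} {C : Pc.Cert} {gl kl : List ℕ}
    {gw kw : List (List (ℕ × ℕ))} {fuel : ℕ} (h : certOK R C gl kl gw kw fuel = true) (hRp : R.p = p)
    {d : ℕ} (hd : ¬ p ∣ d) (hord : 251596800 = p ^ R.n * d) {ords : List ℕ}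
    (hlen : C.us.length = ords.length) (hords : C.ords = ords) : Pc.SpanAt p grp ords := by
  simp only [certOK, Bool.and_eq_true, beq_iff_eq] at h
  obtain ⟨⟨⟨⟨⟨⟨⟨hgw, hkw⟩, hshape⟩, heqs⟩, hsolve⟩, hholds⟩, hsort⟩, hlen'⟩ := h
  choose gs hgs using exists_rep hgw
  choose cg hcg using exists_rep hkw
  have hnd : (Pc.pcElems (mulF2 12) (oneF2 12) R.p R.n gl R.n).Nodup :=
    ((msort_perm 13 _).nodup_iff).1 (List.Pairwise.imp (fun h => Nat.ne_of_lt h) (pairwise_of_incr hsort))
  have hle := Pc.le_card_of_elems Rep rep_one rep_mul rep_code hgs R.p R.n hnd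
  rw [hlen', hRp] at hle
  exact Pc.spanAt_of_cert (Pc.holds_of_check Rep rep_one rep_mul rep_uniq hgs hcg hholds) hshape heqs
    hsolve hRp hle hd (by rw [card_grp]; exact hord) hlen hords

theorem two_ok :
    certOK twoRules twoCert twoGens twoConj twoWords twoConjWords twoFuel = true := by
  decide +kernel

theorem three_ok :
    certOK threeRules threeCert threeGens threeConj threeWords threeConjWords threeFuel = true := by
  decide +kernel

theorem five_ok :
    certOK fiveRules fiveCert fiveGens fiveConj fiveWords fiveConjWords fiveFuel = true := by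
  decide +kernel

theorem span_two : Pc.SpanAt 2 grp [2] :=
  spanAt_of_certOK (p := 2) two_ok rfl (d := 61425) (by norm_num) (by norm_num [twoRules]) rfl rfl

theorem span_rest (p : ℕ) (hp : p.Prime) (h2 : p ≠ 2) : Pc.SpanAt p grp [] := by
  have : Fact p.Prime := ⟨hp⟩
  by_cases hd : p ∣ 251596800
  · rcases prime_cases hp hd with rfl | rfl | rfl | rfl | rfl
    · exact absurd rfl h2
    · exact spanAt_of_certOK (p := 3) three_ok rfl (d := 9318400) (by norm_num)
        (by norm_num [threeRules]) rfl rfl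
    · exact spanAt_of_certOK (p := 5) five_ok rfl (d := 10063872) (by norm_num)
        (by norm_num [fiveRules]) rfl rfl
    · exact Pc.spanAt_of_noMultiplierAt hp (noMultiplierAt_of_sylow_element (elt w7) 1 35942400
        (by rw [order_seven, pow_one]) (by norm_num) (by rw [card_grp]; norm_num))
    · exact Pc.spanAt_of_noMultiplierAt hp (noMultiplierAt_of_sylow_element (elt w13) 1 19353600
        (by rw [order_thirteen, pow_one]) (by norm_num) (by rw [card_grp]; norm_num))
  · exact Pc.spanAt_of_noMultiplierAt hp (noMultiplierAt_of_not_dvd (by rwa [card_grp]))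

end CfsgLib.Schur.MultiplierG2Four

end
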