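/-
Faster ways of checking the parts of a polycyclic certificate: the linear algebra by evaluation
at a large base, and checks in ranges.
-/
import Cfsg.Agent.Lib.Schur.PcSylow
import Mathlib.Algebra.Order.Ring.Abs
import Mathlib.Tactic.Ring
import Mathlib.Tactic.Linarith
import Mathlib.Tactic.NormNum
import Mathlib.Data.List.GetD

set_option autoImplicit false

namespace CfsgLib.Schur.Pc

/-- All numbers in a range satisfy a test. -/
def rangeOK (f : ℕ → Bool) (lo m : ℕ) : Bool := (List.range' lo m).all f

theorem rangeOK_iff {f : ℕ → Bool} {lo m : ℕ} :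
    rangeOK f lo m = true ↔ ∀ k, lo ≤ k → k < lo + m → f k = true := by
  simp [rangeOK, List.all_eq_true, List.mem_range'_1]

theorem rangeOK_append {f : ℕ → Bool} {lo m k : ℕ} (h1 : rangeOK f lo m = true)
    (h2 : rangeOK f (lo + m) k = true) : rangeOK f lo (m + k) = true := by
  rw [rangeOK_iff] at *
  intro j hj hj'
  rcases Nat.lt_or_ge j (lo + m) with h | h
  · exact h1 j hj h
  · exact h2 j h (by omega)

theorem range_all_of_rangeOK {f : ℕ → Bool} {n : ℕ} (h : rangeOK f 0 n = true) :
    (List.range n).all f = true := by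
  rw [rangeOK_iff] at h
  simp only [List.all_eq_true, List.mem_range]
  exact fun k hk => h k (Nat.zero_le _) (by omega)

/-- Rebuild a word before using it: the kernel substitutes a list of constructors. -/
def forceW {α : Type} : Word → (Word → α) → α
  | [], k => k []
  | x :: w, k => forceW w fun w' => k (x :: w')

theorem forceW_eq {α : Type} : ∀ (w : Word) (k : Word → α), forceW w k = k w
  | [], _ => rfl
  | x :: w, k => by rw [forceW, forceW_eq w]

/-- Collection, strictly. -/
def Rules.collectF (R : Rules) : ℕ → Word → Word × List ℕ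
  | 0, w => (w, [])
  | k + 1, w => forceW w fun w =>
    match R.step w with
    | none => (w, [])
    | some e => let r := Rules.collectF R k e.1; (r.1, e.2 :: r.2)

theorem Rules.collectF_eq (R : Rules) : ∀ (k : ℕ) (w : Word), R.collectF k w = R.collect k w
  | 0, _ => rfl
  | k + 1, w => by
    rw [Rules.collectF, forceW_eq, Rules.collect]
    cases R.step w with
    | none => rfl
    | some e => simp only [Rules.collectF_eq R k]

/-- The base of evaluation. -/
def evBase : ℤ := 1099511627776

/-- A vector as a number. -/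
def evalB (v : List ℤ) : ℤ := v.foldr (fun x acc => x + evBase * acc) 0

theorem evalB_cons (x : ℤ) (v : List ℤ) : evalB (x :: v) = x + evBase * evalB v := rfl

theorem evalB_addS (c : ℤ) : ∀ r acc : List ℤ, evalB (addS c r acc) = c * evalB r + evalB acc
  | [], acc => by simp [addS, evalB]
  | x :: r, [] => by
    rw [addS, evalB_cons, evalB_addS c r [], evalB_cons]
    simp only [show evalB [] = 0 from rfl]
    ring
  | x :: r, y :: acc => by
    rw [addS, evalB_cons, evalB_addS c r acc, evalB_cons, evalB_cons]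
    ring

/-- A bound on the absolute values of the entries. -/
def Bdd (M : ℕ) (v : List ℤ) : Prop := ∀ x ∈ v, x.natAbs ≤ M

theorem Bdd.mono {M N : ℕ} {v : List ℤ} (h : Bdd M v) (hMN : M ≤ N) : Bdd N v :=
  fun x hx => (h x hx).trans hMN

theorem bdd_addS {M N : ℕ} (c : ℤ) : ∀ r acc : List ℤ, Bdd M r → Bdd N acc →
    Bdd (c.natAbs * M + N) (addS c r acc)
  | [], acc, _, ha => fun x hx => (ha x (by simpa [addS] using hx)).trans (Nat.le_add_left _ _)
  | x :: r, [], hr, ha => by
    intro z hz
    rw [addS, List.mem_cons] at hz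
    rcases hz with rfl | hz
    · rw [Int.natAbs_mul]
      exact (Nat.mul_le_mul_left _ (hr x List.mem_cons_self)).trans (Nat.le_add_right _ _)
    · exact bdd_addS c r [] (fun w hw => hr w (List.mem_cons_of_mem _ hw)) ha z hz
  | x :: r, y :: acc, hr, ha => by
    intro z hz
    rw [addS, List.mem_cons] at hz
    rcases hz with rfl | hz
    · refine (Int.natAbs_add_le _ _).trans ?_
      rw [Int.natAbs_mul, Nat.add_comm]
      exact Nat.add_le_add (Nat.mul_le_mul_left _ (hr x List.mem_cons_self)) (ha y List.mem_cons_self)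
    · exact bdd_addS c r acc (fun w hw => hr w (List.mem_cons_of_mem _ hw))
        (fun w hw => ha w (List.mem_cons_of_mem _ hw)) z hz

theorem eq_zero_of_evalB : ∀ {v : List ℤ}, Bdd (2 ^ 39) v → evalB v = 0 → ∀ x ∈ v, x = 0
  | [], _, _ => by simp
  | y :: v, hb, h => by
    rw [evalB_cons] at h
    have hy : y.natAbs ≤ 2 ^ 39 := hb y List.mem_cons_self
    have hy0 : y = 0 := by
      have hd : evBase ∣ y := ⟨-evalB v, by rw [mul_neg]; linarith⟩
      exact Int.eq_zero_of_dvd_of_natAbs_lt_natAbs hd (lt_of_le_of_lt hy (by norm_num [evBase]))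
    have hv : evalB v = 0 := by
      rw [hy0, zero_add, mul_eq_zero] at h
      exact h.resolve_left (by norm_num [evBase])
    intro x hx
    rcases List.mem_cons.1 hx with rfl | hx
    · exact hy0
    · exact eq_zero_of_evalB (fun w hw => hb w (List.mem_cons_of_mem _ hw)) hv x hx

theorem vecEq_of_evalB {M N : ℕ} {a b : List ℤ} (ha : Bdd M a) (hb : Bdd N b)
    (hMN : N + M ≤ 2 ^ 39) (h : evalB a = evalB b) : vecEq a b = true := by
  rw [vecEq, List.all_eq_true]
  have hbd : Bdd (2 ^ 39) (addS (-1) b a) :=
    (bdd_addS (-1) b a hb ha).mono (by simpa using hMN)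
  have he : evalB (addS (-1) b a) = 0 := by rw [evalB_addS, h]; ring
  exact fun x hx => beq_iff_eq.2 (eq_zero_of_evalB hbd he x hx)

/-- The value of a combination from the values of the rows. -/
def combV (vals : List ℤ) (cs : List (ℕ × ℤ)) : ℤ :=
  cs.foldr (fun e acc => e.2 * vals.getD e.1 0 + acc) 0

/-- The size of a combination. -/
def combS (cs : List (ℕ × ℤ)) : ℕ := cs.foldr (fun e acc => e.2.natAbs + acc) 0

theorem evalB_comb {rows : List (List ℤ)} {vals : List ℤ} (hv : rows.map evalB = vals) :
    ∀ cs : List (ℕ × ℤ), evalB (comb rows cs) = combV vals cs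
  | [] => rfl
  | e :: cs => by
    show evalB (addS e.2 (rows.getD e.1 []) (comb rows cs)) = e.2 * vals.getD e.1 0 + combV vals cs
    rw [evalB_addS, evalB_comb hv cs, ← hv]
    congr 2
    rcases Nat.lt_or_ge e.1 rows.length with h | h
    · rw [List.getD_eq_getElem _ _ h, List.getD_eq_getElem _ _ (by simpa using h), List.getElem_map]
    · rw [List.getD_eq_default _ _ h, List.getD_eq_default _ _ (by simpa using h)]
      rfl

theorem bdd_getD {M : ℕ} {rows : List (List ℤ)} (h : ∀ r ∈ rows, Bdd M r) (k : ℕ) :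
    Bdd M (rows.getD k []) := by
  rcases Nat.lt_or_ge k rows.length with hk | hk
  · rw [List.getD_eq_getElem _ _ hk]; exact h _ (List.getElem_mem hk)
  · rw [List.getD_eq_default _ _ hk]; simp [Bdd]

theorem bdd_comb {M : ℕ} {rows : List (List ℤ)} (h : ∀ r ∈ rows, Bdd M r) :
    ∀ cs : List (ℕ × ℤ), Bdd (combS cs * M) (comb rows cs)
  | [] => by simp [comb, Bdd]
  | e :: cs => by
    show Bdd ((e.2.natAbs + combS cs) * M) (addS e.2 (rows.getD e.1 []) (comb rows cs))
    rw [Nat.add_mul]
    exact bdd_addS _ _ _ (bdd_getD h _) (bdd_comb h cs)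

/-- The entries are bounded. -/
def bddB (M : ℕ) (v : List ℤ) : Bool := v.all fun x => Nat.ble x.natAbs M

theorem bdd_of_bddB {M : ℕ} {v : List ℤ} (h : bddB M v = true) : Bdd M v := by
  simpa [bddB, Bdd, List.all_eq_true, Nat.ble_eq] using h

/-- One comparison by evaluation: a combination against a vector. -/
def fastEq (vals : List ℤ) (M : ℕ) (cs : List (ℕ × ℤ)) (b : List ℤ) : Bool :=
  combV vals cs == evalB b && bddB M b && Nat.ble (M + combS cs * M) (2 ^ 39)

theorem vecEq_of_fastEq {rows : List (List ℤ)} {vals : List ℤ} {M : ℕ}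
    (hv : rows.map evalB = vals) (hb : ∀ r ∈ rows, Bdd M r) {cs : List (ℕ × ℤ)} {b : List ℤ}
    (h : fastEq vals M cs b = true) : vecEq (comb rows cs) b = true := by
  simp only [fastEq, Bool.and_eq_true, beq_iff_eq, Nat.ble_eq] at h
  refine vecEq_of_evalB (bdd_comb hb cs) (bdd_of_bddB h.1.2) h.2 ?_
  rw [evalB_comb hv cs, h.1.1]

/-- The sum of the powers of the base at the given places. -/
def sumPow (l : List ℕ) : ℕ := l.foldr (fun t acc => 2 ^ (40 * t) + acc) 0

theorem evalB_bump (c : ℤ) : ∀ (t : ℕ) (v : List ℤ), evalB (bump t c v) = c * evBase ^ t + evalB v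
  | 0, [] => by simp [bump, evalB]
  | 0, y :: l => by rw [bump, evalB_cons, evalB_cons]; ring
  | t + 1, [] => by
    rw [bump, evalB_cons, evalB_bump c t [], show evalB [] = 0 from rfl]; ring
  | t + 1, y :: l => by rw [bump, evalB_cons, evalB_cons, evalB_bump c t l]; ring

theorem bdd_bump {M : ℕ} (c : ℤ) : ∀ (t : ℕ) (v : List ℤ), Bdd M v →
    Bdd (M + c.natAbs) (bump t c v)
  | 0, [], _ => by simp [bump, Bdd]
  | 0, y :: l, h => by
    intro z hz
    rw [bump, List.mem_cons] at hz
    rcases hz with rfl | hz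
    · exact (Int.natAbs_add_le _ _).trans (Nat.add_le_add_right (h y List.mem_cons_self) _)
    · exact (h z (List.mem_cons_of_mem _ hz)).trans (Nat.le_add_right _ _)
  | t + 1, [], h => by
    intro z hz
    rw [bump, List.mem_cons] at hz
    rcases hz with rfl | hz
    · simp
    · exact bdd_bump c t [] h z hz
  | t + 1, y :: l, h => by
    intro z hz
    rw [bump, List.mem_cons] at hz
    rcases hz with rfl | hz
    · exact (h z List.mem_cons_self).trans (Nat.le_add_right _ _)
    · exact bdd_bump c t l (fun w hw => h w (List.mem_cons_of_mem _ hw)) z hz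

theorem evalB_tailVec (pos neg : List ℕ) :
    evalB (tailVec pos neg) = (sumPow pos : ℤ) - (sumPow neg : ℤ) := by
  have hB : ∀ t : ℕ, ((2 ^ (40 * t) : ℕ) : ℤ) = evBase ^ t := fun t => by
    push_cast
    rw [pow_mul]
    norm_num [evBase]
  have key : ∀ (c : ℤ) (l : List ℕ) (v : List ℤ),
      evalB (l.foldr (fun t l => bump t c l) v) = c * (sumPow l : ℤ) + evalB v := by
    intro c l v
    induction l with
    | nil => simp [sumPow]
    | cons t l ih =>
      rw [List.foldr_cons, evalB_bump, ih]
      simp only [sumPow, List.foldr_cons, Nat.cast_add, hB]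
      ring
  rw [tailVec, key, key, show evalB [] = 0 from rfl]
  ring

theorem bdd_tailVec (pos neg : List ℕ) : Bdd (pos.length + neg.length) (tailVec pos neg) := by
  have key : ∀ (c : ℤ), c.natAbs = 1 → ∀ (l : List ℕ) (v : List ℤ) (M : ℕ), Bdd M v →
      Bdd (M + l.length) (l.foldr (fun t l => bump t c l) v) := by
    intro c hc l v M hv
    induction l with
    | nil => simpa using hv
    | cons t l ih =>
      rw [List.foldr_cons, List.length_cons, ← Nat.add_assoc]
      exact hc ▸ bdd_bump c t _ ih
  have h := key 1 rfl pos [] 0 (by simp [Bdd])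
  exact (key (-1) rfl neg _ _ h).mono (by omega)

/-- A vector of tails against the value of a row. -/
def tailEq (vals : List ℤ) (M k : ℕ) (pos neg : List ℕ) : Bool :=
  (sumPow pos : ℤ) == vals.getD k 0 + (sumPow neg : ℤ) &&
    Nat.ble (M + (pos.length + neg.length)) (2 ^ 39)

theorem vecEq_of_tailEq {rows : List (List ℤ)} {vals : List ℤ} {M k : ℕ}
    (hv : rows.map evalB = vals) (hb : ∀ r ∈ rows, Bdd M r) {pos neg : List ℕ}
    (h : tailEq vals M k pos neg = true) : vecEq (tailVec pos neg) (rows.getD k []) = true := by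
  simp only [tailEq, Bool.and_eq_true, beq_iff_eq, Nat.ble_eq] at h
  refine vecEq_of_evalB (bdd_tailVec pos neg) (bdd_getD hb k) h.2 ?_
  rw [evalB_tailVec, h.1, ← hv]
  rcases Nat.lt_or_ge k rows.length with hk | hk
  · rw [List.getD_eq_getElem _ _ hk, List.getD_eq_getElem _ _ (by simpa using hk), List.getElem_map]
    ring
  · rw [List.getD_eq_default _ _ hk, List.getD_eq_default _ _ (by simpa using hk),
      show evalB [] = 0 from rfl]
    ring

/-- The values and bounds of one row. -/
def Cert.valsStep (C : Cert) (M : ℕ) (vals : List ℤ) (k : ℕ) : Bool :=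
  evalB ((C.rows ++ C.us).getD k []) == vals.getD k 0 && bddB M ((C.rows ++ C.us).getD k [])

/-- The values are right and the entries bounded. -/
def Cert.valsOK (C : Cert) (M : ℕ) (vals : List ℤ) : Bool :=
  (C.rows ++ C.us).map evalB == vals && (C.rows ++ C.us).all (bddB M)

theorem Cert.valsOK_of_ranges {C : Cert} {M n : ℕ} {vals : List ℤ}
    (h1 : (C.rows ++ C.us).length = n) (h2 : vals.length = n)
    (h : rangeOK (C.valsStep M vals) 0 n = true) : C.valsOK M vals = true := by
  rw [rangeOK_iff] at h
  simp only [valsOK, Bool.and_eq_true, beq_iff_eq, List.all_eq_true]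
  refine ⟨List.ext_getElem (by simp only [List.length_map]; omega) fun k hk hk' => ?_,
    fun v hv => ?_⟩
  · have h' := h k (Nat.zero_le _) (by omega)
    simp only [valsStep, Bool.and_eq_true, beq_iff_eq] at h'
    rw [List.length_map] at hk
    rw [List.getElem_map, ← List.getD_eq_getElem _ [] hk, h'.1, List.getD_eq_getElem _ _ hk']
  · obtain ⟨k, hk, rfl⟩ := List.getElem_of_mem hv
    have h' := h k (Nat.zero_le _) (by omega)
    simp only [valsStep, Bool.and_eq_true] at h'
    rw [← List.getD_eq_getElem _ [] hk]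
    exact h'.2

/-- The check of one equation: strict collection, tails by evaluation. -/
def Cert.eqnStep (C : Cert) (R : Rules) (fuel : ℕ) (M : ℕ) (vals : List ℤ) (k : ℕ) : Bool :=
  match C.eqns.getD k (.assoc [] [] []) with
  | .assoc a b c =>
    let r₁ := R.collectF fuel (a ++ b)
    let r₂ := R.collectF fuel (r₁.1 ++ c)
    let s₁ := R.collectF fuel (b ++ c)
    let s₂ := R.collectF fuel (a ++ s₁.1)
    r₂.1 == s₂.1 && tailEq vals M k (r₁.2 ++ r₂.2) (s₁.2 ++ s₂.2)
  | .fuse _ xs ys u v =>
    let p₁ := R.collectF fuel (pick xs u)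
    let q₁ := R.collectF fuel (pick xs v)
    let p₂ := R.collectF fuel (pick ys u)
    let q₂ := R.collectF fuel (pick ys v)
    List.isPerm u v && p₁.1 == q₁.1 && p₂.1 == q₂.1 &&
      tailEq vals M k (q₁.2 ++ p₂.2) (p₁.2 ++ q₂.2)

theorem Cert.eqnsOK_of_ranges {C : Cert} {R : Rules} {fuel n M : ℕ} {vals : List ℤ}
    (hv : C.valsOK M vals = true) (hn : C.eqns.length = n)
    (hl : C.rows.length = n) (h : rangeOK (C.eqnStep R fuel M vals) 0 n = true) :
    C.eqnsOK R fuel = true := by
  simp only [valsOK, Bool.and_eq_true, beq_iff_eq, List.all_eq_true] at hv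
  have hb : ∀ r ∈ C.rows ++ C.us, Bdd M r := fun r hr => bdd_of_bddB (hv.2 r hr)
  rw [rangeOK_iff] at h
  rw [eqnsOK, hn, hl, beq_self_eq_true, Bool.true_and]
  simp only [List.all_eq_true, List.mem_range]
  intro k hk
  have h' := h k (Nat.zero_le _) (by omega)
  have e : C.rows.getD k [] = (C.rows ++ C.us).getD k [] := by
    rw [List.getD_append _ _ _ _ (by omega)]
  rw [e]
  revert h'
  rw [eqnStep]
  cases C.eqns.getD k (.assoc [] [] []) <;> intro h' <;>
    simp only [Bool.and_eq_true] at h' <;> simp only [eqnOK, Bool.and_eq_true, ← Rules.collectF_eq]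
  · exact ⟨h'.1, vecEq_of_tailEq hv.1 hb h'.2⟩
  · exact ⟨h'.1, vecEq_of_tailEq hv.1 hb h'.2⟩

/-- The target of a power relation. -/
def Cert.pwTarget (C : Cert) (R : Rules) (i : ℕ) : List ℤ :=
  addS (-1) (shiftSum C.shifts (R.pwW i)) (addS R.p (C.shifts.getD i []) (bump i 1 []))

/-- The target of a commutator relation. -/
def Cert.cmTarget (C : Cert) (R : Rules) (i j : ℕ) : List ℤ :=
  addS (-1) (shiftSum C.shifts (R.cmW i j)) (bump (R.tix i j) 1 [])

/-- The power relations and one row of the commutator relations, by evaluation. -/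
def Cert.solveStep (C : Cert) (R : Rules) (M : ℕ) (vals : List ℤ) (j : ℕ) : Bool :=
  (Nat.blt j R.d || fastEq vals M (C.pwComb.getD j []) (C.pwTarget R j)) &&
    (List.range j).all fun i => fastEq vals M ((C.cmComb.getD i []).getD j []) (C.cmTarget R i j)

/-- The small parts of the linear algebra. -/
def Cert.solveRest (C : Cert) (R : Rules) : Bool :=
  (List.range C.us.length).all (fun k =>
    vecEq (comb C.rows (C.ordComb.getD k [])) (addS (C.ords.getD k 0) (C.us.getD k []) [])) &&
  (List.range R.d).all (fun i => (C.shifts.getD i []).all fun x => x == 0)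

theorem Cert.solveOK_of_ranges {C : Cert} {R : Rules} {M n : ℕ} {vals : List ℤ} (hn : R.n = n)
    (hv : C.valsOK M vals = true) (hrest : C.solveRest R = true)
    (h : rangeOK (C.solveStep R M vals) 0 n = true) : C.solveOK R = true := by
  subst hn
  simp only [valsOK, Bool.and_eq_true, beq_iff_eq, List.all_eq_true] at hv
  have hb : ∀ r ∈ C.rows ++ C.us, Bdd M r := fun r hr => bdd_of_bddB (hv.2 r hr)
  rw [rangeOK_iff] at h
  simp only [solveRest, Bool.and_eq_true] at hrest
  simp only [solveOK, Bool.and_eq_true]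
  refine ⟨⟨hrest, ?_⟩, ?_⟩
  · simp only [List.all_eq_true, List.mem_range, Bool.or_eq_true]
    intro i hi
    have h' := h i (Nat.zero_le _) (by omega)
    simp only [solveStep, Bool.and_eq_true, Bool.or_eq_true] at h'
    exact h'.1.imp id (vecEq_of_fastEq hv.1 hb)
  · simp only [List.all_eq_true, List.mem_range]
    intro j hj i hi
    have h' := h j (Nat.zero_le _) (by omega)
    simp only [solveStep, Bool.and_eq_true, List.all_eq_true, List.mem_range] at h'
    exact vecEq_of_fastEq hv.1 hb (h'.2 i hi)

end CfsgLib.Schur.Pc
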