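/-
Polycyclic certificates for stabilisers of short vectors in the automorphism group of the Leech
lattice.
-/
import Cfsg.Agent.Lib.Schur.PcConway
import Cfsg.Agent.Lib.Schur.ConwayBase
import Cfsg.Agent.Lib.Schur.PcAssemble

set_option autoImplicit false

namespace CfsgLib.Schur.PcConway

open Cfsg CfsgLib.Schur CfsgLib.Schur.MatFThree CfsgLib.Schur.ConwayModel

/-- The stabiliser as a group of permutations of the lattice. -/
abbrev stabPerm (v : leechLattice) : Subgroup (Equiv.Perm leechLattice) :=
  Co0 ⊓ MulAction.stabilizer (Equiv.Perm leechLattice) v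

theorem finite_stabPerm (v : leechLattice) : Finite (stabPerm v) := by
  have := CfsgLib.Golay.co0_finite
  exact Finite.of_injective (fun x : stabPerm v => (⟨x.1, x.2.1⟩ : Co0)) fun a b e =>
    Subtype.ext (congrArg (fun g : Co0 => g.1) e)

theorem natCard_stabPerm (v : leechLattice) :
    Nat.card (stabPerm v) = Nat.card (MulAction.stabilizer Co0 v) :=
  Nat.card_congr
    { toFun := fun x => ⟨⟨x.1, x.2.1⟩, MulAction.mem_stabilizer_iff.2
        (MulAction.mem_stabilizer_iff.1 x.2.2)⟩
      invFun := fun g => ⟨g.1.1, g.1.2, MulAction.mem_stabilizer_iff.2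
        (MulAction.mem_stabilizer_iff.1 g.2)⟩
      left_inv := fun _ => rfl
      right_inv := fun _ => rfl }

/-- A stabiliser seen among the automorphisms: nothing is forgotten. -/
noncomputable def stabView (v : leechLattice) : View (stabPerm v) where
  lies a x := a.1 = x.1
  signs := [oneF3 24]
  one := rfl
  surj x := ⟨⟨x.1, x.2.1⟩, rfl⟩
  mul := by
    intro a b x y ha hb
    show a.1 * b.1 = x.1 * y.1
    rw [ha, hb]
  uniq ha hb := Subtype.ext (ha.symm.trans hb)
  fibre := by
    intro a b x ha hb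
    refine ⟨oneF3 24, List.mem_singleton.2 rfl, ?_⟩
    rw [decF3_oneF3, mul_one, Subtype.ext (hb.trans ha.symm)]
  signs_mul := by
    intro s hs t ht
    rw [List.mem_singleton] at hs ht
    exact ⟨oneF3 24, List.mem_singleton.2 rfl, by rw [hs, ht, decF3_oneF3, mul_one]⟩
  signs_central := by
    intro s hs M
    rw [List.mem_singleton] at hs
    rw [hs, decF3_oneF3, one_mul, mul_one]

open CfsgLib.Sporadic in
/-- The program and the membership of the chosen entries in the stabiliser. -/
noncomputable def membersOK (vc n : ℕ) (T O : Tr) (is : List ℕ) : Bool :=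
  allFrom 0 n (slpStep ConwayBase.baseCodes n T O) &&
    is.all fun i => Nat.blt i n && mulF3 24 (T.get i) vc == vc

open CfsgLib.Sporadic in
theorem membersOK_of {vc n : ℕ} {T O : Tr} {is : List ℕ}
    (h1 : allFrom 0 n (slpStep ConwayBase.baseCodes n T O) = true)
    (h2 : (is.all fun i => Nat.blt i n && mulF3 24 (T.get i) vc == vc) = true) :
    membersOK vc n T O is = true := by
  rw [membersOK, h1, h2]
  rfl

/-- The bound from a certificate. -/
theorem spanAt_stab {v : leechLattice} (hv : sqNorm (v : GolayPt → ℤ) ≤ 64) {vc : ℕ}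
    (hvc : ∀ i, decF3 24 vc i 0 = red v i) {p : ℕ} [Fact p.Prime] {R : Pc.Rules} {C : Pc.Cert}
    {n : ℕ} {T O : CfsgLib.Sporadic.Tr} {gi ki cs ks : List ℕ} {fuel : ℕ} {seps : List (List ℕ)}
    (hm : membersOK vc n T O (gi ++ ki) = true) (hcs : gi.map T.get = cs) (hks : ki.map T.get = ks)
    (hpc : pcOK (fun c => c) (oneF3 24) [oneF3 24] R C cs ks fuel seps = true) (hRp : R.p = p) {d : ℕ} (hd : ¬ p ∣ d)
    (hord : Nat.card (stabPerm v) = p ^ R.n * d) {ords : List ℕ}
    (hlen : C.us.length = ords.length) (hords : C.ords = ords) :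
    Pc.SpanAt p (stabPerm v) ords := by
  simp only [membersOK, Bool.and_eq_true, List.all_eq_true, Nat.blt_eq, beq_iff_eq] at hm
  obtain ⟨hslp, hmem⟩ := hm
  subst hcs hks
  have hex : ∀ c ∈ gi.map T.get ++ ki.map T.get, ∃ x, Rep (stabView v) c x := fun c hc => by
    rw [← List.map_append] at hc
    obtain ⟨i, hi, rfl⟩ := List.mem_map.1 hc
    obtain ⟨g, hg⟩ := rep_of_slp ConwayBase.exists_base hslp i (hmem i hi).1
    have hfix := smul_eq_of_code hv hvc hg (hmem i hi).2
    exact ⟨⟨g.1, g.2, MulAction.mem_stabilizer_iff.2 hfix⟩, g, hg, rfl⟩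
  have := finite_stabPerm v
  exact spanAt_of_pcOK (stabView v) (fun c => c) (cone := oneF3 24) ⟨1, rep0_one, rfl⟩
    (fun h => h) (fun c hc => hex c (List.mem_append_left _ hc))
    (fun c hc => hex c (List.mem_append_right _ hc)) hpc hRp hd hord hlen hords

end CfsgLib.Schur.PcConway
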