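import Cfsg.Agent.Lib.Schur.MultiplierHSData
import Cfsg.Agent.Lib.Schur.PcConwayStab
import Cfsg.Agent.Lib.Sporadic.HsOutApp

/-!
# Bounds for the multiplier of the Higman-Sims group at each prime
-/

set_option autoImplicit false

namespace CfsgLib.Schur.MultiplierHS

open Cfsg CfsgLib.Golay CfsgLib.Schur CfsgLib.Schur.PcConway CfsgLib.Schur.MatFThree CfsgLib.Schur.ConwayModel
open CfsgLib.Sporadic (allFrom)
open CfsgLib.Sporadic.PairOut (Acts fA fB eA eB acts_eA acts_eB stepRows)
open CfsgLib.Sporadic.Conway.ThreeOut (vecList unitList vecList_latE)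

theorem red_getD (v : leechLattice) (i : Fin 24) :
    ConwayModel.red v i = (((vecList (v : GolayPt → ℤ)).getD i.val 0 : ℤ) : ZMod 3) := by
  rw [List.getD_eq_getElem _ _ (by simp [vecList])]
  simp only [vecList, List.getElem_ofFn, Fin.eta]
  rfl

theorem rep0_of_acts {g : Co0} {f : List ℤ → List ℤ} (hg : Acts g f) {c : ℕ}
    (h : ∀ q : Fin 24 × Fin 24,
      2 * ((((f (unitList q.2)).getD q.1.val 0 : ℤ)) : ZMod 3) = decF3 24 c q.1 q.2) : Rep0 c g := by
  refine Matrix.ext fun i j => ?_
  rw [← h (i, j)]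
  show 2 * ConwayModel.red (g • LeechEight.latE (pt j)) i = _
  rw [red_getD, hg, vecList_latE]

theorem exists_baseHS : ∀ c ∈ baseHS, ∃ g : Co0, Rep0 c g := by
  intro c hc
  obtain ⟨i, hi, rfl⟩ := List.getElem_of_mem hc
  rw [← List.getD_eq_getElem _ 0 hi]
  have hl : baseHS.length = 3 := rfl
  match i, hi with
  | 0, _ => exact ⟨_, rep0_of_acts (acts_eA Sporadic.HsOut.shape.hu) (by decide +kernel)⟩
  | 1, _ => exact ⟨_, rep0_of_acts (acts_eB Sporadic.HsOut.shape.hu) (by decide +kernel)⟩
  | 2, _ => exact ⟨_, rep0_of_acts Sporadic.HsOut.acts_c (by decide +kernel)⟩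
  | i + 3, hi => omega

theorem vcode_spec : ∀ i, decF3 24 vcode i 0 = ConwayModel.red Spor.leechV i := by decide +kernel

theorem ucode_spec : ∀ i, decF3 24 ucode i 0 = ConwayModel.red Spor.leechU' i := by decide +kernel

theorem norm_le : sqNorm ((Spor.leechV : leechLattice) : GolayPt → ℤ) ≤ 64 ∧
    sqNorm ((Spor.leechU' : leechLattice) : GolayPt → ℤ) ≤ 64 := by decide +kernel

theorem finite_HS : Finite Spor.HS := by
  have := co0_finite
  exact Finite.of_injective (fun x : Spor.HS => (⟨x.1, x.2.1.1⟩ : Co0)) fun a b e =>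
    Subtype.ext (congrArg (fun g : Co0 => g.1) e)

theorem natCard_HS : Nat.card Spor.HS = 44352000 := by
  rw [show Spor.HS = Spor.Co3 ⊓ MulAction.stabilizer (Equiv.Perm leechLattice) Spor.leechU' from rfl,
    ← Sporadic.PairOutApps.map_pairStab, ← Nat.card_congr ((Sporadic.ConwayPairs.pairStab Spor.leechU').equivMapOfInjective
      Co0.subtype Co0.subtype_injective).toEquiv, Sporadic.PairOutApps.card_hs]

/-- The group seen among the automorphisms. -/
noncomputable def hsView : View Spor.HS where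
  lies a x := a.1 = x.1
  signs := [oneF3 24]
  one := rfl
  surj x := ⟨⟨x.1, x.2.1.1⟩, rfl⟩
  mul := by
    intro a b x y ha hb
    show a.1 * b.1 = x.1 * y.1
    rw [ha, hb]
  uniq ha hb := Subtype.ext (ha.symm.trans hb)
  fibre := by
    intro a b x ha hb
    refine ⟨oneF3 24, List.mem_singleton.2 rfl, ?_⟩
    rw [decF3_oneF3, mul_one, Subtype.ext (hb.trans ha.symm)]
  signs_mul := by
    intro s hs t ht
    rw [List.mem_singleton] at hs ht
    exact ⟨oneF3 24, List.mem_singleton.2 rfl, by rw [hs, ht, decF3_oneF3, mul_one]⟩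
  signs_central := by
    intro s hs M
    rw [List.mem_singleton] at hs
    rw [hs, decF3_oneF3, one_mul, mul_one]

/-- The chosen entries fix both vectors. -/
noncomputable def fixOK (is : List ℕ) : Bool :=
  is.all fun i => Nat.blt i slpN && mulF3 24 (slpT.get i) vcode == vcode &&
    mulF3 24 (slpT.get i) ucode == ucode

theorem slp_ok : allFrom 0 slpN (slpStep baseHS slpN slpT slpO) = true := by decide +kernel

theorem spanAt_HS {p : ℕ} [Fact p.Prime] {R : Pc.Rules} {C : Pc.Cert} {gi ki : List ℕ} {fuel : ℕ}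
    {seps : List (List ℕ)} (hfix : fixOK (gi ++ ki) = true)
    (hpc : pcOK (fun c => c) (oneF3 24) [oneF3 24] R C (gi.map slpT.get) (ki.map slpT.get) fuel seps = true)
    (hRp : R.p = p) {d : ℕ} (hd : ¬ p ∣ d) (hord : 44352000 = p ^ R.n * d) {ords : List ℕ}
    (hlen : C.us.length = ords.length) (hords : C.ords = ords) : Pc.SpanAt p Spor.HS ords := by
  simp only [fixOK, Bool.and_eq_true, List.all_eq_true, Nat.blt_eq, beq_iff_eq] at hfix
  have hex : ∀ c ∈ gi.map slpT.get ++ ki.map slpT.get, ∃ x, Rep hsView c x := fun c hc => by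
    rw [← List.map_append] at hc
    obtain ⟨i, hi, rfl⟩ := List.mem_map.1 hc
    obtain ⟨⟨hlt, hV⟩, hU⟩ := hfix i hi
    obtain ⟨g, hg⟩ := rep_of_slp exists_baseHS slp_ok i hlt
    have h1 := smul_eq_of_code norm_le.1 vcode_spec hg hV
    have h2 := smul_eq_of_code norm_le.2 ucode_spec hg hU
    exact ⟨⟨g.1, ⟨g.2, MulAction.mem_stabilizer_iff.2 h1⟩, MulAction.mem_stabilizer_iff.2 h2⟩, g, hg, rfl⟩
  have := finite_HS
  exact spanAt_of_pcOK hsView (fun c => c) (cone := oneF3 24) ⟨1, rep0_one, rfl⟩ (fun h => h)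
    (fun c hc => hex c (List.mem_append_left _ hc)) (fun c hc => hex c (List.mem_append_right _ hc))
    hpc hRp hd (natCard_HS.trans hord) hlen hords

theorem span_two : Pc.SpanAt 2 Spor.HS [2] := by
  have : Fact (Nat.Prime 2) := ⟨Nat.prime_two⟩
  exact spanAt_HS (p := 2) (gi := twoGi) (ki := twoKi) (R := twoRules) (C := twoCert) (fuel := 300) (seps := twoSeps)
    (by decide +kernel) (by decide +kernel) rfl (d := 86625) (by norm_num) (by norm_num [twoRules]) rfl rfl

theorem span_three : Pc.SpanAt 3 Spor.HS [] := by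
  have : Fact (Nat.Prime 3) := ⟨Nat.prime_three⟩
  exact spanAt_HS (p := 3) (gi := threeGi) (ki := threeKi) (R := threeRules) (C := threeCert) (fuel := 300) (seps := threeSeps)
    (by decide +kernel) (by decide +kernel) rfl (d := 4928000) (by norm_num) (by norm_num [threeRules]) rfl rfl

theorem span_five : Pc.SpanAt 5 Spor.HS [] := by
  have : Fact (Nat.Prime 5) := ⟨by norm_num⟩
  exact spanAt_HS (p := 5) (gi := fiveGi) (ki := fiveKi) (R := fiveRules) (C := fiveCert) (fuel := 300) (seps := fiveSeps)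
    (by decide +kernel) (by decide +kernel) rfl (d := 354816) (by norm_num) (by norm_num [fiveRules]) rfl rfl

theorem span_rest (p : ℕ) (hp : p.Prime) (h2 : p ≠ 2) : Pc.SpanAt p Spor.HS [] := by
  have : Fact p.Prime := ⟨hp⟩
  have := finite_HS
  by_cases h3 : p = 3
  · subst h3; exact span_three
  by_cases h5 : p = 5
  · subst h5; exact span_five
  refine Pc.spanAt_of_noMultiplierAt hp (noMultiplierAt_of_cyclic (default : Sylow p Spor.HS) ?_)
  have hP := (default : Sylow p Spor.HS).card_eq_multiplicity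
  rw [natCard_HS] at hP
  by_cases hd : p ∣ 44352000
  · rw [show (44352000 : ℕ) = 2 ^ 9 * 3 ^ 2 * 5 ^ 3 * (7 * 11) by norm_num] at hd
    have hq : p = 7 ∨ p = 11 := by
      rcases hp.dvd_mul.1 hd with hd | hd
      · rcases hp.dvd_mul.1 hd with hd | hd
        · rcases hp.dvd_mul.1 hd with hd | hd
          · exact absurd ((Nat.prime_dvd_prime_iff_eq hp Nat.prime_two).1 (hp.dvd_of_dvd_pow hd)) h2
          · exact absurd ((Nat.prime_dvd_prime_iff_eq hp Nat.prime_three).1 (hp.dvd_of_dvd_pow hd)) h3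
        · exact absurd ((Nat.prime_dvd_prime_iff_eq hp (by norm_num)).1 (hp.dvd_of_dvd_pow hd)) h5
      · rcases hp.dvd_mul.1 hd with hd | hd
        · exact Or.inl ((Nat.prime_dvd_prime_iff_eq hp (by norm_num)).1 hd)
        · exact Or.inr ((Nat.prime_dvd_prime_iff_eq hp (by norm_num)).1 hd)
    have hf : (44352000 : ℕ).factorization p = 1 := by
      have hdvd : p ∣ 44352000 := by rcases hq with rfl | rfl <;> norm_num
      have hnot : ¬ p ^ 2 ∣ 44352000 := by rcases hq with rfl | rfl <;> norm_num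
      have h1 := hp.factorization_pos_of_dvd (show (44352000 : ℕ) ≠ 0 by norm_num) hdvd
      rw [hp.pow_dvd_iff_le_factorization (by norm_num)] at hnot
      omega
    rw [hf, pow_one] at hP
    exact isCyclic_of_prime_card hP
  · rw [Nat.factorization_eq_zero_of_not_dvd hd, pow_zero] at hP
    have := (Nat.card_eq_one_iff_unique.mp hP).1
    exact isCyclic_of_subsingleton

end CfsgLib.Schur.MultiplierHS
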