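import Cfsg.Agent.Lib.Schur.PcAssemble
import Cfsg.Agent.Lib.Fusion48.RepTable
import Cfsg.Agent.Lib.Sporadic.Chain

/-!
Polycyclic multiplier certificates over any coded group. The distinctness of the elements of the
Sylow subgroup is checked on a tree, in linear time.
-/

set_option autoImplicit false

noncomputable section

namespace CfsgLib.Schur.PcCoded

open CfsgLib.Sporadic CfsgLib.Fusion48.RepTable

/-- The list is strictly increasing and lies above `a`. -/
def incFrom : ℕ → List ℕ → Bool
  | _, [] => true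
  | a, b :: l => Nat.blt a b && incFrom b l

theorem pairwise_of_incFrom : ∀ {a : ℕ} {l : List ℕ}, incFrom a l = true → (a :: l).Pairwise (· < ·)
  | _, [], _ => List.pairwise_singleton _ _
  | a, b :: l, h => by
    simp only [incFrom, Bool.and_eq_true, Nat.blt_eq] at h
    have ih := pairwise_of_incFrom h.2
    refine List.pairwise_cons.2 ⟨fun x hx => ?_, ih⟩
    rcases List.mem_cons.1 hx with rfl | hx
    · exact h.1
    · exact h.1.trans ((List.pairwise_cons.1 ih).1 x hx)

/-- The list is tabulated by the tree, and its entries in the given order increase. -/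
def treeSorted (l : List ℕ) (T : Tr) (N : ℕ) (idx : List ℕ) : Bool :=
  l == (List.range N).map T.get && idx.length == N && idx.all (fun i => Nat.blt i N) &&
    incFrom 0 (idx.map T.get)

theorem of_treeSorted {l : List ℕ} {T : Tr} {N : ℕ} {idx : List ℕ}
    (h : treeSorted l T N idx = true) : l.Nodup ∧ l.length = N := by
  simp only [treeSorted, Bool.and_eq_true, beq_iff_eq, List.all_eq_true, Nat.blt_eq] at h
  obtain ⟨⟨⟨hl, hlen⟩, hlt⟩, hinc⟩ := h
  have hnd : (idx.map T.get).Nodup :=
    ((List.pairwise_cons.1 (pairwise_of_incFrom hinc)).2).imp fun h => Nat.ne_of_lt h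
  have hsub : idx ⊆ List.range N := fun i hi => List.mem_range.2 (hlt i hi)
  have hperm := (List.subperm_of_subset (List.Nodup.of_map _ hnd) hsub).perm_of_length_le
    (by rw [List.length_range, hlen])
  subst hl
  exact ⟨(hperm.map _).nodup_iff.1 hnd, by simp⟩

/-- Everything to check for a certificate. -/
def certOK (mul : ℕ → ℕ → ℕ) (one : ℕ) (gens : List ℕ) (R : Pc.Rules) (C : Pc.Cert)
    (cs ks : List ℕ) (cw kw : List (List ℕ)) (fuel : ℕ) (idx : List ℕ) (T : Tr) : Bool :=
  (cw.map (genWord mul one gens) == cs) && (kw.map (genWord mul one gens) == ks) &&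
    R.shapeOK && C.eqnsOK R fuel && C.solveOK R &&
    Pc.holdsOK mul one R C cs ks &&
    treeSorted (Pc.pcElems mul one R.p R.n cs R.n) T (R.p ^ R.n) idx

universe u

variable {G : Type u} [Group G]

theorem rep_genWord (code : Coded G) {gens : List ℕ}
    (hg : ∀ i, ∃ x, code.Rep (gens.getD i code.one) x) :
    ∀ w : List ℕ, ∃ x, code.Rep (genWord code.mul code.one gens w) x
  | [] => ⟨1, code.rep_one⟩
  | i :: w => by
    obtain ⟨y, hy⟩ := rep_genWord code hg w
    obtain ⟨x, hx⟩ := hg i
    exact ⟨x * y, code.rep_mul hx hy⟩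

theorem exists_rep (code : Coded G) {gens : List ℕ}
    (hg : ∀ i, ∃ x, code.Rep (gens.getD i code.one) x) {cs : List ℕ} {cw : List (List ℕ)}
    (h : cw.map (genWord code.mul code.one gens) = cs) (i : ℕ) :
    ∃ x, code.Rep (cs.getD i code.one) x := by
  rcases Nat.lt_or_ge i cs.length with hi | hi
  · rw [List.getD_eq_getElem _ _ hi]
    obtain ⟨w, -, e⟩ := List.mem_map.1 (by rw [h]; exact List.getElem_mem hi :
      cs[i] ∈ cw.map (genWord code.mul code.one gens))
    rw [← e]
    exact rep_genWord code hg w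
  · rw [List.getD_eq_default _ _ hi]
    exact ⟨1, code.rep_one⟩

theorem spanAt_of_certOK [Finite G] (code : Coded G) {mul : ℕ → ℕ → ℕ} {one : ℕ} {gens : List ℕ}
    (hmul : code.mul = mul) (hone : code.one = one)
    (hg : ∀ i, ∃ x, code.Rep (gens.getD i code.one) x)
    {p : ℕ} [Fact p.Prime] {R : Pc.Rules} {C : Pc.Cert}
    {cs ks : List ℕ} {cw kw : List (List ℕ)} {fuel : ℕ} {idx : List ℕ} {T : Tr}
    (hok : certOK mul one gens R C cs ks cw kw fuel idx T = true) (hRp : R.p = p) {d : ℕ}
    (hd : ¬ p ∣ d) (hord : Nat.card G = p ^ R.n * d) {ords : List ℕ}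
    (hlen : C.us.length = ords.length) (hords : C.ords = ords) : Pc.SpanAt p G ords := by
  subst hmul hone
  simp only [certOK, Bool.and_eq_true, beq_iff_eq] at hok
  obtain ⟨⟨⟨⟨⟨⟨hcs, hks⟩, hshape⟩, heqs⟩, hsolve⟩, hholds⟩, hsort⟩ := hok
  choose gs hgs using exists_rep code hg hcs
  choose cg hcg using exists_rep code hg hks
  have hH := Pc.holds_of_check code.Rep code.rep_one code.rep_mul code.rep_uniq hgs hcg hholds
  have hle := Pc.le_card_of_elems code.Rep code.rep_one code.rep_mul code.rep_code hgs R.p R.n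
    (of_treeSorted hsort).1
  exact Pc.spanAt_of_cert hH hshape heqs hsolve hRp
    (hRp ▸ (of_treeSorted hsort).2.ge.trans hle) hd hord hlen hords

end CfsgLib.Schur.PcCoded

end
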