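import Cfsg.Agent.Lib.Schur.MultiplierHeData
import Cfsg.Agent.Lib.Schur.PcCoded
import Cfsg.Agent.Lib.Schur.CriteriaElements
import Cfsg.Agent.Lib.HeModel.Basic
import Cfsg.Agent.Lib.HeModel.Orbit

/-!
The Schur multiplier of the Held group is trivial.
-/

set_option autoImplicit false
set_option maxRecDepth 20000
-- one certificate at a time keeps the memory low
set_option Elab.async false

noncomputable section

namespace CfsgLib.Schur.MultiplierHe

open CfsgLib.Sporadic CfsgLib.Schur CfsgLib.HeModel CfsgLib.Presented

theorem two_ok : PcCoded.certOK (mulF2 51) idC gens twoRules twoCert twoGens twoConj twoWords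
    twoConjWords twoFuel twoIdx twoElems = true := by
  decide +kernel

theorem three_ok : PcCoded.certOK (mulF2 51) idC gens threeRules threeCert threeGens threeConj
    threeWords threeConjWords threeFuel threeIdx threeElems = true := by
  decide +kernel

theorem five_ok : PcCoded.certOK (mulF2 51) idC gens fiveRules fiveCert fiveGens fiveConj fiveWords
    fiveConjWords fiveFuel fiveIdx fiveElems = true := by
  decide +kernel

theorem seven_ok : PcCoded.certOK (mulF2 51) idC gens sevenRules sevenCert sevenGens sevenConj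
    sevenWords sevenConjWords sevenFuel sevenIdx sevenElems = true := by
  decide +kernel

theorem multiplier : Cfsg.HasCyclicSchurMultiplier Cfsg.Spor.He 1 := by
  refine hasCyclicSchurMultiplier_one fun p hp => ?_
  have : Fact p.Prime := ⟨hp⟩
  by_cases hd : p ∣ Nat.card Cfsg.Spor.He
  · rw [HeOrder.card_eq, show (4030387200 : ℕ) = 2 ^ 10 * 3 ^ 3 * 5 ^ 2 * 7 ^ 3 * 17 by norm_num] at hd
    rcases hp.dvd_mul.mp hd with hd | hd
    rcases hp.dvd_mul.mp hd with hd | hd
    rcases hp.dvd_mul.mp hd with hd | hd
    rcases hp.dvd_mul.mp hd with hd | hd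
    · obtain rfl := (Nat.prime_dvd_prime_iff_eq hp Nat.prime_two).mp (hp.dvd_of_dvd_pow hd)
      exact Pc.noMultiplierAt_of_spanAt (PcCoded.spanAt_of_certOK code rfl rfl exists_gen (p := 2)
        two_ok rfl (d := 3935925) (by norm_num) (by rw [HeOrder.card_eq]; norm_num [twoRules]) rfl rfl)
    · obtain rfl := (Nat.prime_dvd_prime_iff_eq hp Nat.prime_three).mp (hp.dvd_of_dvd_pow hd)
      exact Pc.noMultiplierAt_of_spanAt (PcCoded.spanAt_of_certOK code rfl rfl exists_gen (p := 3)
        three_ok rfl (d := 149273600) (by norm_num) (by rw [HeOrder.card_eq]; norm_num [threeRules]) rfl rfl)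
    · obtain rfl := (Nat.prime_dvd_prime_iff_eq hp (by norm_num)).mp (hp.dvd_of_dvd_pow hd)
      exact Pc.noMultiplierAt_of_spanAt (PcCoded.spanAt_of_certOK code rfl rfl exists_gen (p := 5)
        five_ok rfl (d := 161215488) (by norm_num) (by rw [HeOrder.card_eq]; norm_num [fiveRules]) rfl rfl)
    · obtain rfl := (Nat.prime_dvd_prime_iff_eq hp (by norm_num)).mp (hp.dvd_of_dvd_pow hd)
      exact Pc.noMultiplierAt_of_spanAt (PcCoded.spanAt_of_certOK code rfl rfl exists_gen (p := 7)
        seven_ok rfl (d := 11750400) (by norm_num) (by rw [HeOrder.card_eq]; norm_num [sevenRules]) rfl rfl)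
    · obtain rfl := (Nat.prime_dvd_prime_iff_eq hp (by norm_num)).mp hd
      obtain ⟨S⟩ := (inferInstance : Nonempty (Sylow 17 Cfsg.Spor.He))
      refine noMultiplierAt_of_cyclic S (isCyclic_of_prime_card (p := 17) ?_)
      rw [Sylow.card_eq_multiplicity, HeOrder.card_eq,
        show (4030387200 : ℕ) = 17 ^ 1 * 237081600 by norm_num,
        Nat.factorization_mul (by norm_num) (by norm_num), Finsupp.add_apply,
        hp.factorization_pow, Finsupp.single_eq_same,
        Nat.factorization_eq_zero_of_not_dvd (by norm_num)]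
      norm_num
  · exact noMultiplierAt_of_not_dvd hd

end CfsgLib.Schur.MultiplierHe

end
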