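import Cfsg.Agent.Lib.Schur.MultiplierJ2Data
import Cfsg.Agent.Lib.Schur.PcAssemble
import Cfsg.Agent.Lib.Schur.CriteriaElements
import Cfsg.Agent.Lib.Icosian.Model

/-!
The Schur multiplier of the Hall–Janko group has order 2.
-/

set_option autoImplicit false
set_option maxRecDepth 20000

noncomputable section

namespace CfsgLib.Schur.MultiplierJ2

open CfsgLib.Sporadic CfsgLib.Sporadic.PermCode CfsgLib.Schur
open Cfsg.Spor (twoJ2)

/-- Everything to check for a certificate. -/
def certOK (R : Pc.Rules) (C : Pc.Cert) (gl kl : List ℕ) (gw kw : List (List ℕ)) (fuel : ℕ)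
    (idx : List ℕ) : Bool :=
  (gw.map (genWord mul HallJanko.one HallJanko.gens) == gl) &&
    (kw.map (genWord mul HallJanko.one HallJanko.gens) == kl) && gl.all canon && kl.all canon &&
    R.shapeOK && C.eqnsOK R fuel && C.solveOK R &&
    Pc.holdsOK mul HallJanko.one R C gl kl && idx.length == R.p ^ R.n &&
    Pc.sortedBy (Pc.pcElems mul HallJanko.one R.p R.n gl R.n) idx

theorem canon_one : canon HallJanko.one = true := by decide +kernel

theorem canon_mul (a b : ℕ) : canon (mul a b) = true :=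
  beq_iff_eq.2 (pack_congr 100 _ _ fun i hi =>
    img_pack (fun j => img a (img b j)) (fun _ => Nat.mod_lt _ (by norm_num)) hi)

theorem exists_elem {cl : List ℕ} {ws : List (List ℕ)}
    (h : ws.map (genWord mul HallJanko.one HallJanko.gens) = cl) (hc : ∀ c ∈ cl, canon c = true)
    (i : ℕ) : ∃ x : HallJanko.grp, canon (cl.getD i HallJanko.one) = true ∧
      emb (x : Equiv.Perm HallJanko.Pt) = dec (cl.getD i HallJanko.one) := by
  rcases Nat.lt_or_ge i cl.length with hi | hi
  · rw [List.getD_eq_getElem _ _ hi]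
    obtain ⟨w, -, e⟩ := List.mem_map.1 (by rw [h]; exact List.getElem_mem hi :
      cl[i] ∈ ws.map (genWord mul HallJanko.one HallJanko.gens))
    obtain ⟨x, hx, ex⟩ := codeMem_genWord hmul HallJanko.hone HallJanko.gens_mem w
    rw [e] at ex
    exact ⟨⟨x, hx⟩, hc _ (List.getElem_mem hi), ex⟩
  · rw [List.getD_eq_default _ _ hi]
    exact ⟨1, canon_one, by rw [OneMemClass.coe_one, map_one]; exact HallJanko.hone.symm⟩

theorem spanAt_of_certOK {p : ℕ} [Fact p.Prime] {R : Pc.Rules} {C : Pc.Cert} {gl kl : List ℕ}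
    {gw kw : List (List ℕ)} {fuel : ℕ} {idx : List ℕ}
    (h : certOK R C gl kl gw kw fuel idx = true) (hRp : R.p = p) {d : ℕ} (hd : ¬ p ∣ d)
    (hord : 604800 = p ^ R.n * d) {ords : List ℕ} (hlen : C.us.length = ords.length)
    (hords : C.ords = ords) : Pc.SpanAt p HallJanko.grp ords := by
  simp only [certOK, Bool.and_eq_true, List.all_eq_true, beq_iff_eq] at h
  obtain ⟨⟨⟨⟨⟨⟨⟨⟨⟨hgw, hkw⟩, hgl⟩, hkl⟩, hshape⟩, heqs⟩, hsolve⟩, hholds⟩, hidx⟩, hsort⟩ := h
  choose gs hgs using exists_elem hgw hgl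
  choose cg hcg using exists_elem hkw hkl
  let Rep : ℕ → HallJanko.grp → Prop := fun a x =>
    canon a = true ∧ emb (x : Equiv.Perm HallJanko.Pt) = dec a
  have r1 : Rep HallJanko.one 1 :=
    ⟨canon_one, by rw [OneMemClass.coe_one, map_one]; exact HallJanko.hone.symm⟩
  have rm : ∀ {a b : ℕ} {x y : HallJanko.grp}, Rep a x → Rep b y → Rep (mul a b) (x * y) :=
    fun ha hb => ⟨canon_mul _ _, by rw [Subgroup.coe_mul, map_mul, ha.2, hb.2, hmul]⟩
  have ru : ∀ {a : ℕ} {x y : HallJanko.grp}, Rep a x → Rep a y → x = y :=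
    fun ha hb => Subtype.ext (hemb (ha.2.trans hb.2.symm))
  have rc : ∀ {a b : ℕ} {x : HallJanko.grp}, Rep a x → Rep b x → a = b :=
    fun ha hb => hinj _ _ ha.1 hb.1 (ha.2.symm.trans hb.2)
  have hlen' : (Pc.pcElems mul HallJanko.one R.p R.n gl R.n).length = R.p ^ R.n := by
    have h' := hsort
    simp only [Pc.sortedBy, Bool.and_eq_true, beq_iff_eq] at h'
    omega
  have hle := Pc.le_card_of_elems Rep r1 rm rc hgs R.p R.n (Pc.nodup_of_sortedBy hsort)
  rw [hlen', hRp] at hle
  exact Pc.spanAt_of_cert (Pc.holds_of_check Rep r1 rm ru hgs hcg hholds) hshape heqs hsolve hRp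
    hle hd (by rw [HallJanko.card_grp]; exact hord) hlen hords

theorem two_ok :
    certOK twoRules twoCert twoGens twoConj twoWords twoConjWords twoFuel twoIdx = true := by
  decide +kernel

theorem three_ok :
    certOK threeRules threeCert threeGens threeConj threeWords threeConjWords threeFuel threeIdx =
      true := by
  decide +kernel

theorem five_ok :
    certOK fiveRules fiveCert fiveGens fiveConj fiveWords fiveConjWords fiveFuel fiveIdx = true := by
  decide +kernel

theorem span_two : Pc.SpanAt 2 HallJanko.grp [2] :=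
  spanAt_of_certOK (p := 2) two_ok rfl (d := 4725) (by norm_num) (by norm_num [twoRules]) rfl rfl

theorem span_rest (p : ℕ) (hp : p.Prime) (h2 : p ≠ 2) : Pc.SpanAt p HallJanko.grp [] := by
  have : Fact p.Prime := ⟨hp⟩
  by_cases hd : p ∣ Nat.card HallJanko.grp
  · rw [HallJanko.card_grp, show (604800 : ℕ) = 2 ^ 7 * 3 ^ 3 * 5 ^ 2 * 7 by norm_num] at hd
    rcases hp.dvd_mul.mp hd with hd | hd
    rcases hp.dvd_mul.mp hd with hd | hd
    rcases hp.dvd_mul.mp hd with hd | hd
    · exact absurd ((Nat.prime_dvd_prime_iff_eq hp Nat.prime_two).mp (hp.dvd_of_dvd_pow hd)) h2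
    · obtain rfl := (Nat.prime_dvd_prime_iff_eq hp Nat.prime_three).mp (hp.dvd_of_dvd_pow hd)
      exact spanAt_of_certOK (p := 3) three_ok rfl (d := 22400) (by norm_num)
        (by norm_num [threeRules]) rfl rfl
    · obtain rfl := (Nat.prime_dvd_prime_iff_eq hp (by norm_num)).mp (hp.dvd_of_dvd_pow hd)
      exact spanAt_of_certOK (p := 5) five_ok rfl (d := 24192) (by norm_num)
        (by norm_num [fiveRules]) rfl rfl
    · obtain rfl := (Nat.prime_dvd_prime_iff_eq hp (by norm_num)).mp hd
      obtain ⟨S⟩ := (inferInstance : Nonempty (Sylow 7 HallJanko.grp))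
      refine Pc.spanAt_of_noMultiplierAt hp (noMultiplierAt_of_cyclic S ?_)
      refine isCyclic_of_prime_card (p := 7) ?_
      rw [Sylow.card_eq_multiplicity, HallJanko.card_grp,
        show (604800 : ℕ) = 7 ^ 1 * 86400 by norm_num,
        Nat.factorization_mul (by norm_num) (by norm_num), Finsupp.add_apply,
        hp.factorization_pow, Finsupp.single_eq_same,
        Nat.factorization_eq_zero_of_not_dvd (by norm_num)]
      norm_num
  · exact Pc.spanAt_of_noMultiplierAt hp (noMultiplierAt_of_not_dvd hd)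

/-- A word whose lift to the lattice squares to minus the identity. -/
def negWord : List (Fin 4) :=
  [0, 1, 2, 3, 1, 3, 0, 1, 2, 3, 1, 3, 0, 1, 2, 3, 1, 3, 0, 1, 2, 3, 1, 3, 0, 1, 2, 3, 1, 3]

open CfsgLib.Icosian in
/-- A product of generators of the reflection group. -/
def wordElem : List (Fin 4) → twoJ2
  | [] => 1
  | k :: w => ⟨gen k, twoJ2_eq ▸ Subgroup.subset_closure ⟨k, rfl⟩⟩ * wordElem w

open CfsgLib.Icosian in
/-- Its action on coordinates. -/
def wordVec : List (Fin 4) → Vec → Vec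
  | [], v => v
  | k :: w, v => Vec.refl (rep (gIdx k)) (wordVec w v)

open CfsgLib.Icosian in
theorem wordElem_rho : ∀ (w : List (Fin 4)) (i : Fin 315),
    rho (wordElem w) i = w.foldr piFun i
  | [], i => by simp [wordElem]
  | k :: w, i => by
    rw [wordElem, map_mul, Equiv.Perm.mul_apply, wordElem_rho w i, List.foldr_cons]
    exact F_injective ((rho_spec _ _).trans (conj_F k _))

open CfsgLib.Icosian in
theorem wordElem_apply : ∀ (w : List (Fin 4)) (v : Vec) (h : v.inL = true),
    (((wordElem w : Equiv.Perm CfsgLib.Icosian.Pt) (mkPt v h) : CfsgLib.Icosian.Pt) : QV) =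
      (wordVec w v).toV
  | [], v, h => rfl
  | k :: w, v, h => by
    have ih := wordElem_apply w v h
    have hin : (wordVec w v).inL = true := by
      refine (Vec.mem_icoLeech_iff _).1 ?_
      rw [← ih]
      exact ((wordElem w : Equiv.Perm CfsgLib.Icosian.Pt) (mkPt v h)).2
    rw [wordElem, Subgroup.coe_mul, Equiv.Perm.mul_apply,
      show (wordElem w : Equiv.Perm CfsgLib.Icosian.Pt) (mkPt v h) = mkPt _ hin from Subtype.ext ih]
    exact qrefl_toV (rep_inL (gIdx k)) hin

open CfsgLib.Icosian in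
theorem negWord_checks :
    (List.finRange 315).all (fun i => negWord.foldr piFun (negWord.foldr piFun i) == i) = true ∧
      decide (wordVec (negWord ++ negWord) (rep 0) = rep 0) = false := by
  decide +kernel

open CfsgLib.Icosian in
theorem wordElem_append : ∀ v w : List (Fin 4), wordElem (v ++ w) = wordElem v * wordElem w
  | [], w => (one_mul _).symm
  | k :: v, w => by
    rw [List.cons_append, wordElem, wordElem, wordElem_append v w, mul_assoc]

open CfsgLib.Icosian in
theorem exists_sqrt_neg : ∃ g : twoJ2, g * g ∈ Subgroup.center twoJ2 ∧ g * g ≠ 1 := by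
  refine ⟨wordElem negWord, ?_, fun h => ?_⟩
  · rw [← ker_rho, MonoidHom.mem_ker]
    refine Equiv.ext fun i => ?_
    rw [map_mul, Equiv.Perm.mul_apply, wordElem_rho, wordElem_rho, Equiv.Perm.one_apply]
    exact beq_iff_eq.1 (List.all_eq_true.1 negWord_checks.1 i (List.mem_finRange i))
  · have h2 := wordElem_apply (negWord ++ negWord) (rep 0) (rep_inL 0)
    rw [wordElem_append, h] at h2
    have h3 : wordVec (negWord ++ negWord) (rep 0) = rep 0 := (Vec.toV_injective h2).symm
    exact of_decide_eq_false negWord_checks.2 h3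

/-- A central extension of a nonabelian simple group by a group `{1, w}` in which some square is
`w` is perfect enough for the kernel to lie in the commutator subgroup. -/
theorem center_le_commutator_of_sqrt {Γ : Type} [Group Γ] [IsSimpleGroup (Γ ⧸ Subgroup.center Γ)]
    (hna : ∃ a b : Γ ⧸ Subgroup.center Γ, a * b ≠ b * a)
    (hK : ∀ z ∈ Subgroup.center Γ, z * z = 1)
    (hg : ∃ g : Γ, g * g ∈ Subgroup.center Γ ∧ g * g ≠ 1)
    (h2 : ∀ w ∈ Subgroup.center Γ, ∀ w' ∈ Subgroup.center Γ, w ≠ 1 → w' ≠ 1 → w = w') :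
    Subgroup.center Γ ≤ commutator Γ := by
  -- the commutator subgroup and the centre generate everything
  have htop : commutator Γ ⊔ Subgroup.center Γ = ⊤ := by
    set π := QuotientGroup.mk' (Subgroup.center Γ)
    have hN : ((commutator Γ).map π).Normal :=
      Subgroup.Normal.map inferInstance π (QuotientGroup.mk'_surjective _)
    rcases hN.eq_bot_or_eq_top with hb | ht
    · exfalso
      obtain ⟨a, b, hab⟩ := hna
      obtain ⟨x, rfl⟩ := QuotientGroup.mk'_surjective _ a
      obtain ⟨y, rfl⟩ := QuotientGroup.mk'_surjective _ b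
      refine hab ?_
      rw [← commutatorElement_eq_one_iff_mul_comm, ← map_commutatorElement, ← Subgroup.mem_bot,
        ← hb]
      exact Subgroup.mem_map_of_mem _
        (Subgroup.commutator_mem_commutator (Subgroup.mem_top _) (Subgroup.mem_top _))
    · have h1 := Subgroup.comap_map_eq π (commutator Γ)
      rw [ht, Subgroup.comap_top, QuotientGroup.ker_mk'] at h1
      exact h1.symm
  obtain ⟨g, hg, hg1⟩ := hg
  have hgmem : g ∈ commutator Γ ⊔ Subgroup.center Γ := by rw [htop]; exact Subgroup.mem_top g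
  obtain ⟨c, hc, z, hz, e⟩ := Subgroup.mem_sup_of_normal_right.1 hgmem
  have hgc : g * g ∈ commutator Γ := by
    rw [← e, mul_assoc, ← mul_assoc z c, ← Subgroup.mem_center_iff.1 hz c, mul_assoc c z, hK z hz,
      mul_one]
    exact mul_mem hc hc
  intro w hw
  by_cases hw1 : w = 1
  · rw [hw1]; exact one_mem _
  · rwa [h2 w hw (g * g) hg hw1 hg1]

theorem center_le_commutator : Subgroup.center twoJ2 ≤ commutator twoJ2 := by
  have hK : ∀ z ∈ Subgroup.center twoJ2, z * z = 1 := fun z hz => by
    have h : (⟨z, hz⟩ : Subgroup.center twoJ2) ^ Nat.card (Subgroup.center twoJ2) = 1 :=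
      pow_card_eq_one'
    rw [CfsgLib.Icosian.card_center, pow_two] at h
    exact congrArg Subtype.val h
  refine @center_le_commutator_of_sqrt twoJ2 _ CfsgLib.Icosian.isSimple_J2
    CfsgLib.Icosian.nonabelian_J2 hK exists_sqrt_neg fun w hw w' hw' h1 h1' => ?_
  rcases (CfsgLib.Icosian.center_iff _).1 hw with h | h
  · exact absurd h h1
  rcases (CfsgLib.Icosian.center_iff _).1 hw' with h' | h'
  · exact absurd h' h1'
  exact Subtype.ext (h.trans h'.symm)

theorem exists_cover : ∃ (Γ : Type) (_ : Group Γ) (_ : Finite Γ) (σ : Γ →* Cfsg.Spor.J2),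
    Cfsg.IsStemExtension σ ∧ Nonempty (σ.ker ≃* Multiplicative (ZMod 2)) := by
  have : Finite twoJ2 := Nat.finite_of_card_ne_zero (by rw [CfsgLib.Icosian.card_twoJ2]; norm_num)
  have hk : (QuotientGroup.mk' (Subgroup.center twoJ2)).ker = Subgroup.center twoJ2 :=
    QuotientGroup.ker_mk' _
  have hp : Fact (Nat.Prime 2) := ⟨Nat.prime_two⟩
  refine ⟨twoJ2, inferInstance, inferInstance, QuotientGroup.mk' (Subgroup.center twoJ2),
    ⟨QuotientGroup.mk'_surjective _, hk.le, hk.le.trans center_le_commutator⟩,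
    ⟨mulEquivOfPrimeCardEq (p := 2) ?_ (by simp [Nat.card_eq_fintype_card])⟩⟩
  rw [hk, CfsgLib.Icosian.card_center]

theorem spanAt_of_mulEquiv {G H : Type} [Group G] [Group H] (e : G ≃* H) {p : ℕ} {ords : List ℕ}
    (h : Pc.SpanAt p G ords) : Pc.SpanAt p H ords := by
  intro Γ _ _ σ hσ
  have hk : (e.symm.toMonoidHom.comp σ).ker = σ.ker := MonoidHom.ker_mulEquiv_comp σ e.symm
  have hst : Cfsg.IsStemExtension (e.symm.toMonoidHom.comp σ) :=
    ⟨e.symm.surjective.comp hσ.1, by rw [hk]; exact hσ.2.1, by rw [hk]; exact hσ.2.2⟩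
  obtain ⟨us, h1, h2⟩ := h Γ (e.symm.toMonoidHom.comp σ) hst
  rw [hk] at h1 h2
  exact ⟨us, h1, h2⟩

theorem multiplier : Cfsg.HasCyclicSchurMultiplier Cfsg.Spor.J2 2 := by
  have : Finite Cfsg.Spor.J2 := Finite.of_equiv _ CfsgLib.Icosian.toHJ.toEquiv.symm
  exact Pc.hasCyclicSchurMultiplier_of_spans (a := 2) (b := 1) (pa := 2) (pb := 3) rfl (by norm_num)
    (spanAt_of_mulEquiv CfsgLib.Icosian.toHJ.symm span_two)
    (Pc.spanAt_one_of_spanAt_nil
      (spanAt_of_mulEquiv CfsgLib.Icosian.toHJ.symm (span_rest 3 Nat.prime_three (by norm_num))))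
    (fun p hp h2 _ => spanAt_of_mulEquiv CfsgLib.Icosian.toHJ.symm (span_rest p hp h2)) exists_cover

end CfsgLib.Schur.MultiplierJ2

end
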