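import Cfsg.Agent.Lib.Schur.PcData

/-! Generated polycyclic certificates for the multiplier of J2 on 100 points. -/

set_option autoImplicit false
set_option maxRecDepth 20000

namespace CfsgLib.Schur.MultiplierJ2

open CfsgLib.Schur

/-- The relations. -/
def twoRules : Pc.Rules where
  p := 2
  n := 7
  d := 3
  pw := [[],[],[],[6],[6],[],[]]
  cm := [[[],[4,5,6],[3,4],[6],[],[6],[]],[[],[],[5,6],[5],[6],[],[]],[[],[],[],[5],[5,6],[],[]],[[],[],[],[],[6],[],[]],[[],[],[],[],[],[],[]],[[],[],[],[],[],[],[]],[[],[],[],[],[],[],[]]]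

/-- The certificate. -/
def twoCert : Pc.Cert where
  eqns := [.assoc [1] [1] [0],
    .assoc [1] [0] [0],
    .assoc [2] [1] [0],
    .assoc [3] [1] [0],
    .assoc [4] [1] [0],
    .assoc [5] [1] [0],
    .assoc [6] [1] [0],
    .assoc [2] [2] [0],
    .assoc [2] [0] [0],
    .assoc [3] [2] [0],
    .assoc [4] [2] [0],
    .assoc [5] [2] [0],
    .assoc [6] [2] [0],
    .assoc [3] [3] [0],
    .assoc [3] [0] [0],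
    .assoc [4] [3] [0],
    .assoc [4] [4] [0],
    .assoc [2] [2] [1],
    .assoc [2] [1] [1],
    .assoc [4] [2] [1],
    .assoc [3] [3] [1],
    .fuse 0 [[4],[0,6]] [[3,5],[0,3]] [0,1] [1,0],
    .fuse 0 [[4],[0,4,5]] [[3,5],[5,6]] [0,1] [1,0]]
  rows := [[0,0,0,0,(-1),(-1),(-2),0,(-2),0,0,0,0,0,0,0,0,0,(-1),(-1),(-1),0,0,0,0,0,0,0,0,0,0,0,0,0,0,0,0,0,0,0,(-1),0,0,0,0,0,0,0,(-3)],
    [0,0,0,0,1,1,2,0,2,0,0,1,1,1,0,0,0,0,0,0,0,0,0,0,0,0,0,0,0,0,0,0,0,0,0,0,0,0,0,0,1,1,0,0,0,0,0,0,1],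
    [0,0,0,0,0,0,1,0,0,0,0,0,1,1,0,0,0,(-1),(-1),0,0,0,0,0,0,1,1,1,0,0,0,0,1,(-1),(-1),0,0,0,0,0,0,0,0,0,0,0,0,0,(-1)],
    [0,0,0,0,0,0,1,0,0,0,0,0,1,0,0,0,0,0,0,0,(-1),0,0,0,0,0,0,0,0,0,0,0,1,1,1,0,0,0,0,0,(-1),(-1),0,0,0,0,0,0,1],
    [0,0,0,0,0,0,0,0,0,0,0,0,0,1,0,0,0,0,0,0,0,0,0,0,0,0,0,0,0,0,0,0,0,0,0,0,0,0,0,0,1,0,0,0,0,0,0,0,1],
    [0,0,0,0,0,0,0,0,0,0,0,0,0,0,0,0,0,0,0,0,(-1),0,0,0,0,0,0,0,0,0,0,0,0,0,0,0,0,0,0,0,(-1),(-1)],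
    [0,0,0,0,0,0,0,0,0,0,0,0,0,0,0,0,0,0,0,0,0,0,0,0,0,0,0,0,0,0,0,0,0,0,0,0,0,0,0,0,0,(-1),0,0,0,0,0,0,(-1)],
    [0,0,0,(-1),(-1),(-1),(-2),0,0,(-2),0,0,0,0,0,0,0,0,0,0,0,0,0,0,(-1),(-1),0,0,0,0,0,0,(-1),0,(-1),0,0,0,0,0,(-1),(-2)],
    [0,0,0,1,1,0,2,0,0,2,1,1,0,0,0,0,0,0,0,0,0,0,0,0,0,0,0,0,0,0,0,0,1,0,0,0,0,0,0,0,0,2],
    [0,0,0,0,0,0,1,0,0,0,0,0,1,0,0,0,0,0,0,0,0,0,0,0,0,0,0,(-1),0,0,0,0,1,(-1),(-1),0,0,0,0,0,(-1),1],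
    [0,0,0,0,0,0,0,0,0,0,0,0,1,1,0,0,0,0,0,0,0,0,0,0,0,0,0,0,0,0,0,0,(-1),(-1),(-1),0,0,0,0,0,(-1),0,0,0,0,0,0,0,(-1)],
    [0,0,0,0,0,0,0,0,0,0,0,0,0,0,0,0,0,0,0,0,0,0,0,0,0,0,0,(-1),0,0,0,0,0,(-1),(-1),0,0,0,0,0,(-1),(-1)],
    [0,0,0,0,0,0,0,0,0,0,0,0,0,0,0,0,0,0,0,0,0,0,0,0,0,0,0,0,0,0,0,0,0,0,(-1),0,0,0,0,0,0,(-1)],
    [0,0,0,0,0,0,(-1),0,0,0,(-2),0,0,1,0,0,0,0,0,0,0,0,0,0,0,0,0,0,0,0,0,0,0,0,(-1)],
    [0,0,0,0,0,0,1,0,0,0,2,0,0,1],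
    [0,0,0,0,0,0,0,0,0,0,0,0,0,1,0,0,0,0,0,0,0,0,0,0,0,0,0,0,0,0,0,0,0,0,0,0,0,0,0,0,0,1],
    [0,0,0,0,0,0,0,0,0,0,0,(-2),0,1],
    [0,0,0,0,0,(-1),(-1),0,0,0,0,0,0,0,0,0,(-2),0,0,0,0,0,0,0,0,0,(-1),(-1),0,0,0,0,0,0,0,0,0,0,0,0,0,0,0,0,0,0,0,0,(-1)],
    [0,0,0,0,0,1,1,0,0,0,0,0,0,0,0,0,2,0,0,1,1,0,0,0,0,0,0,0,0,0,0,0,0,0,0,0,0,0,0,0,0,0,0,0,0,0,0,0,1],
    [0,0,0,0,0,0,0,0,0,0,0,0,0,0,0,0,0,0,0,1,1,0,0,0,0,0,0,(-1),0,0,0,0,0,0,0,0,0,0,0,0,1,1],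
    [0,0,0,0,0,(-1),0,0,0,0,0,0,0,0,0,0,0,(-2),0,0,1,0,0,0,0,0,0,0,0,0,0,0,0,(-1),0,0,0,0,0,0,0,0,0,0,0,0,0,0,(-2)],
    [0,0,0,0,0,0,1,0,0,0,1,(-1),1,0,0,0,0,0,0,0,0,0,0,0,0,0,0,0,0,0,0,0,0,1,0,0,0,0,0,0,0,1,0,0,0,0,0,0,1],
    [0,0,0,0,0,0,0,0,0,0,0,(-1),0,0,0,0,0,0,0,0,0,0,0,0,0,0,0,0,0,0,0,0,0,(-1),(-1),0,0,0,0,0,1,0,0,0,0,0,0,0,(-1)]]
  us := [[0,0,0,0,0,0,0,0,0,0,(-1),0,0,0,0,0,1,(-1)]]
  ords := [2]
  ordComb := [[(3,7),(4,2),(5,-6),(6,3),(9,-6),(10,1),(11,7),(12,29),(13,-26),(14,-26),(15,49),(18,1),(19,-1),(20,1),(21,-2),(22,2)]]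
  shifts := [[],
    [],
    [],
    [0,0,0,0,0,0,0,0,(-1),1,0,0,0,0,0,0,1],
    [0,0,0,0,0,0,0,0,1,0,0,0,0,0,0,0,(-1)],
    [0,0,0,0,0,0,0,0,0,0,(-1),0,0,0,0,0,1],
    [0,0,0,0,0,0,0,0,0,0,1]]
  pwComb := [[],[],[],[(1,-1),(3,-7),(4,-1),(5,5),(6,-2),(8,1),(9,6),(11,-7),(12,-31),(13,27),(14,27),(15,-52),(18,-1),(19,1),(20,-2),(21,2),(22,-2),(23,4)],[(1,1),(3,-5),(4,-7),(5,4),(6,-9),(9,4),(10,-1),(11,-6),(12,-35),(13,33),(14,33),(15,-59),(18,-2),(19,2),(20,-1),(21,1),(23,2)],[(3,-8),(4,-3),(5,6),(6,-3),(9,7),(10,-1),(11,-8),(12,-35),(13,31),(14,31),(15,-58),(18,-1),(19,1),(20,-2),(21,2),(22,-2),(23,4)],[(3,9),(4,5),(5,-7),(6,7),(9,-8),(10,1),(11,10),(12,45),(13,-41),(14,-41),(15,76),(18,2),(19,-2),(20,2),(21,-2),(22,2),(23,-4)]]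
  cmComb := [[[],[],[],[],[(3,-1),(4,1),(5,1),(6,1),(9,1),(11,-1),(15,-1),(22,-1)],[(3,-4),(4,-2),(5,3),(6,-3),(9,4),(11,-5),(12,-21),(13,19),(14,19),(15,-36),(18,-1),(19,1),(20,-1),(21,1),(22,-1),(23,2)],[(12,-1),(13,1),(14,1),(15,-1)]],
    [[],[],[],[(3,7),(4,2),(5,-6),(6,3),(9,-6),(10,1),(11,7),(12,29),(13,-26),(14,-26),(15,49),(18,1),(19,-1),(20,1),(21,-2),(22,2),(23,-3)],[(0,-1),(1,-1),(3,-4),(4,1),(5,3),(6,3),(9,4),(11,-4),(12,-10),(13,8),(14,8),(15,-16),(18,-1),(20,-1),(21,1),(22,-2),(23,2)],[(3,-1),(4,-1),(5,2),(6,-2),(9,1),(11,-2),(12,-6),(13,6),(14,6),(15,-11),(19,1)],[(4,-1),(5,-1),(6,-1),(12,-3),(13,3),(14,3),(15,-5)]],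
    [[],[],[],[(0,1),(1,1),(2,-1),(3,2),(4,-2),(6,-6),(7,-1),(8,-1),(9,-1),(12,2),(13,2),(14,2),(15,-2),(17,-1),(19,1),(20,2),(21,-1),(22,1),(23,-3)],[(0,-1),(1,-1),(2,1),(3,5),(4,5),(5,-5),(6,9),(9,-5),(10,1),(11,7),(12,33),(13,-32),(14,-32),(15,58),(17,1),(18,1),(19,-2),(21,-1),(23,-1)],[(4,-1),(6,-1),(12,-3),(13,3),(14,3),(15,-5),(17,-1),(18,-1),(19,1)],[(3,-1),(4,-1),(5,1),(6,-2),(9,1),(11,-2),(12,-6),(13,6),(14,6),(15,-11)]],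
    [[],[],[],[],[(3,-5),(4,-3),(5,4),(6,-4),(9,5),(10,-1),(11,-6),(12,-26),(13,24),(14,24),(15,-44),(18,-1),(19,1),(20,-1),(21,1),(22,-1),(23,2)],[(3,1),(5,-1),(6,1),(9,-1),(11,1),(12,5),(13,-4),(14,-4),(15,8)],[(12,-2),(13,1),(14,1),(15,-2)]],
    [[],[],[],[],[],[(4,1),(6,1),(12,2),(13,-2),(14,-2),(15,3)],[(12,1),(13,-1),(14,-1),(15,2)]],
    [[],[],[],[],[],[],[(6,-1),(12,-1),(13,1),(14,1),(15,-2)]],
    [[],[],[],[],[],[],[]]]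

/-- Codes of the generators. -/
def twoGens : List ℕ := [0xa58901284a18999f12cb04636ad42d8d550b71e68a06fa4859c889da197da213d2973c766c30f58d9ac1382eed830f56b7094415e109928eaf1a06120fceb37452e2f2f4ca9a8b8039f7092b4365304a722e642b96a4080,0xb204412b1085bb6ccf1df5a88e155341fd2963e64d9e0c811826e019557a3c5a25dbb2b8605307b6d282b4f15b8429eb94630e9965c8da9d4d5979e12812558c3223a7ca2a2c0b824499c1839abae4fe11a3898094d3104,0x2b64cb51f0564529231285ae5bd0520475426084184f184da852ae3a071ef06768051b7f12b30aa8701634a8f381612bdd0eca9d8968c9114c71b3e20c462278cf0cc1ad31db9e9521fbf44b9d5ef64cd570002e873a905,0xa5510129d0668448dac8faf0e5e2538d55014d18db763849e848a317817a3a70b3173906b003037112a85770ed331456c832f5c5fac99abe464c61a20eaeb27e50587b560ae18b8179f053c40d672a4a122f1b9caa58086,0xc7522e01ea65a4641aca84630ee285488d01762adc62ac4bf6080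d3942e29887410c369aded419001a9614f81de54bd3059e1e3821ab529caf85393206ddcc5888751797c0c62849e9f68ce1c094664d65d10f5bbb38a97,0xa5508e0bf1cb8a5736858aefc362718d159653ad337812488bcb9e9d0b06137ac2e2cb7231dd380c5ab4993db29411968db64d82836992994744f2f3e8620e4e6121aba58087544b0901e7163a7d704c829561ca0008a83,0xc788d60691d89c7d12c82af01dd47149ed094a0ea4073e4babc4d15a4f061566f6e880ab203537e5dadf3212ea90ea969e16b984e86992cc47146943eb26dc0b859916c3caa08c48c102c29088563848c5ee4db297600bc]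

/-- Codes of the conjugating elements. -/
def twoConj : List ℕ := [0x467cf622ee6341526b1d56ac8890bb5d3d22c00a47a23c0a40d58661b76a20416c21aa31317b157153369d4c9cb9036c9c04841bc7d416de4a20c85937104294b1437447491b8151f899b7d98ab0d0a8e741e7b87aef02e]

/-- Fuel for collection. -/
def twoFuel : ℕ := 20

/-- Words for the generators. -/
def twoWords : List (List ℕ) := [[0, 1, 0, 0, 0, 0, 0, 1, 1, 1, 1, 1, 0, 1, 0, 0, 0, 0, 1, 1], [1, 0, 1, 0, 1, 1, 0, 1, 1, 0, 1, 0, 1, 0, 0, 0, 0], [0, 0, 0, 0, 0, 0, 1, 1, 0, 0, 0, 1, 1, 0, 0, 1, 0, 0], [0, 0, 1, 1, 0, 1, 1, 1, 0, 1, 1, 0, 1, 1, 1], [0, 1, 1, 0, 1, 0, 0, 0, 1, 0, 1, 0, 1, 0, 0, 1, 1], [1, 1, 1, 0, 1, 0, 1, 0, 0, 0, 1, 1, 1, 0, 1, 1, 0], [0, 0, 1, 0, 1, 0, 1, 0, 0, 0, 0, 0, 0]]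

/-- Words for the conjugating elements. -/
def twoConjWords : List (List ℕ) := [[1, 1, 0, 1, 1, 0, 1, 0, 0, 0, 1, 0, 1, 0, 1, 0, 1, 0, 1]]

/-- Positions sorting the elements. -/
def twoIdx : List ℕ := [83, 82, 18, 24, 88, 19, 89, 25, 22, 23, 87, 92, 28, 86, 29, 93, 30, 95, 84, 21, 94, 31, 85, 20, 91, 26, 16, 81, 27, 90, 17, 80, 45, 44, 103, 102, 38, 108, 39, 109, 98, 99, 40, 41, 105, 35, 104, 34, 2, 68, 9, 3, 8, 78, 69, 79, 75, 13, 65, 74, 64, 6, 12, 7, 62, 122, 52, 63, 113, 53, 112, 123, 126, 59, 116, 127, 48, 117, 49, 58, 32, 33, 43, 42, 96, 106, 97, 107, 110, 111, 101, 100, 46, 36, 47, 37, 125, 118, 56, 50, 57, 119, 124, 51, 60, 55, 120, 114, 121, 54, 61, 115, 66, 73, 5, 15, 14, 67, 4, 72, 11, 1, 76, 71, 70, 10, 77, 0]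

/-- The relations. -/
def threeRules : Pc.Rules where
  p := 3
  n := 3
  d := 2
  pw := [[],[],[]]
  cm := [[[],[2],[]],[[],[],[]],[[],[],[]]]

/-- The certificate. -/
def threeCert : Pc.Cert where
  eqns := [.assoc [1,1] [1] [0],
    .assoc [1] [0] [0,0],
    .assoc [2,2] [2] [0],
    .fuse 0 [[0,1,1,2,2],[0,1,1,2]] [[0,1,2],[0,1]] [0,1] [1,0],
    .fuse 0 [[1,2],[2,2]] [[0,0,2],[2,2]] [0,1] [1,0]]
  rows := [[0,0,(-1),0,(-3),0,0,0,(-3)],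
    [0,0,1,0,3,3],
    [0,0,0,0,0,(-3)],
    [0,0,0,0,0,0,0,0,(-1)],
    [0,0,0,0,0,(-4),0,0,2]]
  us := []
  ords := []
  ordComb := []
  shifts := [[],
    [],
    [0,0,0,0,1]]
  pwComb := [[],[],[(0,-1),(3,3)]]
  cmComb := [[[],[],[(0,-1),(1,-1),(3,1),(4,-1)]],
    [[],[],[(3,-1)]],
    [[],[],[]]]

/-- Codes of the generators. -/
def threeGens : List ℕ := [0x9831d30c23b106a156bb10e894100048ea0362b0154b71c5276b04445d08b84131a598437c09a53167b92c985cd803cf3e64a93da6eaded1bc7e3dbac3523c6b25f9c040f1cea920893868d6ddb050cb6b32a9af6705a05,0x8f0abba36f08a9b98180b654558786f84a74d509b65b28d4c1e2174458bd45d3e859bbbd6ac346f226814b86482c460f532012d940c5debf8c76920492cc8514c51459e0c0416a72055c654b2a737eb239d4090c1b65c0e,0x8c320a60523129b93eac95158dba76ba8860f8192c66dda431070044bca89af7e601cc6c5d8b9414ebd81a51c2b08392bc1446db5a138b24248a2ca3ef4ee3b204c95a8b5f4dc23e15f474a5dd34c0485b49e3c03c405a1]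

/-- Codes of the conjugating elements. -/
def threeConj : List ℕ := [0x8e80987290dbc0096581620255b5a531fddab3cba392a96de4221f4491430a93b8dc8f5d5c1bd22381256950f60b6b0d124c197df19680a46d58ac2a2e0f851435146502ce3a834d3b276f2c4a6738cc5378805c6336598]

/-- Fuel for collection. -/
def threeFuel : ℕ := 14

/-- Words for the generators. -/
def threeWords : List (List ℕ) := [[0, 1, 0, 0, 0, 0, 0, 1, 0, 1, 0, 0, 0, 0, 1, 1, 1, 1, 1], [1, 1, 1, 1, 0, 1, 1, 0, 0, 0, 0, 0, 1, 1, 0, 0, 0, 1, 1, 0], [0, 1, 1, 1, 0, 1, 1, 0, 0, 1, 1, 1, 1, 1, 1, 0, 0, 1, 1]]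

/-- Words for the conjugating elements. -/
def threeConjWords : List (List ℕ) := [[0, 0, 0, 0, 0, 0, 1, 0, 1, 1, 1, 0, 0, 1]]

/-- Positions sorting the elements. -/
def threeIdx : List ℕ := [23, 5, 4, 25, 6, 8, 18, 20, 2, 21, 7, 10, 24, 13, 12, 11, 19, 15, 22, 1, 3, 17, 9, 26, 14, 16, 0]

/-- The relations. -/
def fiveRules : Pc.Rules where
  p := 5
  n := 2
  d := 2
  pw := [[],[]]
  cm := [[[],[]],[[],[]]]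

/-- The certificate. -/
def fiveCert : Pc.Cert where
  eqns := [.assoc [1,1,1,1] [1] [0],
    .fuse 0 [[0,0,1,1,1],[1,1]] [[1,1,1,1],[0,1,1,1,1]] [0,1] [1,0]]
  rows := [[0,0,0,(-5)],
    [0,0,0,8]]
  us := []
  ords := []
  ordComb := []
  shifts := [[],
    []]
  pwComb := [[],[]]
  cmComb := [[[],[(0,3),(1,2)]],
    [[],[]]]

/-- Codes of the generators. -/
def fiveGens : List ℕ := [0x3f8650b482438f7ef455f5298eaa18cf181c102292acf81c798546daaa18d9cb0bd2d90af1953628244958d21dec45ccc6852eecda3510db9cea2301d05b932d3dc1a760a92846d5757009ca2d3089b5c21408887279584,0x2f59300a40b1bc5849e954eb41b881097301f1709819503e0160654c92daf8d8ca9ada8712bce65067dd0ca5a1696dc9d0134e8e222664339a8639b7761c944971188636d5af5068e8eb215f1c0894f3a3e82aa220fef0a]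

/-- Codes of the conjugating elements. -/
def fiveConj : List ℕ := [0xb63cc450edc49caab54277f115dcb2b8a915f3dee26b22c0ca8e5d4e400cecc2f6954a8d2db21bf8d1b31c0414944c305d522cdc70c2b0b20864a5782d16257698953854619a7834f52717800827002cda0c523e2c40fd6]

/-- Fuel for collection. -/
def fiveFuel : ℕ := 10

/-- Words for the generators. -/
def fiveWords : List (List ℕ) := [[0, 0, 1, 1, 0, 1, 1, 0, 1, 0, 0, 1, 1, 0, 1], [1, 0, 0, 1, 1, 0, 0, 1, 1, 1, 1, 1, 0, 1, 0, 0]]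

/-- Words for the conjugating elements. -/
def fiveConjWords : List (List ℕ) := [[0, 0, 0, 1, 0, 0, 1, 1, 0, 0, 1, 0, 0, 0, 0, 1, 0, 0, 0]]

/-- Positions sorting the elements. -/
def fiveIdx : List ℕ := [13, 11, 9, 10, 14, 16, 1, 17, 5, 15, 24, 21, 2, 23, 3, 22, 18, 6, 7, 8, 20, 12, 19, 4, 0]

end CfsgLib.Schur.MultiplierJ2
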