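import Cfsg.Agent.Lib.Schur.PcMathieu

/-! Generated polycyclic certificates for the multiplier of M12. -/

set_option autoImplicit false
set_option maxRecDepth 20000

namespace CfsgLib.Schur.MultiplierM12

open CfsgLib.Schur CfsgLib.Schur.GolayOut

/-- The relations. -/
def twoRules : Pc.Rules where
  p := 2
  n := 6
  d := 3
  pw := [[],[5],[],[],[5],[]]
  cm := [[[],[],[3],[],[5],[]],[[],[],[4],[5],[5],[]],[[],[],[],[],[5],[]],[[],[],[],[],[],[]],[[],[],[],[],[],[]],[[],[],[],[],[],[]]]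

/-- The certificate. -/
def twoCert : Pc.Cert where
  eqns := [.assoc [1] [1] [0],
    .assoc [1] [0] [0],
    .assoc [2] [1] [0],
    .assoc [4] [1] [0],
    .assoc [2] [2] [0],
    .assoc [2] [0] [0],
    .assoc [4] [2] [0],
    .assoc [5] [2] [0],
    .assoc [3] [3] [0],
    .assoc [4] [4] [0],
    .assoc [4] [0] [0],
    .assoc [2] [2] [1],
    .assoc [2] [1] [1],
    .assoc [3] [2] [1],
    .assoc [4] [2] [1],
    .assoc [4] [4] [1],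
    .fuse 0 [[5],[3]] [[2,5],[3]] [0,1] [1,0],
    .fuse 1 [[5],[1,3]] [[0,3,4,5],[0,1,4,5]] [0,1] [1,0]]
  rows := [[0,0,0,0,0,0,0,(-2),0,0,0,1],
    [0,0,0,0,0,0,0,2],
    [0,0,0,0,0,0,0,0,0,0,1,0,0,0,0,(-1),0,0,0,0,0,0,0,0,0,0,0,0,(-1)],
    [0,0,0,0,0,0,0,0,0,0,0,1,0,0,0,0,0,(-1)],
    [0,0,0,(-1),0,0,0,0,(-2),0,0,0,0,0,0,0,0,0,0,0,0,(-1)],
    [0,0,0,1,0,0,0,0,2,1],
    [0,0,0,0,0,0,0,0,0,0,0,1,0,0,0,0,0,0,0,0,0,0,0,(-1),0,0,0,0,(-1)],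
    [0,0,0,0,0,0,0,0,0,0,0,0,0,0,0,0,0,0,0,0,0,0,0,0,0,0,0,0,0,(-1)],
    [0,0,0,0,0,0,0,0,0,(-2)],
    [0,0,0,0,0,(-1),0,0,0,0,(-2),1,0,0,0,0,0,0,0,0,0,0,0,0,0,0,0,0,0,0,0,0,0,0,0,(-1)],
    [0,0,0,0,0,1,0,0,0,0,2,1],
    [0,0,0,0,(-1),(-1),0,0,0,0,0,0,0,0,(-2),0,0,0,0,0,0,0,(-1),0,0,0,0,0,0,0,0,0,0,0,0,(-1)],
    [0,0,0,0,1,1,0,0,0,0,0,0,0,0,2,0,1,0,0,0,0,0,0,1,0,0,0,0,0,0,0,0,0,0,0,2],
    [0,0,0,0,0,0,0,0,0,0,0,0,0,0,0,0,0,0,0,0,0,0,0,(-1),0,0,0,0,1,0,0,0,0,0,0,(-1)],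
    [0,0,0,0,0,0,0,0,0,0,0,0,0,0,0,0,0,1,0,0,0,0,0,(-1)],
    [0,0,0,0,0,(-1),0,0,0,0,0,0,0,0,0,0,(-2),1,0,0,0,0,0,0,0,0,0,0,0,0,0,0,0,0,0,(-1)],
    [0,0,0,0,0,0,0,0,0,0,0,0,0,0,0,0,0,0,0,0,0,(-1)],
    [0,0,0,0,0,1,0,(-1),0,1,0,0,0,0,0,1,1,(-1),0,0,0,0,0,0,0,0,0,0,(-1),(-1),0,0,0,0,0,1]]
  us := [[0,0,0,0,1,0,0,0,0,0,0,0,0,0,2,(-1)]]
  ords := [2]
  ordComb := [[(0,1),(1,1),(2,2),(3,-1),(6,1),(10,-1),(12,2),(13,3),(14,-2),(15,1)]]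
  shifts := [[],[],[],[0,0,0,0,0,0,0,0,1],[0,0,0,0,0,0,0,0,0,0,0,0,0,0,1],[0,0,0,0,0,0,0,0,0,0,0,0,0,0,0,1]]
  pwComb := [[],[],[],[(4,-1),(16,1)],[(18,1)],[(0,-3),(1,-3),(3,-1),(6,2),(9,1),(10,1),(12,2),(13,2),(14,-2),(15,1),(18,-2)]]
  cmComb := [[[],[(0,-2),(1,-2),(2,-2),(4,-1),(5,-1),(6,1),(7,1),(8,-1),(10,1),(12,-1),(13,-2),(15,-1),(16,1),(17,-1),(18,1)],[],[(4,-1),(5,-1),(8,-1),(16,1)],[(0,2),(1,2),(2,-1),(6,-1),(9,-1),(12,-2),(13,-2),(14,1),(15,-1),(18,2)],[(0,1),(1,1)]],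
    [[],[],[],[],[(0,1),(1,1),(6,-1),(12,-1),(13,-1),(14,1),(15,-1),(18,1)],[(0,1),(1,1),(3,-1)]],
    [[],[],[],[(16,-1)],[(0,1),(1,1),(3,1),(6,-2),(11,-1),(12,-2),(13,-2),(14,2),(15,-1),(18,1)],[(0,1),(1,1),(3,-1),(14,-1)]],
    [[],[],[],[],[(3,1),(6,-1),(14,1)],[(7,-1)]],
    [[],[],[],[],[],[(0,2),(1,2),(9,-1),(10,-1)]],
    [[],[],[],[],[],[]]]

/-- Generators. -/
def twoGens : List PcMathieu.PL := [([1,0,9,16,13,17,12,19,18,2,20,21,6,4,22,23,3,5,8,7,10,11,14,15],[1,0,9,16,13,17,12,19,18,2,20,21,6,4,22,23,3,5,8,7,10,11,14,15]),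
    ([6,12,9,13,0,10,16,7,18,2,21,22,3,1,5,15,4,20,8,19,11,14,17,23],[4,13,9,12,16,14,0,7,18,2,5,20,1,3,21,15,6,22,8,19,17,10,11,23]),
    ([3,16,8,0,4,5,6,7,2,9,20,17,13,12,22,19,1,11,18,15,10,21,14,23],[3,16,8,0,4,5,6,7,2,9,20,17,13,12,22,19,1,11,18,15,10,21,14,23]),
    ([0,1,8,3,6,21,4,23,2,18,10,17,13,12,14,19,16,11,9,15,20,5,22,7],[0,1,8,3,6,21,4,23,2,18,10,17,13,12,14,19,16,11,9,15,20,5,22,7]),
    ([3,0,8,16,13,11,12,7,2,18,20,21,4,6,22,15,1,5,9,19,14,17,10,23],[1,16,8,0,12,17,13,7,2,18,22,5,6,4,20,15,3,21,9,19,10,11,14,23]),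
    ([16,3,2,1,6,21,4,7,8,9,14,17,13,12,10,15,0,11,18,19,22,5,20,23],[16,3,2,1,6,21,4,7,8,9,14,17,13,12,10,15,0,11,18,19,22,5,20,23])]

/-- Conjugating elements. -/
def twoConj : List PcMathieu.PL := [([0,3,12,16,2,15,8,23,13,18,20,21,6,4,14,11,1,5,9,17,22,19,10,7],[0,16,4,1,13,17,12,23,6,18,22,15,2,8,14,5,3,19,9,21,10,11,20,7]),
    ([3,8,16,18,13,7,12,17,6,0,23,10,2,9,19,11,1,14,4,20,5,15,21,22],[9,16,12,0,18,20,8,5,1,13,11,15,6,4,17,21,2,7,3,14,19,22,23,10])]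

/-- The order of the elements. -/
def twoIdx : List ℕ := [28,23,6,13,21,30,12,7,20,31,14,5,29,22,4,15,59,48,33,42,50,57,43,32,51,56,34,41,58,49,40,35,63,52,46,37,54,61,36,47,55,60,45,38,62,53,39,44,24,19,9,2,17,26,3,8,16,27,1,10,25,18,11,0]

theorem two_ok : PcMathieu.certOK side12 twoRules twoCert twoGens twoConj 23 twoIdx = true := by
  decide +kernel

/-- The relations. -/
def threeRules : Pc.Rules where
  p := 3
  n := 3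
  d := 2
  pw := [[],[],[]]
  cm := [[[],[2],[]],[[],[],[]],[[],[],[]]]

/-- The certificate. -/
def threeCert : Pc.Cert where
  eqns := [.assoc [1,1] [1] [0],
    .assoc [1] [0] [0,0],
    .assoc [2,2] [2] [0],
    .fuse 0 [[2],[1]] [[2],[1,1,2]] [0,1] [1,0],
    .fuse 0 [[2],[0]] [[2],[0,0]] [0,1] [1,0]]
  rows := [[0,0,(-1),0,(-3),0,0,0,(-3)],
    [0,0,1,0,3,3],
    [0,0,0,0,0,(-3)],
    [0,0,0,0,0,0,0,0,1],
    [0,0,0,0,0,1]]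
  us := []
  ords := []
  ordComb := []
  shifts := [[],[],[0,0,0,0,1]]
  pwComb := [[],[],[(1,1),(2,1)]]
  cmComb := [[[],[],[(4,1)]],
    [[],[],[(3,1)]],
    [[],[],[]]]

/-- Generators. -/
def threeGens : List PcMathieu.PL := [([12,6,3,16,13,22,9,19,0,1,5,15,8,18,21,23,2,14,4,20,7,17,10,11],[8,9,16,2,18,10,1,20,12,6,22,23,0,4,17,11,3,21,13,7,19,14,5,15]),
    ([13,6,2,4,8,22,9,7,3,1,23,10,12,16,15,17,0,14,18,19,20,5,21,11],[16,9,2,8,3,21,1,7,4,6,11,23,12,0,17,14,13,15,18,19,20,22,5,10]),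
    ([16,1,18,4,8,17,6,7,3,9,21,22,2,0,11,10,13,23,12,19,20,15,14,5],[13,1,12,8,3,23,6,7,4,9,15,14,18,16,22,21,0,5,2,19,20,10,11,17])]

/-- Conjugating elements. -/
def threeConj : List PcMathieu.PL := [([13,6,8,12,2,15,1,7,18,9,23,14,4,16,22,17,0,10,3,20,19,5,11,21],[16,6,4,18,12,21,1,7,2,9,17,22,3,0,11,5,13,15,8,20,19,23,14,10])]

/-- The order of the elements. -/
def threeIdx : List ℕ := [22,1,15,6,19,13,9,26,3,5,11,25,18,12,8,2,16,23,14,7,20,24,4,10,17,21,0]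

theorem three_ok : PcMathieu.certOK side12 threeRules threeCert threeGens threeConj 16 threeIdx = true := by
  decide +kernel

/-- The relations. -/
def fiveRules : Pc.Rules where
  p := 5
  n := 1
  d := 1
  pw := [[]]
  cm := [[[]]]

/-- The certificate. -/
def fiveCert : Pc.Cert where
  eqns := []
  rows := []
  us := []
  ords := []
  ordComb := []
  shifts := [[]]
  pwComb := [[]]
  cmComb := [[[]]]

/-- Generators. -/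
def fiveGens : List PcMathieu.PL := [([2,1,18,6,0,11,9,17,4,12,10,7,16,13,5,15,3,14,8,23,19,22,20,21],[4,1,0,16,8,14,3,11,18,6,10,5,9,13,17,15,12,7,2,20,22,23,21,19])]

/-- Conjugating elements. -/
def fiveConj : List PcMathieu.PL := []

/-- The order of the elements. -/
def fiveIdx : List ℕ := [4,3,1,2,0]

theorem five_ok : PcMathieu.certOK side12 fiveRules fiveCert fiveGens fiveConj 2 fiveIdx = true := by
  decide +kernel

/-- The relations. -/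
def elevenRules : Pc.Rules where
  p := 11
  n := 1
  d := 1
  pw := [[]]
  cm := [[[]]]

/-- The certificate. -/
def elevenCert : Pc.Cert where
  eqns := []
  rows := []
  us := []
  ords := []
  ordComb := []
  shifts := [[]]
  pwComb := [[]]
  cmComb := [[[]]]

/-- Generators. -/
def elevenGens : List PcMathieu.PL := [([0,8,16,1,13,21,12,14,9,6,5,22,18,3,23,10,4,17,2,11,15,19,7,20],[0,3,18,13,16,10,9,22,1,8,15,19,6,4,7,20,2,17,12,21,23,5,11,14])]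

/-- Conjugating elements. -/
def elevenConj : List PcMathieu.PL := []

/-- The order of the elements. -/
def elevenIdx : List ℕ := [4,9,3,7,10,2,6,1,5,8,0]

theorem eleven_ok : PcMathieu.certOK side12 elevenRules elevenCert elevenGens elevenConj 2 elevenIdx = true := by
  decide +kernel

end CfsgLib.Schur.MultiplierM12
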