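/-
The Schur multiplier of M12 has order two.
-/
import Cfsg.Agent.Lib.Schur.MultiplierM12Data
import Cfsg.Agent.Lib.Schur.PcAssemble
import Cfsg.Agent.Lib.Schur.CoverM12
import Cfsg.Agent.Lib.Golay.Mathieu

set_option autoImplicit false

namespace CfsgLib.Schur.MultiplierM12

open Cfsg CfsgLib.Golay CfsgLib.Schur CfsgLib.Schur.GolayOut

theorem span_two : Pc.SpanAt 2 Cfsg.Spor.M12 [2] :=
  PcMathieu.spanAt_of_certOK (p := 2) mem_M12_side two_ok rfl (d := 1485) (by norm_num)
    (by rw [natCard_sporM12]; norm_num [twoRules]) rfl rfl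

theorem span_rest (p : ℕ) (hp : p.Prime) (h2 : p ≠ 2) : Pc.SpanAt p Cfsg.Spor.M12 [] := by
  have : Fact p.Prime := ⟨hp⟩
  by_cases hd : p ∣ Nat.card Cfsg.Spor.M12
  · rw [natCard_sporM12, show (95040 : ℕ) = 2 ^ 6 * 3 ^ 3 * 5 * 11 by norm_num] at hd
    rcases hp.dvd_mul.mp hd with hd | hd
    rcases hp.dvd_mul.mp hd with hd | hd
    rcases hp.dvd_mul.mp hd with hd | hd
    · exact absurd ((Nat.prime_dvd_prime_iff_eq hp Nat.prime_two).mp (hp.dvd_of_dvd_pow hd)) h2
    · obtain rfl := (Nat.prime_dvd_prime_iff_eq hp Nat.prime_three).mp (hp.dvd_of_dvd_pow hd)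
      exact PcMathieu.spanAt_of_certOK (p := 3) mem_M12_side three_ok rfl (d := 3520) (by norm_num)
        (by rw [natCard_sporM12]; norm_num [threeRules]) rfl rfl
    · obtain rfl := (Nat.prime_dvd_prime_iff_eq hp (by norm_num)).mp hd
      exact PcMathieu.spanAt_of_certOK (p := 5) mem_M12_side five_ok rfl (d := 19008) (by norm_num)
        (by rw [natCard_sporM12]; norm_num [fiveRules]) rfl rfl
    · obtain rfl := (Nat.prime_dvd_prime_iff_eq hp (by norm_num)).mp hd
      exact PcMathieu.spanAt_of_certOK (p := 11) mem_M12_side eleven_ok rfl (d := 8640) (by norm_num)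
        (by rw [natCard_sporM12]; norm_num [elevenRules]) rfl rfl
  · exact Pc.spanAt_of_noMultiplierAt hp (noMultiplierAt_of_not_dvd hd)

theorem multiplier : Cfsg.HasCyclicSchurMultiplier ↥Cfsg.Spor.M12 2 :=
  Pc.hasCyclicSchurMultiplier_of_spans (a := 2) (b := 1) (pa := 2) (pb := 3) rfl (by norm_num)
    span_two (Pc.spanAt_one_of_spanAt_nil (span_rest 3 Nat.prime_three (by norm_num)))
    (fun p hp h2 _ => span_rest p hp h2) CoverM12.exists_cover

end CfsgLib.Schur.MultiplierM12
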