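import Cfsg.Agent.Lib.Schur.PcMathieu

/-! Generated polycyclic certificates for the multiplier of M22. -/

set_option autoImplicit false
set_option maxRecDepth 20000

namespace CfsgLib.Schur.MultiplierM22

open CfsgLib.Schur CfsgLib.Schur.GolayOut

/-- The relations. -/
def twoRules : Pc.Rules where
  p := 2
  n := 7
  d := 3
  pw := [[],[],[],[],[],[],[]]
  cm := [[[],[3,6],[5],[],[5,6],[],[]],[[],[],[4],[],[],[6],[]],[[],[],[],[5,6],[],[],[]],[[],[],[],[],[6],[],[]],[[],[],[],[],[],[],[]],[[],[],[],[],[],[],[]],[[],[],[],[],[],[],[]]]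

/-- The certificate. -/
def twoCert : Pc.Cert where
  eqns := [.assoc [1] [0] [0],
    .assoc [2] [0] [0],
    .assoc [3] [0] [0],
    .assoc [4] [0] [0],
    .assoc [5] [0] [0],
    .assoc [6] [0] [0],
    .assoc [1] [1] [0],
    .assoc [2] [1] [0],
    .assoc [3] [1] [0],
    .assoc [4] [1] [0],
    .assoc [5] [1] [0],
    .assoc [2] [2] [0],
    .assoc [3] [2] [0],
    .assoc [4] [2] [0],
    .assoc [6] [2] [0],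
    .assoc [4] [4] [0],
    .assoc [2] [1] [1],
    .assoc [3] [1] [1],
    .assoc [4] [1] [1],
    .assoc [5] [1] [1],
    .assoc [2] [2] [1],
    .assoc [3] [2] [1],
    .assoc [4] [3] [1],
    .fuse 0 [[2, 4, 6], [4, 5, 6]] [[0, 5], [3, 5, 6]] [0,1] [1,0],
    .fuse 1 [[1, 3, 4, 5, 6], [1, 3, 6]] [[2, 4, 5], [2, 4, 6]] [0,1] [1,0]]
  rows := [[0,0,0,1,0,0,1,0,2,0,1,0,0,1,0,0,0,0,0,0,0,0,0,0,0,0,0,0,0,0,0,0,0,0,1],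
    [0,0,0,0,0,1,0,0,0,2,0,0,1],
    [0,0,0,0,0,0,0,0,0,0,2],
    [0,0,0,0,0,1,1,0,0,0,0,2,1,1,0,0,0,0,0,0,0,0,0,0,0,0,0,0,0,0,0,0,0,0,0,0,0,0,0,0,0,0,0,0,0,0,0,0,1],
    [0,0,0,0,0,0,0,0,0,0,0,0,2],
    [0,0,0,0,0,0,0,0,0,0,0,0,0,2],
    [0,0,0,(-1),0,0,(-1),0,(-2),0,0,0,0,0,0,0,0,(-1),0,0,(-1),0,0,0,0,0,0,0,0,0,0,0,0,0,(-1)],
    [0,0,0,0,0,1,0,0,0,0,0,1,0,0,0,0,0,0,0,(-1),0,0,0,0,1,0,0,1,0,0,0,0,(-1),(-1),(-1),0,0,0,0,0,0,0,0,0,0,0,0,0,(-1)],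
    [0,0,0,0,0,0,0,0,0,0,0,0,0,0,0,0,0,0,0,0,0,0,0,0,0,0,0,0,0,0,0,0,0,0,1],
    [0,0,0,0,0,0,(-1),0,0,0,0,0,0,0,0,0,0,0,0,(-1),(-1),0,0,0,0,0,0,0,0,0,0,0,(-1),(-1),0,0,0,0,0,0,0,1],
    [0,0,0,0,0,0,0,0,0,0,0,0,0,1,0,0,0,0,0,0,0,0,0,0,0,0,0,0,0,0,0,0,0,(-1),(-1),0,0,0,0,0,0,0,0,0,0,0,0,0,1],
    [0,0,0,0,0,(-1),0,0,0,(-2),0,0,0,0,0,0,0,0,0,0,0,0,0,0,0,0,(-1)],
    [0,0,0,0,0,0,0,0,0,0,0,0,1,1,0,0,0,0,0,0,0,0,0,0,0,0,0,0,0,0,0,0,0,1,0,0,0,0,0,0,0,0,0,0,0,0,0,0,(-1)],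
    [0,0,0,0,0,0,0,0,0,0,0,0,0,0,0,0,0,0,0,0,0,0,0,0,0,0,(-1),(-1),0,0,0,0,0,0,0,0,0,0,0,0,1,0,0,0,0,0,0,0,(-1)],
    [0,0,0,0,0,0,0,0,0,0,0,0,0,0,0,0,0,0,0,0,0,0,0,0,0,0,0,0,0,0,0,0,0,0,0,0,0,0,0,0,0,0,0,0,0,0,0,0,(-1)],
    [0,0,0,0,0,(-1),(-1),0,0,0,0,(-2),0,0,0,0,0,0,0,0,0,0,0,0,0,0,0,0,0,0,0,0,0,0,0,0,0,0,0,0,(-1),(-1),0,0,0,0,0,0,(-1)],
    [0,0,0,0,1,0,0,0,0,0,0,0,0,0,0,0,2,0,1],
    [0,0,0,0,0,0,0,0,0,0,0,0,0,0,0,0,0,2],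
    [0,0,0,0,0,0,0,0,0,0,0,0,0,0,0,0,0,0,2],
    [0,0,0,0,0,0,1,0,0,0,0,0,0,0,0,0,0,0,0,2,1],
    [0,0,0,0,(-1),0,0,0,0,0,0,0,0,0,0,0,(-2),0,0,0,0,0,0,0,0,(-1)],
    [0,0,0,0,0,0,1,0,0,0,0,0,0,0,0,0,0,0,0,1,1,0,0,0,0,0,0,0,0,0,0,0,1,0,0,0,0,0,0,0,(-1),(-1),0,0,0,0,0,0,1],
    [0,0,0,0,0,0,0,0,0,0,0,0,0,0,0,0,0,0,0,0,1],
    [0,0,0,0,0,0,0,0,0,0,(-1),0,(-1),(-1),0,0,0,0,0,0,0,0,0,0,0,1,1,1,0,0,0,0,0,1,0,0,0,0,0,0,1,0,0,0,0,0,0,0,(-2)],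
    [0,0,0,0,0,0,(-1),0,0,0,0,0,0,0,0,0,0,0,(-1),(-1),0,0,0,0,0,0,1,(-1),0,0,0,0,(-1),(-1),1,0,0,0,0,0,1,0,0,0,0,0,0,0,(-1)]]
  us := [[0,0,0,0,0,0,0,0,0,(-1),0,0,0,0,0,0,0,0,0,0,0,0,0,0,1,0,0,0,0,0,0,0,(-1)]]
  ords := [4]
  ordComb := [[(1,-6),(3,-2),(5,-3),(7,4),(8,4),(9,4),(11,-4),(12,8),(13,4),(14,-14),(19,2),(21,4),(22,-2)]]
  shifts := [[],[],[],[0,0,0,0,0,0,0,0,1,0,0,0,0,0,0,0,0,0,0,0,0,0,0,0,0,0,0,0,0,0,0,0,(-1)],[0,0,0,0,0,0,0,0,0,0,0,0,0,0,0,0,1],[0,0,0,0,0,0,0,0,0,1],[0,0,0,0,0,0,0,0,0,0,0,0,0,0,0,0,0,0,0,0,0,0,0,0,0,0,0,0,0,0,0,0,1]]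
  pwComb := [[],[],[],[(0,1),(1,-19),(3,-6),(5,-8),(7,14),(8,8),(9,16),(10,-4),(11,-12),(12,26),(13,14),(14,-53),(15,1),(16,1),(19,8),(20,1),(21,15),(22,-7),(23,1),(24,1),(25,-14)],[(1,-10),(3,-5),(5,-4),(7,8),(8,5),(9,8),(10,-2),(11,-6),(12,15),(13,7),(14,-28),(15,-1),(16,1),(19,4),(21,9),(22,-5),(24,1),(25,-8)],[(1,-5),(3,-2),(5,-2),(7,4),(8,3),(9,4),(10,-1),(11,-4),(12,7),(13,4),(14,-14),(19,2),(21,4),(22,-2),(25,-4)],[(1,12),(3,2),(5,5),(7,-8),(8,-6),(9,-8),(10,2),(11,8),(12,-14),(13,-8),(14,30),(15,-2),(19,-5),(21,-6),(22,3),(25,8)]]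
  cmComb := [[[],[],[],[(1,10),(3,5),(5,4),(7,-8),(8,-5),(9,-10),(10,2),(11,6),(12,-16),(13,-8),(14,30),(15,1),(16,-1),(19,-4),(20,-1),(21,-11),(22,5),(23,-1),(24,-1),(25,8)],[(1,-5),(5,-2),(7,3),(8,2),(9,3),(10,-1),(11,-3),(12,5),(13,3),(14,-11),(15,1),(19,2),(21,2),(22,-1),(25,-3)],[(1,6),(3,2),(5,2),(7,-4),(8,-3),(9,-4),(10,1),(11,4),(12,-7),(13,-4),(14,14),(19,-2),(21,-4),(22,2),(25,4)],[(1,-3),(3,-1),(5,-1),(7,2),(8,2),(9,2),(11,-2),(12,4),(13,2),(14,-7),(19,1),(21,2),(22,-1),(25,-2)]],[[],[],[],[(0,-1),(1,7),(3,4),(5,3),(6,-1),(7,-6),(8,-3),(9,-8),(10,2),(11,4),(12,-12),(13,-6),(14,23),(15,1),(16,-1),(19,-3),(20,-1),(21,-9),(22,3),(23,-1),(24,-1),(25,6)],[(1,10),(3,5),(5,4),(7,-8),(8,-5),(9,-8),(10,2),(11,6),(12,-15),(13,-7),(14,28),(15,1),(19,-4),(21,-9),(22,5),(24,-1),(25,8)],[(1,-3),(5,-1),(7,2),(8,1),(9,2),(10,-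1),(11,-2),(12,3),(13,2),(14,-8),(15,1),(19,2),(21,1),(22,-1),(25,-2)],[(22,1)]],[[],[],[],[(25,1)],[(1,10),(3,5),(5,4),(7,-8),(8,-5),(9,-8),(10,2),(11,6),(12,-15),(13,-7),(14,28),(15,1),(16,-1),(19,-4),(20,-1),(21,-9),(22,5),(24,-1),(25,8)],[(1,5),(3,2),(5,2),(7,-4),(8,-3),(9,-4),(10,1),(11,3),(12,-7),(13,-4),(14,14),(19,-2),(21,-4),(22,2),(25,4)],[(1,-2),(3,-1),(5,-1),(7,2),(8,2),(9,1),(11,-1),(12,3),(13,1),(14,-6),(19,1),(21,1),(22,-1),(25,-2)]],[[],[],[],[],[],[(1,-3),(3,-1),(5,-1),(7,2),(8,1),(9,2),(10,-1),(11,-2),(12,4),(13,2),(14,-8),(19,1),(21,2),(22,-1),(25,-2)],[(8,1)]],[[],[],[],[],[],[(1,3),(3,1),(5,1),(7,-2),(8,-1),(9,-3),(10,1),(11,2),(12,-4),(13,-2),(14,7),(19,-1),(21,-3),(22,1),(25,2)],[(3,-1),(9,1),(12,1),(15,-1),(21,1)]],[[],[],[],[],[],[],[(14,-1)]],[[],[],[],[],[],[],[]]]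

/-- Generators. -/
def twoGens : List PcMathieu.PL := [([0,3,17,1,20,5,12,7,21,16,15,11,6,22,14,10,9,2,18,19,4,8,13,23],[0,3,17,1,20,5,12,7,21,16,15,11,6,22,14,10,9,2,18,19,4,8,13,23]),
    ([0,1,12,10,4,5,13,7,8,22,3,18,2,6,19,15,17,16,11,14,21,20,9,23],[0,1,12,10,4,5,13,7,8,22,3,18,2,6,19,15,17,16,11,14,21,20,9,23]),
    ([0,1,2,17,22,14,21,19,8,15,20,11,12,16,5,9,13,3,18,7,10,6,4,23],[0,1,2,17,22,14,21,19,8,15,20,11,12,16,5,9,13,3,18,7,10,6,4,23]),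
    ([0,4,9,20,1,5,13,7,15,2,21,11,22,6,14,8,17,16,18,19,3,10,12,23],[0,4,9,20,1,5,13,7,15,2,21,11,22,6,14,8,17,16,18,19,3,10,12,23]),
    ([0,1,2,6,15,7,3,5,8,22,13,11,12,10,19,4,20,21,18,14,16,17,9,23],[0,1,2,6,15,7,3,5,8,22,13,11,12,10,19,4,20,21,18,14,16,17,9,23]),
    ([0,2,1,17,9,5,21,7,12,4,13,11,8,10,14,22,20,3,18,19,16,6,15,23],[0,2,1,17,9,5,21,7,12,4,13,11,8,10,14,22,20,3,18,19,16,6,15,23]),
    ([0,8,12,21,15,5,17,7,1,22,20,11,2,16,14,4,13,6,18,19,10,3,9,23],[0,8,12,21,15,5,17,7,1,22,20,11,2,16,14,4,13,6,18,19,10,3,9,23])]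

/-- Conjugating elements. -/
def twoConj : List PcMathieu.PL := [([0,1,10,5,8,16,14,21,17,9,2,7,22,3,12,20,13,19,11,4,15,18,6,23],[0,1,10,13,19,3,22,11,4,9,2,18,14,16,6,20,5,8,21,17,15,7,12,23]),
    ([0,20,13,3,1,17,15,21,8,10,18,19,2,14,22,16,7,9,5,4,11,6,12,23],[0,4,12,3,19,18,21,16,8,17,9,20,22,2,13,6,15,5,10,11,1,7,14,23])]

/-- The sorting of the codes. -/
def twoIdx : List ℕ := [62,59,30,27,11,43,14,46,40,45,25,28,12,61,9,56,126,107,78,110,75,123,94,91,6,16,38,48,35,3,53,21,121,108,88,105,93,124,72,77,47,42,15,10,26,58,31,63,1,23,51,37,54,4,32,18,84,81,103,71,113,66,116,98,57,60,8,13,29,44,24,41,83,86,114,64,100,69,97,119,20,2,52,34,49,17,39,7,65,68,96,82,118,87,115,101,104,125,73,120,76,109,89,92,70,67,117,85,99,80,102,112,111,122,95,127,90,106,79,74,19,5,33,55,36,22,50,0]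

theorem two_ok : PcMathieu.certOK side22 twoRules twoCert twoGens twoConj 12 twoIdx = true := by
  decide +kernel

/-- The relations. -/
def threeRules : Pc.Rules where
  p := 3
  n := 2
  d := 2
  pw := [[],[]]
  cm := [[[],[]],[[],[]]]

/-- The certificate. -/
def threeCert : Pc.Cert where
  eqns := [.fuse 0 [[0], [0, 0]] [[0, 1, 1], [0, 0, 1]] [0,1] [1,0]]
  rows := [[0,0,0,3]]
  us := [[0,0,0,1]]
  ords := [3]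
  ordComb := [[(0,1)]]
  shifts := [[],[]]
  pwComb := [[],[]]
  cmComb := [[[],[(1,1)]],[[],[]]]

/-- Generators. -/
def threeGens : List PcMathieu.PL := [([0,6,11,2,16,5,22,13,17,9,8,3,21,15,4,7,14,10,18,12,20,19,1,23],[0,22,3,11,14,5,1,15,10,9,17,2,19,7,16,13,4,8,18,21,20,12,6,23]),
    ([0,4,11,2,8,5,16,7,1,18,22,3,19,13,10,15,17,6,20,21,9,12,14,23],[0,8,3,11,1,5,17,7,4,20,14,2,21,13,22,15,6,16,9,12,18,19,10,23])]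

/-- Conjugating elements. -/
def threeConj : List PcMathieu.PL := [([0,16,9,18,13,3,22,21,14,2,17,20,4,12,7,19,15,1,5,10,11,6,8,23],[0,17,9,5,12,18,21,14,22,2,19,20,13,4,8,16,1,10,3,15,11,7,6,23])]

/-- The sorting of the codes. -/
def threeIdx : List ℕ := [3,4,6,5,2,1,7,8,0]

theorem three_ok : PcMathieu.certOK side22 threeRules threeCert threeGens threeConj 7 threeIdx = true := by
  decide +kernel

/-- The relations. -/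
def fiveRules : Pc.Rules where
  p := 5
  n := 1
  d := 1
  pw := [[]]
  cm := [[[]]]

/-- The certificate. -/
def fiveCert : Pc.Cert where
  eqns := []
  rows := []
  us := []
  ords := []
  ordComb := []
  shifts := [[]]
  pwComb := [[]]
  cmComb := [[[]]]

/-- Generators. -/
def fiveGens : List PcMathieu.PL := [([0,6,13,21,18,20,16,5,22,8,10,11,19,9,15,1,14,4,12,17,3,7,2,23],[0,15,22,20,17,7,1,21,9,13,10,11,18,2,16,14,6,19,4,12,5,3,8,23])]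

/-- Conjugating elements. -/
def fiveConj : List PcMathieu.PL := []

/-- The sorting of the codes. -/
def fiveIdx : List ℕ := [1,4,3,2,0]

theorem five_ok : PcMathieu.certOK side22 fiveRules fiveCert fiveGens fiveConj 1 fiveIdx = true := by
  decide +kernel

/-- The relations. -/
def sevenRules : Pc.Rules where
  p := 7
  n := 1
  d := 1
  pw := [[]]
  cm := [[[]]]

/-- The certificate. -/
def sevenCert : Pc.Cert where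
  eqns := []
  rows := []
  us := []
  ords := []
  ordComb := []
  shifts := [[]]
  pwComb := [[]]
  cmComb := [[[]]]

/-- Generators. -/
def sevenGens : List PcMathieu.PL := [([0,3,22,16,20,8,4,14,15,19,10,12,1,17,5,18,13,11,21,6,2,7,9,23],[0,12,20,1,6,14,19,21,5,22,10,17,11,16,7,8,3,13,15,9,4,18,2,23])]

/-- Conjugating elements. -/
def sevenConj : List PcMathieu.PL := []

/-- The sorting of the codes. -/
def sevenIdx : List ℕ := [6,4,3,1,2,5,0]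

theorem seven_ok : PcMathieu.certOK side22 sevenRules sevenCert sevenGens sevenConj 1 sevenIdx = true := by
  decide +kernel

/-- The relations. -/
def elevenRules : Pc.Rules where
  p := 11
  n := 1
  d := 1
  pw := [[]]
  cm := [[[]]]

/-- The certificate. -/
def elevenCert : Pc.Cert where
  eqns := []
  rows := []
  us := []
  ords := []
  ordComb := []
  shifts := [[]]
  pwComb := [[]]
  cmComb := [[[]]]

/-- Generators. -/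
def elevenGens : List PcMathieu.PL := [([0,2,13,6,20,14,1,22,21,15,7,12,10,19,18,11,8,9,17,16,3,4,5,23],[0,6,1,20,21,22,3,10,16,17,12,15,11,2,5,9,19,18,14,13,4,8,7,23])]

/-- Conjugating elements. -/
def elevenConj : List PcMathieu.PL := []

/-- The sorting of the codes. -/
def elevenIdx : List ℕ := [1,10,5,9,7,8,2,6,4,3,0]

theorem eleven_ok : PcMathieu.certOK side22 elevenRules elevenCert elevenGens elevenConj 1 elevenIdx = true := by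
  decide +kernel

end CfsgLib.Schur.MultiplierM22
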