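/-
The Schur multiplier of M22 is cyclic of order 12.
-/
import Cfsg.Agent.Lib.Schur.MultiplierM22Data
import Cfsg.Agent.Lib.Schur.CoverM22
import Cfsg.Agent.Lib.Schur.PcAssemble
import Cfsg.Agent.Lib.Golay.Mathieu

set_option autoImplicit false

namespace CfsgLib.Schur.MultiplierM22

open Cfsg CfsgLib.Golay CfsgLib.Schur CfsgLib.Schur.GolayOut

theorem multiplier : Cfsg.HasCyclicSchurMultiplier ↥Cfsg.Spor.M22 12 := by
  have : Fact (Nat.Prime 2) := ⟨Nat.prime_two⟩
  have : Fact (Nat.Prime 3) := ⟨Nat.prime_three⟩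
  refine Pc.hasCyclicSchurMultiplier_of_spans (a := 4) (b := 3) (pa := 2) (pb := 3)
    (by norm_num) (by norm_num)
    (PcMathieu.spanAt_of_certOK (p := 2) mem_M22_side two_ok rfl
      (d := 443520 / 2 ^ 7) (by norm_num) (by rw [natCard_sporM22]; norm_num [twoRules]) rfl rfl)
    (PcMathieu.spanAt_of_certOK (p := 3) mem_M22_side three_ok rfl
      (d := 443520 / 3 ^ 2) (by norm_num) (by rw [natCard_sporM22]; norm_num [threeRules]) rfl rfl)
    (fun p hp h2 h3 => ?_) CoverM22.exists_cover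
  have : Fact p.Prime := ⟨hp⟩
  by_cases hd : p ∣ Nat.card Cfsg.Spor.M22
  · rw [natCard_sporM22, show (443520 : ℕ) = 2 ^ 7 * 3 ^ 2 * 5 * 7 * 11 by norm_num] at hd
    rcases hp.dvd_mul.mp hd with hd | hd
    rcases hp.dvd_mul.mp hd with hd | hd
    rcases hp.dvd_mul.mp hd with hd | hd
    rcases hp.dvd_mul.mp hd with hd | hd
    · exact absurd ((Nat.prime_dvd_prime_iff_eq hp Nat.prime_two).mp (hp.dvd_of_dvd_pow hd)) h2
    · exact absurd ((Nat.prime_dvd_prime_iff_eq hp Nat.prime_three).mp (hp.dvd_of_dvd_pow hd)) h3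
    · obtain rfl := (Nat.prime_dvd_prime_iff_eq hp (by norm_num)).mp hd
      exact PcMathieu.spanAt_of_certOK (p := 5) mem_M22_side five_ok rfl
        (d := 443520 / 5) (by norm_num) (by rw [natCard_sporM22]; norm_num [fiveRules]) rfl rfl
    · obtain rfl := (Nat.prime_dvd_prime_iff_eq hp (by norm_num)).mp hd
      exact PcMathieu.spanAt_of_certOK (p := 7) mem_M22_side seven_ok rfl
        (d := 443520 / 7) (by norm_num) (by rw [natCard_sporM22]; norm_num [sevenRules]) rfl rfl
    · obtain rfl := (Nat.prime_dvd_prime_iff_eq hp (by norm_num)).mp hd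
      exact PcMathieu.spanAt_of_certOK (p := 11) mem_M22_side eleven_ok rfl
        (d := 443520 / 11) (by norm_num) (by rw [natCard_sporM22]; norm_num [elevenRules]) rfl rfl
  · exact Pc.spanAt_of_noMultiplierAt hp (noMultiplierAt_of_not_dvd hd)

end CfsgLib.Schur.MultiplierM22
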