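import Cfsg.Agent.Lib.Schur.PcMathieu

/-! Generated polycyclic certificates for the multiplier of M23. -/

set_option autoImplicit false
set_option maxRecDepth 20000

namespace CfsgLib.Schur.MultiplierM23

open CfsgLib.Schur CfsgLib.Schur.GolayOut

/-- The relations. -/
def twoRules : Pc.Rules where
  p := 2
  n := 7
  d := 3
  pw := [[],[3],[4],[6],[],[],[]]
  cm := [[[],[3],[4],[6],[],[6],[]],[[],[],[3,4,5,6],[],[5,6],[6],[]],[[],[],[],[5],[],[6],[]],[[],[],[],[],[6],[],[]],[[],[],[],[],[],[],[]],[[],[],[],[],[],[],[]],[[],[],[],[],[],[],[]]]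

/-- The certificate. -/
def twoCert : Pc.Cert where
  eqns := [.assoc [1] [1] [0],
    .assoc [1] [0] [0],
    .assoc [2] [1] [0],
    .assoc [3] [1] [0],
    .assoc [4] [1] [0],
    .assoc [5] [1] [0],
    .assoc [6] [1] [0],
    .assoc [2] [2] [0],
    .assoc [2] [0] [0],
    .assoc [3] [2] [0],
    .assoc [5] [2] [0],
    .assoc [6] [2] [0],
    .assoc [3] [3] [0],
    .assoc [3] [0] [0],
    .assoc [4] [3] [0],
    .assoc [5] [3] [0],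
    .assoc [4] [4] [0],
    .assoc [2] [2] [1],
    .assoc [2] [1] [1],
    .assoc [3] [2] [1],
    .assoc [4] [2] [1],
    .assoc [5] [5] [1],
    .fuse 0 [[6],[3,4]] [[3,4],[5]] [0,1] [1,0],
    .fuse 0 [[6],[1,2]] [[3,4],[1,2,3,4,6]] [0,1] [1,0],
    .fuse 1 [[3,4,6],[0,4]] [[0,6],[0,4]] [0,1] [1,0],
    .fuse 2 [[0,1],[1,2,4,5]] [[0,1,3,4,6],[3]] [0,1] [1,0]]
  rows := [[0,0,0,(-1),0,0,0,0,(-2),0,1,0,0,0,0,0,0,(-1),0,0,0,0,0,0,0,0,0,0,0,0,0,0,0,0,(-1)],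
    [0,0,0,1,0,0,1,0,2,0,1],
    [0,0,0,0,0,0,1,0,0,0,1,1,1,1,0,0,0,0,(-1),0,0,0,0,0,1,0,0,0,0,0,0,0,1,1,0,0,0,0,0,0,1,1],
    [0,0,0,0,0,0,0,0,0,0,0,0,0,0,0,0,0,0,0,0,(-1),0,0,0,0,0,0,0,0,0,0,0,0,0,(-1)],
    [0,0,0,0,0,0,0,0,0,0,0,0,1,1,0,0,0,0,0,0,0,0,0,0,0,0,0,0,0,0,0,0,(-1),(-1),(-1),0,0,0,0,0,0,0,0,0,0,0,0,0,(-1)],
    [0,0,0,0,0,0,0,0,0,0,0,0,0,1,0,0,0,0,0,0,(-1),0,0,0,0,0,0,0,0,0,0,0,0,(-1)],
    [0,0,0,0,0,0,0,0,0,0,0,0,0,0,0,0,0,0,0,0,0,0,0,0,0,0,0,0,0,0,0,0,0,0,(-1)],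
    [0,0,0,0,(-1),0,0,0,0,(-2),0,1,0,0,0,0,0,0,0,0,0,0,0,0,0,(-1)],
    [0,0,0,0,1,0,0,0,0,2,0,1],
    [0,0,0,0,0,0,1,0,0,0,0,0,1,0,0,0,0,0,0,0,0,0,0,0,0,0,0,(-1),0,0,0,0,1,0,0,0,0,0,0,0,(-1),(-1)],
    [0,0,0,0,0,0,0,0,0,0,0,0,0,1,0,0,0,0,0,0,0,0,0,0,0,0,0,(-1),0,0,0,0,0,0,0,0,0,0,0,0,(-1)],
    [0,0,0,0,0,0,0,0,0,0,0,0,0,0,0,0,0,0,0,0,0,0,0,0,0,0,0,0,0,0,0,0,0,0,0,0,0,0,0,0,0,(-1)],
    [0,0,0,0,0,0,(-1),0,0,0,(-2),0,0,1,0,0,0,0,0,0,0,0,0,0,0,0,0,0,0,0,0,0,0,0,(-1)],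
    [0,0,0,0,0,0,1,0,0,0,2,0,0,1],
    [0,0,0,0,0,0,0,0,0,0,0,0,0,1,0,0,0,0,0,0,0,0,0,0,0,0,0,0,0,0,0,0,0,0,0,0,0,0,0,0,0,1],
    [0,0,0,0,0,0,0,0,0,0,0,0,0,0,0,0,0,0,0,0,0,0,0,0,0,0,0,0,0,0,0,0,0,0,(-1),0,0,0,0,0,0,0,0,0,0,0,0,0,1],
    [0,0,0,0,0,0,0,0,0,0,0,(-2)],
    [0,0,0,(-1),(-1),(-1),(-2),0,0,0,0,0,0,0,0,0,(-2),0,1,0,0,0,0,0,(-1),(-1),(-1),(-1),0,0,0,0,(-1),0,(-1),0,0,0,0,0,(-1),(-1),0,0,0,0,0,0,(-2)],
    [0,0,0,1,1,2,3,0,0,0,0,0,0,0,0,0,2,1,1,1,1,0,0,0,1,0,0,0,0,0,0,0,1,1,0,0,0,0,0,0,1,2,0,0,0,0,0,0,3],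
    [0,0,0,0,0,0,1,0,0,0,0,0,0,0,0,0,0,0,0,1,0,0,0,0,0,0,0,0,0,0,0,0,1,0,1,0,0,0,0,0,(-1),0,0,0,0,0,0,0,(-1)],
    [0,0,0,0,0,0,(-1),0,0,0,0,0,0,0,0,0,0,0,0,0,0,0,0,0,0,0,(-1),(-1),0,0,0,0,(-1),(-1),0,0,0,0,0,0,0,0,0,0,0,0,0,0,(-1)],
    [0,0,0,0,0,0,(-1),0,0,0,0,0,0,0,0,0,0,0,0,(-2),0,0,0,0,0,0,0,0,0,0,0,0,0,0,0,0,0,0,0,0,0,0,0,0,0,0,0,0,(-1)],
    [0,0,0,0,0,0,0,0,0,0,0,0,0,0,0,0,0,0,0,0,0,0,0,0,0,0,0,0,0,0,0,0,0,(-1),(-1),0,0,0,0,0,(-1),(-1)],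
    [0,0,0,0,0,1,1,0,0,0,0,0,0,0,0,0,0,1,1,0,(-1),0,0,0,1,1,1,0,0,0,0,0,0,0,(-1),0,0,0,0,0,1,(-1)],
    [0,0,0,0,0,0,0,0,0,0,(-1),(-2),0,0,0,0,0,0,0,0,0,0,0,0,0,0,0,0,0,0,0,0,1,0,0,0,0,0,0,0,0,1],
    [0,0,0,1,1,1,2,0,1,1,(-1),1,1,0,0,0,1,0,0,0,0,0,0,0,1,0,0,0,0,0,0,0,2,1,0,0,0,0,0,0,2,2,0,0,0,0,0,0,2]]
  us := []
  ords := []
  ordComb := []
  shifts := [[],[],[],[0,0,0,0,0,0,0,0,1],[0,0,0,0,0,0,0,0,0,1],[0,0,0,0,0,0,0,0,0,0,0,0,0,0,0,0,0,0,0,0,0,0,0,0,1],[0,0,0,0,0,0,0,0,0,0,0,0,1]]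
  pwComb := [[],[],[],[(0,-1),(1,-1),(2,1),(3,1),(4,-1),(5,2),(6,10),(7,-4),(8,-5),(9,-3),(10,5),(11,5),(12,-5),(13,-3),(14,1),(15,-18),(16,-4),(17,2),(18,1),(19,-7),(20,-4),(21,-3),(22,7),(23,-2),(24,1),(25,2)],[(2,1),(5,2),(6,5),(7,-2),(8,-1),(9,-1),(10,2),(11,4),(12,-3),(13,-3),(14,1),(15,-7),(16,-2),(17,1),(18,1),(19,-3),(20,-2),(21,-1),(22,2),(23,-1),(24,1)],[(0,1),(1,1),(2,2),(3,-1),(4,1),(5,2),(6,-1),(7,-1),(8,-1),(9,-3),(10,3),(11,3),(12,-2),(13,-4),(14,-2),(15,1),(17,1),(18,1),(19,1),(20,-1),(21,1),(22,1)],[(3,1),(4,1),(5,-1),(6,-3),(9,1),(10,-1),(14,1),(15,1)]]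
  cmComb := [[[],[],[],[(2,2),(3,-1),(4,-1),(5,5),(6,13),(7,-4),(8,-4),(9,-2),(10,4),(11,7),(12,-6),(13,-6),(14,2),(15,-15),(16,-4),(17,2),(18,2),(19,-6),(20,-4),(21,-2),(22,4),(23,-2),(24,1)],[(2,-1),(5,-2),(6,-5),(7,2),(8,2),(9,1),(10,-2),(11,-4),(12,3),(13,3),(14,-1),(15,7),(16,2),(17,-1),(18,-1),(19,3),(20,2),(21,1),(22,-2),(23,1),(24,-1)],[],[(11,1),(14,1)]],
    [[],[],[(2,-1),(4,-1),(6,2),(7,1),(8,1),(9,2),(10,-2),(11,-2),(12,2),(13,2),(17,-1),(20,1),(22,-2),(25,-1)],[(0,-1),(1,-1),(6,2),(11,1),(12,-1),(14,1)],[(2,-2),(3,1),(4,-1),(5,-3),(6,-5),(7,2),(8,2),(9,2),(10,-3),(11,-5),(12,4),(13,5),(15,3),(16,1),(17,-1),(18,-1),(19,1),(20,2),(22,-1),(23,1)],[(4,-1),(6,1),(11,-2),(12,1),(13,1),(14,-1),(15,-3),(19,-1),(21,-1),(22,1)],[(3,-1),(6,1)]],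
    [[],[],[],[],[(7,-1),(8,-1),(16,-1)],[(3,-1),(4,-1),(5,1),(6,4),(10,1),(11,-2),(14,-1),(15,-5),(19,-2),(20,-1),(21,-1),(22,1)],[(3,1),(5,-1),(6,-3),(10,-1),(11,-1),(12,1),(13,1),(22,1)]],
    [[],[],[],[],[(3,-1),(4,-1),(5,1),(6,3),(15,-1)],[(3,1),(5,-1),(6,-2),(11,-1),(12,1),(13,1),(14,-1)],[(6,-1)]],
    [[],[],[],[],[],[(3,-1),(5,1),(6,3),(11,2),(12,-1),(13,-1),(14,1),(22,-1)],[(11,-1)]],
    [[],[],[],[],[],[],[(6,-1),(15,1)]],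
    [[],[],[],[],[],[],[]]]

/-- Generators. -/
def twoGens : List PcMathieu.PL := [([0,1,13,3,16,6,5,11,14,19,17,7,12,2,8,15,4,10,20,9,18,21,22,23],[0,1,13,3,16,6,5,11,14,19,17,7,12,2,8,15,4,10,20,9,18,21,22,23]),
    ([0,4,13,6,22,15,10,9,11,12,5,14,8,2,21,18,1,20,17,7,3,19,16,23],[0,16,13,20,1,10,3,19,12,7,6,8,9,2,11,5,22,18,15,21,17,14,4,23]),
    ([0,16,13,11,1,18,19,3,9,5,17,15,12,2,20,7,22,10,8,14,6,21,4,23],[0,4,13,7,22,9,20,15,18,8,17,3,12,2,19,11,1,10,5,6,14,21,16,23]),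
    ([0,22,2,10,16,18,5,12,14,8,15,21,11,13,19,17,4,3,20,9,6,7,1,23],[0,22,2,17,16,6,20,21,9,19,3,12,7,13,8,10,4,15,5,14,18,11,1,23]),
    ([0,22,2,15,16,8,14,11,5,18,10,7,12,13,6,3,4,17,9,20,19,21,1,23],[0,22,2,15,16,8,14,11,5,18,10,7,12,13,6,3,4,17,9,20,19,21,1,23]),
    ([0,1,2,11,4,8,9,15,5,6,21,3,17,13,18,7,16,12,14,20,19,10,22,23],[0,1,2,11,4,8,9,15,5,6,21,3,17,13,18,7,16,12,14,20,19,10,22,23]),
    ([0,1,2,15,4,20,18,11,19,14,17,7,21,13,9,3,16,10,6,8,5,12,22,23],[0,1,2,15,4,20,18,11,19,14,17,7,21,13,9,3,16,10,6,8,5,12,22,23])]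

/-- Conjugating elements. -/
def twoConj : List PcMathieu.PL := [([4,1,0,5,2,7,17,9,11,10,18,20,19,16,15,14,22,8,3,12,21,6,13,23],[2,1,4,18,0,3,21,5,17,7,9,8,19,22,15,14,13,6,10,12,11,20,16,23]),
    ([11,17,22,8,0,18,15,21,3,5,9,4,12,1,19,6,7,20,2,13,14,16,10,23],[4,13,18,8,11,9,15,16,3,10,22,0,12,19,20,6,21,1,5,14,17,7,2,23]),
    ([2,16,13,5,22,12,18,8,21,6,15,20,7,0,14,19,1,11,9,17,10,3,4,23],[13,16,0,21,22,3,9,12,7,18,20,17,5,2,14,10,1,19,6,15,11,8,4,23])]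

/-- The order of the elements. -/
def twoIdx : List ℕ := [75,11,120,55,56,119,8,73,123,53,58,116,71,6,72,9,5,69,59,117,10,74,7,70,57,118,122,52,121,54,68,4,28,88,38,111,98,43,91,30,37,109,96,40,86,19,90,31,17,85,97,41,89,29,18,87,99,42,36,108,39,110,16,84,92,24,34,107,102,47,26,95,105,33,100,44,82,23,94,27,21,81,101,45,25,93,22,83,46,103,32,104,35,106,80,20,15,79,51,124,115,60,77,12,127,49,62,112,67,2,13,76,1,65,113,63,78,14,3,66,61,114,48,126,125,50,64,0]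

theorem two_ok : PcMathieu.certOK side23 twoRules twoCert twoGens twoConj 45 twoIdx = true := by
  decide +kernel

/-- The relations. -/
def threeRules : Pc.Rules where
  p := 3
  n := 2
  d := 2
  pw := [[],[]]
  cm := [[[],[]],[[],[]]]

/-- The certificate. -/
def threeCert : Pc.Cert where
  eqns := [.assoc [1,1] [1] [0],
    .fuse 0 [[1],[0]] [[1,1],[0,1]] [0,1] [1,0]]
  rows := [[0,0,0,(-3)],
    [0,0,0,1]]
  us := []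
  ords := []
  ordComb := []
  shifts := [[],[]]
  pwComb := [[],[]]
  cmComb := [[[],[(1,1)]],
    [[],[]]]

/-- Generators. -/
def threeGens : List PcMathieu.PL := [([22,10,21,3,18,8,13,1,16,4,7,0,6,12,14,15,5,17,9,19,2,20,11,23],[11,7,20,3,9,16,12,10,5,18,1,22,13,6,14,15,8,17,4,19,21,2,0,23]),
    ([11,2,6,3,4,8,1,20,16,9,21,22,7,10,19,15,5,14,18,17,12,13,0,23],[22,6,1,3,4,16,2,12,5,9,13,0,20,21,17,15,8,19,18,14,7,10,11,23])]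

/-- Conjugating elements. -/
def threeConj : List PcMathieu.PL := [([14,7,12,15,9,8,20,13,5,18,2,17,10,6,11,3,16,22,4,0,21,1,19,23],[19,21,10,15,18,8,13,1,5,4,12,14,2,7,0,3,16,11,9,22,6,20,17,23])]

/-- The order of the elements. -/
def threeIdx : List ℕ := [6,5,1,7,2,3,8,4,0]

theorem three_ok : PcMathieu.certOK side23 threeRules threeCert threeGens threeConj 7 threeIdx = true := by
  decide +kernel

/-- The relations. -/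
def fiveRules : Pc.Rules where
  p := 5
  n := 1
  d := 1
  pw := [[]]
  cm := [[[]]]

/-- The certificate. -/
def fiveCert : Pc.Cert where
  eqns := []
  rows := []
  us := []
  ords := []
  ordComb := []
  shifts := [[]]
  pwComb := [[]]
  cmComb := [[[]]]

/-- Generators. -/
def fiveGens : List PcMathieu.PL := [([0,5,9,19,7,6,20,16,13,10,8,11,21,2,15,17,12,3,1,14,18,4,22,23],[0,18,13,17,21,1,5,4,10,2,9,11,16,8,19,14,7,15,20,3,6,12,22,23])]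

/-- Conjugating elements. -/
def fiveConj : List PcMathieu.PL := []

/-- The order of the elements. -/
def fiveIdx : List ℕ := [1,2,4,3,0]

theorem five_ok : PcMathieu.certOK side23 fiveRules fiveCert fiveGens fiveConj 2 fiveIdx = true := by
  decide +kernel

/-- The relations. -/
def sevenRules : Pc.Rules where
  p := 7
  n := 1
  d := 1
  pw := [[]]
  cm := [[[]]]

/-- The certificate. -/
def sevenCert : Pc.Cert where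
  eqns := []
  rows := []
  us := []
  ords := []
  ordComb := []
  shifts := [[]]
  pwComb := [[]]
  cmComb := [[[]]]

/-- Generators. -/
def sevenGens : List PcMathieu.PL := [([4,2,0,19,13,12,5,6,7,9,3,18,17,16,14,8,22,15,20,11,21,10,1,23],[2,22,1,10,0,6,7,8,15,9,21,19,5,4,14,17,13,12,11,3,18,20,16,23])]

/-- Conjugating elements. -/
def sevenConj : List PcMathieu.PL := []

/-- The order of the elements. -/
def sevenIdx : List ℕ := [3,1,2,4,5,6,0]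

theorem seven_ok : PcMathieu.certOK side23 sevenRules sevenCert sevenGens sevenConj 2 sevenIdx = true := by
  decide +kernel

/-- The relations. -/
def elevenRules : Pc.Rules where
  p := 11
  n := 1
  d := 1
  pw := [[]]
  cm := [[[]]]

/-- The certificate. -/
def elevenCert : Pc.Cert where
  eqns := []
  rows := []
  us := []
  ords := []
  ordComb := []
  shifts := [[]]
  pwComb := [[]]
  cmComb := [[[]]]

/-- Generators. -/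
def elevenGens : List PcMathieu.PL := [([1,7,8,19,18,13,9,10,5,3,20,4,0,17,11,2,14,16,15,12,22,21,6,23],[12,0,15,9,11,8,22,1,2,6,7,14,19,5,16,18,17,13,4,3,10,21,20,23])]

/-- Conjugating elements. -/
def elevenConj : List PcMathieu.PL := []

/-- The order of the elements. -/
def elevenIdx : List ℕ := [6,7,3,1,8,2,9,5,4,10,0]

theorem eleven_ok : PcMathieu.certOK side23 elevenRules elevenCert elevenGens elevenConj 2 elevenIdx = true := by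
  decide +kernel

/-- The relations. -/
def twentyThreeRules : Pc.Rules where
  p := 23
  n := 1
  d := 1
  pw := [[]]
  cm := [[[]]]

/-- The certificate. -/
def twentyThreeCert : Pc.Cert where
  eqns := []
  rows := []
  us := []
  ords := []
  ordComb := []
  shifts := [[]]
  pwComb := [[]]
  cmComb := [[[]]]

/-- Generators. -/
def twentyThreeGens : List PcMathieu.PL := [([9,11,16,1,18,22,5,15,0,3,13,19,2,21,12,4,8,20,17,10,6,7,14,23],[8,3,12,9,15,6,20,21,16,0,19,1,14,10,22,7,2,18,4,11,17,13,5,23])]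

/-- Conjugating elements. -/
def twentyThreeConj : List PcMathieu.PL := []

/-- The order of the elements. -/
def twentyThreeIdx : List ℕ := [6,9,3,8,17,22,21,15,5,7,12,10,2,13,1,16,4,19,18,11,20,14,0]

theorem twentyThree_ok : PcMathieu.certOK side23 twentyThreeRules twentyThreeCert twentyThreeGens twentyThreeConj 2 twentyThreeIdx = true := by
  decide +kernel

end CfsgLib.Schur.MultiplierM23
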