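import Cfsg.Agent.Lib.SuzukiEight.Transfer

/-!
# Transfer of a central extension of a point stabiliser, detected on two commuting elements

If two commuting elements of a transitive group have lifts in the transfer group whose commutator
has product generating the kernel, the transfer is a stem extension with that kernel.
-/

set_option autoImplicit false

open scoped commutatorElement

namespace CfsgLib.Schur

open CfsgLib.SuzukiEight (shift shift_apply)

universe u

variable {G E Ω : Type u} [Group G] [Group E] [MulAction G Ω]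

/-- The transfer group attached to representatives of the points. -/
def transferOn (π : E →* G) (t : Ω → G) : Subgroup ((Ω → E) ⋊[shift] G) where
  carrier := {p | ∀ ω, π (p.left ω) = (t ω)⁻¹ * p.right * t (p.right⁻¹ • ω)}
  one_mem' := fun ω => by simp
  mul_mem' := by
    intro p q hp hq ω
    simp only [SemidirectProduct.mul_left, SemidirectProduct.mul_right, Pi.mul_apply, shift_apply,
      map_mul, hp ω, hq (p.right⁻¹ • ω), mul_inv_rev, mul_smul]
    group
  inv_mem' := by
    intro p hp ω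
    simp only [SemidirectProduct.inv_left, SemidirectProduct.inv_right, shift_apply, Pi.inv_apply,
      inv_inv]
    rw [map_inv, hp (p.right • ω), inv_smul_smul]
    simp only [mul_inv_rev, inv_inv, mul_assoc]

/-- A central extension of a point stabiliser gives a stem extension of the whole group with the
same kernel, if the commutator of lifts of two commuting elements gives a generator of the
kernel. -/
theorem exists_stem_of_comm_pair [Finite G] [Finite E] [Fintype Ω] (π : E →* G)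
    (hK : π.ker ≤ Subgroup.center E) (o : Ω) (t : Ω → G) (ht : ∀ ω, t ω • o = ω)
    (hrange : ∀ g : G, g • o = o → g ∈ π.range) (a b : G) (hab : a * b = b * a) (fa fb : Ω → E)
    (hfa : ∀ ω, π (fa ω) = (t ω)⁻¹ * a * t (a⁻¹ • ω))
    (hfb : ∀ ω, π (fb ω) = (t ω)⁻¹ * b * t (b⁻¹ • ω))
    (c : Ω → π.ker) (hc : ∀ ω, fa ω * fb (a⁻¹ • ω) = (c ω : E) * (fb ω * fa (b⁻¹ • ω)))
    (hgen : ∀ k : π.ker, ∃ n : ℕ, k = (letI : CommGroup π.ker :=
      { (inferInstance : Group π.ker) with
        mul_comm := fun a b => Subtype.ext ((Subgroup.mem_center_iff.mp (hK b.2) a)) }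
      ∏ ω, c ω) ^ n) :
    ∃ (Γ : Type u) (_ : Group Γ) (_ : Finite Γ) (σ : Γ →* G),
      Cfsg.IsStemExtension σ ∧ Nonempty (σ.ker ≃* π.ker) := by
  classical
  letI : CommGroup ↥π.ker :=
    { (inferInstance : Group ↥π.ker) with
      mul_comm := fun a b => Subtype.ext ((Subgroup.mem_center_iff.mp (hK b.2) a)) }
  set M := transferOn π t with hM
  have hmemM : ∀ p : (Ω → E) ⋊[shift] G,
      p ∈ M ↔ ∀ ω, π (p.left ω) = (t ω)⁻¹ * p.right * t (p.right⁻¹ • ω) := fun _ => Iff.rfl
  have hcomm : ∀ k : ↥π.ker, ∀ e : E, e * (k : E) = k * e := fun k e =>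
    Subgroup.mem_center_iff.mp (hK k.2) e
  let j : (Ω → ↥π.ker) →* ↥M :=
    { toFun := fun f => ⟨⟨fun ω => (f ω : E), 1⟩, fun ω => by
        simp [MonoidHom.mem_ker.1 (f ω).2]⟩
      map_one' := Subtype.ext (SemidirectProduct.ext (funext fun ω => by simp) rfl)
      map_mul' := fun f f' => Subtype.ext (SemidirectProduct.ext (funext fun ω => by simp) (by simp)) }
  let Pr : (Ω → ↥π.ker) →* ↥π.ker :=
    { toFun := fun f => ∏ ω, f ω
      map_one' := by simp
      map_mul' := fun f f' => Finset.prod_mul_distrib }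
  have hjinj : Function.Injective j := fun f f' h => funext fun ω => Subtype.ext
    (congrFun (congrArg SemidirectProduct.left (congrArg Subtype.val h)) ω)
  have hconj : ∀ (p : ↥M) (f : Ω → ↥π.ker),
      p * j f * p⁻¹ = j (fun ω => f ((p : (Ω → E) ⋊[shift] G).right⁻¹ • ω)) := by
    intro p f
    refine mul_inv_eq_iff_eq_mul.2 (Subtype.ext (SemidirectProduct.ext (funext fun ω => ?_) ?_))
    · simp [j, hcomm]
    · simp [j]
  have hPr : ∀ (g : G) (f : Ω → ↥π.ker), Pr (fun ω => f (g⁻¹ • ω)) = Pr f := fun g f =>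
    Fintype.prod_equiv (MulAction.toPerm g⁻¹) _ _ fun ω => rfl
  let N₀ : Subgroup ↥M := Pr.ker.map j
  haveI : N₀.Normal := ⟨by
    rintro _ ⟨f, hf, rfl⟩ p
    refine ⟨_, ?_, (hconj p f).symm⟩
    rw [SetLike.mem_coe, MonoidHom.mem_ker, hPr]
    exact hf⟩
  let ρ : ↥M →* G := SemidirectProduct.rightHom.comp M.subtype
  have hρj : ∀ f, ρ (j f) = 1 := fun f => rfl
  have hN₀ρ : N₀ ≤ ρ.ker := by
    rintro _ ⟨f, -, rfl⟩
    exact MonoidHom.mem_ker.2 (hρj f)
  let σ : ↥M ⧸ N₀ →* G := QuotientGroup.lift N₀ ρ hN₀ρ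
  let ι : ↥π.ker →* ↥M ⧸ N₀ :=
    (QuotientGroup.mk' N₀).comp (j.comp (MonoidHom.mulSingle (fun _ : Ω => ↥π.ker) o))
  have hιval : ∀ f, QuotientGroup.mk' N₀ (j f) = ι (Pr f) := by
    intro f
    refine (QuotientGroup.mk'_eq_mk' N₀).2 ⟨j (f⁻¹ * Pi.mulSingle o (Pr f)), ⟨_, ?_, rfl⟩, ?_⟩
    · rw [SetLike.mem_coe, MonoidHom.mem_ker, map_mul, map_inv]
      show (Pr f)⁻¹ * (∏ ω, Pi.mulSingle o (Pr f) ω) = 1
      rw [Finset.prod_pi_mulSingle', if_pos (Finset.mem_univ o), inv_mul_cancel]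
    · rw [← map_mul, mul_inv_cancel_left]
      rfl
  have hιinj : Function.Injective ι := by
    rw [injective_iff_map_eq_one]
    intro k hk
    obtain ⟨f, hf, hjf⟩ := (QuotientGroup.eq_one_iff _).1 hk
    rw [hjinj hjf, SetLike.mem_coe, MonoidHom.mem_ker] at hf
    change (∏ ω, Pi.mulSingle o k ω) = 1 at hf
    rwa [Finset.prod_pi_mulSingle', if_pos (Finset.mem_univ o)] at hf
  have hker : σ.ker = ι.range := by
    ext x
    obtain ⟨p, rfl⟩ := QuotientGroup.mk'_surjective N₀ x
    constructor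
    · intro hx
      have hr : (p : (Ω → E) ⋊[shift] G).right = 1 := MonoidHom.mem_ker.1 hx
      let f : Ω → ↥π.ker := fun ω => ⟨(p : (Ω → E) ⋊[shift] G).left ω, by
        rw [MonoidHom.mem_ker, (hmemM _).1 p.2 ω, hr]; simp⟩
      have hp : p = j f := Subtype.ext (SemidirectProduct.ext rfl hr)
      exact ⟨Pr f, by rw [← hιval, ← hp]⟩
    · rintro ⟨k, hk⟩
      rw [← hk]
      exact MonoidHom.mem_ker.2 rfl
  have hsur : Function.Surjective σ := by
    intro g
    have hex : ∀ ω : Ω, ∃ e, π e = (t ω)⁻¹ * g * t (g⁻¹ • ω) := fun ω => by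
      obtain ⟨e, he⟩ := hrange ((t ω)⁻¹ * g * t (g⁻¹ • ω)) (by
        rw [mul_smul, mul_smul, ht, smul_inv_smul, inv_smul_eq_iff, ht])
      exact ⟨e, he⟩
    choose e he using hex
    exact ⟨QuotientGroup.mk' N₀ ⟨⟨e, g⟩, he⟩, rfl⟩
  -- the two lifts
  let A : ↥M := ⟨⟨fa, a⟩, hfa⟩
  let B : ↥M := ⟨⟨fb, b⟩, hfb⟩
  have hAB : A * B = j c * (B * A) := Subtype.ext (SemidirectProduct.ext (funext fun ω => by
    simp [A, B, j, hc ω]) (by simp [A, B, j, hab]))
  refine ⟨↥M ⧸ N₀, inferInstance, ?_, σ, ⟨hsur, ?_, ?_⟩, ⟨?_⟩⟩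
  · haveI : Finite ((Ω → E) ⋊[shift] G) := Finite.of_equiv _ SemidirectProduct.equivProd.symm
    infer_instance
  · rw [hker]
    rintro _ ⟨k, rfl⟩
    rw [Subgroup.mem_center_iff]
    intro x
    obtain ⟨p, rfl⟩ := QuotientGroup.mk'_surjective N₀ x
    refine mul_inv_eq_iff_eq_mul.1 ?_
    show QuotientGroup.mk' N₀ p * QuotientGroup.mk' N₀ (j (Pi.mulSingle o k)) *
      (QuotientGroup.mk' N₀ p)⁻¹ = QuotientGroup.mk' N₀ (j (Pi.mulSingle o k))
    rw [← map_mul, ← map_inv, ← map_mul, hconj, hιval, hιval, hPr]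
  · rw [hker]
    rintro _ ⟨k, rfl⟩
    obtain ⟨n, hn⟩ := hgen k
    have hmem : ι (Pr c) ∈ commutator (↥M ⧸ N₀) := by
      rw [← hιval, show j c = ⁅A, B⁆ by
        rw [commutatorElement_def, hAB]; group, map_commutatorElement]
      exact Subgroup.commutator_mem_commutator (Subgroup.mem_top _) (Subgroup.mem_top _)
    rw [hn]
    show ι ((Pr c) ^ n) ∈ _
    rw [map_pow]
    exact pow_mem hmem n
  · exact ((MonoidHom.ofInjective hιinj).trans (MulEquiv.subgroupCongr hker.symm)).symm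

end CfsgLib.Schur
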