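import Cfsg.Agent.Lib.Schur.McLCoverChecks
import Cfsg.Agent.Lib.Schur.TransferCommPair
import Mathlib.FieldTheory.Finite.GaloisField

/-!
A triple cover of the McLaughlin group: the transfer of the triple cover of a point stabiliser.
-/

set_option autoImplicit false
set_option maxRecDepth 100000
set_option Elab.async false

namespace CfsgLib.Schur.MultiplierMcL

open Cfsg CfsgLib.Golay CfsgLib.Golay.LeechOrbit CfsgLib.MonsterType CfsgLib.Sporadic

/-! ### Generation of the point stabiliser -/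

theorem closure_eq_top_of_twin {G Q ι : Type*} [Group G] [Group Q] [Finite G] [Finite Q]
    [IsSimpleGroup Q] (hcard : Nat.card G = Nat.card Q) (R : G → Q → Prop) (h1 : R 1 1)
    (hmul : ∀ g g' q q', R g q → R g' q' → R (g * g') (q * q'))
    (s : ι → G) (t : ι → Q) (hst : ∀ k, R (s k) (t k))
    (hgen : Subgroup.closure (Set.range t) = ⊤) (hne : ∃ q, ¬ R 1 q) :
    Subgroup.closure (Set.range s) = ⊤ := by
  set S : Set (G × Q) := Set.range fun k => (s k, t k) with hS
  set P := Subgroup.closure S with hP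
  have hR : ∀ p ∈ P, R p.1 p.2 := by
    intro p hp
    rw [← Subgroup.mem_toSubmonoid, hP, Subgroup.closure_toSubmonoid_of_finite] at hp
    induction hp using Submonoid.closure_induction with
    | mem p hp => obtain ⟨k, rfl⟩ := hp; exact hst k
    | one => exact h1
    | mul a b _ _ ha hb => exact hmul _ _ _ _ ha hb
  let f : P →* G := (MonoidHom.fst G Q).comp P.subtype
  let p₂ : P →* Q := (MonoidHom.snd G Q).comp P.subtype
  have hsurj : Function.Surjective p₂ := by
    rw [← MonoidHom.range_eq_top, eq_top_iff, ← hgen, Subgroup.closure_le]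
    rintro _ ⟨k, rfl⟩
    exact ⟨⟨(s k, t k), Subgroup.subset_closure ⟨k, rfl⟩⟩, rfl⟩
  have hnorm : (f.ker.map p₂).Normal := (inferInstance : f.ker.Normal).map p₂ hsurj
  have hbot : f.ker.map p₂ = ⊥ := by
    rcases IsSimpleGroup.eq_bot_or_eq_top_of_normal _ hnorm with h | h
    · exact h
    · obtain ⟨q, hq⟩ := hne
      obtain ⟨⟨⟨g, q'⟩, hmem⟩, hker, hpq⟩ := (h ▸ Subgroup.mem_top q : q ∈ f.ker.map p₂)
      have e1 : g = 1 := hker
      have e2 : q' = q := hpq
      subst e1 e2
      exact absurd (hR _ hmem) hq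
  have hinj : Function.Injective f := by
    refine (injective_iff_map_eq_one f).2 fun p hp => ?_
    have h2 : p₂ p ∈ f.ker.map p₂ := ⟨p, hp, rfl⟩
    rw [hbot, Subgroup.mem_bot] at h2
    exact Subtype.ext (Prod.ext hp h2)
  have hle : f.range ≤ Subgroup.closure (Set.range s) := by
    rintro _ ⟨p, rfl⟩
    have : P ≤ (Subgroup.closure (Set.range s)).comap (MonoidHom.fst G Q) := by
      rw [hP, Subgroup.closure_le]
      rintro _ ⟨k, rfl⟩
      exact Subgroup.subset_closure ⟨k, rfl⟩
    exact this p.2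
  refine top_le_iff.1 (le_trans ?_ hle)
  have h1 := Nat.card_le_card_of_surjective p₂ hsurj
  rw [← hcard] at h1
  rw [top_le_iff, MonoidHom.range_eq_top]
  exact ((Nat.bijective_iff_injective_and_card f).2
    ⟨hinj, le_antisymm (Nat.card_le_card_of_injective f hinj) h1⟩).2

theorem closure_sGen : Subgroup.closure (Set.range ConwayPsu43.sGen) = ⊤ := by
  have : Fact (Nat.Prime 3) := ⟨Nat.prime_three⟩
  let F : Type := GaloisField 3 2
  let _ : Fintype F := Fintype.ofFinite F
  have hF : Fintype.card F = 3 ^ 2 := by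
    rw [Fintype.card_eq_nat_card]; exact GaloisField.card 3 2 (by norm_num)
  obtain ⟨w, hw⟩ : IsSquare (-1 : F) := FiniteField.isSquare_neg_one_iff.mpr (by rw [hF]; norm_num)
  have hw' : w ^ 2 = -1 := by rw [sq]; exact hw.symm
  have := co0_finite
  have hsimple := CfsgLib.ClassicalGroups.psu_isSimpleGroup (n := 4) hF (by norm_num) (by norm_num)
  have hfinQ : Finite (Cfsg.PSU 4 F 3) :=
    Nat.finite_of_card_ne_zero (by rw [ConwayPsu43.card_psu hF hw']; norm_num)
  choose t ht using ConwayPsu43.exists_gen hF hw'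
  exact closure_eq_top_of_twin (ConwayPsu43.card_G0.trans (ConwayPsu43.card_psu hF hw').symm)
    (ConwayPsu43.Twin w) ConwayPsu43.twin_one ConwayPsu43.twin_mul ConwayPsu43.sGen
    (fun k => QuotientGroup.mk (t k)) (fun k => ConwayPsu43.twin_gen hF hw' k (ht k).1)
    (ConwayPsu43.closure_gens hF hw' t ht) ⟨_, ConwayPsu43.not_twin_one hF hw' (ht 0).1⟩

/-! ### The lifts -/

/-- A permutation from columns. -/
noncomputable def linPerm (A B : List ℕ) (hA : ∀ c ∈ A, c < 4096) (hB : ∀ c ∈ B, c < 4096)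
    (h1 : B.map (appB A) = unitCols) (h2 : A.map (appB B) = unitCols) : Equiv.Perm (Fin 4096) where
  toFun v := ⟨appB A v, appB_lt A hA v⟩
  invFun v := ⟨appB B v, appB_lt B hB v⟩
  left_inv v := Fin.ext (by
    show appB B (appB A v) = v
    rw [appB_appB, h2, appB_unit v.isLt])
  right_inv v := Fin.ext (by
    show appB A (appB B v) = v
    rw [appB_appB, h1, appB_unit v.isLt])

theorem exists_lift (i : Fin 27) : ∃ e : E, proj e = el (liftEl i) ∧
    ∀ v : Fin 4096, ((e : W).2 v : ℕ) = appB (liftCols i) v := by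
  have h := List.all_eq_true.1 lifts_ok i (List.mem_range.2 i.isLt)
  simp only [liftOK, forceN_eq, Bool.and_eq_true, beq_iff_eq, List.all_eq_true, Nat.blt_eq,
    Nat.beq_eq, List.mem_range] at h
  obtain ⟨⟨⟨⟨⟨⟨hroot, hA⟩, hB⟩, h1⟩, h2⟩, hom⟩, hw⟩ := h
  refine ⟨⟨(el (liftEl i), linPerm _ _ hA hB h1 h2), ⟨?_, ⟨liftCols i, fun v => rfl, ?_⟩, ?_⟩⟩, rfl,
    fun v => rfl⟩
  · refine Fin.ext ?_
    rw [← rep_img (rep_el (liftEl i))]
    exact hroot
  · intro v hv
    rw [sc_one, sc_one, appB_appB, appB_appB, hom]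
  · intro p hp
    obtain ⟨⟨hq, hk⟩, hm⟩ := hw p hp
    set w := (liftWit i).getD p 1000
    refine ⟨w / 3, hq, ⟨w % 3, Nat.mod_lt _ (by norm_num), ?_⟩, fun j hj => ?_⟩
    · show appB (liftCols i) ((Fin.ofNat 4096 (pt126 p) : Fin 4096) : ℕ) = _
      rw [show ((Fin.ofNat 4096 (pt126 p) : Fin 4096) : ℕ) = pt126 p from
        Nat.mod_eq_of_lt (pt126_lt hp), hk]
    · have hs := List.all_eq_true.1 sets_ok p (List.mem_range.2 hp)
      rw [forceN_eq] at hs
      have hs2 := of_allFrom_zero hs j.isLt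
      rw [hj, Bool.not_true, Bool.false_or, List.contains_iff_mem] at hs2
      have := hm j hs2
      rwa [rep_img (rep_el (liftEl i))] at this

/-- The lifts. -/
noncomputable def lift (i : Fin 27) : E := (exists_lift i).choose

theorem proj_lift (i : Fin 27) : proj (lift i) = el (liftEl i) := (exists_lift i).choose_spec.1

theorem lift_apply (i : Fin 27) (v : Fin 4096) : ((lift i : W).2 v : ℕ) = appB (liftCols i) v :=
  (exists_lift i).choose_spec.2 v

/-! ### The kernel -/

/-- The scalar as a permutation. -/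
noncomputable def omPerm : Equiv.Perm (Fin 4096) :=
  linPerm (scCols 1) (scCols 2) (scCols_lt 1) (scCols_lt 2) (by decide +kernel) (by decide +kernel)

theorem omPerm_pow (k : ℕ) (v : Fin 4096) : ((omPerm ^ k) v : ℕ) = sc k v := by
  induction k with
  | zero => rw [pow_zero, Equiv.Perm.one_apply]; exact (appB_unit v.isLt).symm
  | succ k ih =>
    rw [pow_succ', Equiv.Perm.mul_apply]
    show sc 1 _ = _
    rw [ih, sc_sc, Nat.add_comm]

theorem compat_zeta : Compat ((1 : H), omPerm) where
  root := by rw [map_one]; rfl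
  lin := ⟨scCols 1, fun v => rfl, fun v hv => rfl⟩
  move p hp := ⟨p, hp, ⟨1, by norm_num, by
    show sc 1 _ = _
    rw [show ((Fin.ofNat 4096 (pt126 p) : Fin 4096) : ℕ) = pt126 p from
      Nat.mod_eq_of_lt (pt126_lt hp)]⟩, fun i hi => by rw [map_one]; exact hi⟩

/-- The generator of the kernel. -/
noncomputable def zeta : E := ⟨((1 : H), omPerm), compat_zeta⟩

theorem zeta_ker : zeta ∈ proj.ker := rfl

theorem exists_pow_zeta {x : E} (hx : x ∈ proj.ker) : ∃ k, k < 3 ∧ x = zeta ^ k := by
  have h1 : (x : W).1 = 1 := hx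
  obtain ⟨k, hk, hv⟩ := exists_scalar_of_proj x.2 h1
  refine ⟨k, hk, Subtype.ext (Prod.ext ?_ (Equiv.ext fun v => Fin.ext ?_))⟩
  · rw [h1]; simp [zeta]
  · rw [hv, SubmonoidClass.coe_pow, Prod.pow_snd]
    exact (omPerm_pow k v).symm

theorem zeta_cube : zeta ^ 3 = 1 := by
  refine Subtype.ext (Prod.ext (by simp [zeta]) (Equiv.ext fun v => Fin.ext ?_))
  rw [SubmonoidClass.coe_pow, Prod.pow_snd]
  show ((omPerm ^ 3) v : ℕ) = _
  rw [omPerm_pow]
  exact appB_unit v.isLt

theorem zeta_ne_one : zeta ≠ 1 := by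
  intro h
  have h1 : omPerm = 1 := congrArg (fun x : E => (x : W).2) h
  have h2 : (omPerm (Fin.ofNat 4096 1) : ℕ) = ((Fin.ofNat 4096 1 : Fin 4096) : ℕ) := by
    rw [h1, Equiv.Perm.one_apply]
  have h3 : (omPerm (Fin.ofNat 4096 1) : ℕ) = sc 1 ((Fin.ofNat 4096 1 : Fin 4096) : ℕ) := rfl
  rw [h3] at h2
  exact absurd h2 (by decide +kernel)

theorem ker_le_center : proj.ker ≤ Subgroup.center E := by
  intro x hx
  obtain ⟨k, -, rfl⟩ := exists_pow_zeta hx
  refine pow_mem (Subgroup.mem_center_iff.2 fun e => ?_) k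
  refine Subtype.ext (Prod.ext ?_ (Equiv.ext fun v => Fin.ext ?_))
  · simp [zeta]
  · obtain ⟨A, hA, hA'⟩ := e.2.lin
    show ((e : W).2 (omPerm v) : ℕ) = sc 1 _
    rw [hA, hA]
    exact hA' v v.isLt

theorem ker_equiv : Nonempty (proj.ker ≃* Multiplicative (ZMod 3)) := by
  have : Fact (Nat.Prime 3) := ⟨Nat.prime_three⟩
  have hord : orderOf zeta = 3 := orderOf_eq_prime zeta_cube zeta_ne_one
  have hker : proj.ker = Subgroup.zpowers zeta := by
    refine le_antisymm (fun x hx => ?_) ((Subgroup.zpowers_le).2 zeta_ker)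
    obtain ⟨k, -, rfl⟩ := exists_pow_zeta hx
    exact Subgroup.npow_mem_zpowers _ k
  have hcard : Nat.card proj.ker = 3 := by rw [hker, Nat.card_zpowers, hord]
  have : IsCyclic proj.ker := isCyclic_of_prime_card hcard
  exact ⟨(zmodCyclicMulEquiv this).symm.trans
    (AddEquiv.toMultiplicative (ZMod.ringEquivCongr hcard).toAddEquiv)⟩

/-! ### Transfer -/

theorem root_key : (Nat.beq (C275.key rootIdx) (keyOf ((root275 : leechLattice) : GolayPt → ℤ))) = true := by
  decide +kernel

theorem range_of_fix {g : H} (hg : phi g ⟨rootIdx, by decide⟩ = ⟨rootIdx, by decide⟩) :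
    g ∈ proj.range := by
  let x₀ : consSet cs275 := ⟨root275, spec275.root_mem⟩
  have hx : pts x₀ = ⟨rootIdx, by decide⟩ := vecIdx_eq (Nat.eq_of_beq_eq_true root_key).symm
  rw [← hx, phi_apply, pts.injective.eq_iff] at hg
  have hfix : (g : Co0) • root275 = root275 := congrArg Subtype.val hg
  have hG : (g : Co0) ∈ ConwayPsu43.G0 := by
    intro c hc
    simp only [List.mem_cons, List.not_mem_nil, or_false] at hc
    rcases hc with rfl | rfl | rfl
    · exact g.2 _ (by simp [cs275])
    · exact g.2 _ (by simp [cs275])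
    · exact hfix
  have hle : ConwayPsu43.G0 ≤ H := fun γ h c hc => by
    simp only [cs275, List.mem_cons, List.not_mem_nil, or_false] at hc
    rcases hc with rfl | rfl
    · exact h (Spor.leechV, 24) (by simp)
    · exact h (negU, 16) (by simp)
  have key : ∀ γ : ConwayPsu43.G0, Subgroup.inclusion hle γ ∈ proj.range := by
    intro γ
    have hc : Subgroup.closure (Set.range ConwayPsu43.sGen) ≤
        proj.range.comap (Subgroup.inclusion hle) := by
      rw [Subgroup.closure_le]
      rintro _ ⟨k, rfl⟩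
      have hlt : ∀ k : Fin 4, liftGen.getD k.val 0 < 27 ∧
          elCodes.getD (liftEl (liftGen.getD k.val 0)) one = gCodes.getD (3 + k.val) 0 := by
        decide +kernel
      refine ⟨lift ⟨_, (hlt k).1⟩, ?_⟩
      rw [proj_lift]
      refine rep_uniq (a := gCodes.getD (3 + k.val) 0) ?_ ?_
      · exact (rep_el _).trans (hlt k).2
      · have he : Subgroup.inclusion hle (ConwayPsu43.sGen k) = gEl ⟨3 + k.val, by omega⟩ := by
          refine Subtype.ext ?_
          show wordW (ConwayPsu43.gWs.getD k []) = wordW (gWords.getD (3 + k.val) [])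
          congr 1
          fin_cases k <;> rfl
        rw [he]
        exact code_gEl _
    exact hc (closure_sGen ▸ Subgroup.mem_top γ)
  exact key ⟨g, hG⟩

/-- The representative of a point. -/
noncomputable def rep275 (w : Fin 275) : H :=
  el (tSrc.getD w.val (0, 0)).1 * el (tSrc.getD w.val (0, 0)).2

/-- What the test gives at a point. -/
structure PointSpec (w : Fin 275) : Prop where
  preA_lt : preA.getD w.val 0 < 275
  preB_lt : preB.getD w.val 0 < 275
  la_lt : liftA.getD w.val 0 < 27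
  lb_lt : liftB.getD w.val 0 < 27
  rep : Rep (tCodes.getD w.val 0) (rep275 w)
  root : img (tCodes.getD w.val 0) rootIdx = w
  imgA : img (elCodes.getD aIdx one) (preA.getD w.val 0) = w
  imgB : img (elCodes.getD bIdx one) (preB.getD w.val 0) = w
  mulA : mul (tCodes.getD w.val 0) (elCodes.getD (liftEl (liftA.getD w.val 0)) one) =
    mul (elCodes.getD aIdx one) (tCodes.getD (preA.getD w.val 0) 0)
  mulB : mul (tCodes.getD w.val 0) (elCodes.getD (liftEl (liftB.getD w.val 0)) one) =
    mul (elCodes.getD bIdx one) (tCodes.getD (preB.getD w.val 0) 0)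
  comm : (liftCols (liftB.getD (preA.getD w.val 0) 0)).map (appB (liftCols (liftA.getD w.val 0))) =
    ((liftCols (liftA.getD (preB.getD w.val 0) 0)).map (appB (liftCols (liftB.getD w.val 0)))).map
      (appB (scCols (commScal.getD w.val 0)))

theorem pointSpec (w : Fin 275) : PointSpec w := by
  have h := pointOK_spec w.val w.isLt
  obtain ⟨h1, h2, h3, h4, h5, h6, h7, h8, h9, h10, h11⟩ := h
  exact ⟨h1, h2, h3, h4, h5 ▸ rep_mul (rep_el _) (rep_el _), h6, h7, h8, h9, h10, h11⟩

theorem smul_inv_eq {x : H} {c : ℕ} (hx : Rep c x) {i j : Fin 275} (h : img c i = j) :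
    (MulAction.compHom (Fin 275) phi).smul x⁻¹ j = i := by
  show phi x⁻¹ j = i
  have e : phi x i = j := Fin.ext ((rep_img hx i).symm.trans h)
  rw [← e, ← Equiv.Perm.mul_apply, ← map_mul, inv_mul_cancel, map_one, Equiv.Perm.one_apply]

/-- The first lift at a point. -/
noncomputable def fA (w : Fin 275) : E := lift ⟨_, (pointSpec w).la_lt⟩

/-- The second lift at a point. -/
noncomputable def fB (w : Fin 275) : E := lift ⟨_, (pointSpec w).lb_lt⟩

/-- The point before applying the first element. -/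
def wA (w : Fin 275) : Fin 275 := ⟨_, (pointSpec w).preA_lt⟩

/-- The point before applying the second element. -/
def wB (w : Fin 275) : Fin 275 := ⟨_, (pointSpec w).preB_lt⟩

theorem proj_fA (w : Fin 275) : proj (fA w) = (rep275 w)⁻¹ * el aIdx * rep275 (wA w) := by
  rw [mul_assoc, eq_inv_mul_iff_mul_eq, fA, proj_lift]
  exact rep_uniq (rep_mul (pointSpec w).rep (rep_el _))
    ((pointSpec w).mulA.symm ▸ rep_mul (rep_el aIdx) (pointSpec (wA w)).rep)

theorem proj_fB (w : Fin 275) : proj (fB w) = (rep275 w)⁻¹ * el bIdx * rep275 (wB w) := by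
  rw [mul_assoc, eq_inv_mul_iff_mul_eq, fB, proj_lift]
  exact rep_uniq (rep_mul (pointSpec w).rep (rep_el _))
    ((pointSpec w).mulB.symm ▸ rep_mul (rep_el bIdx) (pointSpec (wB w)).rep)

theorem comm_ab : el aIdx * el bIdx = el bIdx * el aIdx := by
  refine rep_uniq (rep_mul (rep_el _) (rep_el _)) ?_
  rw [Nat.eq_of_beq_eq_true ab_ok]
  exact rep_mul (rep_el _) (rep_el _)

theorem fA_apply (w : Fin 275) (v : Fin 4096) :
    ((fA w : W).2 v : ℕ) = appB (liftCols (liftA.getD w.val 0)) v := lift_apply _ v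

theorem fB_apply (w : Fin 275) (v : Fin 4096) :
    ((fB w : W).2 v : ℕ) = appB (liftCols (liftB.getD w.val 0)) v := lift_apply _ v

theorem lifts_comm (w : Fin 275) (hab : wB (wA w) = wA (wB w)) :
    fA w * fB (wA w) = zeta ^ commScal.getD w.val 0 * (fB w * fA (wB w)) := by
  refine Subtype.ext (Prod.ext ?_ (Equiv.ext fun v => Fin.ext ?_))
  · show proj (fA w * fB (wA w)) = proj (zeta ^ commScal.getD w.val 0 * (fB w * fA (wB w)))
    rw [map_mul proj (zeta ^ _), MonoidHom.mem_ker.1 (pow_mem zeta_ker _), one_mul, map_mul, map_mul,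
      proj_fA, proj_fB (wA w), proj_fB w, proj_fA (wB w), hab]
    simp only [mul_assoc, mul_inv_cancel_left]
    rw [← mul_assoc (el aIdx), comm_ab, mul_assoc]
  · simp only [Subgroup.coe_mul, SubmonoidClass.coe_pow, Prod.snd_mul, Prod.pow_snd,
      Equiv.Perm.mul_apply]
    rw [show (zeta : W).2 = omPerm from rfl, omPerm_pow, fA_apply, fB_apply, fB_apply, fA_apply, sc,
      appB_appB (liftCols (liftA.getD w.val 0))]
    refine (congrArg (fun A => appB A (v : ℕ)) (pointSpec w).comm).trans ?_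
    rw [← appB_appB, ← appB_appB]
    rfl

/-- The triple cover. -/
theorem exists_cover : ∃ (Γ : Type) (_ : Group Γ) (_ : Finite Γ) (σ : Γ →* H),
    Cfsg.IsStemExtension σ ∧ Nonempty (σ.ker ≃* Multiplicative (ZMod 3)) := by
  letI : MulAction H (Fin 275) := MulAction.compHom (Fin 275) phi
  have ht : ∀ w, rep275 w • (⟨rootIdx, by decide⟩ : Fin 275) = w := fun w =>
    Fin.ext ((rep_img (pointSpec w).rep _).symm.trans (pointSpec w).root)
  have hA : ∀ w : Fin 275, (el aIdx)⁻¹ • w = wA w := fun w =>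
    smul_inv_eq (rep_el aIdx) (pointSpec w).imgA
  have hB : ∀ w : Fin 275, (el bIdx)⁻¹ • w = wB w := fun w =>
    smul_inv_eq (rep_el bIdx) (pointSpec w).imgB
  have hswap : ∀ w : Fin 275, wB (wA w) = wA (wB w) := fun w => by
    rw [← hA w, ← hB, ← hB w, ← hA, smul_smul, smul_smul, ← mul_inv_rev, ← mul_inv_rev, comm_ab]
  obtain ⟨Γ, i1, i2, σ, hσ, ⟨e⟩⟩ := exists_stem_of_comm_pair proj ker_le_center
    (⟨rootIdx, by decide⟩ : Fin 275) rep275 ht (fun g hg => range_of_fix hg) (el aIdx) (el bIdx)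
    comm_ab fA fB (fun w => by rw [hA]; exact proj_fA w) (fun w => by rw [hB]; exact proj_fB w)
    (fun w => ⟨zeta, zeta_ker⟩ ^ commScal.getD w.val 0)
    (fun w => by rw [hA, hB]; exact lifts_comm w (hswap w))
    (fun k => by
      obtain ⟨n, -, hn⟩ := exists_pow_zeta k.2
      let _ : CommGroup proj.ker :=
        { (inferInstance : Group proj.ker) with
          mul_comm := fun a b => Subtype.ext ((Subgroup.mem_center_iff.mp (ker_le_center b.2) a)) }
      refine ⟨2 * n, Subtype.ext ?_⟩
      rw [Finset.prod_pow_eq_pow_sum, ← pow_mul]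
      refine hn.trans ?_
      rw [SubmonoidClass.coe_pow]
      refine pow_eq_pow_iff_modEq.2 ?_
      rw [orderOf_eq_prime (p := 3) zeta_cube zeta_ne_one]
      have h2 := scal_sum
      rw [Nat.ModEq, Nat.mul_mod, h2]
      omega)
  exact ⟨Γ, i1, i2, σ, hσ, ⟨e.trans ker_equiv.some⟩⟩

end CfsgLib.Schur.MultiplierMcL
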