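import Cfsg.Agent.Lib.Schur.MultiplierMcLUpper
import Cfsg.Agent.Lib.Schur.MultiplierMcLCover
import Cfsg.Agent.Lib.SchurSmall18.StemTools
import Cfsg.Agent.Lib.Fusion68.McLTwo

/-!
The Schur multiplier of the McLaughlin group has order 3.
-/

set_option autoImplicit false

namespace CfsgLib.Schur.MultiplierMcL

open Cfsg CfsgLib.Schur

theorem multiplier_H : Cfsg.HasCyclicSchurMultiplier H 3 :=
  Pc.hasCyclicSchurMultiplier_of_spans (a := 3) (b := 1) (pa := 3) (pb := 2) rfl (by norm_num)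
    span_three (Pc.spanAt_one_of_spanAt_nil span_two) span_rest exists_cover

/-- The standard group as the stabiliser of the pair. -/
noncomputable def equivH : H ≃* Spor.McL :=
  (MulEquiv.subgroupCongr H_eq).trans Fusion68.McLTwo.equivPair.symm

theorem multiplier : Cfsg.HasCyclicSchurMultiplier ↥Cfsg.Spor.McL 3 := by
  refine ⟨?_, fun Γ _ _ τ hτ => ?_⟩
  · obtain ⟨Γ, i1, i2, σ, hσ, ⟨f⟩⟩ := multiplier_H.1
    exact ⟨Γ, i1, i2, _, SchurSmall18.isStemExtension_comp_equiv hσ equivH,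
      ⟨(MulEquiv.subgroupCongr (MonoidHom.ker_mulEquiv_comp σ equivH)).trans f⟩⟩
  · obtain ⟨π, hπ⟩ :=
      multiplier_H.2 Γ _ (SchurSmall18.isStemExtension_comp_equiv hτ equivH.symm)
    let K := MulEquiv.subgroupCongr (MonoidHom.ker_mulEquiv_comp τ equivH.symm)
    exact ⟨K.toMonoidHom.comp π, K.surjective.comp hπ⟩

end CfsgLib.Schur.MultiplierMcL
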