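import Cfsg.Agent.Lib.Sporadic.Chain

/-! Generated table of the keys of the elements of a Sylow 3-subgroup of McL. -/

set_option autoImplicit false
set_option maxRecDepth 20000

namespace CfsgLib.Schur.MultiplierMcL

open CfsgLib.Sporadic

/-- The keys. -/
def threeKeys : Tr := (.node (.node (.node (.node (.node (.node (.node (.node (.node (.node (.leaf 275280823296) (.leaf 4494027423744)) (.leaf 483990717952)) (.node (.node (.leaf 9087215211008) (.leaf 8323809256448)) (.leaf 551670289408))) (.node (.node (.node (.leaf 1924415158272) (.leaf 418242369024)) (.leaf 2887586449408)) (.node (.node (.leaf 2477531910656) (.leaf 5085401750016)) (.leaf 5651261350400)))) (.node (.node (.node (.node (.leaf 5986006100480) (.leaf 3780139813376)) (.leaf 631381704192)) (.node (.node (.leaf 8319637937664) (.leaf 4493624744960)) (.leaf 2754953614848))) (.node (.node (.node (.leaf 5226842846208) (.leaf 8744024736768)) (.leaf 5594759839232)) (.node (.leaf 5088604641280) (.leaf 9278476794880))))) (.node (.node (.node (.node (.node (.leaf 6683247277056) (.leaf 1787784110592)) (.leaf 8734778393600)) (.node (.node (.leaf 7915791495168) (.leaf 8385806208512))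 (.leaf 2269113328640))) (.node (.node (.node (.leaf 5089812584960) (.leaf 4469733995008)) (.leaf 4081308419584)) (.node (.node (.leaf 3050265485824) (.leaf 13615185804288)) (.leaf 2896042170880)))) (.node (.node (.node (.node (.leaf 5647889634816) (.leaf 5093991680000)) (.leaf 8043542973440)) (.node (.node (.leaf 4068543566848) (.leaf 5578100850176)) (.leaf 1034425490432))) (.node (.node (.node (.leaf 7381462062592) (.leaf 14578378930176)) (.leaf 7706543141888)) (.node (.leaf 13611074898944) (.leaf 2766521243136)))))) (.node (.node (.node (.node (.node (.node (.leaf 8395456777728) (.leaf 7772716149760)) (.leaf 4012990566912)) (.node (.node (.leaf 14584939058176) (.leaf 2962051351040)) (.leaf 8526591723520))) (.node (.node (.node (.leaf 1858658152448) (.leaf 6692648272896)) (.leaf 972945379328)) (.node (.node (.leaf 6269766045696) (.leaf 2280779785216)) (.leaf 2156890450432)))) (.node (.node (.node (.node (.leaf 2474981766656) (.leaf 1924986065920)) (.leaf 3171035682304)) (.node (.node (.leaf 73557887488) (.leaf 1040758383616)) (.leaf 3852457795072))) (.node (.node (.node (.leaf 1106634379776) (.leaf 14374191277056)) (.leaf 8740281272320))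 (.node (.leaf 2272728997376) (.leaf 284976257024))))) (.node (.node (.node (.node (.node (.leaf 1655445664256) (.leaf 635146395648)) (.leaf 1031875384832)) (.node (.node (.leaf 2894163646976) (.leaf 5249936147456)) (.leaf 4400078916608))) (.node (.node (.node (.leaf 7642240022016) (.leaf 6281947877376)) (.leaf 3865745355776)) (.node (.node (.leaf 1870335111680) (.leaf 3231965001216)) (.leaf 6048137192448)))) (.node (.node (.node (.node (.leaf 3779714190336) (.leaf 5030643762176)) (.leaf 14576449288192)) (.node (.node (.leaf 1109587154432) (.leaf 206852349952)) (.leaf 3304178897408))) (.node (.node (.node (.leaf 5991509013504) (.leaf 2886494357504)) (.leaf 8949806977536)) (.node (.leaf 1735043872768) (.leaf 691093373440))))))) (.node (.node (.node (.node (.node (.node (.node (.leaf 4403963394048) (.leaf 217992463360)) (.leaf 5226185367552)) (.node (.node (.leaf 1522172732416) (.leaf 5430189492736)) (.leaf 6882173446656))) (.node (.node (.node (.leaf 14439145324544) (.leaf 485212833280)) (.leaf 5027527956480)) (.node (.node (.leaf 14375826531328) (.leaf 2064969920000)) (.leaf 8755850534912)))) (.node (.node (.node (.node (.leaf 9071645991424)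 (.leaf 4674824284160)) (.leaf 7219592824320)) (.node (.node (.leaf 5018567050240) (.leaf 2487626020352)) (.leaf 6678004899840))) (.node (.node (.node (.leaf 3851260583424) (.leaf 3307675629056)) (.leaf 1999226275328)) (.node (.leaf 4673760399360) (.leaf 14576315044864))))) (.node (.node (.node (.node (.node (.leaf 3875553997824) (.leaf 5639051207168)) (.leaf 2146555671552)) (.node (.node (.leaf 2066978236928) (.leaf 4060633646592)) (.leaf 3787379018752))) (.node (.node (.node (.leaf 1721880301568) (.leaf 7359299904000)) (.leaf 152615264256)) (.node (.node (.leaf 6007078324224) (.leaf 1925522978816)) (.leaf 7422002597888)))) (.node (.node (.node (.node (.leaf 13963772092416) (.leaf 2066177911296)) (.leaf 1387410800640)) (.node (.node (.leaf 3875151282688) (.leaf 7222980349952)) (.leaf 9084666909184))) (.node (.node (.node (.leaf 621171761152) (.leaf 14439687403008)) (.leaf 3651263009280)) (.node (.leaf 289939440128) (.leaf 2560070534656)))))) (.node (.node (.node (.node (.node (.node (.leaf 4057940379136) (.leaf 2502121503232)) (.leaf 768136977408)) (.node (.node (.leaf 1374933759488) (.leaf 1722837896192)) (.leaf 5292896817152))) (.node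 (.node (.node (.leaf 6873320057344) (.leaf 1116974634496)) (.leaf 8387675033088)) (.node (.node (.leaf 628822130176) (.leaf 8041007155712)) (.leaf 7025791364608)))) (.node (.node (.node (.node (.leaf 14368712973312) (.leaf 3230757076992)) (.leaf 8315613848576)) (.node (.node (.leaf 2776045203456) (.leaf 7362118440960)) (.leaf 2336874059264))) (.node (.node (.node (.leaf 2019461271552) (.leaf 1794092306944)) (.leaf 3027735948288)) (.node (.leaf 1925623092224) (.leaf 69125803520))))) (.node (.node (.node (.node (.node (.leaf 3039930625024) (.leaf 6062232413184)) (.leaf 9099162523136)) (.node (.node (.leaf 7423066378240) (.leaf 3863460246528)) (.leaf 7645582358016))) (.node (.node (.node (.leaf 4150037590016) (.leaf 5982632609792)) (.leaf 759412850688)) (.node (.leaf 6881775742464) (.leaf 5436789328896)))) (.node (.node (.node (.node (.leaf 6055932222976) (.leaf 4412408877056)) (.leaf 7010893228544)) (.node (.node (.leaf 770961841152) (.leaf 7793788428800)) (.leaf 2002044948480))) (.node (.node (.node (.leaf 219856831488) (.leaf 7017330698752)) (.leaf 3229956978176)) (.node (.leaf 2753611444224) (.leaf 1105700360704)))))))) (.node (.node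 (.node (.node (.node (.node (.node (.node (.leaf 5043397367808) (.leaf 2144828942848)) (.leaf 144562222080)) (.node (.node (.leaf 8944149116416) (.leaf 8047718140928)) (.leaf 1932787251200))) (.node (.node (.node (.leaf 3235239704064) (.leaf 2758870839296)) (.leaf 7907322642944)) (.node (.node (.leaf 3311454434816) (.leaf 6597639160320)) (.leaf 13747661588480)))) (.node (.node (.node (.node (.leaf 8736529729536) (.leaf 5294785837056)) (.leaf 13965500919296)) (.node (.node (.leaf 277831008768) (.leaf 772964122624)) (.leaf 4065336520704))) (.node (.node (.node (.leaf 6677475893248) (.leaf 3039092908544)) (.leaf 6256159161856)) (.node (.leaf 3792599059968) (.leaf 13611166386176))))) (.node (.node (.node (.node (.node (.leaf 2406395937280) (.leaf 9074783818240)) (.leaf 7779797179904)) (.node (.node (.leaf 1855705334272) (.leaf 426429657088)) (.leaf 5433433853440))) (.node (.node (.node (.leaf 2982212797440) (.leaf 3163804177920)) (.leaf 498083590144)) (.node (.node (.leaf 2134081549312) (.leaf 345086150656)) (.leaf 7906114711552)))) (.node (.node (.node (.node (.leaf 3176558551552) (.leaf 6604618527232)) (.leaf 14441346250240)) (.node (.node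 (.leaf 5237043372032) (.leaf 2003470386688)) (.leaf 14375268177408))) (.node (.node (.node (.leaf 5594484878848) (.leaf 555528508416)) (.leaf 1522465822208)) (.node (.leaf 351387270144) (.leaf 487494521856)))))) (.node (.node (.node (.node (.node (.node (.leaf 4151245542912) (.leaf 8939847071232)) (.leaf 1110385907200)) (.node (.node (.leaf 14436863632896) (.leaf 278399550464)) (.leaf 6604999639552))) (.node (.node (.node (.leaf 6605813334528) (.leaf 2412312321536)) (.leaf 80950097408)) (.node (.node (.leaf 5645607917568) (.leaf 3787656104960)) (.leaf 5979285238784)))) (.node (.node (.node (.node (.leaf 1033489130496) (.leaf 14573949719552)) (.leaf 7438108735488)) (.node (.node (.leaf 8390222312960) (.leaf 9083910660608)) (.leaf 1116559938048))) (.node (.node (.node (.leaf 4471606771712) (.leaf 3652741276160)) (.leaf 221622853632)) (.node (.leaf 558531892224) (.leaf 1722166824960))))) (.node (.node (.node (.node (.node (.leaf 4481136204800) (.leaf 7231033376256)) (.leaf 1793069421056)) (.node (.node (.leaf 8048934718976) (.leaf 2415265055232)) (.leaf 1746049716224))) (.node (.node (.node (.leaf 2749201651200) (.leaf 1993940991488))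 (.leaf 1101527517184)) (.node (.leaf 6597223428096) (.leaf 8045153553920)))) (.node (.node (.node (.node (.leaf 4682752997376) (.leaf 968257965056)) (.leaf 550730748928)) (.node (.node (.leaf 4478451855872) (.leaf 13762044167168)) (.leaf 629100044288))) (.node (.node (.node (.leaf 7712028035072) (.leaf 1856250638848)) (.leaf 1389289858560)) (.node (.leaf 7643032194560) (.leaf 2419291649024))))))) (.node (.node (.node (.node (.node (.node (.node (.leaf 72886810112) (.leaf 13748353910784)) (.leaf 2416190479872)) (.node (.node (.leaf 1039931563008) (.leaf 7429502547968)) (.leaf 5086073362944))) (.node (.node (.node (.leaf 351521523712) (.leaf 5223092592640)) (.leaf 2961143546368)) (.node (.node (.leaf 7219976603136) (.leaf 6873833859584)) (.leaf 7767986023424)))) (.node (.node (.node (.node (.leaf 3660306452992) (.leaf 343878192128)) (.leaf 5640658114560)) (.node (.node (.leaf 4405171343360) (.leaf 1517478270464)) (.leaf 141340984320))) (.node (.node (.node (.leaf 4003449014272) (.leaf 8948034320896)) (.leaf 7353682647040)) (.node (.leaf 7427092920320) (.leaf 2960843342848))))) (.node (.node (.node (.node (.node (.leaf 3989624608256) (.leaf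 5576221830656)) (.leaf 5990425364480)) (.node (.node (.leaf 8526207440896) (.leaf 495413391360)) (.leaf 292355348480))) (.node (.node (.node (.leaf 976184702976) (.leaf 13968194711040)) (.leaf 2411627020800)) (.node (.node (.leaf 8755588695040) (.leaf 1382229796352)) (.leaf 5301620979712)))) (.node (.node (.node (.node (.leaf 5443759967744) (.leaf 6879739420160)) (.leaf 13611837475840)) (.node (.node (.leaf 704243364864) (.leaf 2133017823232)) (.leaf 2490558069248))) (.node (.node (.node (.leaf 5159598793216) (.leaf 8534261012992)) (.leaf 1801256801792)) (.node (.leaf 4424909213696) (.leaf 6693856223232)))))) (.node (.node (.node (.node (.node (.node (.leaf 498763591680) (.leaf 1538416223232)) (.leaf 13754506698752)) (.node (.node (.leaf 9279020743680) (.leaf 71675966976)) (.leaf 4676160075776))) (.node (.node (.node (.leaf 2888392300544) (.leaf 2341296670720)) (.leaf 2763812012544)) (.node (.node (.leaf 13959208676864) (.leaf 4680863987712)) (.leaf 8521759905792)))) (.node (.node (.node (.node (.leaf 6259162807808) (.leaf 2889447152128)) (.leaf 6057129682944)) (.node (.node (.leaf 2546528710656) (.leaf 5649520170496)) (.leaf 1655188233216)))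 (.node (.node (.node (.leaf 7216218570240) (.leaf 9293559023616)) (.leaf 5984251308544)) (.node (.leaf 3234568660480) (.leaf 8410636503552))))) (.node (.node (.node (.node (.node (.leaf 2140926707712) (.leaf 2267894786048)) (.leaf 2492034503168)) (.node (.node (.leaf 5296111761408) (.leaf 2348141810176)) (.leaf 423348175360))) (.node (.node (.node (.leaf 4060356308992) (.leaf 13753856843776)) (.leaf 1666999398912)) (.node (.leaf 2894834731008) (.leaf 14434366973440)))) (.node (.node (.node (.node (.leaf 2271118468096) (.leaf 7655114673664)) (.leaf 8528739211776)) (.node (.node (.leaf 3658830094848) (.leaf 2901124110336)) (.leaf 7230061870592))) (.node (.node (.node (.leaf 1791141388800) (.leaf 2062554013184)) (.leaf 349423847424)) (.node (.leaf 4129631011328) (.leaf 1650484321280))))))))) (.node (.node (.node (.node (.node (.node (.node (.node (.node (.leaf 2972012298752) (.leaf 5988940788736)) (.leaf 4082516366336)) (.node (.node (.leaf 2481289968128) (.leaf 2270981807616)) (.leaf 14571885843456))) (.node (.node (.node (.leaf 562826875904) (.leaf 4138335764992)) (.leaf 1863243067904)) (.node (.node (.leaf 8948980922880) (.leaf 7912548790784))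 (.leaf 7357440759296)))) (.node (.node (.node (.node (.leaf 220662095872) (.leaf 5434618776576)) (.leaf 5569929601024)) (.node (.node (.leaf 2269910411264) (.leaf 1649679020544)) (.leaf 482245874688))) (.node (.node (.node (.leaf 152486822912) (.leaf 5157637073920)) (.leaf 13953823989760)) (.node (.leaf 8040479034368) (.leaf 351168678912))))) (.node (.node (.node (.node (.node (.leaf 5229124535296) (.leaf 3670592296448)) (.leaf 3034044277248)) (.node (.node (.leaf 6607289774592) (.leaf 2761018343936)) (.leaf 6054847995392))) (.node (.node (.node (.leaf 285749843968) (.leaf 1677327892480)) (.leaf 2543033783296)) (.node (.node (.leaf 7783472700928) (.leaf 9280405687296)) (.leaf 1857337442816)))) (.node (.node (.node (.node (.leaf 7356631767040) (.leaf 7904093057024)) (.leaf 3788184292864)) (.node (.node (.leaf 6676804813824) (.leaf 13966315675648)) (.leaf 1527297647616))) (.node (.node (.node (.leaf 3164881573888) (.leaf 1924717646848)) (.leaf 1038183605248)) (.node (.leaf 9279289214976) (.leaf 415826477568)))))) (.node (.node (.node (.node (.node (.node (.leaf 415270187008) (.leaf 5164616491520)) (.leaf 2337679345664)) (.node (.node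 (.leaf 1924280898560) (.leaf 5034267678720)) (.leaf 7903698809344))) (.node (.node (.node (.leaf 7904248787456) (.leaf 3851783242240)) (.leaf 1745244392448)) (.node (.node (.leaf 3168505468416) (.leaf 6057534709248)) (.leaf 7714730477568)))) (.node (.node (.node (.node (.leaf 8962000081408) (.leaf 557810251776)) (.leaf 5306318694400)) (.node (.node (.leaf 7645327003136) (.leaf 3657573077504)) (.leaf 2420217017344))) (.node (.node (.node (.leaf 762371912192) (.leaf 1047066629632)) (.leaf 13747527418880)) (.node (.leaf 6048281798656) (.leaf 973760919552))))) (.node (.node (.node (.node (.node (.leaf 766935334912) (.leaf 6257117496832)) (.leaf 1540316748800)) (.node (.node (.leaf 5430338227200) (.leaf 138648756224)) (.leaf 965026543616))) (.node (.node (.node (.leaf 8389953866240) (.leaf 7219356370432)) (.leaf 2364522926592)) (.node (.leaf 7919146910208) (.leaf 8323129957888)))) (.node (.node (.node (.node (.leaf 7427495667712) (.leaf 278802252288)) (.leaf 1929163346944)) (.node (.node (.leaf 3991637889536) (.leaf 8753956800512)) (.leaf 13957447826944))) (.node (.node (.node (.leaf 2133947345408) (.leaf 6602471026688)) (.leaf 3302970898944))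 (.node (.leaf 74641852928) (.leaf 3860507450880))))))) (.node (.node (.node (.node (.node (.node (.node (.leaf 977258434560) (.leaf 8743622041600)) (.leaf 3854471004672)) (.node (.node (.leaf 14376900285952) (.leaf 5293577971712)) (.leaf 2061859843584))) (.node (.node (.node (.leaf 9278081256448) (.leaf 4069492003840)) (.leaf 289268302848)) (.node (.node (.leaf 1034831320576) (.leaf 7018001767936)) (.leaf 3030017646080)))) (.node (.node (.node (.node (.leaf 1813287376384) (.leaf 9287384972288)) (.leaf 2006608313856)) (.node (.node (.leaf 1721477658624) (.leaf 8946960617984)) (.leaf 5236788589568))) (.node (.node (.node (.leaf 2433239544832) (.leaf 2484270584320)) (.leaf 5653140379136)) (.node (.leaf 5299467298816) (.leaf 1928760677376))))) (.node (.node (.node (.node (.node (.leaf 1113613666304) (.leaf 7366681859584)) (.leaf 7701040228864)) (.node (.node (.leaf 7010199039488) (.leaf 2553628070912)) (.leaf 5021353951744))) (.node (.node (.node (.leaf 4410271599616) (.leaf 5592864841728)) (.leaf 6675857437696)) (.node (.node (.leaf 208850929664) (.leaf 557273355264)) (.leaf 4685958064128)))) (.node (.node (.node (.node (.leaf 631909166592)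 (.leaf 7011559304704)) (.leaf 351705512960)) (.node (.node (.leaf 2405590687232) (.leaf 5984914270720)) (.leaf 1800182997504))) (.node (.node (.node (.leaf 7775285423104) (.leaf 3231696610816)) (.leaf 9081311502848)) (.node (.leaf 2966646462464) (.leaf 140393595904)))))) (.node (.node (.node (.node (.node (.node (.leaf 2549749912576) (.leaf 1031497341952)) (.leaf 4480863056384)) (.node (.node (.leaf 13615101429760) (.leaf 4415495895040)) (.leaf 7430458419200))) (.node (.node (.node (.leaf 2069125688832) (.leaf 3992181314048)) (.leaf 4127349282304)) (.node (.node (.leaf 5580794683392) (.leaf 7422657538048)) (.leaf 6872107097600)))) (.node (.node (.node (.node (.leaf 2002818172416) (.leaf 1382363969024)) (.leaf 2273542430208)) (.node (.node (.leaf 413525349888) (.leaf 3171454607872)) (.leaf 4476836544512))) (.node (.node (.node (.leaf 6271644993024) (.leaf 13621359856640)) (.leaf 7778991972864)) (.node (.leaf 14438608418304) (.leaf 7644914152960))))) (.node (.node (.node (.node (.node (.leaf 7769782592000) (.leaf 8331459583488)) (.leaf 3325116855808)) (.node (.node (.leaf 4680471390208) (.leaf 4000771233280)) (.leaf 8387272395264))) (.node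 (.node (.node (.leaf 491113157632) (.leaf 2144023622656)) (.leaf 4473883728896)) (.node (.leaf 2062146379264) (.leaf 1383115798016)))) (.node (.node (.node (.node (.leaf 8316953569280) (.leaf 79594801664)) (.leaf 6880697019904)) (.node (.node (.leaf 1792349311488) (.leaf 5157771288064)) (.leaf 6263809508864))) (.node (.node (.node (.leaf 8740824702976) (.leaf 6876920835584)) (.leaf 9277671525376)) (.node (.leaf 429790598656) (.leaf 3996744681472)))))))) (.node (.node (.node (.node (.node (.node (.node (.node (.leaf 1728054299648) (.leaf 7705727928320)) (.leaf 6683507835904)) (.node (.node (.leaf 3314273014272) (.leaf 3784300629504)) (.leaf 7022435933696))) (.node (.node (.node (.leaf 1375202240000) (.leaf 2554299183104)) (.leaf 6599228305408)) (.node (.node (.leaf 1525528157184) (.leaf 1861216677888)) (.leaf 207261598720)))) (.node (.node (.node (.node (.leaf 13754252985344) (.leaf 7430307844096)) (.leaf 6266896617472)) (.node (.node (.leaf 2983018141696) (.leaf 3302575323648)) (.leaf 2569877341696))) (.node (.node (.node (.leaf 689210917376) (.leaf 7778219073024)) (.leaf 7243752116224)) (.node (.leaf 5439062280704) (.leaf 551938750464)))))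 (.node (.node (.node (.node (.node (.leaf 698069343744) (.leaf 3174541580288)) (.leaf 5163120864256)) (.node (.node (.leaf 6880030924288) (.leaf 4127061448192)) (.leaf 8042334915072))) (.node (.node (.node (.leaf 5017761792512) (.leaf 5663210362880)) (.leaf 5228601295872)) (.node (.node (.leaf 7697666697728) (.leaf 14573278614528)) (.leaf 6605670773248)))) (.node (.node (.node (.node (.leaf 5570325659136) (.leaf 1860142907904)) (.leaf 3230091240960)) (.node (.node (.leaf 143628465152) (.leaf 6269197155840)) (.leaf 3646162834944))) (.node (.node (.node (.leaf 13956390075904) (.leaf 1377800601600)) (.leaf 14378086718464)) (.node (.leaf 5020682814464) (.leaf 4059291480064)))))) (.node (.node (.node (.node (.node (.node (.leaf 2750812291584) (.leaf 3301233185280)) (.leaf 1653174992896)) (.node (.node (.leaf 3239668924416) (.leaf 968526417920)) (.leaf 1860424478720))) (.node (.node (.node (.leaf 7014091365888) (.leaf 704917861376)) (.leaf 7641958468096)) (.node (.node (.leaf 7368711397888) (.leaf 5434216091136)) (.leaf 2076489607680)))) (.node (.node (.node (.node (.leaf 1540023703040) (.leaf 14436063569408)) (.leaf 4673073057792)) (.node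 (.node (.leaf 4134065701376) (.leaf 1790334309888)) (.leaf 4012587878400))) (.node (.node (.node (.leaf 1666719947776) (.leaf 9086729295360)) (.leaf 5167415827968)) (.node (.leaf 14571785746432) (.leaf 4413079948288))))) (.node (.node (.node (.node (.node (.leaf 5165772709376) (.leaf 2005752188928)) (.leaf 3644820595200)) (.node (.node (.leaf 3782801099264) (.leaf 693106695680)) (.leaf 75849797120))) (.node (.node (.node (.leaf 429363069440) (.leaf 7710022855168)) (.leaf 3988697142784)) (.node (.leaf 7015165127168) (.leaf 3780533815808)))) (.node (.node (.node (.node (.leaf 5291951001600) (.leaf 1729011939328)) (.leaf 2064812645888)) (.node (.node (.leaf 1653432418304) (.leaf 3024731515904)) (.leaf 5582009183744))) (.node (.node (.node (.leaf 13747944704000) (.leaf 7910803915264)) (.leaf 14447520301056)) (.node (.leaf 8393849075200) (.leaf 2350826149376))))))) (.node (.node (.node (.node (.node (.node (.node (.leaf 7642911099392) (.leaf 3039361244672)) (.leaf 701573166080)) (.node (.node (.leaf 564705949696) (.leaf 4677508534272)) (.leaf 2894297356288))) (.node (.node (.node (.leaf 13611477515264) (.leaf 154486469632)) (.leaf 4399273637888))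 (.node (.node (.leaf 2004697284096) (.leaf 8315353442304)) (.leaf 5182179877376)))) (.node (.node (.node (.node (.leaf 3302327597568) (.leaf 13619480807424)) (.leaf 7369654592000)) (.node (.node (.leaf 979808553984) (.leaf 14379023096832)) (.leaf 698888749568))) (.node (.node (.node (.leaf 2339966572032) (.leaf 1516270279680)) (.leaf 3187678700032)) (.node (.leaf 8322993464320) (.leaf 5031717552640))))) (.node (.node (.node (.node (.node (.leaf 2348690739712) (.leaf 13955712433664)) (.leaf 14366141359104)) (.node (.node (.leaf 5086188701696) (.leaf 6676676375552)) (.leaf 2961411933184))) (.node (.node (.node (.leaf 79731887616) (.leaf 619174444544)) (.leaf 692043701760)) (.node (.node (.leaf 13750226411520) (.leaf 14435660906496)) (.leaf 2273139763200)))) (.node (.node (.node (.node (.leaf 8056585062912) (.leaf 2967151613952)) (.leaf 9277939959808)) (.node (.node (.leaf 2351643494400) (.leaf 7724786791424)) (.leaf 8943498737152))) (.node (.node (.node (.leaf 3040333274624) (.leaf 5095468095488)) (.leaf 2485726262784)) (.node (.leaf 962476379136) (.leaf 5224703226880)))))) (.node (.node (.node (.node (.node (.node (.leaf 142286266368)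 (.leaf 14380499523072)) (.leaf 221891282944)) (.node (.node (.leaf 346958121984) (.leaf 7655919995392)) (.leaf 8319774500864))) (.node (.node (.node (.leaf 8529025992704) (.leaf 757931711488)) (.leaf 424019243008)) (.node (.node (.leaf 5154632641536) (.leaf 5296396439552)) (.leaf 5091039414272)))) (.node (.node (.node (.node (.leaf 7232190517248) (.leaf 8522718304256)) (.leaf 5430749432320)) (.node (.node (.leaf 493260654080) (.leaf 622932569600)) (.leaf 771089773056))) (.node (.node (.node (.leaf 5636078494208) (.leaf 343743937536)) (.leaf 2146958379008)) (.node (.leaf 1375739101184) (.leaf 4130282680320))))) (.node (.node (.node (.node (.node (.leaf 7712296416256) (.leaf 8049999810048)) (.leaf 8934237682176)) (.node (.node (.leaf 6055127000064) (.leaf 1103687059456)) (.leaf 4137549836288))) (.node (.node (.node (.leaf 2557802989056) (.leaf 211818399744)) (.leaf 619570572800)) (.node (.leaf 8523120417280) (.leaf 3231299190784)))) (.node (.node (.node (.node (.leaf 14578765026304) (.leaf 8385000928768)) (.leaf 5089965692928)) (.node (.node (.leaf 9080907077120) (.leaf 8537616451584)) (.leaf 3172914714624))) (.node (.node (.node (.leaf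 3653998319104) (.leaf 6048810543104)) (.leaf 13616266624000)) (.node (.leaf 2544644419584) (.leaf 766790087168))))))))))

end CfsgLib.Schur.MultiplierMcL
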