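import Cfsg.Agent.Lib.Schur.McLModel
import Cfsg.Agent.Lib.Schur.MultiplierMcLKeys
import Cfsg.Agent.Lib.Schur.PcCoded
import Cfsg.Agent.Lib.Schur.PcAssemble
import Cfsg.Agent.Lib.Schur.CriteriaElements

/-!
Bounds on the primary parts of the multiplier of the McLaughlin group: the `3`-part is cyclic of
order at most 3 and the others are trivial.
-/

set_option autoImplicit false
set_option maxRecDepth 100000
set_option Elab.async false

namespace CfsgLib.Schur.MultiplierMcL

open CfsgLib.Schur CfsgLib.Sporadic CfsgLib.Golay.LeechOrbit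

/-- A code determined by the images of five points. -/
noncomputable def baseKey (c : ℕ) : ℕ :=
  img c 0 + 512 * (img c 2 + 512 * (img c 1 + 512 * (img c 3 + 512 * img c 4)))

/-- An entry of a key. -/
noncomputable def keyDigit (K j : ℕ) : ℕ := K / 512 ^ j % 512

/-- The key of a product from the key of the second factor. -/
noncomputable def actKey (a K : ℕ) : ℕ :=
  forceN a fun a => forceN K fun K =>
    img a (keyDigit K 0) + 512 * (img a (keyDigit K 1) + 512 * (img a (keyDigit K 2) +
      512 * (img a (keyDigit K 3) + 512 * img a (keyDigit K 4))))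

theorem baseKey_mul (a b : ℕ) : baseKey (mul a b) = actKey a (baseKey b) := by
  have hm : ∀ i, i < 275 → img (mul a b) i = img a (img b i) := fun i hi => by
    rw [mul, forceN_eq, forceN_eq, img_pk _ (fun j => img_lt _ _) hi]
  have h0 := img_lt b 0
  have h1 := img_lt b 1
  have h2 := img_lt b 2
  have h3 := img_lt b 3
  have h4 := img_lt b 4
  rw [actKey, forceN_eq, forceN_eq]
  simp only [baseKey, hm 0 (by norm_num), hm 1 (by norm_num), hm 2 (by norm_num), hm 3 (by norm_num),
    hm 4 (by norm_num), keyDigit]
  generalize img b 0 = x0, img b 2 = x1, img b 1 = x2, img b 3 = x3, img b 4 = x4 at *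
  rw [show (512 : ℕ) ^ 0 = 1 by norm_num, show (512 : ℕ) ^ 1 = 512 by norm_num,
    show (512 : ℕ) ^ 2 = 262144 by norm_num, show (512 : ℕ) ^ 3 = 134217728 by norm_num,
    show (512 : ℕ) ^ 4 = 68719476736 by norm_num]
  set K := x0 + 512 * (x1 + 512 * (x2 + 512 * (x3 + 512 * x4)))
  rw [show K / 1 % 512 = x0 by omega, show K / 512 % 512 = x1 by omega,
    show K / 262144 % 512 = x2 by omega, show K / 134217728 % 512 = x3 by omega,
    show K / 68719476736 % 512 = x4 by omega]

/-- Repeated action of a code on a key. -/
noncomputable def actKeyN (a : ℕ) : ℕ → ℕ → ℕ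
  | 0, K => K
  | e + 1, K => forceN (actKeyN a e K) fun L => actKey a L

/-- The keys of all elements in normal form with letters from `k` on. -/
noncomputable def keyElems (p n : ℕ) (cs : List ℕ) : ℕ → List ℕ
  | 0 => [baseKey one]
  | m + 1 =>
    let rest := keyElems p n cs m
    let g := cs.getD (n - (m + 1)) one
    (List.range p).flatMap fun e => rest.map (actKeyN g e)

theorem mem_keyElems {cs : List ℕ} {gs : ℕ → H} (h : ∀ i, Rep (cs.getD i one) (gs i)) (p n : ℕ) :
    ∀ m ≤ n, ∀ K ∈ keyElems p n cs m,
      ∃ x ∈ Subgroup.closure (gs '' Set.Iio n), baseKey (code (phi x)) = K := by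
  intro m
  induction m with
  | zero =>
    intro _ K hK
    rw [keyElems, List.mem_singleton] at hK
    exact ⟨1, one_mem _, by rw [hK, map_one, code_one]⟩
  | succ m ih =>
    intro hm K hK
    simp only [keyElems, List.mem_flatMap, List.mem_map, List.mem_range] at hK
    obtain ⟨e, -, r, hr, rfl⟩ := hK
    obtain ⟨x, hx, hrx⟩ := ih (by omega) r hr
    have hg : gs (n - (m + 1)) ∈ Subgroup.closure (gs '' Set.Iio n) := Subgroup.subset_closure
      (Set.mem_image_of_mem gs (Set.mem_Iio.2 (show n - (m + 1) < n by omega)))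
    clear hr
    induction e with
    | zero => exact ⟨x, hx, hrx⟩
    | succ e ihe =>
      obtain ⟨y, hy, he⟩ := ihe
      refine ⟨gs (n - (m + 1)) * y, mul_mem hg hy, ?_⟩
      rw [actKeyN, forceN_eq, map_mul, code_mul, show code (phi (gs (n - (m + 1)))) = _ from h _,
        baseKey_mul, he]

theorem le_card_of_keys {cs : List ℕ} {gs : ℕ → H} (h : ∀ i, Rep (cs.getD i one) (gs i)) (p n : ℕ)
    (hnd : (keyElems p n cs n).Nodup) :
    (keyElems p n cs n).length ≤ Nat.card (Subgroup.closure (gs '' Set.Iio n)) := by
  have h1 := fun a : {a // a ∈ keyElems p n cs n} => mem_keyElems h p n n le_rfl a a.2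
  choose f hf hfr using h1
  have hinj : Function.Injective (fun a => (⟨f a, hf a⟩ : Subgroup.closure (gs '' Set.Iio n))) := by
    intro a b hab
    have e : f a = f b := congrArg Subtype.val hab
    exact Subtype.ext ((hfr a).symm.trans (e ▸ hfr b))
  have := Nat.card_le_card_of_injective _ hinj
  rw [Nat.card_eq_fintype_card, Fintype.card_of_subtype (keyElems p n cs n).toFinset
    (fun x => List.mem_toFinset), List.toFinset_card_of_nodup hnd] at this
  exact this

/-- The certificate solves its equations. -/
noncomputable def algOK (R : Pc.Rules) (C : Pc.Cert) (fuel : ℕ) : Bool :=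
  R.shapeOK && C.eqnsOK R fuel && C.solveOK R

/-- The relations hold for the codes. -/
noncomputable def relOK (R : Pc.Rules) (C : Pc.Cert) (gi ki : List ℕ) : Bool :=
  Pc.holdsOK mul one R C (gi.map fun i => elCodes.getD i one) (ki.map fun i => elCodes.getD i one)

/-- The normal forms are distinct. -/
noncomputable def distinctOK (R : Pc.Rules) (gi : List ℕ) (idx : List ℕ) : Bool :=
  idx.length == R.p ^ R.n &&
    Pc.sortedBy (keyElems R.p R.n (gi.map fun i => elCodes.getD i one) R.n) idx

theorem distinct_of_ok {R : Pc.Rules} {gi idx : List ℕ} (h : distinctOK R gi idx = true) :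
    (keyElems R.p R.n (gi.map fun i => elCodes.getD i one) R.n).Nodup ∧
      R.p ^ R.n ≤ (keyElems R.p R.n (gi.map fun i => elCodes.getD i one) R.n).length := by
  simp only [distinctOK, Bool.and_eq_true, beq_iff_eq] at h
  refine ⟨Pc.nodup_of_sortedBy h.2, ?_⟩
  have h2 := h.2
  simp only [Pc.sortedBy, Bool.and_eq_true, beq_iff_eq] at h2
  omega

theorem exists_rep (l : List ℕ) (i : ℕ) :
    ∃ x : H, Rep ((l.map fun j => elCodes.getD j one).getD i one) x := by
  rcases Nat.lt_or_ge i l.length with hi | hi
  · rw [List.getD_eq_getElem _ _ (by simpa using hi), List.getElem_map]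
    exact ⟨_, rep_el _⟩
  · rw [List.getD_eq_default _ _ (by simpa using hi)]
    exact ⟨1, rep_one⟩

theorem spanAt_of_certOK {p : ℕ} [Fact p.Prime] {R : Pc.Rules} {C : Pc.Cert} {gi ki : List ℕ}
    {fuel : ℕ} (ha : algOK R C fuel = true) (hr : relOK R C gi ki = true)
    (hd' : (keyElems R.p R.n (gi.map fun i => elCodes.getD i one) R.n).Nodup ∧
      R.p ^ R.n ≤ (keyElems R.p R.n (gi.map fun i => elCodes.getD i one) R.n).length) (hRp : R.p = p) {d : ℕ}
    (hd : ¬ p ∣ d) (hord : 898128000 = p ^ R.n * d) {ords : List ℕ}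
    (hlen : C.us.length = ords.length) (hords : C.ords = ords) : Pc.SpanAt p H ords := by
  simp only [algOK, Bool.and_eq_true] at ha
  obtain ⟨⟨hshape, heqs⟩, hsolve⟩ := ha
  have hholds := hr
  choose gs hgs using exists_rep gi
  choose cg hcg using exists_rep ki
  have hlen' := le_card_of_keys hgs R.p R.n hd'.1
  have hl2 := hd'.2
  exact Pc.spanAt_of_cert (Pc.holds_of_check Rep rep_one rep_mul rep_uniq hgs hcg hholds) hshape heqs
    hsolve hRp (hRp ▸ hl2.trans hlen') hd (by rw [card_H]; exact hord) hlen hords

theorem two_alg : algOK twoRules twoCert twoFuel = true := by decide +kernel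

theorem two_rel : relOK twoRules twoCert twoGens twoConj = true := by decide +kernel

theorem two_distinct : distinctOK twoRules twoGens twoIdx = true := by decide +kernel

theorem three_alg : algOK threeRules threeCert threeFuel = true := by decide +kernel

theorem three_rel : relOK threeRules threeCert threeGens threeConj = true := by decide +kernel

theorem three_sorted : PcCoded.treeSorted
    (keyElems threeRules.p threeRules.n (threeGens.map fun i => elCodes.getD i one) threeRules.n)
    threeKeys 729 threeIdx = true := by decide +kernel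

theorem three_distinct :
    (keyElems threeRules.p threeRules.n (threeGens.map fun i => elCodes.getD i one) threeRules.n).Nodup ∧
      threeRules.p ^ threeRules.n ≤
        (keyElems threeRules.p threeRules.n (threeGens.map fun i => elCodes.getD i one) threeRules.n).length := by
  have h := PcCoded.of_treeSorted three_sorted
  exact ⟨h.1, by rw [h.2]; decide⟩

theorem five_alg : algOK fiveRules fiveCert fiveFuel = true := by decide +kernel

theorem five_rel : relOK fiveRules fiveCert fiveGens fiveConj = true := by decide +kernel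

theorem five_distinct : distinctOK fiveRules fiveGens fiveIdx = true := by decide +kernel

theorem span_three : Pc.SpanAt 3 H [3] :=
  spanAt_of_certOK (p := 3) three_alg three_rel three_distinct rfl (d := 1232000) (by norm_num) (by norm_num [threeRules]) rfl rfl

theorem span_two : Pc.SpanAt 2 H [] :=
  spanAt_of_certOK (p := 2) two_alg two_rel (distinct_of_ok two_distinct) rfl (d := 7016625) (by norm_num) (by norm_num [twoRules]) rfl rfl

theorem span_cyclic (p : ℕ) (hp : p.Prime) (d : ℕ) (hd : ¬ p ∣ d) (hord : 898128000 = p ^ 1 * d) :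
    Pc.SpanAt p H [] := by
  have : Fact p.Prime := ⟨hp⟩
  obtain ⟨S⟩ := (inferInstance : Nonempty (Sylow p H))
  refine Pc.spanAt_of_noMultiplierAt hp (noMultiplierAt_of_cyclic S ?_)
  refine isCyclic_of_prime_card (p := p) ?_
  rw [Sylow.card_eq_multiplicity, card_H, hord, Nat.factorization_mul (by simp [hp.ne_zero])
    (by rintro rfl; exact hd (dvd_zero p)), Finsupp.add_apply, hp.factorization_pow, Finsupp.single_eq_same,
    Nat.factorization_eq_zero_of_not_dvd hd, Nat.add_zero, pow_one]

theorem span_rest (p : ℕ) (hp : p.Prime) (h3 : p ≠ 3) (h2 : p ≠ 2) : Pc.SpanAt p H [] := by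
  have : Fact p.Prime := ⟨hp⟩
  by_cases hd : p ∣ Nat.card H
  · rw [card_H, show (898128000 : ℕ) = 2 ^ 7 * 3 ^ 6 * 5 ^ 3 * 7 * 11 by norm_num] at hd
    rcases hp.dvd_mul.mp hd with hd | hd
    rcases hp.dvd_mul.mp hd with hd | hd
    rcases hp.dvd_mul.mp hd with hd | hd
    rcases hp.dvd_mul.mp hd with hd | hd
    · exact absurd ((Nat.prime_dvd_prime_iff_eq hp Nat.prime_two).mp (hp.dvd_of_dvd_pow hd)) h2
    · exact absurd ((Nat.prime_dvd_prime_iff_eq hp Nat.prime_three).mp (hp.dvd_of_dvd_pow hd)) h3
    · obtain rfl := (Nat.prime_dvd_prime_iff_eq hp (by norm_num)).mp (hp.dvd_of_dvd_pow hd)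
      exact spanAt_of_certOK (p := 5) five_alg five_rel (distinct_of_ok five_distinct) rfl (d := 7185024) (by norm_num)
        (by norm_num [fiveRules]) rfl rfl
    · obtain rfl := (Nat.prime_dvd_prime_iff_eq hp (by norm_num)).mp hd
      exact span_cyclic 7 hp 128304000 (by norm_num) (by norm_num)
    · obtain rfl := (Nat.prime_dvd_prime_iff_eq hp (by norm_num)).mp hd
      exact span_cyclic 11 hp 81648000 (by norm_num) (by norm_num)
  · exact Pc.spanAt_of_noMultiplierAt hp (noMultiplierAt_of_not_dvd hd)

end CfsgLib.Schur.MultiplierMcL
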