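import Cfsg.Agent.Lib.Schur.MultiplierRuUpper
import Cfsg.Agent.Lib.Sporadic.Ru.Simplicity

/-!
The Schur multiplier of the Rudvalis group as a matrix group is cyclic of order two, given a
central extension in which a nontrivial kernel element is a commutator product.
-/

set_option autoImplicit false

namespace CfsgLib.Schur.MultiplierRu

open Cfsg CfsgLib.Sporadic.Ru CfsgLib.Schur
open scoped commutatorElement

section General

variable {G : Type} [Group G]

theorem commutator_eq_top_of_simple [IsSimpleGroup G] (hp : ¬ (Nat.card G).Prime) :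
    commutator G = ⊤ := by
  rcases (inferInstance : (commutator G).Normal).eq_bot_or_eq_top with h | h
  · exfalso
    have hcomm : ∀ a b : G, a * b = b * a := fun a b => by
      refine commutatorElement_eq_one_iff_mul_comm.1 (Subgroup.mem_bot.1 (h ▸ ?_))
      rw [commutator_def]
      exact Subgroup.commutator_mem_commutator (Subgroup.mem_top a) (Subgroup.mem_top b)
    letI : CommGroup G := { (inferInstance : Group G) with mul_comm := hcomm }
    exact hp (IsSimpleGroup.prime_card (α := G))
  · exact h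

theorem kernel_image (Γ : Type) [Group Γ] [Finite Γ] (σ : Γ →* G)
    (h2 : Pc.SpanAt 2 G [2]) (hr : ∀ p : ℕ, p.Prime → p ≠ 2 → Pc.SpanAt p G [])
    (hσ : IsStemExtension σ) :
    ∃ π : Multiplicative (ZMod 2) →* σ.ker, Function.Surjective π := by
  obtain ⟨us, hus, hsu⟩ := h2 Γ σ hσ
  let _ : CommGroup σ.ker :=
    { (inferInstance : Group σ.ker) with
      mul_comm := fun s t => Subtype.ext (Subgroup.mem_center_iff.1 (hσ.2.1 t.2) s) }
  set w : σ.ker := ⟨us 0, (hus 0).1⟩ with hwdef
  have hw : w ^ 2 = 1 := Subtype.ext (by simpa using (hus 0).2 (by simp))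
  have htop : Subgroup.zpowers w = ⊤ := by
    refine Pc.eq_top_of_primary _ fun p hp z hz => ?_
    have hz' : ∃ e : ℕ, (z : Γ) ^ p ^ e = 1 := by
      obtain ⟨e, he⟩ := hz
      exact ⟨e, by rw [← SubmonoidClass.coe_pow, he]; rfl⟩
    have hmem : (z : Γ) ∈ Subgroup.zpowers (us 0) := by
      by_cases h2p : p = 2
      · subst h2p
        refine (Subgroup.closure_le _).2 ?_ (hsu z z.2 hz')
        rintro _ ⟨k, hk, rfl⟩
        obtain rfl : k = 0 := by simpa using hk
        exact Subgroup.mem_zpowers _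
      obtain ⟨rs, -, hrs⟩ := hr p hp h2p Γ σ hσ
      have h := hrs z z.2 hz'
      rw [List.length_nil, show Set.Iio (0 : ℕ) = ∅ by simp, Set.image_empty, Subgroup.closure_empty,
        Subgroup.mem_bot] at h
      rw [h]
      exact one_mem _
    obtain ⟨k, hk⟩ := Subgroup.mem_zpowers_iff.1 hmem
    exact Subgroup.mem_zpowers_iff.2 ⟨k, Subtype.ext (by rw [SubgroupClass.coe_zpow]; exact hk)⟩
  let f : ℤ →+ Additive σ.ker := zmultiplesHom _ (Additive.ofMul w)
  have hf : f (2 : ℕ) = 0 := by
    show ((2 : ℕ) : ℤ) • Additive.ofMul w = 0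
    rw [← ofMul_zpow, zpow_natCast, hw]
    rfl
  refine ⟨AddMonoidHom.toMultiplicativeLeft (ZMod.lift 2 ⟨f, hf⟩), fun z => ?_⟩
  obtain ⟨k, hk⟩ := Subgroup.mem_zpowers_iff.1 (htop ▸ Subgroup.mem_top z : z ∈ Subgroup.zpowers w)
  refine ⟨Multiplicative.ofAdd (k : ZMod 2), ?_⟩
  show Additive.toMul (ZMod.lift 2 ⟨f, hf⟩ (k : ZMod 2)) = z
  rw [ZMod.lift_coe]
  exact hk

/-- The multiplier from a central extension with a nontrivial kernel element in the derived
subgroup. -/
theorem multiplier_of_span (hperfG : commutator G = ⊤) (h2 : Pc.SpanAt 2 G [2])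
    (hr : ∀ p : ℕ, p.Prime → p ≠ 2 → Pc.SpanAt p G []) {Γ : Type} [Group Γ] [Finite Γ]
    (φ : Γ →* G)
    (hφ : Function.Surjective φ) (hker : φ.ker ≤ Subgroup.center Γ)
    {z : Γ} (hz : z ∈ φ.ker) (hzc : z ∈ commutator Γ) (hz1 : z ≠ 1) :
    HasCyclicSchurMultiplier G 2 := by
  let D := commutator Γ
  have hsurj : ∀ g : G, ∃ d ∈ D, φ d = g := fun g => by
    have : g ∈ (commutator Γ).map φ := by
      rw [commutator_def, Subgroup.map_commutator, Subgroup.map_top_of_surjective φ hφ,
        ← commutator_def, hperfG]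
      exact Subgroup.mem_top g
    exact this
  -- the derived subgroup is perfect
  have hperf : D ≤ (commutator D).map D.subtype := by
    show commutator Γ ≤ _
    rw [commutator_def D, Subgroup.map_commutator, ← MonoidHom.range_eq_map, Subgroup.range_subtype,
      commutator_def, Subgroup.commutator_le]
    intro a _ b _
    obtain ⟨a', ha', ea⟩ := hsurj (φ a)
    obtain ⟨b', hb', eb⟩ := hsurj (φ b)
    rw [Schur.commutator_congr hker ea.symm eb.symm]
    exact Subgroup.commutator_mem_commutator ha' hb'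
  let σ : D →* G := φ.comp D.subtype
  have hσ : IsStemExtension σ := by
    refine ⟨fun g => ?_, fun x hx => ?_, fun x hx => ?_⟩
    · obtain ⟨d, hd, e⟩ := hsurj g
      exact ⟨⟨d, hd⟩, e⟩
    · rw [Subgroup.mem_center_iff]
      intro y
      exact Subtype.ext (Subgroup.mem_center_iff.1 (hker (show (x : Γ) ∈ φ.ker from hx)) y)
    · obtain ⟨y, hy, e⟩ := hperf x.2
      rwa [← Subtype.ext e]
  have hcard : Nat.card σ.ker = 2 := by
    obtain ⟨π, hπ⟩ := kernel_image D σ h2 hr hσ
    refine le_antisymm ((Nat.card_le_card_of_surjective π hπ).trans_eq (Nat.card_zmod 2)) ?_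
    have hne : Nontrivial σ.ker :=
      ⟨⟨⟨⟨z, hzc⟩, hz⟩, 1, fun e => hz1 (congrArg (fun t : σ.ker => ((t : D) : Γ)) e)⟩⟩
    exact Finite.one_lt_card
  refine ⟨⟨D, inferInstance, inferInstance, σ, hσ, ⟨?_⟩⟩, fun Γ' _ _ τ hτ => kernel_image Γ' τ h2 hr hτ⟩
  haveI : Fact (Nat.Prime 2) := ⟨Nat.prime_two⟩
  exact mulEquivOfPrimeCardEq (p := 2) hcard (Nat.card_zmod 2)

end General

/-- The multiplier of the matrix group from a central extension with a nontrivial kernel element in
the derived subgroup. -/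
theorem multiplier_of_ext {Γ : Type} [Group Γ] [Finite Γ] (φ : Γ →* RuMat)
    (hφ : Function.Surjective φ) (hker : φ.ker ≤ Subgroup.center Γ)
    {z : Γ} (hz : z ∈ φ.ker) (hzc : z ∈ commutator Γ) (hz1 : z ≠ 1) :
    HasCyclicSchurMultiplier RuMat 2 :=
  multiplier_of_span (@commutator_eq_top_of_simple _ _ isSimple_g0
      (by rw [card_grp_g0]; norm_num)) span_two span_rest φ hφ hker hz hzc hz1

end CfsgLib.Schur.MultiplierRu
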