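import Cfsg.Prelude.Def_Spor_Ru
import Cfsg.Agent.Lib.Schur.MultiplierRu
import Cfsg.Agent.Lib.Schur.L34Multiplier

/-!
The unit `-1` of the automorphism group of the Rudvalis lattice is a commutator, and the multiplier
of the Rudvalis group follows from an isomorphism with the matrix group.
-/

set_option autoImplicit false
set_option linter.all false

namespace CfsgLib.Schur.MultiplierRuModel

open Cfsg Cfsg.Spor
open scoped commutatorElement

theorem rj_mem {v : RuVec} (hv : v ∈ ruLattice) : ruRj v ∈ ruLattice := by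
  rw [ruLattice, AddSubgroup.mem_sInf] at hv ⊢
  exact fun L hL => (hL.2 v (hv L hL)).2.1

theorem rk_mem {v : RuVec} (hv : v ∈ ruLattice) : ruRk v ∈ ruLattice := by
  rw [ruLattice, AddSubgroup.mem_sInf] at hv ⊢
  exact fun L hL => (hL.2 v (hv L hL)).2.2.1

theorem gI_mul_gI : gI * gI = -1 := by decide

theorem rj_rj (v : RuVec) : ruRj (ruRj v) = -v := funext fun p => by
  obtain ⟨n, t⟩ := p
  fin_cases t <;> simp [ruRj, ← mul_assoc, gI_mul_gI]

theorem rk_rk (v : RuVec) : ruRk (ruRk v) = -v := funext fun p => by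
  obtain ⟨n, t⟩ := p
  fin_cases t <;> simp [ruRk, ← mul_assoc, gI_mul_gI]

theorem rj_rk (v : RuVec) : ruRj (ruRk v) = -ruRk (ruRj v) := funext fun p => by
  obtain ⟨n, t⟩ := p
  fin_cases t <;> simp [ruRj, ruRk, ← mul_assoc, gI_mul_gI]

theorem rj_add (a b : RuVec) : ruRj (a + b) = ruRj a + ruRj b := funext fun p => by
  obtain ⟨n, t⟩ := p
  fin_cases t <;> simp [ruRj, mul_add, add_comm]

theorem rk_add (a b : RuVec) : ruRk (a + b) = ruRk a + ruRk b := funext fun p => by
  obtain ⟨n, t⟩ := p
  fin_cases t <;> simp [ruRk, mul_add, add_comm]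

theorem norm_gI_mul (x : GaussianInt) : (gI * x).norm = x.norm := by
  rw [Zsqrtd.norm_mul, show gI.norm = 1 from by decide, one_mul]

/-- Signed permutation maps of the coordinates inside one component preserve the norm. -/
theorem norm_rj (v : RuVec) : ruNorm (ruRj v) = ruNorm v := by
  simp only [ruNorm, Fintype.sum_prod_type, Fin.sum_univ_four]
  refine Finset.sum_congr rfl fun n _ => ?_
  simp only [ruRj, norm_gI_mul, Zsqrtd.norm_neg]
  ring

theorem norm_rk (v : RuVec) : ruNorm (ruRk v) = ruNorm v := by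
  simp only [ruNorm, Fintype.sum_prod_type, Fin.sum_univ_four]
  refine Finset.sum_congr rfl fun n _ => ?_
  simp only [ruRk, norm_gI_mul, Zsqrtd.norm_neg]
  ring

/-- The permutation of the lattice given by a map squaring to minus the identity. -/
def liftPerm (f : RuVec → RuVec) (hmem : ∀ {v}, v ∈ ruLattice → f v ∈ ruLattice)
    (hsq : ∀ v, f (f v) = -v) (hneg : ∀ v, f (-v) = -f v) : Equiv.Perm ruLattice where
  toFun v := ⟨f v, hmem v.2⟩
  invFun v := ⟨-f v, neg_mem (hmem v.2)⟩
  left_inv v := Subtype.ext (by show -f (f v) = (v : RuVec); rw [hsq, neg_neg])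
  right_inv v := Subtype.ext (by show f (-f v) = (v : RuVec); rw [hneg, hsq, neg_neg])

theorem rj_neg (v : RuVec) : ruRj (-v) = -ruRj v :=
  map_neg (AddMonoidHom.mk' ruRj rj_add) v

theorem rk_neg (v : RuVec) : ruRk (-v) = -ruRk v :=
  map_neg (AddMonoidHom.mk' ruRk rk_add) v

theorem rj_smul (v : RuVec) : ruRj (gI • v) = gI • ruRj v := funext fun p => by
  obtain ⟨n, t⟩ := p
  fin_cases t <;> simp [ruRj, mul_left_comm]

theorem rk_smul (v : RuVec) : ruRk (gI • v) = gI • ruRk v := funext fun p => by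
  obtain ⟨n, t⟩ := p
  fin_cases t <;> simp [ruRk, mul_left_comm]

/-- Right multiplication by `j`. -/
def permJ : Equiv.Perm ruLattice := liftPerm ruRj rj_mem rj_rj rj_neg

/-- Right multiplication by `k`. -/
def permK : Equiv.Perm ruLattice := liftPerm ruRk rk_mem rk_rk rk_neg

theorem permJ_mem : permJ ∈ fourRu :=
  ⟨fun v w => Subtype.ext (rj_add v w), fun v => Subtype.ext (rj_smul v), fun v => norm_rj v⟩

theorem permK_mem : permK ∈ fourRu :=
  ⟨fun v w => Subtype.ext (rk_add v w), fun v => Subtype.ext (rk_smul v), fun v => norm_rk v⟩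

/-- The commutator of the two quaternion units. -/
def negOne : fourRu := ⁅(⟨permJ, permJ_mem⟩ : fourRu), (⟨permK, permK_mem⟩ : fourRu)⁆

theorem negOne_apply (v : ruLattice) : (negOne : Equiv.Perm ruLattice) v = -v := by
  refine Subtype.ext ?_
  show ruRj (ruRk (-ruRj (-ruRk (v : RuVec)))) = -(v : RuVec)
  rw [rj_neg, neg_neg, rj_rk (ruRj (ruRk (v : RuVec))), rj_rj, rk_neg, rk_rk]
  simp

theorem negOne_mem_center : negOne ∈ Subgroup.center fourRu := by
  rw [Subgroup.mem_center_iff]
  intro g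
  refine Subtype.ext (Equiv.ext fun v => ?_)
  show (g : Equiv.Perm ruLattice) ((negOne : Equiv.Perm ruLattice) v) =
    (negOne : Equiv.Perm ruLattice) ((g : Equiv.Perm ruLattice) v)
  rw [negOne_apply, negOne_apply]
  exact map_neg (AddMonoidHom.mk' (fun x => (g : Equiv.Perm ruLattice) x) g.2.1) v

theorem negOne_ne_one : negOne ≠ 1 := by
  intro h
  have hv : ruTable.getD 0 0 ∈ ruLattice := by
    rw [ruLattice, AddSubgroup.mem_sInf]
    intro L hL
    refine hL.1 _ ?_
    rw [List.getD_eq_getElem _ _ (by decide)]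
    exact List.getElem_mem _
  have h1 := negOne_apply ⟨_, hv⟩
  rw [h] at h1
  have h2 := congrArg (fun v : ruLattice => (v : RuVec) (0, 0)) h1
  exact absurd h2 (show (ruTable.getD 0 0) (0, 0) ≠ -((ruTable.getD 0 0) (0, 0)) by decide +kernel)

theorem negOne_mem_commutator : negOne ∈ commutator fourRu := by
  rw [commutator_def]
  exact Subgroup.commutator_mem_commutator (Subgroup.mem_top _) (Subgroup.mem_top _)

/-- The central extension `fourRu` of any group isomorphic to `Ru`. -/
theorem exists_ext {G : Type} [Group G] (e : Ru ≃* G) :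
    ∃ (φ : fourRu →* G) (z : fourRu), Function.Surjective φ ∧ φ.ker ≤ Subgroup.center fourRu ∧
      z ∈ φ.ker ∧ z ∈ commutator fourRu ∧ z ≠ 1 := by
  have hk : (e.toMonoidHom.comp (QuotientGroup.mk' (Subgroup.center fourRu))).ker =
      Subgroup.center fourRu :=
    (MonoidHom.ker_mulEquiv_comp _ e).trans (QuotientGroup.ker_mk' _)
  exact ⟨_, negOne, e.surjective.comp (QuotientGroup.mk'_surjective _), hk.le,
    hk.ge negOne_mem_center, negOne_mem_commutator, negOne_ne_one⟩

/-- The multiplier of the Rudvalis group from an isomorphism with a group of that multiplier. -/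
theorem multiplier_of {G : Type} [Group G] (e : Ru ≃* G)
    (h : ∀ (φ : fourRu →* G) (z : fourRu), Function.Surjective φ → φ.ker ≤ Subgroup.center fourRu →
      z ∈ φ.ker → z ∈ commutator fourRu → z ≠ 1 → HasCyclicSchurMultiplier G 2) :
    HasCyclicSchurMultiplier Ru 2 := by
  obtain ⟨φ, z, h1, h2, h3, h4, h5⟩ := exists_ext e
  exact L34Multiplier.hasSchurMultiplier_of_equiv e.symm (h φ z h1 h2 h3 h4 h5)

/-- The same for a subgroup of some group. -/
theorem multiplier_of_subgroup {M : Type} [Group M] (H : Subgroup M) (e : Ru ≃* H)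
    (h : ∀ {Γ : Type} [Group Γ] [Finite Γ] (φ : Γ →* H), Function.Surjective φ →
      φ.ker ≤ Subgroup.center Γ → ∀ {z : Γ}, z ∈ φ.ker → z ∈ commutator Γ → z ≠ 1 →
      HasCyclicSchurMultiplier H 2)
    [Finite fourRu] : HasCyclicSchurMultiplier Ru 2 :=
  multiplier_of (G := H) e fun φ _ h1 h2 h3 h4 h5 => h φ h1 h2 h3 h4 h5

end CfsgLib.Schur.MultiplierRuModel
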