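import Cfsg.Agent.Lib.Schur.MultiplierRuData
import Cfsg.Agent.Lib.Schur.PcPieces

/-! The equations of the certificate at two for the Rudvalis group, in pieces. -/

set_option autoImplicit false
set_option maxRecDepth 20000
set_option Elab.async false

namespace CfsgLib.Schur.MultiplierRu

open CfsgLib.Schur

theorem eqPiece0 : (List.range' 0 3).all (PcPieces.eqAt twoCert twoRules twoFuel) = true := by decide +kernel

theorem eqPiece1 : (List.range' 3 3).all (PcPieces.eqAt twoCert twoRules twoFuel) = true := by decide +kernel

theorem eqPiece2 : (List.range' 6 3).all (PcPieces.eqAt twoCert twoRules twoFuel) = true := by decide +kernel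

theorem eqPiece3 : (List.range' 9 3).all (PcPieces.eqAt twoCert twoRules twoFuel) = true := by decide +kernel

theorem eqPiece4 : (List.range' 12 3).all (PcPieces.eqAt twoCert twoRules twoFuel) = true := by decide +kernel

theorem eqPiece5 : (List.range' 15 3).all (PcPieces.eqAt twoCert twoRules twoFuel) = true := by decide +kernel

theorem eqPiece6 : (List.range' 18 3).all (PcPieces.eqAt twoCert twoRules twoFuel) = true := by decide +kernel

theorem eqPiece7 : (List.range' 21 3).all (PcPieces.eqAt twoCert twoRules twoFuel) = true := by decide +kernel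

theorem eqPiece8 : (List.range' 24 3).all (PcPieces.eqAt twoCert twoRules twoFuel) = true := by decide +kernel

theorem eqPiece9 : (List.range' 27 3).all (PcPieces.eqAt twoCert twoRules twoFuel) = true := by decide +kernel

theorem eqPiece10 : (List.range' 30 3).all (PcPieces.eqAt twoCert twoRules twoFuel) = true := by decide +kernel

theorem eqPiece11 : (List.range' 33 3).all (PcPieces.eqAt twoCert twoRules twoFuel) = true := by decide +kernel

theorem eqPiece12 : (List.range' 36 3).all (PcPieces.eqAt twoCert twoRules twoFuel) = true := by decide +kernel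

theorem eqPiece13 : (List.range' 39 3).all (PcPieces.eqAt twoCert twoRules twoFuel) = true := by decide +kernel

theorem eqPiece14 : (List.range' 42 3).all (PcPieces.eqAt twoCert twoRules twoFuel) = true := by decide +kernel

theorem eqPiece15 : (List.range' 45 3).all (PcPieces.eqAt twoCert twoRules twoFuel) = true := by decide +kernel

theorem eqPiece16 : (List.range' 48 3).all (PcPieces.eqAt twoCert twoRules twoFuel) = true := by decide +kernel

theorem eqPiece17 : (List.range' 51 3).all (PcPieces.eqAt twoCert twoRules twoFuel) = true := by decide +kernel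

theorem eqPiece18 : (List.range' 54 3).all (PcPieces.eqAt twoCert twoRules twoFuel) = true := by decide +kernel

theorem eqPiece19 : (List.range' 57 3).all (PcPieces.eqAt twoCert twoRules twoFuel) = true := by decide +kernel

theorem eqPiece20 : (List.range' 60 3).all (PcPieces.eqAt twoCert twoRules twoFuel) = true := by decide +kernel

theorem eqPiece21 : (List.range' 63 3).all (PcPieces.eqAt twoCert twoRules twoFuel) = true := by decide +kernel

theorem eqPiece22 : (List.range' 66 3).all (PcPieces.eqAt twoCert twoRules twoFuel) = true := by decide +kernel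

theorem eqPiece23 : (List.range' 69 3).all (PcPieces.eqAt twoCert twoRules twoFuel) = true := by decide +kernel

theorem eqPiece24 : (List.range' 72 3).all (PcPieces.eqAt twoCert twoRules twoFuel) = true := by decide +kernel

theorem eqPiece25 : (List.range' 75 3).all (PcPieces.eqAt twoCert twoRules twoFuel) = true := by decide +kernel

theorem eqPiece26 : (List.range' 78 3).all (PcPieces.eqAt twoCert twoRules twoFuel) = true := by decide +kernel

theorem eqPiece27 : (List.range' 81 3).all (PcPieces.eqAt twoCert twoRules twoFuel) = true := by decide +kernel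

theorem eqPiece28 : (List.range' 84 3).all (PcPieces.eqAt twoCert twoRules twoFuel) = true := by decide +kernel

theorem eqPiece29 : (List.range' 87 3).all (PcPieces.eqAt twoCert twoRules twoFuel) = true := by decide +kernel

theorem eqPiece30 : (List.range' 90 3).all (PcPieces.eqAt twoCert twoRules twoFuel) = true := by decide +kernel

theorem eqPiece31 : (List.range' 93 3).all (PcPieces.eqAt twoCert twoRules twoFuel) = true := by decide +kernel

theorem eqPiece32 : (List.range' 96 3).all (PcPieces.eqAt twoCert twoRules twoFuel) = true := by decide +kernel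

theorem eqPiece33 : (List.range' 99 1).all (PcPieces.eqAt twoCert twoRules twoFuel) = true := by decide +kernel

theorem two_eqns : twoCert.eqnsOK twoRules twoFuel = true :=
  PcPieces.eqnsOK_of (N := 100) (by decide +kernel)
    (PcPieces.all_add 99 100 (PcPieces.all_add 96 99 (PcPieces.all_add 93 96 (PcPieces.all_add 90 93 (PcPieces.all_add 87 90 (PcPieces.all_add 84 87 (PcPieces.all_add 81 84 (PcPieces.all_add 78 81 (PcPieces.all_add 75 78 (PcPieces.all_add 72 75 (PcPieces.all_add 69 72 (PcPieces.all_add 66 69 (PcPieces.all_add 63 66 (PcPieces.all_add 60 63 (PcPieces.all_add 57 60 (PcPieces.all_add 54 57 (PcPieces.all_add 51 54 (PcPieces.all_add 48 51 (PcPieces.all_add 45 48 (PcPieces.all_add 42 45 (PcPieces.all_add 39 42 (PcPieces.all_add 36 39 (PcPieces.all_add 33 36 (PcPieces.all_add 30 33 (PcPieces.all_add 27 30 (PcPieces.all_add 24 27 (PcPieces.all_add 21 24 (PcPieces.all_add 18 21 (PcPieces.all_add 15 18 (PcPieces.all_add 12 15 (PcPieces.all_add 9 12 (PcPieces.all_add 6 9 (PcPieces.all_add 3 6 eqPiece0 eqPiece1 rfl rfl) eqPiece2 rfl rfl) eqPiece3 rfl rfl)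 eqPiece4 rfl rfl) eqPiece5 rfl rfl) eqPiece6 rfl rfl) eqPiece7 rfl rfl) eqPiece8 rfl rfl) eqPiece9 rfl rfl) eqPiece10 rfl rfl) eqPiece11 rfl rfl) eqPiece12 rfl rfl) eqPiece13 rfl rfl) eqPiece14 rfl rfl) eqPiece15 rfl rfl) eqPiece16 rfl rfl) eqPiece17 rfl rfl) eqPiece18 rfl rfl) eqPiece19 rfl rfl) eqPiece20 rfl rfl) eqPiece21 rfl rfl) eqPiece22 rfl rfl) eqPiece23 rfl rfl) eqPiece24 rfl rfl) eqPiece25 rfl rfl) eqPiece26 rfl rfl) eqPiece27 rfl rfl) eqPiece28 rfl rfl) eqPiece29 rfl rfl) eqPiece30 rfl rfl) eqPiece31 rfl rfl) eqPiece32 rfl rfl) eqPiece33 rfl rfl)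

end CfsgLib.Schur.MultiplierRu
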