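import Cfsg.Agent.Lib.Schur.MultiplierRuData
import Mathlib.Tactic.IntervalCases
import Cfsg.Agent.Lib.Schur.PcPieces

/-! The relations of the certificate at two for the Rudvalis group, in pieces. -/

set_option autoImplicit false
set_option maxRecDepth 20000
set_option Elab.async false

namespace CfsgLib.Schur.MultiplierRu

open CfsgLib.Schur

theorem pwPiece0 : (List.range' 0 1).all (PcPieces.pwAt twoCert twoRules) = true := by decide +kernel

theorem pwPiece1 : (List.range' 1 1).all (PcPieces.pwAt twoCert twoRules) = true := by decide +kernel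

theorem pwPiece2 : (List.range' 2 1).all (PcPieces.pwAt twoCert twoRules) = true := by decide +kernel

theorem pwPiece3 : (List.range' 3 1).all (PcPieces.pwAt twoCert twoRules) = true := by decide +kernel

theorem pwPiece4 : (List.range' 4 1).all (PcPieces.pwAt twoCert twoRules) = true := by decide +kernel

theorem pwPiece5 : (List.range' 5 1).all (PcPieces.pwAt twoCert twoRules) = true := by decide +kernel

theorem pwPiece6 : (List.range' 6 1).all (PcPieces.pwAt twoCert twoRules) = true := by decide +kernel

theorem pwPiece7 : (List.range' 7 1).all (PcPieces.pwAt twoCert twoRules) = true := by decide +kernel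

theorem pwPiece8 : (List.range' 8 1).all (PcPieces.pwAt twoCert twoRules) = true := by decide +kernel

theorem pwPiece9 : (List.range' 9 1).all (PcPieces.pwAt twoCert twoRules) = true := by decide +kernel

theorem pwPiece10 : (List.range' 10 1).all (PcPieces.pwAt twoCert twoRules) = true := by decide +kernel

theorem pwPiece11 : (List.range' 11 1).all (PcPieces.pwAt twoCert twoRules) = true := by decide +kernel

theorem pwPiece12 : (List.range' 12 1).all (PcPieces.pwAt twoCert twoRules) = true := by decide +kernel

theorem pwPiece13 : (List.range' 13 1).all (PcPieces.pwAt twoCert twoRules) = true := by decide +kernel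

theorem cm1Piece0 : (List.range' 0 1).all (PcPieces.cmAt twoCert twoRules 1) = true := by decide +kernel

theorem cm2Piece0 : (List.range' 0 2).all (PcPieces.cmAt twoCert twoRules 2) = true := by decide +kernel

theorem cm3Piece0 : (List.range' 0 3).all (PcPieces.cmAt twoCert twoRules 3) = true := by decide +kernel

theorem cm4Piece0 : (List.range' 0 3).all (PcPieces.cmAt twoCert twoRules 4) = true := by decide +kernel

theorem cm4Piece1 : (List.range' 3 1).all (PcPieces.cmAt twoCert twoRules 4) = true := by decide +kernel

theorem cm5Piece0 : (List.range' 0 3).all (PcPieces.cmAt twoCert twoRules 5) = true := by decide +kernel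

theorem cm5Piece1 : (List.range' 3 2).all (PcPieces.cmAt twoCert twoRules 5) = true := by decide +kernel

theorem cm6Piece0 : (List.range' 0 3).all (PcPieces.cmAt twoCert twoRules 6) = true := by decide +kernel

theorem cm6Piece1 : (List.range' 3 3).all (PcPieces.cmAt twoCert twoRules 6) = true := by decide +kernel

theorem cm7Piece0 : (List.range' 0 3).all (PcPieces.cmAt twoCert twoRules 7) = true := by decide +kernel

theorem cm7Piece1 : (List.range' 3 3).all (PcPieces.cmAt twoCert twoRules 7) = true := by decide +kernel

theorem cm7Piece2 : (List.range' 6 1).all (PcPieces.cmAt twoCert twoRules 7) = true := by decide +kernel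

theorem cm8Piece0 : (List.range' 0 3).all (PcPieces.cmAt twoCert twoRules 8) = true := by decide +kernel

theorem cm8Piece1 : (List.range' 3 3).all (PcPieces.cmAt twoCert twoRules 8) = true := by decide +kernel

theorem cm8Piece2 : (List.range' 6 2).all (PcPieces.cmAt twoCert twoRules 8) = true := by decide +kernel

theorem cm9Piece0 : (List.range' 0 3).all (PcPieces.cmAt twoCert twoRules 9) = true := by decide +kernel

theorem cm9Piece1 : (List.range' 3 3).all (PcPieces.cmAt twoCert twoRules 9) = true := by decide +kernel

theorem cm9Piece2 : (List.range' 6 3).all (PcPieces.cmAt twoCert twoRules 9) = true := by decide +kernel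

theorem cm10Piece0 : (List.range' 0 3).all (PcPieces.cmAt twoCert twoRules 10) = true := by decide +kernel

theorem cm10Piece1 : (List.range' 3 3).all (PcPieces.cmAt twoCert twoRules 10) = true := by decide +kernel

theorem cm10Piece2 : (List.range' 6 3).all (PcPieces.cmAt twoCert twoRules 10) = true := by decide +kernel

theorem cm10Piece3 : (List.range' 9 1).all (PcPieces.cmAt twoCert twoRules 10) = true := by decide +kernel

theorem cm11Piece0 : (List.range' 0 3).all (PcPieces.cmAt twoCert twoRules 11) = true := by decide +kernel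

theorem cm11Piece1 : (List.range' 3 3).all (PcPieces.cmAt twoCert twoRules 11) = true := by decide +kernel

theorem cm11Piece2 : (List.range' 6 3).all (PcPieces.cmAt twoCert twoRules 11) = true := by decide +kernel

theorem cm11Piece3 : (List.range' 9 2).all (PcPieces.cmAt twoCert twoRules 11) = true := by decide +kernel

theorem cm12Piece0 : (List.range' 0 3).all (PcPieces.cmAt twoCert twoRules 12) = true := by decide +kernel

theorem cm12Piece1 : (List.range' 3 3).all (PcPieces.cmAt twoCert twoRules 12) = true := by decide +kernel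

theorem cm12Piece2 : (List.range' 6 3).all (PcPieces.cmAt twoCert twoRules 12) = true := by decide +kernel

theorem cm12Piece3 : (List.range' 9 3).all (PcPieces.cmAt twoCert twoRules 12) = true := by decide +kernel

theorem cm13Piece0 : (List.range' 0 3).all (PcPieces.cmAt twoCert twoRules 13) = true := by decide +kernel

theorem cm13Piece1 : (List.range' 3 3).all (PcPieces.cmAt twoCert twoRules 13) = true := by decide +kernel

theorem cm13Piece2 : (List.range' 6 3).all (PcPieces.cmAt twoCert twoRules 13) = true := by decide +kernel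

theorem cm13Piece3 : (List.range' 9 3).all (PcPieces.cmAt twoCert twoRules 13) = true := by decide +kernel

theorem cm13Piece4 : (List.range' 12 1).all (PcPieces.cmAt twoCert twoRules 13) = true := by decide +kernel

theorem cm_all : ∀ j < 14, (List.range' 0 j).all (PcPieces.cmAt twoCert twoRules j) = true := by
  intro j hj
  interval_cases j
  · rfl
  · exact cm1Piece0
  · exact cm2Piece0
  · exact cm3Piece0
  · exact (PcPieces.all_add 3 4 cm4Piece0 cm4Piece1 rfl rfl)
  · exact (PcPieces.all_add 3 5 cm5Piece0 cm5Piece1 rfl rfl)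
  · exact (PcPieces.all_add 3 6 cm6Piece0 cm6Piece1 rfl rfl)
  · exact (PcPieces.all_add 6 7 (PcPieces.all_add 3 6 cm7Piece0 cm7Piece1 rfl rfl) cm7Piece2 rfl rfl)
  · exact (PcPieces.all_add 6 8 (PcPieces.all_add 3 6 cm8Piece0 cm8Piece1 rfl rfl) cm8Piece2 rfl rfl)
  · exact (PcPieces.all_add 6 9 (PcPieces.all_add 3 6 cm9Piece0 cm9Piece1 rfl rfl) cm9Piece2 rfl rfl)
  · exact (PcPieces.all_add 9 10 (PcPieces.all_add 6 9 (PcPieces.all_add 3 6 cm10Piece0 cm10Piece1 rfl rfl) cm10Piece2 rfl rfl) cm10Piece3 rfl rfl)
  · exact (PcPieces.all_add 9 11 (PcPieces.all_add 6 9 (PcPieces.all_add 3 6 cm11Piece0 cm11Piece1 rfl rfl) cm11Piece2 rfl rfl) cm11Piece3 rfl rfl)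
  · exact (PcPieces.all_add 9 12 (PcPieces.all_add 6 9 (PcPieces.all_add 3 6 cm12Piece0 cm12Piece1 rfl rfl) cm12Piece2 rfl rfl) cm12Piece3 rfl rfl)
  · exact (PcPieces.all_add 12 13 (PcPieces.all_add 9 12 (PcPieces.all_add 6 9 (PcPieces.all_add 3 6 cm13Piece0 cm13Piece1 rfl rfl) cm13Piece2 rfl rfl) cm13Piece3 rfl rfl) cm13Piece4 rfl rfl)

theorem two_solve : twoCert.solveOK twoRules = true :=
  PcPieces.solveOK_of (N := 14) (by decide +kernel) (by decide +kernel)
    (PcPieces.all_add 13 14 (PcPieces.all_add 12 13 (PcPieces.all_add 11 12 (PcPieces.all_add 10 11 (PcPieces.all_add 9 10 (PcPieces.all_add 8 9 (PcPieces.all_add 7 8 (PcPieces.all_add 6 7 (PcPieces.all_add 5 6 (PcPieces.all_add 4 5 (PcPieces.all_add 3 4 (PcPieces.all_add 2 3 (PcPieces.all_add 1 2 pwPiece0 pwPiece1 rfl rfl) pwPiece2 rfl rfl) pwPiece3 rfl rfl) pwPiece4 rfl rfl) pwPiece5 rfl rfl) pwPiece6 rfl rfl) pwPiece7 rfl rfl) pwPiece8 rfl rfl) pwPiece9 rfl rfl) pwPiece10 rfl rfl) pwPiece11 rfl rfl) pwPiece12 rfl rfl) pwPiece13 rfl rfl)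
    cm_all

end CfsgLib.Schur.MultiplierRu
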