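import Cfsg.Agent.Lib.Schur.MultiplierRuData
import Cfsg.Agent.Lib.Schur.MultiplierRuElems
import Cfsg.Agent.Lib.Schur.MultiplierRuTwoEqns
import Cfsg.Agent.Lib.Schur.MultiplierRuTwoSolve
import Cfsg.Agent.Lib.Schur.PcAssemble
import Cfsg.Agent.Lib.Schur.CriteriaElements
import Cfsg.Agent.Lib.Sporadic.Ru.Chain

/-!
Stem extensions of the Rudvalis group (as a group of 28-dimensional matrices over two elements)
have kernel of order at most two.
-/

set_option autoImplicit false
set_option maxRecDepth 20000
-- one certificate at a time keeps the memory low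
set_option Elab.async false

noncomputable section

namespace CfsgLib.Schur.MultiplierRu

open CfsgLib.Sporadic CfsgLib.Sporadic.Ru CfsgLib.Schur

/-- The group. -/
abbrev RuMat : Subgroup GL28 := grp g0Gens

/-- Product of codes. -/
def mul28 (a b : ℕ) : ℕ := mulF2 28 a b

/-- The code of the identity. -/
def one28 : ℕ := oneF2 28

/-- The transversal tables. -/
def lower : List (ℕ × Tr) := [(4060, g0T), (2304, g1T), (975, g2T), (16, g3T)]

/-- A code of an element. -/
def Rep (a : ℕ) (x : RuMat) : Prop := canonF2 28 a = true ∧ emb x.1 = dec a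

theorem canon_mul (a b : ℕ) : canonF2 28 (mul28 a b) = true := by
  rw [canonF2, Nat.blt_eq]
  have h : ∀ m ≤ 28, xorUpto (fun k => ((a >>> k) &&& colMask 28 28) * ((b >>> (28 * k)) % 2 ^ 28)) m
      < 2 ^ (28 * 28) := by
    intro m
    induction m with
    | zero => intro _; exact Nat.two_pow_pos _
    | succ m ih =>
      intro hm
      refine Nat.xor_lt_two_pow (ih (by omega)) ?_
      have h1 : (a >>> m) &&& colMask 28 28 ≤ colMask 28 28 := Nat.and_le_right
      have h2 : (b >>> (28 * m)) % 2 ^ 28 ≤ 2 ^ 28 - 1 :=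
        Nat.le_sub_one_of_lt (Nat.mod_lt _ (Nat.two_pow_pos _))
      refine Nat.lt_of_le_of_lt (Nat.mul_le_mul h1 h2) ?_
      decide +kernel
  exact h 28 le_rfl

theorem rep_one : Rep one28 1 := by
  refine ⟨by decide +kernel, ?_⟩
  rw [Subgroup.coe_one, map_one, one28, dec, decF2_oneF2]

theorem rep_mul {a b : ℕ} {x y : RuMat} (hx : Rep a x) (hy : Rep b y) : Rep (mul28 a b) (x * y) :=
  ⟨canon_mul a b, by rw [Subgroup.coe_mul, map_mul, hx.2, hy.2]; exact (dec_mul a b).symm⟩

theorem rep_uniq {a : ℕ} {x y : RuMat} (hx : Rep a x) (hy : Rep a y) : x = y :=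
  Subtype.ext (emb_injective (hx.2.trans hy.2.symm))

theorem rep_code {a b : ℕ} {x : RuMat} (hx : Rep a x) (hy : Rep b x) : a = b :=
  decF2_injOn hx.1 hy.1 (hx.2.symm.trans hy.2)

/-- A fingerprint of a code: three columns. -/
def fp (c : ℕ) : ℕ := img 0 c ||| img 1 c <<< 28 ||| img 2 c <<< 56

/-- The list is strictly increasing and lies above `a`. -/
def incFrom : ℕ → List ℕ → Bool
  | _, [] => true
  | a, b :: l => Nat.blt a b && incFrom b l

theorem pairwise_of_incFrom : ∀ {a : ℕ} {l : List ℕ}, incFrom a l = true → (a :: l).Pairwise (· < ·)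
  | _, [], _ => List.pairwise_singleton _ _
  | a, b :: l, h => by
    simp only [incFrom, Bool.and_eq_true, Nat.blt_eq] at h
    have ih := pairwise_of_incFrom h.2
    refine List.pairwise_cons.2 ⟨fun x hx => ?_, ih⟩
    rcases List.mem_cons.1 hx with rfl | hx
    · exact h.1
    · exact h.1.trans ((List.pairwise_cons.1 ih).1 x hx)

/-- The list is tabulated by the tree, and its entries in the given order increase. -/
def treeSorted (l : List ℕ) (T : Tr) (N : ℕ) (idx : List ℕ) : Bool :=
  l == (List.range N).map T.get && idx.length == N && idx.all (fun i => Nat.blt i N) &&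
    incFrom 0 (idx.map T.get)

theorem of_treeSorted {l : List ℕ} {T : Tr} {N : ℕ} {idx : List ℕ}
    (h : treeSorted l T N idx = true) : l.Nodup ∧ l.length = N := by
  simp only [treeSorted, Bool.and_eq_true, beq_iff_eq, List.all_eq_true, Nat.blt_eq] at h
  obtain ⟨⟨⟨hl, hlen⟩, hlt⟩, hinc⟩ := h
  have hnd : (idx.map T.get).Nodup :=
    ((List.pairwise_cons.1 (pairwise_of_incFrom hinc)).2).imp fun h => Nat.ne_of_lt h
  have hsub : idx ⊆ List.range N := fun i hi => List.mem_range.2 (hlt i hi)
  have hperm := (List.subperm_of_subset (List.Nodup.of_map _ hnd) hsub).perm_of_length_le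
    (by rw [List.length_range, hlen])
  subst hl
  exact ⟨(hperm.map _).nodup_iff.1 hnd, by simp⟩

/-- Everything to check for a certificate. -/
def certOK (R : Pc.Rules) (C : Pc.Cert) (cs ks cw kw : List ℕ) (fuel : ℕ) (idx : List ℕ) (T : Tr) :
    Bool :=
  (cw.map (wordCode mul28 one28 lower) == cs) && (kw.map (wordCode mul28 one28 lower) == ks) &&
    cs.all (canonF2 28) && ks.all (canonF2 28) &&
    R.shapeOK && C.eqnsOK R fuel && C.solveOK R &&
    Pc.holdsOK mul28 one28 R C cs ks &&
    treeSorted ((Pc.pcElems mul28 one28 R.p R.n cs R.n).map fp) T (R.p ^ R.n) idx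

theorem exists_rep {cs cw : List ℕ} (h : cw.map (wordCode mul28 one28 lower) = cs)
    (hc : ∀ c ∈ cs, canonF2 28 c = true) (i : ℕ) : ∃ x, Rep (cs.getD i one28) x := by
  rcases Nat.lt_or_ge i cs.length with hi | hi
  · rw [List.getD_eq_getElem _ _ hi]
    obtain ⟨v, -, e⟩ := List.mem_map.1 (by rw [h]; exact List.getElem_mem hi :
      cs[i] ∈ cw.map (wordCode mul28 one28 lower))
    obtain ⟨g, hg, hge⟩ := wordCode_mem (emb := emb) (dec := dec) (mul := mul28) (one := one28)
      dec_mul (by rw [dec, one28, decF2_oneF2]) lower low0 v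
    exact ⟨⟨g, hg⟩, hc _ (List.getElem_mem hi), by rw [← e]; exact hge⟩
  · rw [List.getD_eq_default _ _ hi]
    exact ⟨1, rep_one⟩

/-- Each generator moves the head of its list out of the list, which the later ones preserve. -/
def sepOK (cs : List ℕ) (n : ℕ) (sep : List (List ℕ)) : Bool :=
  sep.all (fun O => O.all (canonF2 28)) &&
    (List.range n).all fun k =>
      (List.range n).all (fun i => Nat.ble i k ||
        (sep.getD k []).all fun w => (sep.getD k []).contains (mul28 (cs.getD i one28) w)) &&
      !(sep.getD k []).isEmpty &&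
      !(sep.getD k []).contains (mul28 (cs.getD k one28) ((sep.getD k []).headD 0))

theorem two_pow_le_card [Finite RuMat] {cs : List ℕ} {n : ℕ} {sep : List (List ℕ)}
    (h : sepOK cs n sep = true) {gs : ℕ → RuMat} (hgs : ∀ i, Rep (cs.getD i one28) (gs i)) :
    2 ^ n ≤ Nat.card (Subgroup.closure (gs '' Set.Iio n)) := by
  simp only [sepOK, Bool.and_eq_true, List.all_eq_true, List.mem_range, Bool.or_eq_true, Nat.ble_eq,
    Bool.not_eq_true', List.contains_iff_mem, List.isEmpty_eq_false_iff, ne_eq] at h
  obtain ⟨hcan, hk⟩ := h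
  have key : ∀ m k, k + m = n → 2 ^ m ≤ Nat.card (Subgroup.closure (gs '' Set.Ico k n)) := by
    intro m
    induction m with
    | zero => intro k _; exact Nat.card_pos
    | succ m ih =>
      intro k hkm
      have hkn : k < n := by omega
      obtain ⟨⟨hclosed, hne⟩, hout⟩ := hk k hkn
      have hout' : mul28 (cs.getD k one28) ((sep.getD k []).headD 0) ∉ sep.getD k [] := fun hm => by
        rw [← List.contains_iff_mem, hout] at hm
        exact Bool.false_ne_true hm
      set O := sep.getD k [] with hO
      let S : Submonoid RuMat :=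
        { carrier := {g | ∀ w ∈ O, ∃ w' ∈ O, emb g.1 * dec w = dec w'}
          one_mem' := fun w hw => ⟨w, hw, by rw [Subgroup.coe_one, map_one, one_mul]⟩
          mul_mem' := fun {a b} ha hb w hw => by
            obtain ⟨w1, hw1, e1⟩ := hb w hw
            obtain ⟨w2, hw2, e2⟩ := ha w1 hw1
            exact ⟨w2, hw2, by rw [Subgroup.coe_mul, map_mul, mul_assoc, e1, e2]⟩ }
      have hgen : ∀ i, k < i → i < n → gs i ∈ S := fun i hki hin w hw => by
        refine ⟨_, ?_, by rw [(hgs i).2]; exact (dec_mul (cs.getD i one28) w).symm⟩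
        exact (hclosed i hin).resolve_left (by omega) w hw
      have hle : ∀ g ∈ Subgroup.closure (gs '' Set.Ico (k + 1) n), g ∈ S := by
        intro g hg
        induction hg using Subgroup.closure_induction with
        | mem y hy =>
          obtain ⟨i, ⟨h1, h2⟩, rfl⟩ := hy
          exact hgen i (by omega) h2
        | one => exact one_mem _
        | mul a b _ _ ha hb => exact mul_mem ha hb
        | inv a _ ha =>
          have e : a⁻¹ = a ^ (orderOf a - 1) := by
            refine inv_eq_of_mul_eq_one_right ?_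
            rw [← pow_succ', Nat.sub_add_cancel (orderOf_pos a), pow_orderOf_eq_one]
          rw [e]
          exact pow_mem ha _
      have hOne : O ≠ [] := hne
      have hhead : O.headD 0 ∈ O := by
        cases hO' : O with
        | nil => exact absurd hO' hOne
        | cons a l => simp
      have hnot : gs k ∉ Subgroup.closure (gs '' Set.Ico (k + 1) n) := fun hg => by
        obtain ⟨w', hw', e⟩ := hle _ hg _ hhead
        rw [(hgs k).2, ← dec_mul (cs.getD k one28) (O.headD 0)] at e
        have hsep : O ∈ sep := by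
          rcases Nat.lt_or_ge k sep.length with hl | hl
          · rw [hO, List.getD_eq_getElem _ _ hl]; exact List.getElem_mem hl
          · exact absurd (by rw [hO, List.getD_eq_default _ _ hl]) hOne
        have hcw : canonF2 28 w' = true := hcan O hsep w' hw'
        exact hout' (decF2_injOn (canon_mul _ _) hcw e ▸ hw')
      have hlt : Subgroup.closure (gs '' Set.Ico (k + 1) n) ≤ Subgroup.closure (gs '' Set.Ico k n) :=
        Subgroup.closure_mono (Set.image_mono (Set.Ico_subset_Ico_left (Nat.le_succ k)))
      have hdvd := Subgroup.card_dvd_of_le hlt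
      have hne2 : Nat.card (Subgroup.closure (gs '' Set.Ico (k + 1) n)) ≠
          Nat.card (Subgroup.closure (gs '' Set.Ico k n)) := fun e => hnot (by
        rw [Subgroup.eq_of_le_of_card_ge hlt e.ge]
        exact Subgroup.subset_closure ⟨k, ⟨le_rfl, hkn⟩, rfl⟩)
      obtain ⟨c, hc⟩ := hdvd
      have hpos : 0 < Nat.card (Subgroup.closure (gs '' Set.Ico k n)) := Nat.card_pos
      have h2 : 2 ≤ c := by
        rcases Nat.lt_or_ge c 2 with h | h
        · interval_cases c <;> omega
        · exact h
      have := ih (k + 1) (by omega)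
      rw [hc, pow_succ]
      exact Nat.mul_le_mul this h2
  have := key n 0 (Nat.zero_add n)
  rwa [show Set.Ico 0 n = Set.Iio n by ext; simp] at this

theorem spanAt_of_certOK {p : ℕ} [Fact p.Prime] {R : Pc.Rules} {C : Pc.Cert}
    {cs ks cw kw : List ℕ} {fuel : ℕ} {idx : List ℕ} {T : Tr}
    (hok : certOK R C cs ks cw kw fuel idx T = true) (hRp : R.p = p) {d : ℕ} (hd : ¬ p ∣ d)
    (hord : 145926144000 = p ^ R.n * d) {ords : List ℕ} (hlen : C.us.length = ords.length)
    (hords : C.ords = ords) : Pc.SpanAt p RuMat ords := by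
  simp only [certOK, Bool.and_eq_true, beq_iff_eq, List.all_eq_true] at hok
  obtain ⟨⟨⟨⟨⟨⟨⟨⟨hcs, hks⟩, hc⟩, hk⟩, hshape⟩, heqs⟩, hsolve⟩, hholds⟩, hsort⟩ := hok
  choose gs hgs using exists_rep hcs hc
  choose cg hcg using exists_rep hks hk
  have : Finite RuMat := Nat.finite_of_card_ne_zero (by rw [card_grp_g0]; norm_num)
  have hH := Pc.holds_of_check Rep rep_one rep_mul rep_uniq hgs hcg hholds
  have hle := Pc.le_card_of_elems Rep rep_one rep_mul rep_code hgs R.p R.n
    (List.Nodup.of_map _ (of_treeSorted hsort).1)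
  have hl2 : R.p ^ R.n ≤ (Pc.pcElems mul28 one28 R.p R.n cs R.n).length := by
    have := (of_treeSorted hsort).2
    rw [List.length_map] at this
    omega
  exact Pc.spanAt_of_cert hH hshape heqs hsolve hRp (hRp ▸ hl2.trans hle) hd
    (by rw [card_grp_g0]; exact hord) hlen hords

theorem five_ok :
    certOK fiveRules fiveCert fiveGens fiveConj fiveWords fiveConjWords fiveFuel fiveIdx fiveElems = true := by
  decide +kernel

theorem three_ok :
    certOK threeRules threeCert threeGens threeConj threeWords threeConjWords threeFuel threeIdx threeElems =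
      true := by
  decide +kernel

theorem two_pre : (twoWords.map (wordCode mul28 one28 lower) == twoGens &&
    twoConjWords.map (wordCode mul28 one28 lower) == twoConj &&
    twoGens.all (canonF2 28) && twoConj.all (canonF2 28)) = true := by
  decide +kernel

theorem two_shape : twoRules.shapeOK = true := by decide +kernel

theorem two_holds : Pc.holdsOK mul28 one28 twoRules twoCert twoGens twoConj = true := by
  decide +kernel

theorem two_sep : sepOK twoGens 14 twoSep = true := by decide +kernel

theorem span_two : Pc.SpanAt 2 RuMat [2] := by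
  have hok := two_pre
  simp only [Bool.and_eq_true, beq_iff_eq, List.all_eq_true] at hok
  obtain ⟨⟨⟨hcs, hks⟩, hc⟩, hk⟩ := hok
  choose gs hgs using exists_rep hcs hc
  choose cg hcg using exists_rep hks hk
  have : Finite RuMat := Nat.finite_of_card_ne_zero (by rw [card_grp_g0]; norm_num)
  have hH := Pc.holds_of_check Rep rep_one rep_mul rep_uniq hgs hcg two_holds
  exact Pc.spanAt_of_cert (p := 2) hH two_shape two_eqns two_solve rfl
    (two_pow_le_card (n := 14) two_sep hgs) (d := 8906625) (by norm_num)
    (by rw [card_grp_g0]; norm_num [twoRules]) rfl rfl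

theorem prime_factor_cases {q : ℕ} (hq : q.Prime) (h : q ∣ 145926144000) :
    q = 2 ∨ q = 3 ∨ q = 5 ∨ q = 7 ∨ q = 13 ∨ q = 29 := by
  rw [show (145926144000 : ℕ) = 2 ^ 14 * (3 ^ 3 * (5 ^ 3 * (7 * (13 * 29)))) by norm_num] at h
  have e : ∀ {r : ℕ}, r.Prime → q ∣ r → q = r := fun hr hd => (Nat.prime_dvd_prime_iff_eq hq hr).1 hd
  rcases hq.dvd_mul.1 h with h | h
  · exact Or.inl (e Nat.prime_two (hq.dvd_of_dvd_pow h))
  rcases hq.dvd_mul.1 h with h | h
  · exact Or.inr (Or.inl (e Nat.prime_three (hq.dvd_of_dvd_pow h)))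
  rcases hq.dvd_mul.1 h with h | h
  · exact Or.inr (Or.inr (Or.inl (e (by norm_num) (hq.dvd_of_dvd_pow h))))
  rcases hq.dvd_mul.1 h with h | h
  · exact Or.inr (Or.inr (Or.inr (Or.inl (e (by norm_num) h))))
  rcases hq.dvd_mul.1 h with h | h
  · exact Or.inr (Or.inr (Or.inr (Or.inr (Or.inl (e (by norm_num) h)))))
  · exact Or.inr (Or.inr (Or.inr (Or.inr (Or.inr (e (by norm_num) h)))))

theorem span_rest (p : ℕ) (hp : p.Prime) (h2 : p ≠ 2) : Pc.SpanAt p RuMat [] := by
  have : Fact p.Prime := ⟨hp⟩
  have : Finite RuMat := Nat.finite_of_card_ne_zero (by rw [card_grp_g0]; norm_num)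
  by_cases hd : p ∣ Nat.card RuMat
  · rw [card_grp_g0] at hd
    have hmem := prime_factor_cases hp hd
    have cyc : ∀ q m : ℕ, q.Prime → p = q → 145926144000 = q * m → ¬ q ∣ m → Pc.SpanAt p RuMat [] := by
      intro q m hq hpq he hm
      subst hpq
      obtain ⟨S⟩ := (inferInstance : Nonempty (Sylow p RuMat))
      refine Pc.spanAt_of_noMultiplierAt hp (noMultiplierAt_of_cyclic S (isCyclic_of_prime_card (p := p) ?_))
      rw [Sylow.card_eq_multiplicity, card_grp_g0, he,
        Nat.factorization_mul hq.ne_zero (fun h0 => hm (by rw [h0]; exact dvd_zero _)),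
        Finsupp.add_apply, hq.factorization_self, Nat.factorization_eq_zero_of_not_dvd hm,
        add_zero, pow_one]
    rcases hmem with rfl | rfl | rfl | rfl | rfl | rfl
    · exact absurd rfl h2
    · exact spanAt_of_certOK (p := 3) three_ok rfl (d := 5404672000) (by norm_num)
        (by norm_num [threeRules]) rfl rfl
    · exact spanAt_of_certOK (p := 5) five_ok rfl (d := 1167409152) (by norm_num)
        (by norm_num [fiveRules]) rfl rfl
    · exact cyc 7 20846592000 (by norm_num) rfl (by norm_num) (by norm_num)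
    · exact cyc 13 11225088000 (by norm_num) rfl (by norm_num) (by norm_num)
    · exact cyc 29 5031936000 (by norm_num) rfl (by norm_num) (by norm_num)
  · exact Pc.spanAt_of_noMultiplierAt hp (noMultiplierAt_of_not_dvd hd)

end CfsgLib.Schur.MultiplierRu

end
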