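import Cfsg.Agent.Lib.Schur.MultiplierSuzDataTwo
import Cfsg.Agent.Lib.Schur.MultiplierSuzDataThree
import Cfsg.Agent.Lib.Schur.MultiplierSuzDataFive
import Cfsg.Agent.Lib.Schur.PcAssemble

/-!
# The multiplier of the Suzuki sporadic group has order six
-/

set_option autoImplicit false

noncomputable section

namespace CfsgLib.Schur.MultiplierSuz

open Cfsg CfsgLib.Schur

theorem span_two : Pc.SpanAt 2 Spor.Suz [2] := by
  have : Fact (Nat.Prime 2) := ⟨Nat.prime_two⟩
  exact spanAt_suz (p := 2) two_prog two_lt two_gens.1 two_gens.2 two_ok rfl (d := 54729675) (by norm_num)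
    (by norm_num [twoRules]) rfl rfl

theorem span_three : Pc.SpanAt 3 Spor.Suz [3] := by
  have : Fact (Nat.Prime 3) := ⟨Nat.prime_three⟩
  exact spanAt_suz (p := 3) three_prog three_lt three_gens.1 three_gens.2 three_ok rfl (d := 205004800)
    (by norm_num) (by norm_num [threeRules]) rfl rfl

theorem span_five : Pc.SpanAt 5 Spor.Suz [] := by
  have : Fact (Nat.Prime 5) := ⟨by norm_num⟩
  exact spanAt_suz (p := 5) five_prog five_lt five_gens.1 five_gens.2 five_ok rfl (d := 17933819904)
    (by norm_num) (by norm_num [fiveRules]) rfl rfl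

theorem span_rest (p : ℕ) (hp : p.Prime) (h2 : p ≠ 2) (h3 : p ≠ 3) : Pc.SpanAt p Spor.Suz [] := by
  have : Fact p.Prime := ⟨hp⟩
  have := finite_Suz
  by_cases h5 : p = 5
  · subst h5; exact span_five
  refine Pc.spanAt_of_noMultiplierAt hp (noMultiplierAt_of_cyclic (default : Sylow p Spor.Suz) ?_)
  have hP := (default : Sylow p Spor.Suz).card_eq_multiplicity
  rw [natCard_Suz] at hP
  by_cases hd : p ∣ 448345497600
  · rw [show (448345497600 : ℕ) = 2 ^ 13 * 3 ^ 7 * 5 ^ 2 * (7 * 11 * 13) by norm_num] at hd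
    have hq : p = 7 ∨ p = 11 ∨ p = 13 := by
      rcases hp.dvd_mul.1 hd with hd | hd
      · rcases hp.dvd_mul.1 hd with hd | hd
        · rcases hp.dvd_mul.1 hd with hd | hd
          · exact absurd ((Nat.prime_dvd_prime_iff_eq hp Nat.prime_two).1 (hp.dvd_of_dvd_pow hd)) h2
          · exact absurd ((Nat.prime_dvd_prime_iff_eq hp Nat.prime_three).1 (hp.dvd_of_dvd_pow hd)) h3
        · exact absurd ((Nat.prime_dvd_prime_iff_eq hp (by norm_num)).1 (hp.dvd_of_dvd_pow hd)) h5
      · rcases hp.dvd_mul.1 hd with hd | hd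
        · rcases hp.dvd_mul.1 hd with hd | hd
          · exact Or.inl ((Nat.prime_dvd_prime_iff_eq hp (by norm_num)).1 hd)
          · exact Or.inr (Or.inl ((Nat.prime_dvd_prime_iff_eq hp (by norm_num)).1 hd))
        · exact Or.inr (Or.inr ((Nat.prime_dvd_prime_iff_eq hp (by norm_num)).1 hd))
    have hf : (448345497600 : ℕ).factorization p = 1 := by
      have hdvd : p ∣ 448345497600 := by rcases hq with rfl | rfl | rfl <;> norm_num
      have hnot : ¬ p ^ 2 ∣ 448345497600 := by rcases hq with rfl | rfl | rfl <;> norm_num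
      have h1 := hp.factorization_pos_of_dvd (show (448345497600 : ℕ) ≠ 0 by norm_num) hdvd
      rw [hp.pow_dvd_iff_le_factorization (by norm_num)] at hnot
      omega
    rw [hf, pow_one] at hP
    exact isCyclic_of_prime_card hP
  · rw [Nat.factorization_eq_zero_of_not_dvd hd, pow_zero] at hP
    have := (Nat.card_eq_one_iff_unique.mp hP).1
    exact isCyclic_of_subsingleton

theorem multiplier : Cfsg.HasCyclicSchurMultiplier Spor.Suz 6 := by
  have := finite_Suz
  exact Pc.hasCyclicSchurMultiplier_of_spans (a := 2) (b := 3) (pa := 2) (pb := 3) (by norm_num) (by norm_num)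
    span_two span_three span_rest exists_cover

end CfsgLib.Schur.MultiplierSuz
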