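import Mathlib

/-!
# Data for the order of the centraliser of an element of order three in `Co0`
-/

set_option autoImplicit false

namespace CfsgLib.Schur.MultiplierSuz

/-- Keys of twelve minimal vectors, each followed by its image under the element of order three. -/
def vKeys : List ℕ := [62062060636173731114942761100, 32349081804791324161675404934, 32351660846395682652475132070, 46917766335700719077739166073, 32390034166796224686067312774, 52122272584186730850697120392, 32351499730073975268556966534, 52160958173665589113410586730, 32390194729697593252041492102, 42257428449101557572307544712, 32392602544002203394589100134, 46879081299912976379258960281, 32354068660682278396517452422, 46879080709626173349193938811, 32351641401212578762695805062, 47536746392687033331788249499, 32351641401212578745515673734, 47536745763182884625751570811, 33009164783936935736075913350, 51541988153887228027522804392, 32390185912298041344925403270, 47498050692231260004584741273, 32351660841765982235538262182, 46879080711787866114810804601]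

/-- The orbit steps: the vector, the constraints and the count. -/
def vSteps : List (ℕ × List (ℕ × ℤ) × ℕ) := [
  (2, [(0, (-16)), (1, 8)], 2816),
  (4, [(0, (-16)), (1, 8), (2, 8), (3, 0)], 810),
  (6, [(0, (-16)), (1, 0), (2, 8), (3, 8), (4, 8), (5, 8)], 6),
  (8, [(0, (-16)), (1, 16), (2, 16), (3, (-8)), (4, 16), (5, (-16)), (6, 0), (7, (-8))], 1),
  (10, [(0, (-16)), (1, 8), (2, 0), (3, 8), (4, 16), (5, (-8)), (6, 8), (7, 0)], 1),
  (12, [(0, (-16)), (1, 0), (2, 8), (3, 8), (4, 0), (5, 8), (6, 16), (7, 0)], 1),
  (14, [(0, (-16)), (1, 0), (2, 8), (3, (-8)), (4, 0), (5, 0), (6, 8), (7, (-8))], 1),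
  (16, [(0, (-16)), (1, 0), (2, 8), (3, 8), (4, 0), (5, 0), (6, 16), (7, (-8))], 1),
  (18, [(0, (-16)), (1, 8), (2, 16), (3, (-16)), (4, 16), (5, (-16)), (6, 0), (7, (-8))], 1),
  (20, [(0, (-16)), (1, 8), (2, 16), (3, (-8)), (4, 8), (5, (-16)), (6, 0), (7, 0)], 1),
  (22, [(0, (-16)), (1, 8), (2, 16), (3, (-8)), (4, 0), (5, 0), (6, 8), (7, (-8)), (8, 8), (10, 0), (12, 16), (14, 8), (16, 8), (18, 8), (20, 8)], 1)]

/-- The vectors modulo three, as columns. -/
def vMat : ℕ := 0x800a0842808b42d100816a0e3f80ce4290cf2200c23426032290cb2808806081c000080800000028200300800a4c000340888a2280a02b90020c00882a80a083260ca200c000080f7fd5f2a8000028028a2a80a00001003c200008c0080ad1ac08200002850e0b0a0a2a80a22a808a0284802a0280b34408aa26001c000a00008832800080210a2890a208c80f55d5f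

/-- An inverse. -/
def vInv : ℕ := 0xc23122088944927a3a0811404204190084118480448a28387194d9e99cc21768b1c012001d84d022740100009a000494122020c05d00d78c9040520aad90d486b744b5c1860d30a42dccd552001a2d85c5424010880b40902b287374a165d0c78e6b2416632de8874e0000a50233228582ac08034010032065c08c2d005728636f02008042632b7140b90a2479c08640

/-- The vectors at even positions. -/
def vEven : ℕ := 0x40000140510001400415004440104500004014040100104100000040014000000000000000000100000044000140000000000001100004000000000001040400004000000555555000000000000000000000010014000000400000510400000000050401000000000000000000040000000011440000040014000000000010000000010000100000400555555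

/-- Their images, in the same columns. -/
def vImage : ℕ := 0x40050401404501400040150515404501404511004110110111404514044010404000040400000014100100400504000100444511405015400104004415405041110451004000040515405154000014014515405000000014100004400405405404100001400505050515405115404501404015014051000455110004000500004411400040100514405104440500405

end CfsgLib.Schur.MultiplierSuz
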