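import Cfsg.Agent.Lib.Schur.MultiplierSuzModel
import Cfsg.Agent.Lib.Schur.MultiplierSuzCentralizerData
import Cfsg.Agent.Lib.Golay.LeechOrbit.CertC
import Cfsg.Agent.Lib.Golay.LeechCount

/-!
# The centraliser of the element of order three in `Co0` is six times the Suzuki group

A chain of orbit bounds on twelve minimal vectors and their images gives the upper bound; the
image of the presented group gives the lower one.
-/

set_option autoImplicit false
set_option maxRecDepth 100000

noncomputable section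

namespace CfsgLib.Schur.MultiplierSuz

open Cfsg CfsgLib.Golay CfsgLib.Golay.LeechOrbit CfsgLib.Schur.MatFThree CfsgLib.Schur.ConwayModel

/-- The vectors of the chain. -/
def vVec (i : ℕ) : leechLattice :=
  if h : latA (vecK (vKeys.getD i 0)) = true then ofKey (vKeys.getD i 0) h else 0

theorem vKeys_ok : (List.range 24).all (fun i =>
    latA (vecK (vKeys.getD i 0)) &&
      decide (dotL (digitsF 24 (vKeys.getD i 0)) (digitsF 24 (vKeys.getD i 0)) = 32)) = true := by
  decide +kernel

theorem vVec_spec {i : ℕ} (hi : i < 24) :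
    toL (vVec i : GolayPt → ℤ) = digitsF 24 (vKeys.getD i 0) ∧ sqNorm (vVec i : GolayPt → ℤ) = 32 := by
  have h := List.all_eq_true.1 vKeys_ok i (List.mem_range.2 hi)
  simp only [Bool.and_eq_true, decide_eq_true_eq] at h
  have e : (vVec i : GolayPt → ℤ) = vecK (vKeys.getD i 0) := by rw [vVec, dif_pos h.1]; rfl
  rw [sqNorm_eq_dotL, e, toL_vecK, ← digitsF_eq]
  exact ⟨rfl, h.2⟩

theorem vVec_zero : vVec 0 = Spor.leechU := by
  refine Subtype.ext (toL_injective ?_)
  rw [(vVec_spec (by norm_num)).1]
  decide +kernel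

theorem vVec_apply {i : ℕ} (hi : i < 24) (a : Fin 24) :
    red (vVec i) a = (((digitsF 24 (vKeys.getD i 0)).getD a.val 0 : ℤ) : ZMod 3) := by
  rw [red, ← (vVec_spec hi).1, getD_toL]

theorem vMat_check : ((List.finRange 24).all fun a => (List.finRange 24).all fun j =>
    decide (decF3 24 vMat a j = (((digitsF 24 (vKeys.getD j.val 0)).getD a.val 0 : ℤ) : ZMod 3)) &&
    (j.val % 2 == 1 || (decide (decF3 24 vEven a j = decF3 24 vMat a j) && decide (decF3 24 vImage a j =
      (((digitsF 24 (vKeys.getD (j.val + 1) 0)).getD a.val 0 : ℤ) : ZMod 3))))) = true := by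
  decide +kernel

theorem vMat_spec (a j : Fin 24) : decF3 24 vMat a j =
    (((digitsF 24 (vKeys.getD j.val 0)).getD a.val 0 : ℤ) : ZMod 3) := by
  have h := List.all_eq_true.1 (List.all_eq_true.1 vMat_check a (List.mem_finRange a)) j (List.mem_finRange j)
  simp only [Bool.and_eq_true, decide_eq_true_eq] at h
  exact h.1

theorem vEven_spec (a j : Fin 24) (hj : j.val % 2 = 0) : decF3 24 vEven a j = decF3 24 vMat a j ∧
    decF3 24 vImage a j = (((digitsF 24 (vKeys.getD (j.val + 1) 0)).getD a.val 0 : ℤ) : ZMod 3) := by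
  have h := List.all_eq_true.1 (List.all_eq_true.1 vMat_check a (List.mem_finRange a)) j (List.mem_finRange j)
  simp only [Bool.and_eq_true, Bool.or_eq_true, decide_eq_true_eq, hj, beq_iff_eq] at h
  exact h.2.resolve_left (by norm_num)

theorem omega_code : keyF3 24 (mulF3 24 (liftT.get omegaI) vEven) = keyF3 24 vImage ∧
    keyF3 24 (mulF3 24 vMat vInv) = keyF3 24 (oneF3 24) := by
  decide +kernel

theorem omega_vVec {i : ℕ} (hi : i < 24) (he : i % 2 = 0) : omega • vVec i = vVec (i + 1) := by
  have hP := vMat_spec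
  have hE := fun a j h => (vEven_spec a j h).1
  have hI := fun a j h => (vEven_spec a j h).2
  have hM := omega_code.1
  have hi' : i + 1 < 24 := by omega
  refine eq_of_red_eq ?_ (by rw [(vVec_spec hi').2]; norm_num) ?_
  · rw [sqNorm_smul_lat, (vVec_spec hi).2]; norm_num
  funext a
  have hcol : ∀ c : Fin 24, red (vVec i) c = decF3 24 vEven c ⟨i, hi⟩ := fun c => by
    rw [vVec_apply hi, hE c ⟨i, hi⟩ he, hP]
  rw [← mat_mulVec, vVec_apply hi', ← hI a ⟨i, hi⟩ he, ← decF3_eq_of_key hM, decF3_mulF3, mat_omega]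
  simp only [Matrix.mulVec, dotProduct, Matrix.mul_apply, hcol]

theorem eq_one_of_fix {g : Co0} (h : ∀ i < 24, g • vVec i = vVec i) : g = 1 := by
  have hP := vMat_spec
  have hI := omega_code.2
  refine mat_injective ?_
  have h1 : mat g * decF3 24 vMat = decF3 24 vMat := by
    ext a j
    have := congrFun (mat_mulVec g (vVec j.val)) a
    rw [h _ j.isLt, vVec_apply j.isLt, ← hP] at this
    rw [← this]
    simp only [Matrix.mul_apply, Matrix.mulVec, dotProduct]
    exact Finset.sum_congr rfl fun c _ => by rw [vVec_apply j.isLt, hP]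
  have h2 : decF3 24 vMat * decF3 24 vInv = 1 := by
    rw [← decF3_mulF3, decF3_eq_of_key hI, decF3_oneF3]
  rw [mat_one, ← mul_one (mat g), ← h2, ← mul_assoc, h1]

/-- The elements of the centraliser fixing the listed vectors. -/
def fixCent (l : List ℕ) : Subgroup Co0 where
  carrier := {g | g ∈ cent ∧ ∀ i ∈ l, g • vVec i = vVec i}
  one_mem' := ⟨one_mem _, fun _ _ => one_smul _ _⟩
  mul_mem' := fun ha hb => ⟨mul_mem ha.1 hb.1, fun i hi => by rw [mul_smul, hb.2 i hi, ha.2 i hi]⟩
  inv_mem' := fun ha => ⟨inv_mem ha.1, fun i hi => inv_smul_eq_iff.mpr (ha.2 i hi).symm⟩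

theorem mem_fixCent {l : List ℕ} {g : Co0} :
    g ∈ fixCent l ↔ g ∈ cent ∧ ∀ i ∈ l, g • vVec i = vVec i := Iff.rfl

/-- The constraints of a step. -/
def consOf (cs : List (ℕ × ℤ)) : List (leechLattice × ℤ) := cs.map fun c => (vVec c.1, c.2)

/-- The count of a step. -/
def countOK (cs : List (ℕ × ℤ)) (n : ℕ) : Bool :=
  Nat.ble ((List.range 4600).filter fun i => LeechOrbit.forceN (C4600.key i) fun k =>
    subB (cs.map fun c => (digitsF 24 (vKeys.getD c.1 0), c.2)) (digitsF 24 k)).length n

theorem ncard_le_of_count {cs : List (ℕ × ℤ)} {n : ℕ} (hlt : ∀ c ∈ cs, c.1 < 24) (h0 : (0, -16) ∈ cs)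
    (h : countOK cs n = true) : (consSet (consOf cs)).Finite ∧ (consSet (consOf cs)).ncard ≤ n := by
  classical
  rw [countOK, Nat.ble_eq] at h
  set l := (List.range 4600).filter fun i => LeechOrbit.forceN (C4600.key i) fun k =>
    subB (cs.map fun c => (digitsF 24 (vKeys.getD c.1 0), c.2)) (digitsF 24 k) with hl
  have hsub : ∀ x ∈ consSet (consOf cs), keyOf (x : GolayPt → ℤ) ∈ (l.map C4600.key).toFinset := by
    intro x hx
    have hx0 : x ∈ consSet cs4600 := by
      refine ⟨hx.1, fun c hc => ?_⟩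
      obtain rfl := List.mem_singleton.1 hc
      have := hx.2 (vVec 0, -16) (List.mem_map.2 ⟨_, h0, rfl⟩)
      rwa [vVec_zero] at this
    obtain ⟨i, hi, e⟩ := C4600.has_sound (cover4600 x hx0)
    rw [List.mem_toFinset, List.mem_map]
    refine ⟨i, ?_, e⟩
    rw [hl, List.mem_filter]
    have hn : C4600.n = 4600 := by decide +kernel
    refine ⟨List.mem_range.2 (hn ▸ hi), ?_⟩
    rw [LeechOrbit.forceN_eq, e, digitsF_eq, ← toL_vecK, vecK_keyOf hx.1]
    simp only [subB, List.all_map, List.all_eq_true, Function.comp_apply, decide_eq_true_eq]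
    intro c hc
    rw [← (vVec_spec (hlt c hc)).1, ← dotInt_eq_dotL]
    exact hx.2 (vVec c.1, c.2) (List.mem_map.2 ⟨c, hc, rfl⟩)
  have hinj : Set.InjOn (fun x : leechLattice => keyOf (x : GolayPt → ℤ)) (consSet (consOf cs)) :=
    fun x hx y hy e => Subtype.ext (eq_of_keyOf hx.1 hy.1 e)
  have hfin : (consSet (consOf cs)).Finite :=
    Set.Finite.of_finite_image
      ((l.map C4600.key).toFinset.finite_toSet.subset (fun y hy => by obtain ⟨x, hx, rfl⟩ := hy; exact hsub x hx)) hinj
  refine ⟨hfin, ?_⟩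
  rw [← hinj.ncard_image]
  refine (Set.ncard_le_ncard (fun y hy => by obtain ⟨x, hx, rfl⟩ := hy; exact hsub x hx) (Finset.finite_toSet _)).trans ?_
  rw [Set.ncard_coe_finset]
  exact ((List.toFinset_card_le _).trans (List.length_map _).le).trans h

theorem card_step {l : List ℕ} {v : ℕ} {cs : List (ℕ × ℤ)} {n : ℕ}
    (hl : ∀ c ∈ cs, c.1 ∈ l) (hfin : (consSet (consOf cs)).Finite)
    (hn : (consSet (consOf cs)).ncard ≤ n) (hv : vVec v ∈ consSet (consOf cs))
    (hv2 : v < 24) (hev : v % 2 = 0) :
    Nat.card (fixCent l) ≤ n * Nat.card (fixCent (v :: (v + 1) :: l)) := by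
  have := CfsgLib.Golay.co0_finite
  rw [← Subgroup.card_mul_index (MulAction.stabilizer (fixCent l) (vVec v)), MulAction.index_stabilizer,
    mul_comm]
  refine Nat.mul_le_mul ?_ ?_
  · refine le_trans (Set.ncard_le_ncard ?_ hfin) hn
    rintro x ⟨g, rfl⟩
    refine smul_mem_consSet ?_ hv
    intro c hc
    obtain ⟨d, hd, rfl⟩ := List.mem_map.1 hc
    exact (mem_fixCent.1 g.2).2 d.1 (hl d hd)
  · refine Nat.card_le_card_of_injective (fun g => ⟨g.1.1, ?_⟩) fun g h e =>
      Subtype.ext (Subtype.ext (congrArg (fun x : fixCent (v :: (v + 1) :: l) => x.1) e))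
    have hg : (g.1 : Co0) • vVec v = vVec v := g.2
    refine ⟨(mem_fixCent.1 g.1.2).1, fun i hi => ?_⟩
    rcases List.mem_cons.1 hi with rfl | hi
    · exact hg
    rcases List.mem_cons.1 hi with rfl | hi
    · rw [← omega_vVec hv2 hev, ← mul_smul, mem_cent_iff.1 (mem_fixCent.1 g.1.2).1, mul_smul, hg]
    · exact (mem_fixCent.1 g.1.2).2 i hi

/-- The checks of a chain. -/
def chainOK : List (ℕ × List (ℕ × ℤ) × ℕ) → List ℕ → Bool
  | [], l => (List.range 24).all fun i => l.contains i
  | (v, cs, _) :: rest, l => cs.all (fun c => l.contains c.1 && Nat.blt c.1 24) && cs.contains (0, -16) &&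
      Nat.blt v 24 && v % 2 == 0 &&
      subB (cs.map fun c => (digitsF 24 (vKeys.getD c.1 0), c.2)) (digitsF 24 (vKeys.getD v 0)) &&
      chainOK rest (v :: (v + 1) :: l)

/-- The product of the counts. -/
def chainProd : List (ℕ × List (ℕ × ℤ) × ℕ) → ℕ
  | [] => 1
  | s :: rest => s.2.2 * chainProd rest

theorem card_chain : ∀ (steps : List (ℕ × List (ℕ × ℤ) × ℕ)) (l : List ℕ),
    chainOK steps l = true → steps.all (fun s => countOK s.2.1 s.2.2) = true →
    Nat.card (fixCent l) ≤ chainProd steps := by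
  intro steps
  induction steps with
  | nil =>
    intro l h _
    simp only [chainOK, List.all_eq_true, List.mem_range, List.contains_iff_mem] at h
    have h1 : fixCent l = ⊥ := (Subgroup.eq_bot_iff_forall _).2 fun g hg =>
      eq_one_of_fix fun i hi => hg.2 i (h i hi)
    rw [h1, Subgroup.card_bot]
    rfl
  | cons s rest ih =>
    intro l h hc
    obtain ⟨v, cs, n⟩ := s
    simp only [chainOK, Bool.and_eq_true, List.all_eq_true, List.contains_iff_mem, Nat.blt_eq,
      beq_iff_eq] at h
    obtain ⟨⟨⟨⟨⟨hcs, h0⟩, hv⟩, hev⟩, hroot⟩, hrest⟩ := h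
    simp only [List.all_cons, Bool.and_eq_true] at hc
    obtain ⟨hcnt, hcrest⟩ := hc
    have hlt : ∀ c ∈ cs, c.1 < 24 := fun c hc' => (hcs c hc').2
    obtain ⟨hfin, hn⟩ := ncard_le_of_count hlt h0 hcnt
    have hmem : vVec v ∈ consSet (consOf cs) := by
      refine ⟨(vVec_spec hv).2, fun c hc' => ?_⟩
      obtain ⟨d, hd, rfl⟩ := List.mem_map.1 hc'
      simp only [subB, List.all_map, List.all_eq_true, Function.comp_apply, decide_eq_true_eq] at hroot
      rw [dotInt_eq_dotL, (vVec_spec hv).1, (vVec_spec (hlt d hd)).1]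
      exact hroot d hd
    refine (card_step (fun c hc' => (hcs c hc').1) hfin hn hmem hv hev).trans ?_
    exact Nat.mul_le_mul le_rfl (ih _ hrest hcrest)

theorem chain_ok : chainOK vSteps [0, 1] = true ∧ chainProd vSteps = 13685760 := by decide +kernel

theorem counts_ok : vSteps.all (fun s => countOK s.2.1 s.2.2) = true := by decide +kernel

theorem card_fix_le : Nat.card (fixCent [0, 1]) ≤ 13685760 :=
  chain_ok.2 ▸ card_chain vSteps [0, 1] chain_ok.1 counts_ok

theorem natCard_cent_le : Nat.card cent ≤ 2690072985600 := by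
  have := CfsgLib.Golay.co0_finite
  rw [← Subgroup.card_mul_index (MulAction.stabilizer cent (vVec 0)), MulAction.index_stabilizer, mul_comm]
  refine (Nat.mul_le_mul ?_ ?_).trans_eq (show 196560 * 13685760 = 2690072985600 by norm_num)
  · rw [← Set.ncard_image_of_injective _ (Subtype.val_injective (p := fun x => x ∈ leechLattice)),
      ← ncard_norm_32]
    refine Set.ncard_le_ncard ?_ (Set.finite_of_ncard_ne_zero (by rw [ncard_norm_32]; norm_num))
    rintro _ ⟨x, ⟨g, rfl⟩, rfl⟩
    exact ⟨(g • vVec 0).2, (sqNorm_smul_lat g.1 (vVec 0)).trans (vVec_spec (by norm_num)).2⟩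
  · refine le_trans (Nat.card_le_card_of_injective (fun g => (⟨g.1.1, ?_⟩ : fixCent [0, 1]))
      fun g h e => Subtype.ext (Subtype.ext (congrArg (fun x : fixCent [0, 1] => x.1) e))) card_fix_le
    have hg : (g.1 : Co0) • vVec 0 = vVec 0 := g.2
    refine ⟨g.1.2, fun i hi => ?_⟩
    rcases List.mem_cons.1 hi with rfl | hi
    · exact hg
    obtain rfl := List.mem_singleton.1 hi
    rw [← omega_vVec (by norm_num) rfl, ← mul_smul, mem_cent_iff.1 g.1.2, mul_smul, hg]

theorem natCard_scal : Nat.card scal = 6 := by rw [scal, Nat.card_zpowers, orderOf_unit]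

/-- The centraliser of the element of order three has order six times that of the Suzuki group. -/
theorem natCard_cent : Nat.card cent = 6 * 448345497600 := by
  have := CfsgLib.Golay.co0_finite
  refine le_antisymm natCard_cent_le ?_
  rw [← Subgroup.card_mul_index scal, natCard_scal, ← natCard_Suz]
  exact Nat.mul_le_mul le_rfl (Nat.card_le_card_of_injective phi phi_injective)

theorem phi_bijective : Function.Bijective phi := by
  have := CfsgLib.Golay.co0_finite
  refine (Nat.bijective_iff_injective_and_card phi).2 ⟨phi_injective, ?_⟩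
  have h := Subgroup.card_mul_index scal
  rw [natCard_scal, natCard_cent] at h
  rw [natCard_Suz]
  exact (mul_left_cancel₀ (by norm_num) h).symm

/-- The presented Suzuki group as the centraliser modulo the scalars. -/
def suzEquiv : Spor.Suz ≃* cent ⧸ scal := MulEquiv.ofBijective phi phi_bijective

theorem orderOf_omega : orderOf omega = 3 := by
  rw [orderOf_eq_prime_iff]
  constructor
  · refine mat_injective ?_
    rw [pow_succ, pow_succ, pow_one, mat_mul, mat_mul, mat_one, mat_omega, ← decF3_mulF3, ← decF3_mulF3,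
      decF3_eq_of_key (show keyF3 24 (mulF3 24 (mulF3 24 (liftT.get omegaI) (liftT.get omegaI))
        (liftT.get omegaI)) = keyF3 24 (oneF3 24) by decide +kernel), decF3_oneF3]
  · intro h
    have h1 := omega_vVec (i := 0) (by norm_num) rfl
    rw [h, one_smul] at h1
    have h2 := congrArg (fun v : leechLattice => toL (v : GolayPt → ℤ)) h1
    simp only [(vVec_spec (show 0 < 24 by norm_num)).1, (vVec_spec (show 1 < 24 by norm_num)).1] at h2
    exact absurd h2 (by decide +kernel)

end CfsgLib.Schur.MultiplierSuz
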