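import Cfsg.Agent.Lib.Schur.MultiplierSuzDataTwoDefs

/-! Generated polycyclic certificate for the multiplier of Suz at 2. -/

set_option autoImplicit false
set_option maxRecDepth 100000
set_option Elab.async false

namespace CfsgLib.Schur.MultiplierSuz

open CfsgLib.Schur CfsgLib.Schur.MatFThree
theorem two_val0 : Pc.rangeOK (Pc.Cert.valsStep twoCert 11 twoVals) 0 30 = true := by
  decide +kernel

theorem two_val1 : Pc.rangeOK (Pc.Cert.valsStep twoCert 11 twoVals) 30 30 = true := by
  decide +kernel

theorem two_val2 : Pc.rangeOK (Pc.Cert.valsStep twoCert 11 twoVals) 60 28 = true := by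
  decide +kernel

theorem two_len0 : (twoCert.rows ++ twoCert.us).length = 88 ∧ twoVals.length = 88 := by
  decide +kernel

theorem two_len1 : twoCert.eqns.length = 87 ∧ twoCert.rows.length = 87 := by
  decide +kernel


end CfsgLib.Schur.MultiplierSuz
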