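import Cfsg.Agent.Lib.Schur.MultiplierSuzDataTwoDefs

/-! Generated polycyclic certificate for the multiplier of Suz at 2. -/

set_option autoImplicit false
set_option maxRecDepth 100000
set_option Elab.async false

namespace CfsgLib.Schur.MultiplierSuz

open CfsgLib.Schur CfsgLib.Schur.MatFThree
theorem two_eqn0 : Pc.rangeOK (Pc.Cert.eqnStep twoCert twoRules 276 11 twoVals) 0 20 = true := by
  decide +kernel

theorem two_eqn1 : Pc.rangeOK (Pc.Cert.eqnStep twoCert twoRules 276 11 twoVals) 20 20 = true := by
  decide +kernel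

theorem two_eqn2 : Pc.rangeOK (Pc.Cert.eqnStep twoCert twoRules 276 11 twoVals) 40 20 = true := by
  decide +kernel

theorem two_eqn3 : Pc.rangeOK (Pc.Cert.eqnStep twoCert twoRules 276 11 twoVals) 60 20 = true := by
  decide +kernel

theorem two_eqn4 : Pc.rangeOK (Pc.Cert.eqnStep twoCert twoRules 276 11 twoVals) 80 7 = true := by
  decide +kernel


end CfsgLib.Schur.MultiplierSuz
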