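import Cfsg.Agent.Lib.Schur.MultiplierSuzDataTwoDefs

/-! Generated polycyclic certificate for the multiplier of Suz at 2. -/

set_option autoImplicit false
set_option maxRecDepth 100000
set_option Elab.async false

namespace CfsgLib.Schur.MultiplierSuz

open CfsgLib.Schur CfsgLib.Schur.MatFThree
theorem two_sep0 : Pc.rangeOK (PcConway.sepStep (normSix (MatFThree.oneF3 24)) scalarCodes twoGens 13 twoSeps) 0 1 = true := by
  decide +kernel

theorem two_sep1 : Pc.rangeOK (PcConway.sepStep (normSix (MatFThree.oneF3 24)) scalarCodes twoGens 13 twoSeps) 1 1 = true := by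
  decide +kernel

theorem two_sep2 : Pc.rangeOK (PcConway.sepStep (normSix (MatFThree.oneF3 24)) scalarCodes twoGens 13 twoSeps) 2 1 = true := by
  decide +kernel

theorem two_sep3 : Pc.rangeOK (PcConway.sepStep (normSix (MatFThree.oneF3 24)) scalarCodes twoGens 13 twoSeps) 3 1 = true := by
  decide +kernel

theorem two_sep4 : Pc.rangeOK (PcConway.sepStep (normSix (MatFThree.oneF3 24)) scalarCodes twoGens 13 twoSeps) 4 1 = true := by
  decide +kernel

theorem two_sep5 : Pc.rangeOK (PcConway.sepStep (normSix (MatFThree.oneF3 24)) scalarCodes twoGens 13 twoSeps) 5 1 = true := by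
  decide +kernel

theorem two_sep6 : Pc.rangeOK (PcConway.sepStep (normSix (MatFThree.oneF3 24)) scalarCodes twoGens 13 twoSeps) 6 1 = true := by
  decide +kernel

theorem two_sep7 : Pc.rangeOK (PcConway.sepStep (normSix (MatFThree.oneF3 24)) scalarCodes twoGens 13 twoSeps) 7 1 = true := by
  decide +kernel

theorem two_sep8 : Pc.rangeOK (PcConway.sepStep (normSix (MatFThree.oneF3 24)) scalarCodes twoGens 13 twoSeps) 8 1 = true := by
  decide +kernel

theorem two_sep9 : Pc.rangeOK (PcConway.sepStep (normSix (MatFThree.oneF3 24)) scalarCodes twoGens 13 twoSeps) 9 1 = true := by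
  decide +kernel

theorem two_sep10 : Pc.rangeOK (PcConway.sepStep (normSix (MatFThree.oneF3 24)) scalarCodes twoGens 13 twoSeps) 10 1 = true := by
  decide +kernel

theorem two_sep11 : Pc.rangeOK (PcConway.sepStep (normSix (MatFThree.oneF3 24)) scalarCodes twoGens 13 twoSeps) 11 1 = true := by
  decide +kernel

theorem two_sep12 : Pc.rangeOK (PcConway.sepStep (normSix (MatFThree.oneF3 24)) scalarCodes twoGens 13 twoSeps) 12 1 = true := by
  decide +kernel


end CfsgLib.Schur.MultiplierSuz
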