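import Cfsg.Agent.Lib.Schur.MultiplierSuzDataTwoDefs

/-! Generated polycyclic certificate for the multiplier of Suz at 2. -/

set_option autoImplicit false
set_option maxRecDepth 100000
set_option Elab.async false

namespace CfsgLib.Schur.MultiplierSuz

open CfsgLib.Schur CfsgLib.Schur.MatFThree
theorem two_solve0 : Pc.rangeOK (Pc.Cert.solveStep twoCert twoRules 11 twoVals) 0 2 = true := by
  decide +kernel

theorem two_solve1 : Pc.rangeOK (Pc.Cert.solveStep twoCert twoRules 11 twoVals) 2 2 = true := by
  decide +kernel

theorem two_solve2 : Pc.rangeOK (Pc.Cert.solveStep twoCert twoRules 11 twoVals) 4 2 = true := by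
  decide +kernel

theorem two_solve3 : Pc.rangeOK (Pc.Cert.solveStep twoCert twoRules 11 twoVals) 6 2 = true := by
  decide +kernel

theorem two_solve4 : Pc.rangeOK (Pc.Cert.solveStep twoCert twoRules 11 twoVals) 8 2 = true := by
  decide +kernel

theorem two_solve5 : Pc.rangeOK (Pc.Cert.solveStep twoCert twoRules 11 twoVals) 10 2 = true := by
  decide +kernel

theorem two_solve6 : Pc.rangeOK (Pc.Cert.solveStep twoCert twoRules 11 twoVals) 12 1 = true := by
  decide +kernel

theorem two_rest : Pc.Cert.solveRest twoCert twoRules = true := by
  decide +kernel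

theorem two_shape : Pc.Rules.shapeOK twoRules = true := by
  decide +kernel

theorem two_holds : Pc.holdsOK (fun a b => normSix (mulF3 24 a b)) (normSix (MatFThree.oneF3 24)) twoRules twoCert twoGens twoConj = true := by
  decide +kernel


end CfsgLib.Schur.MultiplierSuz
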