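import Cfsg.Agent.Lib.Schur.MultiplierSuzDataTwoM
import Cfsg.Agent.Lib.Schur.MultiplierSuzDataTwoA
import Cfsg.Agent.Lib.Schur.MultiplierSuzDataTwoB
import Cfsg.Agent.Lib.Schur.MultiplierSuzDataTwoC
import Cfsg.Agent.Lib.Schur.MultiplierSuzDataTwoD

/-! Generated polycyclic certificate for the multiplier of Suz at 2. -/

set_option autoImplicit false
set_option maxRecDepth 100000
set_option Elab.async false

namespace CfsgLib.Schur.MultiplierSuz

open CfsgLib.Schur CfsgLib.Schur.MatFThree

attribute [local irreducible] Pc.rangeOK Pc.Cert.valsOK Pc.Cert.eqnsOK Pc.Cert.solveOK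

theorem two_vals : Pc.Cert.valsOK twoCert 11 twoVals = true :=
  Pc.Cert.valsOK_of_ranges (n := 88) two_len0.1 two_len0.2 (Pc.rangeOK_append (Pc.rangeOK_append two_val0 two_val1) two_val2)

theorem two_ok : PcConway.pcOK normSix (normSix (MatFThree.oneF3 24)) scalarCodes twoRules twoCert
    twoGens twoConj 276 twoSeps = true :=
  PcConway.pcOK_of_parts _ (n := 13) rfl two_shape
    (Pc.Cert.eqnsOK_of_ranges (n := 87) two_vals two_len1.1 two_len1.2 (Pc.rangeOK_append (Pc.rangeOK_append (Pc.rangeOK_append (Pc.rangeOK_append two_eqn0 two_eqn1) two_eqn2) two_eqn3) two_eqn4))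
    (Pc.Cert.solveOK_of_ranges (n := 13) rfl two_vals two_rest (Pc.rangeOK_append (Pc.rangeOK_append (Pc.rangeOK_append (Pc.rangeOK_append (Pc.rangeOK_append (Pc.rangeOK_append two_solve0 two_solve1) two_solve2) two_solve3) two_solve4) two_solve5) two_solve6))
    two_holds (Pc.rangeOK_append (Pc.rangeOK_append (Pc.rangeOK_append (Pc.rangeOK_append (Pc.rangeOK_append (Pc.rangeOK_append (Pc.rangeOK_append (Pc.rangeOK_append (Pc.rangeOK_append (Pc.rangeOK_append (Pc.rangeOK_append (Pc.rangeOK_append two_sep0 two_sep1) two_sep2) two_sep3) two_sep4) two_sep5) two_sep6) two_sep7) two_sep8) two_sep9) two_sep10) two_sep11) two_sep12)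


end CfsgLib.Schur.MultiplierSuz
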