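import Cfsg.Agent.Lib.Schur.MultiplierSuzDataTwoDefs

/-! Generated polycyclic certificate for the multiplier of Suz at 2. -/

set_option autoImplicit false
set_option maxRecDepth 100000
set_option Elab.async false

namespace CfsgLib.Schur.MultiplierSuz

open CfsgLib.Schur CfsgLib.Schur.MatFThree
theorem two_members : CfsgLib.Sporadic.allFrom 0 4625 (PcConway.slpStep baseSuz 4625 twoT twoO) = true := two_prog


theorem two_lt : (([4,1999,1716,2267,1000,2273,2281,2392,2399,2629,2671,2675,1533] : List ℕ) ++ ([3305,3200,3668,4005,4240,4624] : List ℕ)).all (fun i => Nat.blt i 4625) = true := by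
  decide +kernel

theorem two_gens : ([4,1999,1716,2267,1000,2273,2281,2392,2399,2629,2671,2675,1533] : List ℕ).map (fun i => normSix (twoT.get i)) = twoGens ∧ ([3305,3200,3668,4005,4240,4624] : List ℕ).map (fun i => normSix (twoT.get i)) = twoConj := by
  decide +kernel


end CfsgLib.Schur.MultiplierSuz
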