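/-
Polycyclic certificates for the quotient of the automorphism group of the Leech lattice by its
centre, and the double cover.
-/
import Cfsg.Agent.Lib.Schur.PcConwayStab
import Cfsg.Agent.Lib.MonsterType.Frame
import Cfsg.Prelude.Def_KGroupFacts

set_option autoImplicit false

namespace CfsgLib.Schur.PcConway

open Cfsg CfsgLib.Schur CfsgLib.Schur.MatFThree CfsgLib.Schur.ConwayModel CfsgLib.MonsterType
open scoped commutatorElement

/-- The code of the negative. -/
noncomputable def negF3 (c : ℕ) : ℕ := join 24 (c >>> (24 * 24)) (c &&& (2 ^ (24 * 24) - 1))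

/-- The code of minus one. -/
noncomputable def negOne : ℕ := negF3 (oneF3 24)

/-- The smaller of a code and its negative. -/
noncomputable def normSign (c : ℕ) : ℕ := min c (negF3 c)

theorem decF3_negF3 (c : ℕ) : decF3 24 (negF3 c) = -decF3 24 c := by
  ext i j
  have hp := pos_lt i j
  have h : ∀ x y : Bool, val3 y x = -val3 x y := by decide
  simp only [decF3, negF3, Matrix.neg_apply, Matrix.of_apply, testBit_join_low hp, testBit_join_high,
    testBit_low hp, Nat.testBit_shiftRight]
  exact h _ _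

theorem decF3_negOne : decF3 24 negOne = -1 := by rw [negOne, decF3_negF3, decF3_oneF3]

theorem mat_neg : mat (sgnW ⟨1, one_mem_golay⟩) = -1 := by
  ext i j
  rw [mat_sgnW, Matrix.neg_apply, Matrix.one_apply]
  by_cases h : i = j <;> simp [h] <;> decide

theorem rep0_negF3 {c : ℕ} {g : Co0} (h : Rep0 c g) :
    Rep0 (negF3 c) (sgnW ⟨1, one_mem_golay⟩ * g) := by
  show _ = _
  rw [mat_mul, mat_neg, show mat g = decF3 24 c from h, decF3_negF3, neg_one_mul]

/-- The quotient seen among the automorphisms: signs are forgotten. -/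
noncomputable def quotView : View Cfsg.Spor.Co1 where
  lies a x := (QuotientGroup.mk a : Cfsg.Spor.Co1) = x
  signs := [oneF3 24, negOne]
  one := rfl
  surj x := QuotientGroup.mk_surjective x
  mul := by
    intro a b x y ha hb
    rw [QuotientGroup.mk_mul, ha, hb]
  uniq ha hb := ha.symm.trans hb
  fibre := by
    intro a b x ha hb
    have hz : a⁻¹ * b ∈ Subgroup.center Co0 := QuotientGroup.eq.1 (ha.trans hb.symm)
    rcases center_cases hz with h | h
    · exact ⟨oneF3 24, by simp, by rw [inv_mul_eq_one.1 h, decF3_oneF3, mul_one]⟩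
    · exact ⟨negOne, by simp, by rw [eq_mul_of_inv_mul_eq h, mat_mul, mat_neg, decF3_negOne]⟩
  signs_mul := by
    intro s hs t ht
    simp only [List.mem_cons, List.not_mem_nil, or_false] at hs ht
    rcases hs with hs | hs <;> rcases ht with ht | ht <;> rw [hs, ht] <;>
      simp only [decF3_oneF3, decF3_negOne, one_mul, mul_one, neg_mul, neg_neg, List.mem_cons,
        List.not_mem_nil, or_false, exists_eq_or_imp, exists_eq_left, or_true, true_or]
  signs_central := by
    intro s hs M
    simp only [List.mem_cons, List.not_mem_nil, or_false] at hs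
    rcases hs with hs | hs <;> rw [hs] <;>
      simp only [decF3_oneF3, decF3_negOne, one_mul, mul_one, neg_mul, mul_neg]

theorem rep_normSign {a : ℕ} {x : Cfsg.Spor.Co1} (h : Rep quotView a x) :
    Rep quotView (normSign a) x := by
  obtain ⟨g, hg, hx⟩ := h
  rcases min_choice a (negF3 a) with e | e <;> rw [normSign, e]
  · exact ⟨g, hg, hx⟩
  · refine ⟨_, rep0_negF3 hg, ?_⟩
    show (QuotientGroup.mk (sgnW ⟨1, one_mem_golay⟩ * g) : Cfsg.Spor.Co1) = x
    rw [QuotientGroup.mk_mul, (QuotientGroup.eq_one_iff _).2 neg_mem_center, one_mul]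
    exact hx

theorem natCard_Co1 : Nat.card Cfsg.Spor.Co1 = 4157776806543360000 := by
  have h := Subgroup.card_eq_card_quotient_mul_card_subgroup (Subgroup.center Co0)
  rw [CfsgLib.Golay.natCard_Co0, card_center_Co0] at h
  show Nat.card (Co0 ⧸ Subgroup.center Co0) = _
  omega

theorem finite_Co1 : Finite Cfsg.Spor.Co1 :=
  Nat.finite_of_card_ne_zero (by rw [natCard_Co1]; norm_num)

open CfsgLib.Sporadic in
/-- The bound from a certificate. -/
theorem spanAt_quot {p : ℕ} [Fact p.Prime] {R : Pc.Rules} {C : Pc.Cert}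
    {n : ℕ} {T O : Tr} {gi ki cs ks : List ℕ} {fuel : ℕ} {seps : List (List ℕ)}
    (hslp : allFrom 0 n (slpStep ConwayBase.baseCodes n T O) = true)
    (hlt : (gi ++ ki).all (fun i => Nat.blt i n) = true)
    (hcs : gi.map (fun i => normSign (T.get i)) = cs) (hks : ki.map (fun i => normSign (T.get i)) = ks)
    (hpc : pcOK normSign (normSign (oneF3 24)) [oneF3 24, negOne] R C cs ks fuel seps = true)
    (hRp : R.p = p) {d : ℕ} (hd : ¬ p ∣ d)
    (hord : Nat.card Cfsg.Spor.Co1 = p ^ R.n * d) {ords : List ℕ}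
    (hlen : C.us.length = ords.length) (hords : C.ords = ords) :
    Pc.SpanAt p Cfsg.Spor.Co1 ords := by
  simp only [List.all_eq_true, Nat.blt_eq] at hlt
  subst hcs hks
  have hex : ∀ i ∈ gi ++ ki, ∃ x, Rep quotView (normSign (T.get i)) x := fun i hi => by
    obtain ⟨g, hg⟩ := rep_of_slp ConwayBase.exists_base hslp i (hlt i hi)
    exact ⟨_, rep_normSign ⟨g, hg, rfl⟩⟩
  have := finite_Co1
  refine spanAt_of_pcOK quotView normSign (cone := normSign (oneF3 24))
    (rep_normSign ⟨1, rep0_one, rfl⟩) rep_normSign ?_ ?_ hpc hRp hd hord hlen hords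
  · intro c hc
    obtain ⟨i, hi, rfl⟩ := List.mem_map.1 hc
    exact hex i (List.mem_append_left _ hi)
  · intro c hc
    obtain ⟨i, hi, rfl⟩ := List.mem_map.1 hc
    exact hex i (List.mem_append_right _ hi)

theorem neg_mem_commutator :
    sgnW ⟨1, one_mem_golay⟩ ∈ commutator Co0 := by
  obtain ⟨a, ha⟩ := ConwayBase.exists_sgn
  obtain ⟨b, hb⟩ := ConwayBase.exists_perm 1
  have h : mulF3 24 (ConwayBase.baseCodes.getD 1 0) (ConwayBase.baseCodes.getD 3 0) =
      mulF3 24 negOne (mulF3 24 (ConwayBase.baseCodes.getD 3 0) (ConwayBase.baseCodes.getD 1 0)) := by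
    decide +kernel
  have e : a * b = sgnW ⟨1, one_mem_golay⟩ * (b * a) := by
    apply mat_injective
    rw [mat_mul, mat_mul, mat_mul, mat_neg, show mat a = _ from ha, show mat b = _ from hb,
      ← decF3_mulF3, ← decF3_mulF3, ← decF3_negOne, ← decF3_mulF3]
    exact congrArg (decF3 24) h
  have e2 : sgnW ⟨1, one_mem_golay⟩ = ⁅a, b⁆ := by
    rw [commutatorElement_def, e]
    group
  rw [e2]
  exact Subgroup.commutator_mem_commutator (Subgroup.mem_top _) (Subgroup.mem_top _)

theorem exists_cover : ∃ (Γ : Type) (_ : Group Γ) (_ : Finite Γ) (σ : Γ →* Cfsg.Spor.Co1),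
    IsStemExtension σ ∧ Nonempty (σ.ker ≃* Multiplicative (ZMod 2)) := by
  have := CfsgLib.Golay.co0_finite
  have hk : (QuotientGroup.mk' (Subgroup.center Co0)).ker = Subgroup.center Co0 :=
    QuotientGroup.ker_mk' _
  have hp : Fact (Nat.Prime 2) := ⟨Nat.prime_two⟩
  refine ⟨Co0, inferInstance, inferInstance, QuotientGroup.mk' (Subgroup.center Co0),
    ⟨QuotientGroup.mk'_surjective _, hk.le, fun z hz => ?_⟩,
    ⟨mulEquivOfPrimeCardEq (p := 2) ?_ (by simp [Nat.card_eq_fintype_card])⟩⟩
  · rcases center_cases (hk ▸ hz) with h | h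
    · rw [h]; exact one_mem _
    · rw [h]; exact neg_mem_commutator
  · rw [hk, card_center_Co0]

end CfsgLib.Schur.PcConway
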