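import Cfsg.Agent.Lib.Schur.PcConway

/-!
# Views with forgotten signs that are central only among the automorphisms seen

The variant of `PcConway.View` for groups like the centraliser of an element of order three, and
straight line programs inside a subgroup.
-/

set_option autoImplicit false

namespace CfsgLib.Schur.PcConway

open Cfsg CfsgLib.Schur CfsgLib.Schur.MatFThree CfsgLib.Schur.ConwayModel

/-- How a group is seen among the automorphisms, the forgotten signs commuting with the
automorphisms seen. -/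
structure RelView (G : Type) [Group G] where
  /-- The automorphisms over an element. -/
  lies : Co0 → G → Prop
  /-- The codes of the matrices of the automorphisms over the identity. -/
  signs : List ℕ
  one : lies 1 1
  surj : ∀ x : G, ∃ a, lies a x
  mul : ∀ {a b : Co0} {x y : G}, lies a x → lies b y → lies (a * b) (x * y)
  uniq : ∀ {a : Co0} {x y : G}, lies a x → lies a y → x = y
  fibre : ∀ {a b : Co0} {x : G}, lies a x → lies b x → ∃ s ∈ signs, mat b = mat a * decF3 24 s
  signs_mul : ∀ s ∈ signs, ∀ t ∈ signs, ∃ u ∈ signs, decF3 24 s * decF3 24 t = decF3 24 u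
  signs_central : ∀ s ∈ signs, ∀ {a : Co0} {x : G}, lies a x → decF3 24 s * mat a = mat a * decF3 24 s

variable {G : Type} [Group G] (V : RelView G) (norm : ℕ → ℕ)

/-- A normalised code of an element. -/
def RelRep (a : ℕ) (x : G) : Prop := ∃ g : Co0, Rep0 a g ∧ V.lies g x

/-- The bound from checked data. -/
theorem spanAt_of_relPcOK [Finite G] {cone : ℕ} (hone : RelRep V cone 1)
    (hnorm : ∀ {a : ℕ} {x : G}, RelRep V a x → RelRep V (norm a) x) {p : ℕ} [Fact p.Prime]
    {R : Pc.Rules} {C : Pc.Cert} {cs ks : List ℕ} {fuel : ℕ} {seps : List (List ℕ)}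
    (hcs : ∀ c ∈ cs, ∃ x, RelRep V c x) (hks : ∀ c ∈ ks, ∃ x, RelRep V c x)
    (hok : pcOK norm cone V.signs R C cs ks fuel seps = true) (hRp : R.p = p) {d : ℕ} (hd : ¬ p ∣ d)
    (hord : Nat.card G = p ^ R.n * d) {ords : List ℕ} (hlen : C.us.length = ords.length)
    (hords : C.ords = ords) : Pc.SpanAt p G ords := by
  simp only [pcOK, Bool.and_eq_true] at hok
  obtain ⟨⟨⟨⟨hshape, heqs⟩, hsolve⟩, hholds⟩, hsep⟩ := hok
  have hex : ∀ l : List ℕ, (∀ c ∈ l, ∃ x, RelRep V c x) → ∀ i, ∃ x, RelRep V (l.getD i cone) x := by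
    intro l hl i
    rcases Nat.lt_or_ge i l.length with hi | hi
    · rw [List.getD_eq_getElem _ _ hi]; exact hl _ (List.getElem_mem hi)
    · rw [List.getD_eq_default _ _ hi]; exact ⟨1, hone⟩
  choose gs hgs using hex cs hcs
  choose cg hcg using hex ks hks
  have hH := Pc.holds_of_check (RelRep V) hone
    (fun {a b x y} ⟨g, hg, hx⟩ ⟨g', hg', hy⟩ => hnorm ⟨g * g', rep0_mul hg hg', V.mul hx hy⟩)
    (fun {a x y} ⟨g, hg, hx⟩ ⟨g', hg', hy⟩ => V.uniq hx (rep0_uniq hg hg' ▸ hy)) hgs hcg hholds
  have hp : R.p.Prime := hRp ▸ Fact.out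
  refine Pc.spanAt_of_cert hH hshape heqs hsolve hRp (hRp ▸ ?_) hd hord hlen hords
  simp only [sepOK, sepStep, List.all_eq_true, List.mem_range, Bool.and_eq_true, Bool.or_eq_true,
    Nat.ble_eq, Nat.blt_eq, Bool.not_eq_true'] at hsep
  refine Pc.le_card_of_separators hH hshape hp (fun i x => ∀ g : Co0, V.lies g x →
      ∃ l ∈ seps.getD i [], ∃ s ∈ V.signs,
        decF3 24 ((seps.getD i []).getD 0 0) * mat g * decF3 24 s = decF3 24 l) ?_ ?_ ?_
  · intro i hi g hg
    have hlen := (hsep i hi).1.1.1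
    refine ⟨(seps.getD i []).getD 0 0, ?_, ?_⟩
    · rw [List.getD_eq_getElem _ _ hlen]; exact List.getElem_mem hlen
    · obtain ⟨s, hs, e⟩ := V.fibre hg V.one
      refine ⟨s, hs, ?_⟩
      rw [mul_assoc, ← e, mat_one, mul_one]
  · intro i j hij hj x hx g hg
    obtain ⟨gj, hgj, oj⟩ := hgs j
    obtain ⟨a, ha⟩ := V.surj x
    obtain ⟨l, hl, s, hs, e⟩ := hx a ha
    obtain ⟨t, ht, et⟩ := V.fibre hg (V.mul ha oj)
    have h2 := ((hsep i (by omega)).1.2 j hj).resolve_left (by omega) l hl
    simp only [List.any_eq_true, forceN_eq, Nat.beq_eq, exists_eq_right'] at h2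
    obtain ⟨r, hr, hl'⟩ := h2
    obtain ⟨u, hu, eu⟩ := V.signs_mul t ht s hs
    obtain ⟨w, hw, ew⟩ := V.signs_mul u hu r hr
    refine ⟨_, hl', w, hw, ?_⟩
    rw [decF3_keyF3]
    rw [decF3_mulF3, decF3_mulF3, ← hgj, ← e, ← ew, ← eu]
    simp only [mul_assoc]
    rw [← mul_assoc (mat g) (decF3 24 t), ← et, mat_mul, mul_assoc (mat a),
      ← mul_assoc (decF3 24 s) (mat gj), V.signs_central s hs oj, mul_assoc (mat gj)]
  · intro i hi hP
    obtain ⟨gi, hgi, oi⟩ := hgs i
    obtain ⟨l, hl, s, hs, e⟩ := hP gi oi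
    have hno := (hsep i hi).2
    rw [← Bool.not_eq_true] at hno
    apply hno
    simp only [List.any_eq_true, forceN_eq, Nat.beq_eq, exists_eq_right']
    refine ⟨s, hs, ?_⟩
    have hc : keyF3 24 l = l := by simpa using (hsep i hi).1.1.2 l hl
    have hk : keyF3 24 (mulF3 24 (mulF3 24 ((seps.getD i []).getD 0 0) (cs.getD i cone)) s) = l := by
      rw [← hc]
      refine keyF3_eq ?_
      rw [decF3_mulF3, decF3_mulF3, ← hgi, e]
    rw [hk]
    exact hl

open CfsgLib.Sporadic in
/-- A program started inside a subgroup stays inside it. -/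
theorem rep_mem_of_slp {K : Subgroup Co0} {base : List ℕ} (hbase : ∀ c ∈ base, ∃ g ∈ K, Rep0 c g)
    {n : ℕ} {T O : Tr} (h : allFrom 0 n (slpStep base n T O) = true) :
    ∀ k < n, ∃ g ∈ K, Rep0 (T.get k) g := by
  intro k
  induction k using Nat.strong_induction_on with
  | _ k ih =>
    intro hk
    have hb := of_allFrom_zero h hk
    rw [slpStep] at hb
    by_cases hkb : k < base.length
    · rw [show Nat.blt k base.length = true from Nat.blt_eq.mpr hkb, cond_true, beq_iff_eq,
        List.getD_eq_getElem _ _ hkb] at hb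
      exact hbase _ (hb ▸ List.getElem_mem hkb)
    · rw [show Nat.blt k base.length = false from Bool.eq_false_iff.mpr (mt Nat.blt_eq.mp hkb),
        cond_false, Bool.and_eq_true, Nat.blt_eq] at hb
      obtain ⟨a, haK, ha⟩ := ih _ hb.1 (by omega)
      have hb2 := hb.2
      by_cases hj0 : O.get k % (n + 1) = 0
      · rw [hj0, beq_self_eq_true, cond_true, beq_iff_eq] at hb2
        refine ⟨a⁻¹, inv_mem haK, ?_⟩
        show mat a⁻¹ = decF3 24 (T.get k)
        calc mat a⁻¹ = decF3 24 (mulF3 24 (T.get k) (T.get (O.get k / (n + 1)))) * mat a⁻¹ := by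
              rw [hb2, decF3_oneF3, one_mul]
          _ = decF3 24 (T.get k) * (mat a * mat a⁻¹) := by
              rw [decF3_mulF3, show mat a = _ from ha, Matrix.mul_assoc]
          _ = decF3 24 (T.get k) := by rw [← mat_mul, mul_inv_cancel, mat_one, Matrix.mul_one]
      · rw [show (O.get k % (n + 1) == 0) = false from beq_eq_false_iff_ne.mpr hj0, cond_false,
          Bool.and_eq_true, Nat.blt_eq, beq_iff_eq] at hb2
        obtain ⟨b, hbK, hb'⟩ := ih _ hb2.1 (by omega)
        refine ⟨a * b, mul_mem haK hbK, ?_⟩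
        rw [hb2.2]
        exact rep0_mul ha hb'

end CfsgLib.Schur.PcConway
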