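import Cfsg.Agent.Lib.Schur.MultiplierSuzLift
import Cfsg.Agent.Lib.Schur.PcConwayRel
import Cfsg.Agent.Lib.Schur.PcConwayQuot
import Cfsg.Agent.Lib.Presented.SuzSimple

/-!
# The Suzuki group inside the centraliser of an element of order three, and its sixfold cover
-/

set_option autoImplicit false

noncomputable section

namespace CfsgLib.Schur.MultiplierSuz

open Cfsg CfsgLib.Schur CfsgLib.Schur.MatFThree CfsgLib.Schur.ConwayModel CfsgLib.Schur.PcConway
open CfsgLib.Presented (evW evW_cons evW_nil)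
open CfsgLib.Presented.SuzCosets (letters)
open CfsgLib.Sporadic (allFrom allFrom_append)
open scoped commutatorElement

/-- The step of the program of the lifts. -/
def liftStep : ℕ → Bool := slpStep ConwayBase.baseCodes liftN liftT liftO

theorem lift_prog0 : allFrom 0 300 liftStep = true := by decide +kernel

theorem lift_prog1 : allFrom 300 300 liftStep = true := by decide +kernel

theorem lift_prog2 : allFrom 600 (liftN - 600) liftStep = true := by decide +kernel

theorem lift_prog : allFrom 0 liftN (slpStep ConwayBase.baseCodes liftN liftT liftO) = true := by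
  have h := allFrom_append (allFrom_append lift_prog0 lift_prog1) lift_prog2
  exact h

theorem exists_at (i : ℕ) : ∃ g : Co0, i < liftN → Rep0 (liftT.get i) g := by
  by_cases h : i < liftN
  · obtain ⟨g, hg⟩ := rep_of_slp ConwayBase.exists_base lift_prog i h
    exact ⟨g, fun _ => hg⟩
  · exact ⟨1, fun h' => absurd h' h⟩

/-- The automorphism at a position of the program. -/
def at' (i : ℕ) : Co0 := (exists_at i).choose

theorem mat_at {i : ℕ} (h : i < liftN) : mat (at' i) = decF3 24 (liftT.get i) := (exists_at i).choose_spec h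

/-- The element of order three. -/
def omega : Co0 := at' omegaI

/-- Its centraliser. -/
def cent : Subgroup Co0 := Subgroup.centralizer {omega}

/-- The data check. -/
def liftOK : Bool :=
  Nat.blt omegaI liftN && Nat.blt unitI liftN &&
    keyF3 24 (liftT.get unitI) == keyF3 24 (negF3 (liftT.get omegaI)) &&
    (List.range 7).all (fun i => Nat.blt (liftI.getD i 0) liftN &&
      liftT.get (liftI.getD i 0) == liftCodes.getD i 0 &&
      keyF3 24 (mulF3 24 (liftCodes.getD i 0) (liftT.get omegaI)) ==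
        keyF3 24 (mulF3 24 (liftT.get omegaI) (liftCodes.getD i 0))) &&
    scalarCodes.getD 0 0 == oneF3 24 && scalarCodes.length == 6 &&
    keyF3 24 (mulF3 24 (scalarCodes.getD 5 0) (liftT.get unitI)) == keyF3 24 (oneF3 24) &&
    (List.range 5).all (fun k => keyF3 24 (scalarCodes.getD (k + 1) 0) ==
      keyF3 24 (mulF3 24 (scalarCodes.getD k 0) (liftT.get unitI))) &&
    (List.range 6).all (fun k => k == 0 || !(keyF3 24 (scalarCodes.getD k 0) == keyF3 24 (oneF3 24))) &&
    scalarCodes.all (fun s => !(keyF3 24 (liftCodes.getD 0 0) == keyF3 24 s)) &&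
    Nat.blt witC liftN && liftCodes.length == 7

theorem lift_ok : liftOK = true := by decide +kernel

theorem facts :
    omegaI < liftN ∧ unitI < liftN ∧
    decF3 24 (liftT.get unitI) = -decF3 24 (liftT.get omegaI) ∧
    (∀ i < 7, liftI.getD i 0 < liftN ∧ liftT.get (liftI.getD i 0) = liftCodes.getD i 0 ∧
      decF3 24 (liftCodes.getD i 0) * decF3 24 (liftT.get omegaI) =
        decF3 24 (liftT.get omegaI) * decF3 24 (liftCodes.getD i 0)) ∧
    scalarCodes.getD 0 0 = oneF3 24 ∧ scalarCodes.length = 6 ∧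
    decF3 24 (scalarCodes.getD 5 0) * decF3 24 (liftT.get unitI) = 1 ∧
    (∀ k < 5, decF3 24 (scalarCodes.getD (k + 1) 0) =
      decF3 24 (scalarCodes.getD k 0) * decF3 24 (liftT.get unitI)) ∧
    (∀ k < 6, k ≠ 0 → decF3 24 (scalarCodes.getD k 0) ≠ 1) ∧
    (∀ s ∈ scalarCodes, decF3 24 (liftCodes.getD 0 0) ≠ decF3 24 s) ∧
    witC < liftN ∧ liftCodes.length = 7 := by
  have h := lift_ok
  simp only [liftOK, Bool.and_eq_true, List.all_eq_true, List.mem_range, beq_iff_eq, Nat.blt_eq,
    Bool.or_eq_true, Bool.not_eq_true', beq_eq_false_iff_ne] at h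
  obtain ⟨⟨⟨⟨⟨⟨⟨⟨⟨⟨⟨h1, h2⟩, h3⟩, h4⟩, h5⟩, h6⟩, h7⟩, h8⟩, h9⟩, h10⟩, h11⟩, h12⟩ := h
  refine ⟨h1, h2, by rw [decF3_eq_of_key h3, decF3_negF3], fun i hi => ⟨(h4 i hi).1.1, (h4 i hi).1.2, ?_⟩,
    h5, h6, ?_, fun k hk => ?_, fun k hk hk0 => ?_, fun s hs => key_ne (h10 s hs), h11, h12⟩
  · rw [← decF3_mulF3, ← decF3_mulF3]; exact decF3_eq_of_key (h4 i hi).2
  · rw [← decF3_mulF3, decF3_eq_of_key h7, decF3_oneF3]
  · rw [decF3_eq_of_key (h8 k hk), decF3_mulF3]
  · rw [← decF3_oneF3 (n := 24)]
    exact key_ne ((h9 k hk).resolve_left hk0)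

theorem mem_cent_iff {a : Co0} : a ∈ cent ↔ a * omega = omega * a := by
  rw [cent, Subgroup.mem_centralizer_iff]
  exact ⟨fun h => (h omega rfl).symm, fun h b hb => by rw [Set.mem_singleton_iff.1 hb, h]⟩

theorem mat_omega : mat omega = decF3 24 (liftT.get omegaI) := mat_at facts.1

theorem mat_unit : mat (at' unitI) = -mat omega := by
  rw [mat_at facts.2.1, facts.2.2.1, mat_omega]

theorem unit_mem : at' unitI ∈ cent := by
  rw [mem_cent_iff]
  apply mat_injective
  rw [mat_mul, mat_mul, mat_unit, neg_mul, mul_neg]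

/-- The central element of order six. -/
def unit : cent := ⟨at' unitI, unit_mem⟩

theorem unit_central (a : cent) : unit * a = a * unit := by
  refine Subtype.ext (mat_injective ?_)
  show mat (at' unitI * a.1) = mat (a.1 * at' unitI)
  rw [mat_mul, mat_mul, mat_unit, neg_mul, mul_neg, ← mat_mul, ← mat_mul, mem_cent_iff.1 a.2]

/-- The scalars. -/
def scal : Subgroup cent := Subgroup.zpowers unit

instance scal_normal : scal.Normal := by
  refine ⟨fun n hn g => ?_⟩
  obtain ⟨k, rfl⟩ := Subgroup.mem_zpowers_iff.1 hn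
  rw [((show Commute unit g from unit_central g).zpow_left k).symm.eq, mul_inv_cancel_right]
  exact Subgroup.zpow_mem_zpowers _ _

theorem mat_pow : ∀ k < 6, mat (unit ^ k : cent).1 = decF3 24 (scalarCodes.getD k 0) := by
  intro k
  induction k with
  | zero => intro _; rw [facts.2.2.2.2.1, decF3_oneF3, pow_zero]; exact mat_one
  | succ k ih =>
    intro hk
    rw [facts.2.2.2.2.2.2.2.1 k (by omega), pow_succ, ← ih (by omega), ← mat_at facts.2.1, ← mat_mul]
    rfl

theorem unit_pow_six : unit ^ 6 = 1 := by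
  refine Subtype.ext (mat_injective ?_)
  rw [pow_succ]
  show mat ((unit ^ 5 : cent).1 * at' unitI) = mat 1
  rw [mat_mul, mat_pow 5 (by norm_num), mat_at facts.2.1, facts.2.2.2.2.2.2.1, mat_one]

theorem orderOf_unit : orderOf unit = 6 := by
  rw [orderOf_eq_iff (by norm_num)]
  refine ⟨unit_pow_six, fun k hk hk0 h => ?_⟩
  have := mat_pow k hk
  rw [h] at this
  exact facts.2.2.2.2.2.2.2.2.1 k hk hk0.ne' (this.symm.trans mat_one)

theorem scal_cases {a : cent} (ha : a ∈ scal) : ∃ k < 6, a = unit ^ k := by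
  have := CfsgLib.Golay.co0_finite
  classical
  rw [scal, mem_zpowers_iff_mem_range_orderOf, orderOf_unit] at ha
  obtain ⟨k, hk, e⟩ := Finset.mem_image.1 ha
  exact ⟨k, Finset.mem_range.1 hk, e.symm⟩

/-- A lift of a letter. -/
def liftEl (i : ℕ) : cent :=
  if h : i < 7 then ⟨at' (liftI.getD i 0), by
    rw [mem_cent_iff]
    apply mat_injective
    rw [mat_mul, mat_mul, mat_at (facts.2.2.2.1 i h).1, (facts.2.2.2.1 i h).2.1, mat_omega]
    exact (facts.2.2.2.1 i h).2.2⟩
  else 1

theorem mat_liftEl {i : ℕ} (h : i < 7) : mat (liftEl i).1 = decF3 24 (liftCodes.getD i 0) := by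
  rw [liftEl, dif_pos h]
  exact (mat_at (facts.2.2.2.1 i h).1).trans (by rw [(facts.2.2.2.1 i h).2.1])

/-- The images of the generators. -/
def genImage (g : Spor.Suz.Gen) : cent ⧸ scal := QuotientGroup.mk (liftEl (CfsgLib.Presented.SuzCosets.idxOf g))

theorem ev_letter {x : ℕ} (hx : x < 7) : letters.ev genImage x = QuotientGroup.mk (liftEl x) := by
  have h : ∀ x < 7, x < letters.A.eps ∧ (letters.gen x).2 = true ∧
      CfsgLib.Presented.SuzCosets.idxOf (letters.gen x).1 = x := by decide +kernel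
  obtain ⟨h1, h2, h3⟩ := h x hx
  rw [CfsgLib.Presented.Letters.ev, if_pos h1, h2, cond_true, genImage, h3]

/-- The code of a word in the lifts. -/
def wordCode : List ℕ → ℕ
  | [] => oneF3 24
  | i :: w => mulF3 24 (liftCodes.getD i 0) (wordCode w)

theorem word_mat : ∀ w : List ℕ, (∀ i ∈ w, i < 7) → ∃ h : cent,
    (QuotientGroup.mk h : cent ⧸ scal) = evW (letters.ev genImage) w ∧ mat h.1 = decF3 24 (wordCode w)
  | [], _ => ⟨1, by rw [evW_nil]; rfl, by rw [wordCode, decF3_oneF3]; exact mat_one⟩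
  | i :: w, hw => by
    obtain ⟨h, h1, h2⟩ := word_mat w fun j hj => hw j (List.mem_cons_of_mem _ hj)
    have hi := hw i List.mem_cons_self
    refine ⟨liftEl i * h, by rw [evW_cons, ← h1, ev_letter hi]; rfl, ?_⟩
    show mat ((liftEl i).1 * h.1) = _
    rw [mat_mul, mat_liftEl hi, h2, wordCode, decF3_mulF3]

/-- A word dies modulo the scalars. -/
def killOK (w : List ℕ) : Bool :=
  w.all (fun i => Nat.blt i 7) && scalarCodes.any fun s => keyF3 24 (wordCode w) == keyF3 24 s

theorem rels_killed : (CfsgLib.Presented.SuzCert.relWords ++ (List.range 7).map fun i => [i, i]).all killOK = true := by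
  decide +kernel

theorem evW_killed {w : List ℕ} (hw : killOK w = true) : evW (letters.ev genImage) w = 1 := by
  simp only [killOK, Bool.and_eq_true, List.all_eq_true, Nat.blt_eq, List.any_eq_true, beq_iff_eq] at hw
  obtain ⟨hlt, s, hs, he⟩ := hw
  obtain ⟨h, h1, h2⟩ := word_mat w hlt
  obtain ⟨k, hk, rfl⟩ := List.getElem_of_mem hs
  rw [← h1, QuotientGroup.eq_one_iff]
  have : h = unit ^ k := by
    refine Subtype.ext (mat_injective ?_)
    rw [h2, decF3_eq_of_key he, mat_pow k (facts.2.2.2.2.2.1 ▸ hk), List.getD_eq_getElem _ _ hk]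
  rw [this]
  exact Subgroup.npow_mem_zpowers _ _

theorem gens_sq : ∀ g ∈ letters.nodes, genImage g * genImage g = 1 := by
  intro g _
  have hlt : CfsgLib.Presented.SuzCosets.idxOf g < 7 := by cases g <;> decide
  have h := List.all_eq_true.1 rels_killed [CfsgLib.Presented.SuzCosets.idxOf g, CfsgLib.Presented.SuzCosets.idxOf g]
    (List.mem_append_right _ (List.mem_map.2 ⟨_, List.mem_range.2 hlt, rfl⟩))
  have h' := evW_killed h
  rwa [evW_cons, evW_cons, evW_nil, mul_one, ev_letter hlt] at h'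

theorem relators_killed : ∀ r ∈ Spor.coxRelators Spor.Suz.edges ∪ {r | r ∈ Spor.Suz.extra},
    FreeGroup.lift genImage r = 1 := by
  have hw : ∀ w ∈ letters.coxWords Spor.Suz.edges ++ letters.extraWords Spor.Suz.extra,
      evW (letters.ev genImage) w = 1 := fun w hw =>
    evW_killed (List.all_eq_true.1 rels_killed w (List.mem_append_left _
      (CfsgLib.Presented.SuzCosets.relWords_eq ▸ hw)))
  exact CfsgLib.Presented.Letters.kills CfsgLib.Presented.SuzCosets.letters_valid
    CfsgLib.Presented.SuzCosets.nodes_valid CfsgLib.Presented.SuzCosets.full gens_sq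
    (fun w h => hw w (List.mem_append_left _ h)) (fun w h => hw w (List.mem_append_right _ h))

/-- The presented group among the automorphisms modulo the scalars. -/
def phi : Spor.Suz →* cent ⧸ scal := PresentedGroup.toGroup relators_killed

theorem phi_of (g : Spor.Suz.Gen) : phi (PresentedGroup.of g) = genImage g := PresentedGroup.toGroup.of relators_killed

theorem natCard_Suz : Nat.card Spor.Suz = 448345497600 := CfsgLib.Presented.SuzOrder.card_eq

theorem finite_Suz : Finite Spor.Suz := Nat.finite_of_card_ne_zero (by rw [natCard_Suz]; norm_num)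

theorem phi_injective : Function.Injective phi := by
  have := CfsgLib.Presented.SuzSimple.simple
  rw [← MonoidHom.ker_eq_bot_iff]
  rcases phi.normal_ker.eq_bot_or_eq_top with h | h
  · exact h
  exfalso
  have h1 : phi (PresentedGroup.of Spor.Suz.Gen.a) = 1 := MonoidHom.mem_ker.1 (h ▸ Subgroup.mem_top _)
  rw [phi_of, genImage, QuotientGroup.eq_one_iff] at h1
  obtain ⟨k, hk, e⟩ := scal_cases h1
  have h2 := mat_liftEl (i := 0) (by norm_num)
  rw [show CfsgLib.Presented.SuzCosets.idxOf Spor.Suz.Gen.a = 0 from rfl] at e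
  rw [e, mat_pow k hk] at h2
  exact facts.2.2.2.2.2.2.2.2.2.1 _ (by
    rw [List.getD_eq_getElem _ _ (facts.2.2.2.2.2.1.symm ▸ hk)]; exact List.getElem_mem _) h2.symm

/-- The preimage among the automorphisms. -/
def pre : Subgroup Co0 := (phi.range.comap (QuotientGroup.mk' scal)).map cent.subtype

theorem word_range : ∀ w : List ℕ, (∀ i ∈ w, i < 7) → ∃ x : Spor.Suz, phi x = evW (letters.ev genImage) w
  | [], _ => ⟨1, by rw [evW_nil, map_one]⟩
  | i :: w, hw => by
    obtain ⟨x, hx⟩ := word_range w fun j hj => hw j (List.mem_cons_of_mem _ hj)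
    have hi := hw i List.mem_cons_self
    have hg : ∀ i < 7, CfsgLib.Presented.SuzCosets.idxOf (letters.gen i).1 = i := by decide +kernel
    refine ⟨PresentedGroup.of (letters.gen i).1 * x, ?_⟩
    rw [map_mul, hx, phi_of, evW_cons, ev_letter hi, genImage, hg i hi]

/-- The lifts and the scalars. -/
def baseSuz : List ℕ := liftCodes ++ scalarCodes

theorem exists_baseSuz : ∀ c ∈ baseSuz, ∃ g ∈ pre, Rep0 c g := by
  intro c hc
  rcases List.mem_append.1 hc with hc | hc
  · obtain ⟨i, hi, rfl⟩ := List.getElem_of_mem hc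
    have hi7 : i < 7 := facts.2.2.2.2.2.2.2.2.2.2.2 ▸ hi
    refine ⟨(liftEl i).1, ⟨liftEl i, ?_, rfl⟩, (mat_liftEl hi7).trans (by rw [List.getD_eq_getElem _ _ hi])⟩
    obtain ⟨x, hx⟩ := word_range [i] (by simpa using hi7)
    rw [evW_cons, evW_nil, mul_one, ev_letter hi7] at hx
    exact ⟨x, hx⟩
  · obtain ⟨k, hk, rfl⟩ := List.getElem_of_mem hc
    refine ⟨(unit ^ k : cent).1, ⟨unit ^ k, ?_, rfl⟩, (mat_pow k (facts.2.2.2.2.2.1 ▸ hk)).trans
      (by rw [List.getD_eq_getElem _ _ hk])⟩
    exact ⟨1, by rw [map_one]; exact ((QuotientGroup.eq_one_iff (N := scal) _).2 (Subgroup.npow_mem_zpowers _ _)).symm⟩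

theorem unit_pow_mod (n : ℕ) : unit ^ (n % 6) = unit ^ n := by
  rw [← orderOf_unit]
  exact pow_mod_orderOf _ _

/-- The group seen among the automorphisms. -/
def suzView : RelView Spor.Suz where
  lies a x := ∃ h : a ∈ cent, QuotientGroup.mk' scal ⟨a, h⟩ = phi x
  signs := scalarCodes
  one := ⟨one_mem _, by rw [map_one]; rfl⟩
  surj x := by
    obtain ⟨a, ha⟩ := QuotientGroup.mk'_surjective scal (phi x)
    exact ⟨a.1, a.2, ha⟩
  mul := by
    rintro a b x y ⟨ha, ea⟩ ⟨hb, eb⟩
    exact ⟨mul_mem ha hb, by rw [map_mul, ← ea, ← eb, ← map_mul]; rfl⟩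
  uniq := fun ⟨_, ea⟩ ⟨_, eb⟩ => phi_injective (ea.symm.trans eb)
  fibre := by
    rintro a b x ⟨ha, ea⟩ ⟨hb, eb⟩
    obtain ⟨k, hk, e⟩ := scal_cases (QuotientGroup.eq.1 (ea.trans eb.symm))
    have hk' : k < scalarCodes.length := facts.2.2.2.2.2.1.symm ▸ hk
    refine ⟨scalarCodes[k], List.getElem_mem hk', ?_⟩
    rw [← List.getD_eq_getElem _ 0 hk', ← mat_pow k hk, ← mat_mul]
    congr 1
    exact congrArg Subtype.val (eq_mul_of_inv_mul_eq e)
  signs_mul := by
    intro s hs t ht
    obtain ⟨i, hi, rfl⟩ := List.getElem_of_mem hs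
    obtain ⟨j, hj, rfl⟩ := List.getElem_of_mem ht
    have h6 := facts.2.2.2.2.2.1
    have hk : (i + j) % 6 < scalarCodes.length := h6.symm ▸ Nat.mod_lt _ (by norm_num)
    refine ⟨scalarCodes[(i + j) % 6], List.getElem_mem hk, ?_⟩
    rw [← List.getD_eq_getElem _ 0 hi, ← List.getD_eq_getElem _ 0 hj, ← List.getD_eq_getElem _ 0 hk,
      ← mat_pow i (h6 ▸ hi), ← mat_pow j (h6 ▸ hj), ← mat_pow _ (h6 ▸ hk), ← mat_mul,
      unit_pow_mod, pow_add]
    rfl
  signs_central := by
    rintro s hs a x ⟨ha, -⟩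
    obtain ⟨i, hi, rfl⟩ := List.getElem_of_mem hs
    rw [← List.getD_eq_getElem _ 0 hi, ← mat_pow i (facts.2.2.2.2.2.1 ▸ hi), ← mat_mul, ← mat_mul]
    exact congrArg (fun b : cent => mat b.1) ((show Commute unit ⟨a, ha⟩ from unit_central _).pow_left i).eq

/-- The least code of an element. -/
def normSix (c : ℕ) : ℕ := scalarCodes.foldl (fun m s => min m (mulF3 24 c s)) (mulF3 24 c (oneF3 24))

theorem rep_mulScalar {a : ℕ} {x : Spor.Suz} (h : RelRep suzView a x) {s : ℕ} (hs : s ∈ scalarCodes) :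
    RelRep suzView (mulF3 24 a s) x := by
  obtain ⟨g, hg, hgc, hx⟩ := h
  obtain ⟨k, hk, rfl⟩ := List.getElem_of_mem hs
  have hk6 : k < 6 := facts.2.2.2.2.2.1 ▸ hk
  refine ⟨g * (unit ^ k : cent).1,
    rep0_mul hg ((mat_pow k hk6).trans (by rw [List.getD_eq_getElem _ _ hk])), mul_mem hgc (unit ^ k : cent).2, ?_⟩
  rw [← hx, QuotientGroup.mk'_apply, QuotientGroup.mk'_apply]
  exact QuotientGroup.mk_mul_of_mem (s := scal) (⟨g, hgc⟩ : cent) (Subgroup.npow_mem_zpowers unit k)

theorem rep_normSix {a : ℕ} {x : Spor.Suz} (h : RelRep suzView a x) : RelRep suzView (normSix a) x := by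
  have hgen : ∀ l : List ℕ, (∀ s ∈ l, s ∈ scalarCodes) → ∀ m : ℕ, RelRep suzView m x →
      RelRep suzView (l.foldl (fun m s => min m (mulF3 24 a s)) m) x := by
    intro l
    induction l with
    | nil => exact fun _ m hm => hm
    | cons s l ih =>
      intro hl m hm
      refine ih (fun t ht => hl t (List.mem_cons_of_mem _ ht)) _ ?_
      show RelRep suzView (min m (mulF3 24 a s)) x
      rcases min_choice m (mulF3 24 a s) with e | e <;> rw [e]
      · exact hm
      · exact rep_mulScalar h (hl s List.mem_cons_self)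
  refine hgen _ (fun s hs => hs) _ (rep_mulScalar h ?_)
  rw [← facts.2.2.2.2.1, List.getD_eq_getElem _ _ (by rw [facts.2.2.2.2.2.1]; norm_num)]
  exact List.getElem_mem _

open CfsgLib.Sporadic in
/-- The bound from a certificate. -/
theorem spanAt_suz {p : ℕ} [Fact p.Prime] {R : Pc.Rules} {C : Pc.Cert}
    {n : ℕ} {T O : Tr} {gi ki cs ks : List ℕ} {fuel : ℕ} {seps : List (List ℕ)}
    (hslp : allFrom 0 n (slpStep baseSuz n T O) = true)
    (hlt : (gi ++ ki).all (fun i => Nat.blt i n) = true)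
    (hcs : gi.map (fun i => normSix (T.get i)) = cs) (hks : ki.map (fun i => normSix (T.get i)) = ks)
    (hpc : pcOK normSix (normSix (oneF3 24)) scalarCodes R C cs ks fuel seps = true)
    (hRp : R.p = p) {d : ℕ} (hd : ¬ p ∣ d)
    (hord : 448345497600 = p ^ R.n * d) {ords : List ℕ}
    (hlen : C.us.length = ords.length) (hords : C.ords = ords) :
    Pc.SpanAt p Spor.Suz ords := by
  simp only [List.all_eq_true, Nat.blt_eq] at hlt
  subst hcs hks
  have hex : ∀ i ∈ gi ++ ki, ∃ x, RelRep suzView (normSix (T.get i)) x := fun i hi => by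
    obtain ⟨_, ⟨h, ⟨x, hx⟩, rfl⟩, hg⟩ := rep_mem_of_slp exists_baseSuz hslp i (hlt i hi)
    exact ⟨x, rep_normSix ⟨h.1, hg, h.2, hx.symm⟩⟩
  have := finite_Suz
  refine spanAt_of_relPcOK suzView normSix (cone := normSix (oneF3 24))
    (rep_normSix ⟨1, rep0_one, suzView.one⟩) rep_normSix ?_ ?_ hpc hRp hd (natCard_Suz.trans hord) hlen hords
  · intro c hc
    obtain ⟨i, hi, rfl⟩ := List.mem_map.1 hc
    exact hex i (List.mem_append_left _ hi)
  · intro c hc
    obtain ⟨i, hi, rfl⟩ := List.mem_map.1 hc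
    exact hex i (List.mem_append_right _ hi)

/-- The witness check: the commutator of the two words, and its power. -/
def witOK : Bool :=
  witU.all (fun i => Nat.blt i 7) && witV.all (fun i => Nat.blt i 7) &&
    keyF3 24 (mulF3 24 (liftT.get witC) (mulF3 24 (wordCode witV) (wordCode witU))) ==
      keyF3 24 (mulF3 24 (wordCode witU) (wordCode witV)) &&
    keyF3 24 ((List.range witK).foldl (fun c _ => mulF3 24 c (liftT.get witC)) (oneF3 24)) ==
      keyF3 24 (liftT.get unitI)

theorem wit_ok : witOK = true := by decide +kernel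

/-- The sixfold cover. -/
def cover : Subgroup (cent × Spor.Suz) :=
  MonoidHom.eqLocus ((QuotientGroup.mk' scal).comp (MonoidHom.fst _ _)) (phi.comp (MonoidHom.snd _ _))

/-- Its projection. -/
def coverProj : cover →* Spor.Suz := (MonoidHom.snd _ _).comp cover.subtype

theorem exists_cover : ∃ (Γ : Type) (_ : Group Γ) (_ : Finite Γ) (σ : Γ →* Spor.Suz),
    IsStemExtension σ ∧ Nonempty (σ.ker ≃* Multiplicative (ZMod 6)) := by
  have := CfsgLib.Golay.co0_finite
  have := finite_Suz
  let z : cover := ⟨(unit, 1), show QuotientGroup.mk' scal unit = phi 1 by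
    rw [map_one]; exact (QuotientGroup.eq_one_iff _).2 (Subgroup.mem_zpowers _)⟩
  have hker : coverProj.ker = Subgroup.zpowers z := by
    refine le_antisymm (fun y hy => ?_) (Subgroup.zpowers_le.2 rfl)
    have h1 : y.1.2 = 1 := hy
    have h2 : y.1.1 ∈ scal := by
      rw [← QuotientGroup.eq_one_iff]
      exact (show QuotientGroup.mk' scal y.1.1 = phi y.1.2 from y.2).trans (by rw [h1, map_one])
    obtain ⟨k, -, e⟩ := scal_cases h2
    refine ⟨k, Subtype.ext (Prod.ext ?_ ?_)⟩
    · simp [z, e]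
    · simp [z, h1]
  have hord : orderOf z = 6 := by
    rw [← Subgroup.orderOf_coe z, Prod.orderOf, orderOf_unit, orderOf_one]
    rfl
  have hcomm : z ∈ commutator cover := by
    have h := wit_ok
    simp only [witOK, Bool.and_eq_true, List.all_eq_true, Nat.blt_eq, beq_iff_eq] at h
    obtain ⟨⟨⟨hu, hv⟩, hc⟩, hp⟩ := h
    obtain ⟨gu, eu, mu⟩ := word_mat witU hu
    obtain ⟨gv, ev, mv⟩ := word_mat witV hv
    obtain ⟨xu, hxu⟩ := word_range witU hu
    obtain ⟨xv, hxv⟩ := word_range witV hv
    let pu : cover := ⟨(gu, xu), show QuotientGroup.mk' scal gu = phi xu by rw [hxu]; exact eu⟩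
    let pv : cover := ⟨(gv, xv), show QuotientGroup.mk' scal gv = phi xv by rw [hxv]; exact ev⟩
    have hwc := mat_at facts.2.2.2.2.2.2.2.2.2.2.1
    have e1 : at' witC = ⁅gu.1, gv.1⁆ := by
      have h1 : at' witC * (gv.1 * gu.1) = gu.1 * gv.1 := by
        apply mat_injective
        rw [mat_mul, mat_mul, mat_mul, hwc, mu, mv, ← decF3_mulF3, ← decF3_mulF3, ← decF3_mulF3]
        exact decF3_eq_of_key hc
      rw [commutatorElement_def, ← h1]
      group
    have hfold : ∀ k, mat (at' witC ^ k) =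
        decF3 24 ((List.range k).foldl (fun c _ => mulF3 24 c (liftT.get witC)) (oneF3 24)) := by
      intro k
      induction k with
      | zero => simp [decF3_oneF3, mat_one]
      | succ k ih => rw [List.range_succ, List.foldl_append, List.foldl_cons, List.foldl_nil, decF3_mulF3, ← ih,
          pow_succ, mat_mul, hwc]
    have e2 : (⁅gu, gv⁆ : cent) ^ witK = unit := by
      refine Subtype.ext (mat_injective ?_)
      show mat (⁅gu.1, gv.1⁆ ^ witK) = mat (at' unitI)
      rw [← e1, hfold, decF3_eq_of_key hp, mat_at facts.2.1]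
    have e3 : (⁅xu, xv⁆ : Spor.Suz) ^ witK = 1 := by
      refine phi_injective ?_
      rw [map_pow, map_commutatorElement, hxu, hxv, ← eu, ← ev, map_one]
      show ⁅QuotientGroup.mk' scal gu, QuotientGroup.mk' scal gv⁆ ^ witK = 1
      rw [← map_commutatorElement, ← map_pow, e2]
      exact (QuotientGroup.eq_one_iff _).2 (Subgroup.mem_zpowers _)
    have hz : z = ⁅pu, pv⁆ ^ witK := by
      refine Subtype.ext (Prod.ext ?_ ?_)
      · exact e2.symm
      · exact e3.symm
    rw [hz]
    exact pow_mem (Subgroup.commutator_mem_commutator (Subgroup.mem_top _) (Subgroup.mem_top _)) _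
  refine ⟨cover, inferInstance, inferInstance, coverProj, ⟨fun x => ?_, fun y hy => ?_, ?_⟩, ⟨?_⟩⟩
  · obtain ⟨a, ha⟩ := QuotientGroup.mk'_surjective scal (phi x)
    exact ⟨⟨(a, x), ha⟩, rfl⟩
  · rw [Subgroup.mem_center_iff]
    intro w
    rw [hker] at hy
    obtain ⟨k, rfl⟩ := Subgroup.mem_zpowers_iff.1 hy
    refine (Commute.zpow_right ?_ k).eq
    exact Subtype.ext (Prod.ext (unit_central w.1.1).symm ((mul_one _).trans (one_mul _).symm))
  · rw [hker, Subgroup.zpowers_le]
    exact hcomm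
  · have hc : IsCyclic coverProj.ker := hker ▸ inferInstance
    exact mulEquivOfCyclicCardEq (by rw [hker, Nat.card_zpowers, hord]; simp)

end CfsgLib.Schur.MultiplierSuz
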