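import Cfsg.Agent.Lib.Schur.MultiplierTitsData
import Cfsg.Agent.Lib.Schur.PcAssemble
import Cfsg.Agent.Lib.Schur.CriteriaElements
import Cfsg.Agent.Lib.Sporadic.MatF2
import Cfsg.Agent.Lib.Sporadic.Chain
import Cfsg.Agent.Lib.TwistedStr.TitsSimple

/-!
The Schur multiplier of the Tits group ²F₄(2)′ is trivial.
-/

set_option autoImplicit false
set_option maxRecDepth 20000
-- one certificate at a time keeps the memory low
set_option Elab.async false

noncomputable section

namespace CfsgLib.Schur.MultiplierTits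

open Cfsg.Lie CfsgLib.Sporadic CfsgLib.Schur CfsgLib.Twisted CfsgLib.RankThree CfsgLib.ChevStr
open scoped MatrixGroups

/-- Numbering of the coordinates. -/
def eIdx : chevF4.Idx ≃ Fin 52 := finSumFinEquiv

/-- The code of the identity. -/
def one52 : ℕ := oneF2 52

/-- Product of codes. -/
def mul52 (a b : ℕ) : ℕ := mulF2 52 a b

/-- The matrix coded by a number. -/
def dec (c : ℕ) : Matrix chevF4.Idx chevF4.Idx (ZMod 2) := (decF2 52 c).submatrix eIdx eIdx

theorem dec_one : dec one52 = 1 := by
  rw [dec, one52, decF2_oneF2, Matrix.submatrix_one_equiv]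

theorem dec_mul (a b : ℕ) : dec (mul52 a b) = dec a * dec b := by
  rw [dec, dec, dec, mul52, decF2_mulF2, Matrix.submatrix_mul_equiv]

theorem dec_inj {a b : ℕ} (ha : canonF2 52 a = true) (hb : canonF2 52 b = true)
    (h : dec a = dec b) : a = b := by
  refine decF2_injOn ha hb (Matrix.ext fun i j => ?_)
  simpa [dec] using congrFun (congrFun h (eIdx.symm i)) (eIdx.symm j)

theorem canon_mul (a b : ℕ) : canonF2 52 (mul52 a b) = true := by
  rw [canonF2, Nat.blt_eq]
  have h : ∀ m ≤ 52, xorUpto (fun k => ((a >>> k) &&& colMask 52 52) * ((b >>> (52 * k)) % 2 ^ 52)) m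
      < 2 ^ (52 * 52) := by
    intro m
    induction m with
    | zero => intro _; exact Nat.two_pow_pos _
    | succ m ih =>
      intro hm
      refine Nat.xor_lt_two_pow (ih (by omega)) ?_
      have h1 : (a >>> m) &&& colMask 52 52 ≤ colMask 52 52 := Nat.and_le_right
      have h2 : (b >>> (52 * m)) % 2 ^ 52 ≤ 2 ^ 52 - 1 :=
        Nat.le_sub_one_of_lt (Nat.mod_lt _ (Nat.two_pow_pos _))
      refine Nat.lt_of_le_of_lt (Nat.mul_le_mul h1 h2) ?_
      decide +kernel
  exact h 52 le_rfl

/-- An integer congruent to the entry `(i, j)` of the root element number `r`. -/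
def entryZ (r i j : ℕ) : ℤ :=
  if j < 4 then
    if i < 4 then (if i = j then 1 else 0)
    else if i - 4 = r then -((chevF4.cartanSR.getD j #[]).getD r 0) else 0
  else if j - 4 = r then
    (if i < 4 then 0 else if i - 4 = r then 1 else 0)
  else if j - 4 = chevF4.negIdx.getD r 0 then
    (if i < 4 then (chevF4.coroot.getD r #[]).getD i 0
    else if i - 4 = j - 4 then 1 else if i - 4 = r then -1 else 0)
  else if i < 4 then 0
  else (if i - 4 = j - 4 then 1 else 0) + ((chevF4.chainCoeff r (j - 4) (i - 4)).map fun km => km.2).sum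

theorem eIdx_inl (a : Fin chevF4.rank) : (eIdx (Sum.inl a)).val = a.val := rfl

theorem eIdx_inr (a : Fin chevF4.nroots) : (eIdx (Sum.inr a)).val = 4 + a.val := rfl

theorem x_apply_eq (r : Fin 48) (a b : chevF4.Idx) :
    chevF4.x (ZMod 2) r.val 1 a b = ((entryZ r.val (eIdx a).val (eIdx b).val : ℤ) : ZMod 2) := by
  have hr : r.val < chevF4.nroots := r.isLt
  rw [ChevalleyDatum.x, dif_pos hr]
  rcases b with b | b <;> rcases a with a | a
  all_goals
    simp only [eIdx_inl, eIdx_inr]
  · have ha : a.val < 4 := a.isLt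
    have hb : b.val < 4 := b.isLt
    simp [ChevalleyDatum.xMat, entryZ, ha, hb, Fin.ext_iff]
  · have hb : b.val < 4 := b.isLt
    simp [ChevalleyDatum.xMat, entryZ, hb, Fin.ext_iff]
  · have ha : a.val < 4 := a.isLt
    simp [ChevalleyDatum.xMat, entryZ, ha, Fin.ext_iff]
  · simp [ChevalleyDatum.xMat, entryZ, Fin.ext_iff, Function.comp_def]

/-- The code of the root element number `r` is correct at the given entry. -/
def entryOK (r i j : ℕ) : Bool :=
  entryZ r i j % 2 == if (rootCodes.getD r 0).testBit (i * 52 + j) then 1 else 0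

theorem roots_ok0 :
    allFrom 0 6 (fun r => allFrom 0 52 fun i => allFrom 0 52 fun j => entryOK r i j) = true := by
  decide +kernel

theorem roots_ok1 :
    allFrom 6 6 (fun r => allFrom 0 52 fun i => allFrom 0 52 fun j => entryOK r i j) = true := by
  decide +kernel

theorem roots_ok2 :
    allFrom 12 6 (fun r => allFrom 0 52 fun i => allFrom 0 52 fun j => entryOK r i j) = true := by
  decide +kernel

theorem roots_ok3 :
    allFrom 18 6 (fun r => allFrom 0 52 fun i => allFrom 0 52 fun j => entryOK r i j) = true := by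
  decide +kernel

theorem roots_ok4 :
    allFrom 24 6 (fun r => allFrom 0 52 fun i => allFrom 0 52 fun j => entryOK r i j) = true := by
  decide +kernel

theorem roots_ok5 :
    allFrom 30 6 (fun r => allFrom 0 52 fun i => allFrom 0 52 fun j => entryOK r i j) = true := by
  decide +kernel

theorem roots_ok6 :
    allFrom 36 6 (fun r => allFrom 0 52 fun i => allFrom 0 52 fun j => entryOK r i j) = true := by
  decide +kernel

theorem roots_ok7 :
    allFrom 42 6 (fun r => allFrom 0 52 fun i => allFrom 0 52 fun j => entryOK r i j) = true := by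
  decide +kernel

theorem roots_ok {r i j : ℕ} (hr : r < 48) (hi : i < 52) (hj : j < 52) :
    entryOK r i j = true := by
  have h : allFrom 0 52 (fun i => allFrom 0 52 fun j => entryOK r i j) = true := by
    rcases (by omega : r < 6 ∨ (6 ≤ r ∧ r < 12) ∨ (12 ≤ r ∧ r < 18) ∨ (18 ≤ r ∧ r < 24) ∨
        (24 ≤ r ∧ r < 30) ∨ (30 ≤ r ∧ r < 36) ∨ (36 ≤ r ∧ r < 42) ∨ 42 ≤ r) with
      h | ⟨h, h'⟩ | ⟨h, h'⟩ | ⟨h, h'⟩ | ⟨h, h'⟩ | ⟨h, h'⟩ | ⟨h, h'⟩ | h
    · exact allFrom_eq_true.1 roots_ok0 r (Nat.zero_le r) h
    · exact allFrom_eq_true.1 roots_ok1 r h (by omega)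
    · exact allFrom_eq_true.1 roots_ok2 r h (by omega)
    · exact allFrom_eq_true.1 roots_ok3 r h (by omega)
    · exact allFrom_eq_true.1 roots_ok4 r h (by omega)
    · exact allFrom_eq_true.1 roots_ok5 r h (by omega)
    · exact allFrom_eq_true.1 roots_ok6 r h (by omega)
    · exact allFrom_eq_true.1 roots_ok7 r h (by omega)
  exact of_allFrom_zero (of_allFrom_zero h hi) hj

theorem x_eq_dec (r : Fin 48) : chevF4.x (ZMod 2) r.val 1 = dec (rootCodes.getD r.val 0) := by
  ext a b
  have h := roots_ok r.isLt (eIdx a).isLt (eIdx b).isLt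
  rw [x_apply_eq, ← ZMod.intCast_mod _ 2]
  show _ = (((rootCodes.getD r.val 0).testBit ((eIdx a).val * 52 + (eIdx b).val)).toNat : ZMod 2)
  rw [entryOK, beq_iff_eq] at h
  push_cast
  rw [h]
  cases (rootCodes.getD r.val 0).testBit ((eIdx a).val * 52 + (eIdx b).val) <;> simp

theorem genWord_rootCodes : ∀ w : List ℕ, (∀ r ∈ w, r < 48) →
    (W C2 w : Matrix chevF4.Idx chevF4.Idx (ZMod 2)) = dec (genWord mul52 one52 rootCodes w)
  | [], _ => by rw [W_nil, Units.val_one]; exact dec_one.symm
  | r :: w, h => by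
    rw [W_cons, Units.val_mul, ChevCore.coe_xGL, x_eq_dec ⟨r, h r List.mem_cons_self⟩,
      genWord_rootCodes w fun s hs => h s (List.mem_cons_of_mem _ hs), genWord, dec_mul]
    have hr : r < rootCodes.length := lt_of_lt_of_eq (h r List.mem_cons_self) (by decide +kernel)
    rw [List.getD_eq_getElem _ _ hr, List.getD_eq_getElem _ _ hr]

/-- The generators: the fixed part of `U` in the derived group and its two conjugates. -/
def genWords : List (List ℕ) :=
  (List.range' 1 11).map gWord ++ (List.range' 1 11).map (fun k => turn 0 (gWord k)) ++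
    (List.range' 1 11).map (fun k => turn 1 (gWord k))

theorem gens_ok :
    (genWords == genRoots) = true ∧
      genRoots.map (genWord mul52 one52 rootCodes) = genCodes ∧
      genRoots.all (fun w => w.all fun r => decide (r < 48)) = true ∧
      (List.range' 1 11).all (fun k => (gWord k).all fun r => decide (r < 48)) = true := by
  decide +kernel

theorem gen_mem {w : List ℕ} (hw : w ∈ genWords) : W C2 w ∈ D2 := by
  have hS : ∀ k ∈ List.range' 1 11, W C2 (gWord k) ∈ D2 := fun k hk =>
    S2_le_D2 (gElt_mem_tail (List.mem_range'_1.1 hk).1 (by have := (List.mem_range'_1.1 hk).2; omega))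
  have hT : ∀ (i : Fin 2), ∀ k ∈ List.range' 1 11, W C2 (turn i (gWord k)) ∈ D2 := fun i k hk => by
    rw [← s2_conj_W i _ fun r hr => of_decide_eq_true
      (List.all_eq_true.1 (List.all_eq_true.1 gens_ok.2.2.2 k hk) r hr)]
    exact D2_conj (gens2.s_mem i) _ (hS k hk)
  simp only [genWords, List.mem_append, List.mem_map] at hw
  rcases hw with (⟨k, hk, rfl⟩ | ⟨k, hk, rfl⟩) | ⟨k, hk, rfl⟩
  · exact hS k hk
  · exact hT 0 k hk
  · exact hT 1 k hk

/-- The matrix of an element of the Tits group. -/
def toMat : TitsGroup →* Matrix chevF4.Idx chevF4.Idx (ZMod 2) :=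
  ((Units.coeHom _).comp G2F4.subtype).comp (commutator ↥G2F4).subtype

theorem toMat_injective : Function.Injective toMat :=
  (Units.coeHom_injective.comp G2F4.subtype_injective).comp (commutator ↥G2F4).subtype_injective

theorem exists_of_mem {g : GL chevF4.Idx (ZMod 2)} (h : g ∈ D2) :
    ∃ x : TitsGroup, toMat x = (g : Matrix chevF4.Idx chevF4.Idx (ZMod 2)) := by
  rw [← map_derived.1, Subgroup.mem_map] at h
  obtain ⟨y, hy, rfl⟩ := h
  exact ⟨⟨y, hy⟩, rfl⟩

/-- A code of an element of the Tits group. -/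
def Rep (a : ℕ) (x : TitsGroup) : Prop := canonF2 52 a = true ∧ toMat x = dec a

theorem rep_one : Rep one52 1 := ⟨by decide +kernel, by rw [map_one, dec_one]⟩

theorem rep_mul {a b : ℕ} {x y : TitsGroup} (hx : Rep a x) (hy : Rep b y) :
    Rep (mul52 a b) (x * y) :=
  ⟨canon_mul _ _, by rw [map_mul, hx.2, hy.2, dec_mul]⟩

theorem rep_uniq {a : ℕ} {x y : TitsGroup} (hx : Rep a x) (hy : Rep a y) : x = y :=
  toMat_injective (hx.2.trans hy.2.symm)

theorem rep_code {a b : ℕ} {x : TitsGroup} (hx : Rep a x) (hy : Rep b x) : a = b :=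
  dec_inj hx.1 hy.1 (hx.2.symm.trans hy.2)

theorem rep_genWord : ∀ w : List ℕ, ∃ x, Rep (genWord mul52 one52 genCodes w) x
  | [] => ⟨1, rep_one⟩
  | k :: w => by
    obtain ⟨y, hy⟩ := rep_genWord w
    rcases Nat.lt_or_ge k genRoots.length with hk | hk
    · obtain ⟨hgw, hcodes, hlt, -⟩ := gens_ok
      have hmem : genRoots[k] ∈ genWords := by
        rw [beq_iff_eq.1 hgw]
        exact List.getElem_mem hk
      obtain ⟨x, hx⟩ := exists_of_mem (gen_mem hmem)
      rw [genWord_rootCodes _ fun r hr => of_decide_eq_true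
        (List.all_eq_true.1 (List.all_eq_true.1 hlt _ (List.getElem_mem hk)) r hr)] at hx
      have hgen : genCodes.getD k one52 = genWord mul52 one52 rootCodes genRoots[k] := by
        rw [← hcodes, List.getD_eq_getElem _ _ (by rwa [List.length_map]), List.getElem_map]
      refine ⟨x * y, canon_mul _ _, ?_⟩
      rw [genWord, map_mul, hy.2, hx, hgen, dec_mul]
    · refine ⟨y, canon_mul _ _, ?_⟩
      rw [genWord, List.getD_eq_default _ _ (by rw [← gens_ok.2.1, List.length_map]; exact hk),
        dec_mul, dec_one, one_mul, hy.2]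

/-- The list is strictly increasing and lies above `a`. -/
def incFrom : ℕ → List ℕ → Bool
  | _, [] => true
  | a, b :: l => Nat.blt a b && incFrom b l

theorem pairwise_of_incFrom : ∀ {a : ℕ} {l : List ℕ}, incFrom a l = true → (a :: l).Pairwise (· < ·)
  | _, [], _ => List.pairwise_singleton _ _
  | a, b :: l, h => by
    simp only [incFrom, Bool.and_eq_true, Nat.blt_eq] at h
    have ih := pairwise_of_incFrom h.2
    refine List.pairwise_cons.2 ⟨fun x hx => ?_, ih⟩
    rcases List.mem_cons.1 hx with rfl | hx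
    · exact h.1
    · exact h.1.trans ((List.pairwise_cons.1 ih).1 x hx)

/-- The list is tabulated by the tree, and its entries in the given order increase. -/
def treeSorted (l : List ℕ) (T : Tr) (N : ℕ) (idx : List ℕ) : Bool :=
  l == (List.range N).map T.get && idx.length == N && idx.all (fun i => Nat.blt i N) &&
    incFrom 0 (idx.map T.get)

theorem of_treeSorted {l : List ℕ} {T : Tr} {N : ℕ} {idx : List ℕ}
    (h : treeSorted l T N idx = true) : l.Nodup ∧ l.length = N := by
  simp only [treeSorted, Bool.and_eq_true, beq_iff_eq, List.all_eq_true, Nat.blt_eq] at h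
  obtain ⟨⟨⟨hl, hlen⟩, hlt⟩, hinc⟩ := h
  have hnd : (idx.map T.get).Nodup :=
    ((List.pairwise_cons.1 (pairwise_of_incFrom hinc)).2).imp fun h => Nat.ne_of_lt h
  have hsub : idx ⊆ List.range N := fun i hi => List.mem_range.2 (hlt i hi)
  have hperm := (List.subperm_of_subset (List.Nodup.of_map _ hnd) hsub).perm_of_length_le
    (by rw [List.length_range, hlen])
  subst hl
  exact ⟨(hperm.map _).nodup_iff.1 hnd, by simp⟩

/-- Everything to check for a certificate. -/
def certOK (R : Pc.Rules) (C : Pc.Cert) (cs ks : List ℕ) (cw kw : List (List ℕ)) (fuel : ℕ)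
    (idx : List ℕ) (T : Tr) : Bool :=
  (cw.map (genWord mul52 one52 genCodes) == cs) && (kw.map (genWord mul52 one52 genCodes) == ks) &&
    R.shapeOK && C.eqnsOK R fuel && C.solveOK R &&
    Pc.holdsOK mul52 one52 R C cs ks &&
    treeSorted (Pc.pcElems mul52 one52 R.p R.n cs R.n) T (R.p ^ R.n) idx

theorem exists_rep {cs : List ℕ} {cw : List (List ℕ)}
    (h : cw.map (genWord mul52 one52 genCodes) = cs) (i : ℕ) : ∃ x, Rep (cs.getD i one52) x := by
  rcases Nat.lt_or_ge i cs.length with hi | hi
  · rw [List.getD_eq_getElem _ _ hi]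
    obtain ⟨w, -, e⟩ := List.mem_map.1 (by rw [h]; exact List.getElem_mem hi :
      cs[i] ∈ cw.map (genWord mul52 one52 genCodes))
    rw [← e]
    exact rep_genWord w
  · rw [List.getD_eq_default _ _ hi]
    exact ⟨1, rep_one⟩

theorem spanAt_of_certOK {p : ℕ} [Fact p.Prime] {R : Pc.Rules} {C : Pc.Cert}
    {cs ks : List ℕ} {cw kw : List (List ℕ)} {fuel : ℕ} {idx : List ℕ} {T : Tr}
    (hok : certOK R C cs ks cw kw fuel idx T = true) (hRp : R.p = p) {d : ℕ} (hd : ¬ p ∣ d)
    (hord : 17971200 = p ^ R.n * d) {ords : List ℕ} (hlen : C.us.length = ords.length)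
    (hords : C.ords = ords) : Pc.SpanAt p TitsGroup ords := by
  simp only [certOK, Bool.and_eq_true, beq_iff_eq] at hok
  obtain ⟨⟨⟨⟨⟨⟨hcs, hks⟩, hshape⟩, heqs⟩, hsolve⟩, hholds⟩, hsort⟩ := hok
  choose gs hgs using exists_rep hcs
  choose cg hcg using exists_rep hks
  have : Finite TitsGroup := Nat.finite_of_card_ne_zero (by rw [card_tits]; norm_num)
  have hH := Pc.holds_of_check Rep rep_one rep_mul rep_uniq hgs hcg hholds
  have hle := Pc.le_card_of_elems Rep rep_one rep_mul rep_code hgs R.p R.n
    (of_treeSorted hsort).1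
  have hl2 : R.p ^ R.n ≤ (Pc.pcElems mul52 one52 R.p R.n cs R.n).length :=
    (of_treeSorted hsort).2.ge
  exact Pc.spanAt_of_cert hH hshape heqs hsolve hRp (hRp ▸ hl2.trans hle) hd
    (by rw [card_tits]; exact hord) hlen hords

theorem two_ok :
    certOK twoRules twoCert twoGens twoConj twoWords twoConjWords twoFuel twoIdx twoElems = true := by
  decide +kernel

theorem three_ok :
    certOK threeRules threeCert threeGens threeConj threeWords threeConjWords threeFuel threeIdx threeElems =
      true := by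
  decide +kernel

theorem five_ok :
    certOK fiveRules fiveCert fiveGens fiveConj fiveWords fiveConjWords fiveFuel fiveIdx fiveElems = true := by
  decide +kernel

theorem multiplier : Cfsg.HasCyclicSchurMultiplier TitsGroup 1 := by
  have hfin : Finite TitsGroup := Nat.finite_of_card_ne_zero (by rw [card_tits]; norm_num)
  refine hasCyclicSchurMultiplier_one fun p hp => ?_
  have : Fact p.Prime := ⟨hp⟩
  by_cases hd : p ∣ Nat.card TitsGroup
  · rw [card_tits, show (17971200 : ℕ) = 2 ^ 11 * 3 ^ 3 * 5 ^ 2 * 13 by norm_num] at hd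
    rcases hp.dvd_mul.mp hd with hd | hd
    rcases hp.dvd_mul.mp hd with hd | hd
    rcases hp.dvd_mul.mp hd with hd | hd
    · obtain rfl := (Nat.prime_dvd_prime_iff_eq hp Nat.prime_two).mp (hp.dvd_of_dvd_pow hd)
      exact Pc.noMultiplierAt_of_spanAt (spanAt_of_certOK (p := 2) two_ok rfl (d := 8775)
        (by norm_num) (by norm_num [twoRules]) rfl rfl)
    · obtain rfl := (Nat.prime_dvd_prime_iff_eq hp Nat.prime_three).mp (hp.dvd_of_dvd_pow hd)
      exact Pc.noMultiplierAt_of_spanAt (spanAt_of_certOK (p := 3) three_ok rfl (d := 665600)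
        (by norm_num) (by norm_num [threeRules]) rfl rfl)
    · obtain rfl := (Nat.prime_dvd_prime_iff_eq hp (by norm_num)).mp (hp.dvd_of_dvd_pow hd)
      exact Pc.noMultiplierAt_of_spanAt (spanAt_of_certOK (p := 5) five_ok rfl (d := 718848)
        (by norm_num) (by norm_num [fiveRules]) rfl rfl)
    · obtain rfl := (Nat.prime_dvd_prime_iff_eq hp (by norm_num)).mp hd
      obtain ⟨S⟩ := (inferInstance : Nonempty (Sylow 13 TitsGroup))
      refine noMultiplierAt_of_cyclic S (isCyclic_of_prime_card (p := 13) ?_)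
      rw [Sylow.card_eq_multiplicity, card_tits,
        show (17971200 : ℕ) = 13 ^ 1 * 1382400 by norm_num,
        Nat.factorization_mul (by norm_num) (by norm_num), Finsupp.add_apply,
        hp.factorization_pow, Finsupp.single_eq_same,
        Nat.factorization_eq_zero_of_not_dvd (by norm_num)]
      norm_num
  · exact noMultiplierAt_of_not_dvd hd

end CfsgLib.Schur.MultiplierTits

end
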