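import Cfsg.Agent.Lib.Schur.MultiplierU62Checks
import Cfsg.Agent.Lib.Presented.Fi22Unitary.Cover
import Cfsg.Agent.Lib.SchurCover.Universal

/-!
The double cover of `PSU₆(2)` mapped onto it by its action on the isotropic points, and the
automorphism given by a diagonal unitary matrix of determinant `ω`.
-/

set_option autoImplicit false
set_option linter.unusedSectionVars false
set_option linter.unusedVariables false
set_option maxRecDepth 100000
set_option Elab.async false

noncomputable section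

namespace CfsgLib.Schur.MultiplierU62

open CfsgLib.Sporadic Matrix
open CfsgLib.Recognition.G2Four (F4)
open CfsgLib.Presented.Fi22Unitary
open CfsgLib.ThreeTrans.USix (IsTvAt)
open CfsgLib.Presented.Fi22UCosets (ev rep_valid H)
open CfsgLib.Presented.Fi22UCert (rep)
open CfsgLib.Presented (invWord evW evW_append evW_invWord Rep.evW_eq_one)
open scoped commutatorElement

universe u

/-! ### Words in the double cover -/

/-- The word of a commutator of two words in the generators. -/
def commWord (x y : List ℕ) : List ℕ :=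
  expand x ++ expand y ++ invWord rep.A (expand x) ++ invWord rep.A (expand y)

theorem comm_rels_two : rep.relsOK [commWord xTwo yTwo ++ [0]] = true := by decide +kernel

theorem comm_rels_one : rep.relsOK [commWord xOne yOne] = true := by decide +kernel

theorem comm_rels :
    rep.relsOK [commWord xTwo yTwo ++ [0]] = true ∧ rep.relsOK [commWord xOne yOne] = true ∧
      ((xOne ++ yOne ++ xTwo ++ yTwo).all fun k => Nat.blt k 8) = true :=
  ⟨comm_rels_two, comm_rels_one, by decide +kernel⟩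

theorem good_rep : rep.A.Good ev :=
  ⟨Presented.Fi22UCosets.ev_one, fun x hx => by
    rcases Nat.eq_or_lt_of_le hx with h | h
    · subst h
      have e : rep.A.invl rep.A.eps = rep.A.eps := by decide +kernel
      rw [e]
      exact (congrArg₂ (· * ·) Presented.Fi22UCosets.ev_one Presented.Fi22UCosets.ev_one).trans (one_mul 1)
    · exact Presented.Fi22UCosets.ev_inv x h⟩

theorem gWord_mem {k : ℕ} (hk : k < 8) {y : ℕ} (hy : y ∈ gWords.getD k []) : y < rep.A.eps := by
  have hb := List.all_eq_true.1 words_ok k (List.mem_range.2 hk)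
  simp only [Bool.and_eq_true, List.all_eq_true, Nat.blt_eq] at hb
  exact hb.1.1 y hy

theorem expand_lt : ∀ {ks : List ℕ}, (∀ k ∈ ks, k < 8) → ∀ y ∈ expand ks, y < rep.A.eps := by
  intro ks h y hy
  simp only [expand, List.mem_flatMap] at hy
  obtain ⟨k, hk, hy⟩ := hy
  exact gWord_mem (h k hk) hy

theorem expand_mem : ∀ {ks : List ℕ}, (∀ k ∈ ks, k < 8) → evW ev (expand ks) ∈ H
  | [], _ => by simp [expand]
  | k :: ks, h => by
    rw [show expand (k :: ks) = gWords.getD k [] ++ expand ks from List.flatMap_cons, evW_append]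
    exact H.mul_mem (g_mem (h k List.mem_cons_self))
      (expand_mem fun y hy => h y (List.mem_cons_of_mem _ hy))

/-- The element of a word. -/
def hWord (ks : List ℕ) (h : ∀ k ∈ ks, k < 8) : H := ⟨evW ev (expand ks), expand_mem h⟩

theorem xOne_lt : ∀ k ∈ xOne, k < 8 := fun k hk => Eq.mp Nat.blt_eq
  (List.all_eq_true.1 comm_rels.2.2 k (by simp [hk]))
theorem yOne_lt : ∀ k ∈ yOne, k < 8 := fun k hk => Eq.mp Nat.blt_eq
  (List.all_eq_true.1 comm_rels.2.2 k (by simp [hk]))
theorem xTwo_lt : ∀ k ∈ xTwo, k < 8 := fun k hk => Eq.mp Nat.blt_eq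
  (List.all_eq_true.1 comm_rels.2.2 k (by simp [hk]))
theorem yTwo_lt : ∀ k ∈ yTwo, k < 8 := fun k hk => Eq.mp Nat.blt_eq
  (List.all_eq_true.1 comm_rels.2.2 k (by simp [hk]))

theorem evW_commWord {x y : List ℕ} (hx : ∀ k ∈ x, k < 8) (hy : ∀ k ∈ y, k < 8) :
    evW ev (commWord x y) = ⁅evW ev (expand x), evW ev (expand y)⁆ := by
  rw [commWord, evW_append, evW_append, evW_append,
    evW_invWord good_rep (fun z hz => (expand_lt hx z hz).le),
    evW_invWord good_rep (fun z hz => (expand_lt hy z hz).le), commutatorElement_def]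

theorem eq_one_of_rels {u : List ℕ} (h : rep.relsOK [u] = true) : evW ev u = 1 :=
  eq_one_of_relsOK (fun y hy => by
    have h' := h
    simp only [Presented.Rep.relsOK, List.all_eq_true, Bool.and_eq_true, List.mem_singleton,
      forall_eq] at h'
    have := h'.1 y hy
    rwa [Nat.blt_eq] at this) h

theorem comm_two :
    ⁅hWord xTwo xTwo_lt, hWord yTwo yTwo_lt⁆ = (⟨d0, d0_mem⟩ : H) := by
  have h := eq_one_of_rels comm_rels.1
  rw [evW_append, evW_commWord xTwo_lt yTwo_lt, d0_eq] at h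
  exact Subtype.ext ((eq_inv_of_mul_eq_one_left h).trans (inv_eq_of_mul_eq_one_left d0_sq))

theorem comm_one : ⁅hWord xOne xOne_lt, hWord yOne yOne_lt⁆ = (1 : H) := by
  have h := eq_one_of_rels comm_rels.2.1
  rw [evW_commWord xOne_lt yOne_lt] at h
  exact Subtype.ext h

theorem finite_H : Finite H := Nat.finite_of_card_ne_zero (by rw [card_H]; norm_num)

theorem d0_mem_ker : (⟨d0, d0_mem⟩ : H) ∈ res.ker := Equiv.ext fun i => Subtype.ext i.2.1

theorem hd0_ne_one : (⟨d0, d0_mem⟩ : H) ≠ 1 := fun h => d0_ne_one (congrArg Subtype.val h)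

/-! ### The map onto the group -/

theorem gens_link : (List.range 8).all (fun k =>
    sameLine ((tvList.getD k (0, oneF2 12)).1) (gVecs.getD k 0)) = true := by decide +kernel

section Map

variable {F : Type u} [Field F] [Fintype F] (hF : Fintype.card F = 2 ^ 2) {w : F}
  (hw : 1 + w + w ^ 2 = 0)
include hF hw

theorem mk_eq_of_induces {M N : Cfsg.SU 6 F 2} {σ : Equiv.Perm Pts}
    (hM : Induces (ptVec w) M σ) (hN : Induces (ptVec w) N σ) :
    (QuotientGroup.mk M : Cfsg.PSU 6 F 2) = QuotientGroup.mk N := by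
  refine QuotientGroup.eq.2 (ClassicalGroups.mem_center_of_fix_lines hF (by norm_num) _ ?_)
  intro x hx0 hx
  obtain ⟨a, c, rfl⟩ := ptVec_cover hF hw x hx0 hx
  have h := (inducedPairs (q := 2) (ptVec w)).mul_mem
    ((inducedPairs (q := 2) (ptVec w)).inv_mem (x := (M, σ)) hM) (show (N, σ) ∈ _ from hN)
  obtain ⟨e, -, he⟩ := h a
  simp only [Prod.fst_mul, Prod.fst_inv, Prod.snd_mul, Prod.snd_inv, inv_mul_cancel,
    Equiv.Perm.one_apply] at he
  exact ⟨e, by rw [Matrix.mulVec_smul, he, smul_comm]⟩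

theorem range_res : res.range = Subgroup.closure gSet := by
  obtain ⟨e⟩ := exists_iso hF hw
  have hle : Subgroup.closure gSet ≤ res.range := by
    rw [Subgroup.closure_le]
    rintro _ ⟨d, -, hu, rfl⟩
    exact ⟨_, rfl⟩
  have := finite_H
  refine (Subgroup.eq_of_le_of_card_ge hle ?_).symm
  rw [(range_spec hF).1, (Nat.card_congr e.toEquiv).trans (card_psu hF)]

theorem exists_inducing (h : H) : ∃ M : Cfsg.SU 6 F 2, Induces (ptVec w) M (res h) := by
  have hmem : res h ∈ Subgroup.closure gSet := range_res hF hw ▸ ⟨h, rfl⟩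
  suffices hS : ∀ σ ∈ Subgroup.closure gSet, ∃ M : Cfsg.SU 6 F 2, Induces (ptVec w) M σ from
    hS _ hmem
  intro σ hσ
  induction hσ using Subgroup.closure_induction with
  | mem y hy =>
    obtain ⟨⟨v, u⟩, hd, hu, rfl⟩ := hy
    obtain ⟨_, A, _, hA⟩ := exists_induces hF hw hd
    exact ⟨A, hA⟩
  | one => exact ⟨1, (inducedPairs (q := 2) (ptVec w)).one_mem⟩
  | mul a b _ _ iha ihb =>
    obtain ⟨A, hA⟩ := iha
    obtain ⟨B, hB⟩ := ihb
    exact ⟨A * B, (inducedPairs (q := 2) (ptVec w)).mul_mem (x := (A, a)) (y := (B, b)) hA hB⟩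
  | inv a _ ih =>
    obtain ⟨A, hA⟩ := ih
    exact ⟨A⁻¹, (inducedPairs (q := 2) (ptVec w)).inv_mem (x := (A, a)) hA⟩

/-- The double cover onto the group. -/
def toPSU : H →* Cfsg.PSU 6 F 2 :=
  MonoidHom.mk' (fun h => QuotientGroup.mk (exists_inducing hF hw h).choose) fun a b => by
    rw [← QuotientGroup.mk_mul]
    refine mk_eq_of_induces hF hw (exists_inducing hF hw (a * b)).choose_spec ?_
    rw [map_mul]
    exact (inducedPairs (q := 2) (ptVec w)).mul_mem (x := (_, res a)) (y := (_, res b))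
      (exists_inducing hF hw a).choose_spec (exists_inducing hF hw b).choose_spec

theorem toPSU_eq {h : H} {M : Cfsg.SU 6 F 2} (hM : Induces (ptVec w) M (res h)) :
    toPSU hF hw h = QuotientGroup.mk M :=
  mk_eq_of_induces hF hw (exists_inducing hF hw h).choose_spec hM

theorem toPSU_ker : (toPSU hF hw).ker = res.ker := by
  ext h
  rw [MonoidHom.mem_ker, MonoidHom.mem_ker]
  obtain ⟨M, hM⟩ := exists_inducing hF hw h
  rw [toPSU_eq hF hw hM, QuotientGroup.eq_one_iff]
  constructor
  · intro hc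
    have hs := ClassicalGroups.center_SU_scalar (q := 2) hF ⟨_, hc⟩
    have hdiag : M.1.1 = diagonal fun _ => M.1.1 0 0 := by
      ext i j
      rcases eq_or_ne i j with rfl | hij
      · rw [Matrix.diagonal_apply_eq]; exact (hs i 0).2
      · rw [Matrix.diagonal_apply_ne _ hij]; exact (hs i j).1 hij
    refine Equiv.ext fun i => ?_
    obtain ⟨c, hc0, ec⟩ := hM i
    have e : M.1.1 *ᵥ ptVec w i = M.1.1 0 0 • ptVec w i := by
      conv_lhs => rw [hdiag]
      funext k
      rw [Matrix.mulVec_diagonal, Pi.smul_apply, smul_eq_mul]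
    rw [e] at ec
    refine ptVec_eq_smul hF hw _ _ (c⁻¹ * M.1.1 0 0) ?_
    rw [Equiv.Perm.one_apply, mul_smul, ec, ← mul_smul, inv_mul_cancel₀ hc0, one_smul]
  · intro hc
    rw [← QuotientGroup.eq_one_iff, mk_eq_of_induces hF hw (σ := 1) (by rw [hc] at hM; exact hM)
      (inducedPairs (q := 2) (ptVec w)).one_mem]
    rfl

theorem card_toPSU_ker : Nat.card (toPSU hF hw).ker = 2 := by
  rw [toPSU_ker hF hw]; exact (range_spec hF).2.1

theorem toPSU_surjective : Function.Surjective (toPSU hF hw) := by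
  have := finite_H
  have : Finite (Cfsg.PSU 6 F 2) := Nat.finite_of_card_ne_zero (by rw [card_psu hF]; norm_num)
  have h1 := Subgroup.index_ker (toPSU hF hw)
  have h2 := Subgroup.card_mul_index (toPSU hF hw).ker
  rw [card_toPSU_ker hF hw, h1, card_H] at h2
  exact MonoidHom.range_eq_top.1 (Subgroup.eq_top_of_card_eq _ (by
    rw [card_psu hF]; omega))

theorem ker_le_center : (toPSU hF hw).ker ≤ Subgroup.center H := by
  rw [toPSU_ker hF hw, center_eq hF]

theorem d0_mem_toPSU_ker : (⟨d0, d0_mem⟩ : H) ∈ (toPSU hF hw).ker := by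
  rw [toPSU_ker hF hw]; exact d0_mem_ker

theorem toPSU_ker_cases {h : H} (hh : h ∈ (toPSU hF hw).ker) :
    h = 1 ∨ h = ⟨d0, d0_mem⟩ := by
  obtain ⟨a, b, hab, huniv⟩ := Nat.card_eq_two_iff.1 (card_toPSU_ker hF hw)
  have hm : ∀ q : (toPSU hF hw).ker, q = a ∨ q = b := fun q => by
    simpa [← huniv] using Set.mem_univ q
  have hne : (⟨_, d0_mem_toPSU_ker hF hw⟩ : (toPSU hF hw).ker) ≠ 1 := fun e =>
    hd0_ne_one (congrArg Subtype.val e)
  rcases hm ⟨h, hh⟩ with h1 | h1 <;> rcases hm 1 with h2 | h2 <;>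
    rcases hm ⟨_, d0_mem_toPSU_ker hF hw⟩ with h3 | h3 <;>
    first
      | exact Or.inl (congrArg Subtype.val (h1.trans h2.symm))
      | exact Or.inr (congrArg Subtype.val (h1.trans h3.symm))
      | exact absurd (h3.trans h2.symm) hne

theorem rep_hWord : ∀ {ks : List ℕ} (h : ∀ k ∈ ks, k < 8),
    MultiplierU62.Rep hF hw (wordCode ks) (toPSU hF hw (hWord ks h))
  | [], h => by
    have e : hWord [] h = 1 := Subtype.ext (by simp [hWord, expand])
    rw [e, map_one]
    exact rep_one hF hw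
  | k :: ks, h => by
    have hk : k < 8 := h k List.mem_cons_self
    have hks : ∀ y ∈ ks, y < 8 := fun y hy => h y (List.mem_cons_of_mem _ hy)
    have e : hWord (k :: ks) h = (⟨_, g_mem hk⟩ : H) * hWord ks hks := Subtype.ext (by
      show evW ev (expand (k :: ks)) = evW ev (gWords.getD k []) * evW ev (expand ks)
      rw [show expand (k :: ks) = gWords.getD k [] ++ expand ks from List.flatMap_cons, evW_append])
    rw [e, map_mul]
    refine rep_mul hF hw ?_ (rep_hWord hks)
    have hlen : k < tvList.length := lt_of_lt_of_le hk (by decide +kernel)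
    obtain ⟨A, hA, hcode⟩ := exists_rep_tv hF hw (v := (tvList[k]).1) (c := (tvList[k]).2)
      (List.all_eq_true.1 tvList_good _ (List.getElem_mem hlen))
    rw [List.getD_eq_getElem _ _ hlen]
    refine ⟨_, A, ?_, hcode, rfl⟩
    have hg := gens_ok
    simp only [Bool.and_eq_true, beq_iff_eq] at hg
    have hd : (gVecs.getD k 0, gWords.getD k []) ∈ List.zip gVecs gWords := by
      rw [List.mem_iff_getElem]
      refine ⟨k, by simp [List.length_zip, hg.1.1, hg.1.2, hk], ?_⟩
      rw [List.getElem_zip, List.getD_eq_getElem _ _ (by omega),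
        List.getD_eq_getElem _ _ (by omega)]
    obtain ⟨hu, B, hB, hind⟩ := exists_induces hF hw hd
    obtain ⟨c, hc, hce⟩ := sameLine_spec hF hw
      (List.all_eq_true.1 gens_link k (List.mem_range.2 hk))
    rw [List.getD_eq_getElem _ _ hlen] at hce
    have hB' := hB.scale hF hc
    rw [← hce] at hB'
    rw [hA.unique hF hB', toPSU_eq hF hw hind]

/-! ### The twist -/

/-- The diagonal matrix. -/
def dVec (w : F) : Fin 6 → F := fun i => if i = 0 then w else 1

theorem dVec_cube (i : Fin 6) : dVec w i ^ 3 = 1 := by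
  unfold dVec
  split
  · exact ThreeTrans.USix.cube_eq_one hF (w_ne_zero hF hw)
  · exact one_pow 3

theorem herm_diag (e : Fin 6 → F) (he : ∀ i, e i ^ 3 = 1) (u v : Fin 6 → F) :
    Cfsg.hermForm 6 F 2 (diagonal e *ᵥ u) (diagonal e *ᵥ v) = Cfsg.hermForm 6 F 2 u v := by
  refine Finset.sum_congr rfl fun i _ => ?_
  rw [Matrix.mulVec_diagonal, Matrix.mulVec_diagonal]
  linear_combination (u i * v i ^ 2) * he i

/-- Conjugation by a diagonal unitary matrix. -/
def conjDiag (e : Fin 6 → F) (he : ∀ i, e i ^ 3 = 1) : Cfsg.SU 6 F 2 →* Cfsg.SU 6 F 2 where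
  toFun M := ⟨⟨diagonal e * M.1.1 * diagonal (fun i => e i ^ 2), by
      have h : ∀ i, e i * e i ^ 2 = 1 := fun i => by rw [← he i]; ring
      rw [Matrix.det_mul, Matrix.det_mul, M.1.2, Matrix.det_diagonal, Matrix.det_diagonal, mul_one,
        ← Finset.prod_mul_distrib]
      simp [h]⟩, fun u v => by
      show Cfsg.hermForm 6 F 2 ((diagonal e * M.1.1 * diagonal (fun i => e i ^ 2)) *ᵥ u)
        ((diagonal e * M.1.1 * diagonal (fun i => e i ^ 2)) *ᵥ v) = _
      simp only [← Matrix.mulVec_mulVec]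
      rw [herm_diag hF hw e he]
      refine (M.2 _ _).trans (herm_diag hF hw (fun i => e i ^ 2) (fun i => ?_) u v)
      rw [← pow_mul, mul_comm, pow_mul, he, one_pow]⟩
  map_one' := by
    refine Subtype.ext (Subtype.ext ?_)
    show diagonal e * 1 * diagonal (fun i => e i ^ 2) = 1
    rw [Matrix.mul_one, Matrix.diagonal_mul_diagonal]
    exact Matrix.diagonal_eq_one.2 (funext fun i => by
      show e i * e i ^ 2 = 1
      rw [← he i]; ring)
  map_mul' M N := by
    refine Subtype.ext (Subtype.ext ?_)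
    show diagonal e * (M.1.1 * N.1.1) * diagonal (fun i => e i ^ 2) =
      diagonal e * M.1.1 * diagonal (fun i => e i ^ 2) *
        (diagonal e * N.1.1 * diagonal (fun i => e i ^ 2))
    have h : (diagonal (fun i => e i ^ 2) * diagonal e : Matrix (Fin 6) (Fin 6) F) = 1 := by
      rw [Matrix.diagonal_mul_diagonal]
      exact Matrix.diagonal_eq_one.2 (funext fun i => by
        show e i ^ 2 * e i = 1
        rw [← he i]; ring)
    calc diagonal e * (M.1.1 * N.1.1) * diagonal (fun i => e i ^ 2)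
        = diagonal e * M.1.1 * (diagonal (fun i => e i ^ 2) * diagonal e) * N.1.1 *
            diagonal (fun i => e i ^ 2) := by rw [h, Matrix.mul_one]; simp only [Matrix.mul_assoc]
      _ = _ := by simp only [Matrix.mul_assoc]

theorem conjDiag_conjDiag (e f : Fin 6 → F) (he : ∀ i, e i ^ 3 = 1) (hf : ∀ i, f i ^ 3 = 1)
    (h : ∀ i, e i * f i = 1) (M : Cfsg.SU 6 F 2) :
    conjDiag hF hw e he (conjDiag hF hw f hf M) = M := by
  refine Subtype.ext (Subtype.ext ?_)
  show diagonal e * (diagonal f * M.1.1 * diagonal (fun i => f i ^ 2)) *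
    diagonal (fun i => e i ^ 2) = M.1.1
  ext i j
  simp only [Matrix.mul_diagonal, Matrix.diagonal_mul]
  calc e i * (f i * M.1.1 i j * f j ^ 2) * e j ^ 2
      = (e i * f i) * M.1.1 i j * (e j * f j) ^ 2 := by ring
    _ = M.1.1 i j := by rw [h, h]; ring

theorem dVec_sq_cube (i : Fin 6) : (dVec w i ^ 2) ^ 3 = 1 := by
  rw [← pow_mul, mul_comm, pow_mul, dVec_cube hF hw, one_pow]

theorem dVec_mul_sq (i : Fin 6) : dVec w i * dVec w i ^ 2 = 1 := by
  rw [← pow_succ', dVec_cube hF hw]

/-- Conjugation by the diagonal matrix, on `SU`. -/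
def twistSU : Cfsg.SU 6 F 2 ≃* Cfsg.SU 6 F 2 :=
  MulEquiv.mk' ⟨conjDiag hF hw (dVec w) (dVec_cube hF hw),
    conjDiag hF hw (fun i => dVec w i ^ 2) (dVec_sq_cube hF hw),
    fun M => conjDiag_conjDiag hF hw _ _ _ _
      (fun i => (mul_comm _ _).trans (dVec_mul_sq hF hw i)) M,
    fun M => conjDiag_conjDiag hF hw _ _ _ _ (dVec_mul_sq hF hw) M⟩
    (map_mul (conjDiag hF hw (dVec w) (dVec_cube hF hw)))

theorem twistSU_val (M : Cfsg.SU 6 F 2) :
    (twistSU hF hw M).1.1 = diagonal (dVec w) * M.1.1 * diagonal (fun i => dVec w i ^ 2) := rfl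

/-- The twisting automorphism. -/
def twist : Cfsg.PSU 6 F 2 ≃* Cfsg.PSU 6 F 2 :=
  QuotientGroup.congr _ _ (twistSU hF hw) (by
    ext x
    rw [Subgroup.mem_map]
    constructor
    · rintro ⟨y, hy, rfl⟩
      rw [Subgroup.mem_center_iff]
      intro g
      obtain ⟨g, rfl⟩ := (twistSU hF hw).surjective g
      show twistSU hF hw g * twistSU hF hw y = twistSU hF hw y * twistSU hF hw g
      rw [← map_mul, ← map_mul, Subgroup.mem_center_iff.1 hy g]
    · intro hx
      refine ⟨(twistSU hF hw).symm x, Subgroup.mem_center_iff.2 fun g => ?_,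
        (twistSU hF hw).apply_symm_apply x⟩
      apply (twistSU hF hw).injective
      rw [map_mul, map_mul, MulEquiv.apply_symm_apply, Subgroup.mem_center_iff.1 hx])

theorem diag_code :
    IsCode hF hw diagCode (diagonal (dVec w)) := by
  have h : canonF2 12 diagCode = true ∧ ∀ i j : Fin 12,
      blockEntry (if (pr i).1 = (pr j).1 then (if (pr i).1 = 0 then F4.ofN 2 else 1) else 0)
        (pr i).2 (pr j).2 = bitEnt diagCode i j := by decide +kernel
  refine ⟨h.1, diagonal fun i => if i = 0 then F4.ofN 2 else 1, ?_, Matrix.ext fun i j => ?_⟩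
  · rw [Matrix.diagonal_map (map_zero _)]
    congr 1
    funext i
    unfold dVec
    split <;> simp [toF_two hF hw]
  · rw [big_apply, Matrix.diagonal_apply]
    exact h.2 i j

theorem twist_rep {a b : ℕ} {x y : Cfsg.PSU 6 F 2} (hx : MultiplierU62.Rep hF hw a x)
    (hy : MultiplierU62.Rep hF hw b y) (h : mulP diagCode a = mulP b diagCode) :
    twist hF hw x = y := by
  obtain ⟨c, M, rfl, hc, rfl⟩ := hx
  obtain ⟨d, N, rfl, hd, rfl⟩ := hy
  have hD := diag_code hF hw
  rw [mulP, mulP, normP_mul_right (hD.lin hF hw), normP_mul_left] at h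
  have h1 := hD.mul hF hw hc
  have h2 := hd.mul hF hw hD
  obtain ⟨i, hi⟩ := h1.normP_scale hF hw
  obtain ⟨j, hj⟩ := h2.normP_scale hF hw
  rw [h] at hi
  have e := hi.unique hF hw hj
  show (QuotientGroup.mk (twistSU hF hw M) : Cfsg.PSU 6 F 2) = QuotientGroup.mk N
  symm
  refine QuotientGroup.eq.2 (Subgroup.mem_center_iff.2 fun g => Subtype.ext (Subtype.ext ?_))
  have hw0 := w_ne_zero hF hw
  have hz : (N⁻¹ * twistSU hF hw M).1.1 = diagonal fun _ => (w ^ i)⁻¹ * w ^ j := by
    show (N⁻¹).1.1 * (twistSU hF hw M).1.1 = _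
    rw [twistSU_val]
    have e1 : diagonal (dVec w) * M.1.1 =
        (diagonal fun _ => (w ^ i)⁻¹ * w ^ j) * (N.1.1 * diagonal (dVec w)) := by
      calc diagonal (dVec w) * M.1.1
          = (diagonal fun _ => (w ^ i)⁻¹) * ((diagonal fun _ => w ^ i) * (diagonal (dVec w) * M.1.1)) := by
            rw [← Matrix.mul_assoc, Matrix.diagonal_mul_diagonal,
              show (fun _ : Fin 6 => (w ^ i)⁻¹ * w ^ i) = fun _ => 1 from
                funext fun _ => inv_mul_cancel₀ (pow_ne_zero i hw0), Matrix.diagonal_one,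
              Matrix.one_mul]
        _ = _ := by rw [e, ← Matrix.mul_assoc, Matrix.diagonal_mul_diagonal]
    have e2 : (diagonal (dVec w) * diagonal (fun i => dVec w i ^ 2) : Matrix (Fin 6) (Fin 6) F) = 1 := by
      rw [Matrix.diagonal_mul_diagonal]
      exact Matrix.diagonal_eq_one.2 (funext fun i => dVec_mul_sq hF hw i)
    have e3 : (N⁻¹).1.1 * N.1.1 = 1 :=
      congrArg (fun g : Cfsg.SU 6 F 2 => g.1.1) (inv_mul_cancel N)
    rw [e1, Matrix.mul_assoc, Matrix.mul_assoc, e2, Matrix.mul_one, ← Matrix.mul_assoc,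
      ← diagonal_scalar_comm, Matrix.mul_assoc, e3, Matrix.mul_one]
  show g.1.1 * (N⁻¹ * twistSU hF hw M).1.1 = (N⁻¹ * twistSU hF hw M).1.1 * g.1.1
  rw [hz, diagonal_scalar_comm]

theorem twist_xOne :
    twist hF hw (toPSU hF hw (hWord xOne xOne_lt)) = toPSU hF hw (hWord xTwo xTwo_lt) :=
  twist_rep hF hw (rep_hWord hF hw xOne_lt) (rep_hWord hF hw xTwo_lt) twist_x

theorem twist_yOne :
    twist hF hw (toPSU hF hw (hWord yOne yOne_lt)) = toPSU hF hw (hWord yTwo yTwo_lt) :=
  twist_rep hF hw (rep_hWord hF hw yOne_lt) (rep_hWord hF hw yTwo_lt) twist_y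

end Map

end CfsgLib.Schur.MultiplierU62
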