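import Cfsg.Agent.Lib.Schur.MultiplierU62Upper
import Cfsg.Agent.Lib.Schur.MultiplierU62Cover
import Cfsg.Agent.Lib.SchurSmall18.StemTools
import Cfsg.Agent.Lib.ClassicalGroups.UnitaryGen
import Mathlib.Algebra.Group.ULift

/-!
The Schur multiplier of `PSU₆(2)` is the product of cyclic groups of orders three, two and two.
-/

set_option autoImplicit false
set_option linter.unusedSectionVars false

noncomputable section

namespace CfsgLib.Schur.MultiplierU62

open Cfsg CfsgLib.SchurCover CfsgLib.Presented.Fi22Unitary Subgroup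
open CfsgLib.Presented.Fi22UCosets (H)
open scoped commutatorElement

universe u

variable {F : Type u} [Field F] [Fintype F] (hF : Fintype.card F = 2 ^ 2) {w : F}
  (hw : 1 + w + w ^ 2 = 0)
include hF hw

/-- The twisted double cover. -/
def twisted : H →* Cfsg.PSU 6 F 2 := (twist hF hw).toMonoidHom.comp (toPSU hF hw)

theorem twisted_surjective : Function.Surjective (twisted hF hw) :=
  (twist hF hw).surjective.comp (toPSU_surjective hF hw)

theorem twisted_ker : (twisted hF hw).ker = (toPSU hF hw).ker :=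
  MonoidHom.ker_mulEquiv_comp (toPSU hF hw) (twist hF hw)

/-- The fibre product of the two double covers. -/
abbrev Four := ↥(fibre (toPSU hF hw) (twisted hF hw))

/-- Its projection. -/
def fourMap : Four hF hw →* Cfsg.PSU 6 F 2 :=
  (toPSU hF hw).comp (fibreFst (toPSU hF hw) (twisted hF hw))

theorem mem_fourMap_ker {q : Four hF hw} (hq : q ∈ (fourMap hF hw).ker) :
    (q.1.1 = 1 ∨ q.1.1 = ⟨d0, d0_mem⟩) ∧ (q.1.2 = 1 ∨ q.1.2 = ⟨d0, d0_mem⟩) := by
  refine ⟨toPSU_ker_cases hF hw hq, toPSU_ker_cases hF hw ?_⟩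
  rw [← twisted_ker hF hw, MonoidHom.mem_ker]
  exact (fibre_rel (toPSU hF hw) (twisted hF hw) q).symm.trans hq

theorem fourMap_isStem : IsStemExtension (fourMap hF hw) := by
  have hσ := toPSU_surjective hF hw
  have hd : (⟨d0, d0_mem⟩ : H) ∈ (toPSU hF hw).ker := d0_mem_toPSU_ker hF hw
  refine ⟨hσ.comp (fibreFst_surjective _ (twisted_surjective hF hw)), fun q hq => ?_, fun q hq => ?_⟩
  · obtain ⟨h1, h2⟩ := mem_fourMap_ker hF hw hq
    have hc : ∀ x : H, x = 1 ∨ x = ⟨d0, d0_mem⟩ → x ∈ center H := by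
      rintro x (rfl | rfl)
      · exact one_mem _
      · exact ker_le_center hF hw hd
    exact mem_center_iff.2 fun g => Subtype.ext (Prod.ext
      (mem_center_iff.1 (hc _ h1) g.1.1) (mem_center_iff.1 (hc _ h2) g.1.2))
  · have ha : (hWord xTwo xTwo_lt, hWord xOne xOne_lt) ∈ fibre (toPSU hF hw) (twisted hF hw) :=
      (twist_xOne hF hw).symm
    have hb : (hWord yTwo yTwo_lt, hWord yOne yOne_lt) ∈ fibre (toPSU hF hw) (twisted hF hw) :=
      (twist_yOne hF hw).symm
    let a : Four hF hw := ⟨_, ha⟩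
    let b : Four hF hw := ⟨_, hb⟩
    let L := commutator (Four hF hw)
    have hab : ⁅a, b⁆ ∈ L := commutator_mem_commutator (mem_top _) (mem_top _)
    have hab1 : (⁅a, b⁆ : Four hF hw).1.1 = ⟨d0, d0_mem⟩ := comm_two
    have hab2 : (⁅a, b⁆ : Four hF hw).1.2 = 1 := comm_one
    obtain ⟨r, hr, hr2⟩ : ∃ r ∈ L, r.1.2 = (⟨d0, d0_mem⟩ : H) := by
      have hdH : (⟨d0, d0_mem⟩ : H) ∈ commutator H :=
        comm_two ▸ commutator_mem_commutator (mem_top _) (mem_top _)
      rw [← SchurCover.map_commutator_eq (fibreSnd (toPSU hF hw) (twisted hF hw))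
        (fibreSnd_surjective hσ _)] at hdH
      obtain ⟨r, hr, e⟩ := hdH
      exact ⟨r, hr, e⟩
    have hr1 : r.1.1 = 1 ∨ r.1.1 = ⟨d0, d0_mem⟩ := by
      refine toPSU_ker_cases hF hw ?_
      rw [MonoidHom.mem_ker]
      refine (fibre_rel (toPSU hF hw) (twisted hF hw) r).trans ?_
      show twisted hF hw r.1.2 = 1
      rw [hr2, ← MonoidHom.mem_ker, twisted_ker]
      exact hd
    have hdd : (⟨d0, d0_mem⟩ : H) * ⟨d0, d0_mem⟩ = 1 := Subtype.ext d0_sq
    obtain ⟨s, hs, hs1, hs2⟩ : ∃ s ∈ L, s.1.1 = 1 ∧ s.1.2 = (⟨d0, d0_mem⟩ : H) := by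
      rcases hr1 with e | e
      · exact ⟨r, hr, e, hr2⟩
      · refine ⟨⁅a, b⁆ * r, mul_mem hab hr, ?_, ?_⟩
        · show (⁅a, b⁆ : Four hF hw).1.1 * r.1.1 = 1
          rw [hab1, e, hdd]
        · show (⁅a, b⁆ : Four hF hw).1.2 * r.1.2 = _
          rw [hab2, hr2, one_mul]
    obtain ⟨h1, h2⟩ := mem_fourMap_ker hF hw hq
    rcases h1 with e1 | e1 <;> rcases h2 with e2 | e2
    · rw [show q = 1 from Subtype.ext (Prod.ext e1 e2)]
      exact one_mem _
    · rw [show q = s from Subtype.ext (Prod.ext (e1.trans hs1.symm) (e2.trans hs2.symm))]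
      exact hs
    · rw [show q = ⁅a, b⁆ from Subtype.ext (Prod.ext (e1.trans hab1.symm) (e2.trans hab2.symm))]
      exact hab
    · rw [show q = ⁅a, b⁆ * s from Subtype.ext (Prod.ext
        (by show q.1.1 = (⁅a, b⁆ : Four hF hw).1.1 * s.1.1
            rw [e1, hab1, hs1, mul_one])
        (by show q.1.2 = (⁅a, b⁆ : Four hF hw).1.2 * s.1.2
            rw [e2, hab2, hs2, one_mul]))]
      exact mul_mem hab hs

/-- The kernel of the fibre product is the product of the kernels. -/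
def fourKer : (fourMap hF hw).ker ≃* (toPSU hF hw).ker × (twisted hF hw).ker where
  toFun q := (⟨q.1.1.1, q.2⟩, ⟨q.1.1.2, by
    rw [MonoidHom.mem_ker]
    exact (fibre_rel (toPSU hF hw) (twisted hF hw) q.1).symm.trans q.2⟩)
  invFun r := ⟨⟨((r.1 : H), (r.2 : H)), by
    show toPSU hF hw r.1 = twisted hF hw r.2
    rw [MonoidHom.mem_ker.1 r.1.2, MonoidHom.mem_ker.1 r.2.2]⟩, r.1.2⟩
  left_inv _ := rfl
  right_inv _ := rfl
  map_mul' _ _ := rfl

theorem su_stem : IsStemExtension (QuotientGroup.mk' (center (Cfsg.SU 6 F 2))) := by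
  refine ⟨QuotientGroup.mk'_surjective _, ?_, ?_⟩
  · rw [QuotientGroup.ker_mk']
  · rw [ClassicalGroups.SU_perfect hF (by norm_num) (by norm_num)]
    exact le_top

theorem exists_cover : ∃ (Γ : Type u) (_ : Group Γ) (_ : Finite Γ) (σ : Γ →* Cfsg.PSU 6 F 2),
    IsStemExtension σ ∧ Nonempty (σ.ker ≃* Multiplicative (ZMod 3 × ZMod 2 × ZMod 2)) := by
  have := finite_H
  have : Finite (Cfsg.SU 6 F 2) := inferInstance
  let up : ULift.{u} (Four hF hw) ≃* Four hF hw := MulEquiv.ulift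
  let σ : ULift.{u} (Four hF hw) →* Cfsg.PSU 6 F 2 := (fourMap hF hw).comp up.toMonoidHom
  have hk : σ.ker = (fourMap hF hw).ker.comap up.toMonoidHom := rfl
  have hσ : IsStemExtension σ := by
    obtain ⟨h1, h2, h3⟩ := fourMap_isStem hF hw
    refine ⟨h1.comp up.surjective, fun x hx => mem_center_iff.2 fun g => up.injective ?_,
      fun x hx => ?_⟩
    · rw [map_mul, map_mul]
      exact mem_center_iff.1 (h2 hx) _
    · obtain ⟨y, hy, e⟩ : up x ∈ (commutator (ULift.{u} (Four hF hw))).map up.toMonoidHom := by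
        rw [SchurCover.map_commutator_eq up.toMonoidHom up.surjective]
        exact h3 hx
      exact up.injective e ▸ hy
  let eσ : σ.ker ≃* (toPSU hF hw).ker × (twisted hF hw).ker :=
    (MulEquiv.trans
      { toFun := fun x => (⟨up x.1, x.2⟩ : (fourMap hF hw).ker)
        invFun := fun y => ⟨up.symm y.1, by
          show fourMap hF hw (up (up.symm y.1)) = 1
          rw [MulEquiv.apply_symm_apply]; exact y.2⟩
        left_inv := fun x => rfl
        right_inv := fun y => rfl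
        map_mul' := fun x y => rfl } (fourKer hF hw))
  have h2 : Nat.card (Multiplicative (ZMod 2)) = 2 := Nat.card_zmod 2
  have h3 : Nat.card (Multiplicative (ZMod 3)) = 3 := Nat.card_zmod 3
  have : Fact (Nat.Prime 2) := ⟨Nat.prime_two⟩
  have : Fact (Nat.Prime 3) := ⟨Nat.prime_three⟩
  have hcA : Nat.card (twisted hF hw).ker = 2 := by rw [twisted_ker]; exact card_toPSU_ker hF hw
  have hcσ : Nat.card σ.ker = 4 := by
    rw [Nat.card_congr eσ.toEquiv, Nat.card_prod, card_toPSU_ker hF hw, hcA]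
  have hcτ : Nat.card (QuotientGroup.mk' (center (Cfsg.SU 6 F 2))).ker = 3 := by
    rw [QuotientGroup.ker_mk', ClassicalGroups.card_center_SU hF (by norm_num)]
    rfl
  obtain ⟨ρ, hρ, ⟨eρ⟩⟩ := SchurSmall18.exists_join hσ (su_stem hF hw)
    (by rw [hcσ, hcτ]; norm_num)
  let z : (toPSU hF hw).ker ≃* Multiplicative (ZMod 2) :=
    mulEquivOfPrimeCardEq (p := 2) (card_toPSU_ker hF hw) h2
  let z' : (twisted hF hw).ker ≃* Multiplicative (ZMod 2) := mulEquivOfPrimeCardEq (p := 2) hcA h2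
  let t : (QuotientGroup.mk' (center (Cfsg.SU 6 F 2))).ker ≃* Multiplicative (ZMod 3) :=
    mulEquivOfPrimeCardEq (p := 3) hcτ h3
  refine ⟨_, inferInstance, inferInstance, ρ, hρ, ⟨(eρ.trans MulEquiv.prodComm).trans ?_⟩⟩
  exact (MulEquiv.prodCongr t (eσ.trans ((MulEquiv.prodCongr z z').trans
    (MulEquiv.prodMultiplicative (ZMod 2) (ZMod 2)).symm))).trans
    (MulEquiv.prodMultiplicative (ZMod 3) (ZMod 2 × ZMod 2)).symm

theorem exists_surjection (Γ : Type u) [Group Γ] [Finite Γ] (σ : Γ →* Cfsg.PSU 6 F 2)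
    (hσ : IsStemExtension σ) :
    ∃ π : Multiplicative (ZMod 3 × ZMod 2 × ZMod 2) →* σ.ker, Function.Surjective π := by
  obtain ⟨ua, hua, hsa⟩ := span_two hF hw Γ σ hσ
  obtain ⟨ub, hub, hsb⟩ := span_three hF hw Γ σ hσ
  let K := σ.ker
  let _ : CommGroup K :=
    { (inferInstance : Group K) with
      mul_comm := fun a b => Subtype.ext (mem_center_iff.1 (hσ.2.1 b.2) a) }
  have : Finite K := inferInstance
  let hom : ∀ (n : ℕ) (x : K), x ^ n = 1 → (Multiplicative (ZMod n) →* K) := fun n x hx =>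
    AddMonoidHom.toMultiplicativeLeft (ZMod.lift n ⟨zmultiplesHom (Additive K) (Additive.ofMul x), by
      show (n : ℤ) • Additive.ofMul x = 0
      rw [← ofMul_zpow, zpow_natCast, hx]
      rfl⟩)
  have hom_one : ∀ (n : ℕ) (x : K) (hx : x ^ n = 1),
      hom n x hx (Multiplicative.ofAdd ((1 : ℤ) : ZMod n)) = x := by
    intro n x hx
    show Additive.toMul (ZMod.lift n _ ((1 : ℤ) : ZMod n)) = x
    rw [ZMod.lift_coe]
    show Additive.toMul ((1 : ℤ) • Additive.ofMul x) = x
    rw [one_smul]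
    rfl
  let v : K := ⟨ub 0, (hub 0).1⟩
  let u0 : K := ⟨ua 0, (hua 0).1⟩
  let u1 : K := ⟨ua 1, (hua 1).1⟩
  have hv : v ^ 3 = 1 := Subtype.ext (by simpa using (hub 0).2 (by simp))
  have hu0 : u0 ^ 2 = 1 := Subtype.ext (by simpa using (hua 0).2 (by simp))
  have hu1 : u1 ^ 2 = 1 := Subtype.ext (by simpa using (hua 1).2 (by simp))
  let g : Multiplicative (ZMod 3) × (Multiplicative (ZMod 2) × Multiplicative (ZMod 2)) →* K :=
    (hom 3 v hv).coprod ((hom 2 u0 hu0).coprod (hom 2 u1 hu1))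
  refine ⟨g.comp ((MonoidHom.prodMap (MonoidHom.id _)
    (MulEquiv.prodMultiplicative (ZMod 2) (ZMod 2)).toMonoidHom).comp
    (MulEquiv.prodMultiplicative (ZMod 3) (ZMod 2 × ZMod 2)).toMonoidHom), ?_⟩
  refine Function.Surjective.comp (g := g) ?_ ?_
  · suffices htop : g.range = ⊤ from MonoidHom.range_eq_top.1 htop
    have hv' : v ∈ g.range := ⟨(Multiplicative.ofAdd ((1 : ℤ) : ZMod 3), 1), by
      simp only [g, MonoidHom.coprod_apply, map_one, mul_one, hom_one]⟩
    have hu0' : u0 ∈ g.range := ⟨(1, (Multiplicative.ofAdd ((1 : ℤ) : ZMod 2), 1)), by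
      simp only [g, MonoidHom.coprod_apply, map_one, mul_one, one_mul, hom_one]⟩
    have hu1' : u1 ∈ g.range := ⟨(1, (1, Multiplicative.ofAdd ((1 : ℤ) : ZMod 2))), by
      simp only [g, MonoidHom.coprod_apply, map_one, one_mul, hom_one]⟩
    refine Pc.eq_top_of_primary _ fun p hp z hz => ?_
    have hz' : ∃ e : ℕ, (z : Γ) ^ p ^ e = 1 := by
      obtain ⟨e, he⟩ := hz
      exact ⟨e, by rw [← SubmonoidClass.coe_pow, he]; rfl⟩
    have hmem : (z : Γ) ∈ g.range.map K.subtype := by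
      by_cases h2 : p = 2
      · subst h2
        refine (closure_le _).2 ?_ (hsa z z.2 hz')
        rintro _ ⟨k, hk, rfl⟩
        simp only [List.length_cons, List.length_nil, Set.mem_Iio] at hk
        obtain rfl | rfl : k = 0 ∨ k = 1 := by omega
        · exact ⟨u0, hu0', rfl⟩
        · exact ⟨u1, hu1', rfl⟩
      by_cases h3 : p = 3
      · subst h3
        refine (closure_le _).2 ?_ (hsb z z.2 hz')
        rintro _ ⟨k, hk, rfl⟩
        obtain rfl : k = 0 := by simpa using hk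
        exact ⟨v, hv', rfl⟩
      obtain ⟨us, -, hus⟩ := span_rest hF hw p hp h2 h3 Γ σ hσ
      have h := hus z z.2 hz'
      rw [List.length_nil, show Set.Iio (0 : ℕ) = ∅ by simp, Set.image_empty, Subgroup.closure_empty,
        mem_bot] at h
      rw [h]
      exact one_mem _
    obtain ⟨y, hy, e⟩ := hmem
    exact Subtype.ext e ▸ hy
  · intro x
    refine ⟨Multiplicative.ofAdd (x.1.toAdd, (x.2.1.toAdd, x.2.2.toAdd)), ?_⟩
    rfl

omit hw in
theorem multiplier : HasSchurMultiplier (Cfsg.PSU 6 F 2)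
    (Multiplicative (ZMod 3 × ZMod 2 × ZMod 2)) := by
  obtain ⟨w, -, -, hw⟩ := ThreeTrans.USix.exists_omega hF
  exact ⟨exists_cover hF hw, fun Γ _ _ σ hσ => exists_surjection hF hw Γ σ hσ⟩

end CfsgLib.Schur.MultiplierU62

end
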