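import Cfsg.Agent.Lib.Schur.MultiplierU62Rep
import Cfsg.Agent.Lib.Schur.PcSylow
import Cfsg.Agent.Lib.Schur.MultiplierU62Solve

/-!
Kernel evaluation of the certificates for `PSU₆(2)`.
-/

set_option autoImplicit false
set_option maxRecDepth 100000
set_option Elab.async false

noncomputable section

namespace CfsgLib.Schur.MultiplierU62

open CfsgLib.Sporadic CfsgLib.Schur

theorem two_words : twoWords.map wordCode = twoGens := by decide +kernel
theorem two_conjWords : twoConjWords.map wordCode = twoConj := by decide +kernel
theorem two_shape : twoRules.shapeOK = true := by decide +kernel
theorem two_eqns : twoCert.eqnsOK twoRules twoFuel = true := by decide +kernel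
theorem two_holds :
    Pc.holdsOK mulP (normP (oneF2 12)) twoRules twoCert twoGens twoConj = true := by decide +kernel
theorem two_sep : sepOK twoRules.n twoGens twoSeps = true := by decide +kernel

theorem three_words : threeWords.map wordCode = threeGens := by decide +kernel
theorem three_conjWords : threeConjWords.map wordCode = threeConj := by decide +kernel
theorem three_shape : threeRules.shapeOK = true := by decide +kernel
theorem three_eqns : threeCert.eqnsOK threeRules threeFuel = true := by decide +kernel
theorem three_solve : threeCert.solveOK threeRules = true := by decide +kernel
theorem three_holds :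
    Pc.holdsOK mulP (normP (oneF2 12)) threeRules threeCert threeGens threeConj = true := by
  decide +kernel
theorem three_sep : sepOK threeRules.n threeGens threeSeps = true := by decide +kernel

/-- The code of a power of a word. -/
def powCode (ks : List ℕ) : ℕ → ℕ
  | 0 => normP (oneF2 12)
  | n + 1 => mulP (wordCode ks) (powCode ks n)

theorem five_order : powCode fiveWord 5 = normP (oneF2 12) ∧ wordCode fiveWord ≠ normP (oneF2 12) := by
  decide +kernel
theorem seven_order :
    powCode sevenWord 7 = normP (oneF2 12) ∧ wordCode sevenWord ≠ normP (oneF2 12) := by
  decide +kernel
theorem eleven_order :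
    powCode elevenWord 11 = normP (oneF2 12) ∧ wordCode elevenWord ≠ normP (oneF2 12) := by
  decide +kernel

theorem twist_x : mulP diagCode (wordCode xOne) = mulP (wordCode xTwo) diagCode := by decide +kernel
theorem twist_y : mulP diagCode (wordCode yOne) = mulP (wordCode yTwo) diagCode := by decide +kernel

end CfsgLib.Schur.MultiplierU62
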