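import Cfsg.Agent.Lib.Recognition.G2Four.Field
import Cfsg.Agent.Lib.Sporadic.MatF2
import Cfsg.Agent.Lib.Presented.Fi22Unitary.Field
import Mathlib.Data.Matrix.Composition

/-!
Six-dimensional matrices over a field with four elements coded as twelve-dimensional ones over two,
up to scalars: the arithmetic of the codes.
-/

set_option autoImplicit false
set_option linter.unusedSectionVars false
set_option maxRecDepth 100000

noncomputable section

namespace CfsgLib.Schur.MultiplierU62

open CfsgLib.Sporadic Matrix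
open CfsgLib.Recognition.G2Four (F4)
open CfsgLib.Presented.Fi22Unitary (el el_xor el_mul el_injective el_surjective vec)

/-- The entry of the block of a scalar. -/
def blockEntry (x : F4) (p q : Fin 2) : ZMod 2 :=
  ((((x * F4.ofN (q.val + 1)).v.val).testBit p.val).toNat : ZMod 2)

theorem block_one : ∀ p q : Fin 2, blockEntry 1 p q = if p = q then 1 else 0 := by
  decide +kernel

theorem block_zero : ∀ p q : Fin 2, blockEntry 0 p q = 0 := by decide +kernel

theorem block_add' : ∀ a b : Fin 4, ∀ p q : Fin 2,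
    blockEntry ((⟨a⟩ : F4) + ⟨b⟩) p q = blockEntry ⟨a⟩ p q + blockEntry ⟨b⟩ p q := by decide +kernel

theorem block_mul' : ∀ a b : Fin 4, ∀ p q : Fin 2,
    blockEntry ((⟨a⟩ : F4) * ⟨b⟩) p q =
      blockEntry ⟨a⟩ p 0 * blockEntry ⟨b⟩ 0 q + blockEntry ⟨a⟩ p 1 * blockEntry ⟨b⟩ 1 q := by
  decide +kernel

/-- The regular representation of the field with four elements over the prime field. -/
def block : F4 →+* Matrix (Fin 2) (Fin 2) (ZMod 2) where
  toFun x := Matrix.of (blockEntry x)
  map_one' := Matrix.ext fun p q => (block_one p q).trans Matrix.one_apply.symm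
  map_zero' := Matrix.ext block_zero
  map_add' a b := Matrix.ext fun p q => block_add' a.v b.v p q
  map_mul' a b := Matrix.ext fun p q => by
    rw [Matrix.mul_apply, Fin.sum_univ_two]
    exact block_mul' a.v b.v p q

/-- The block and the position inside it. -/
def pr (i : Fin 12) : Fin 6 × Fin 2 := (finProdFinEquiv : Fin 6 × Fin 2 ≃ Fin (6 * 2)).symm i

/-- Six by six over four elements as twelve by twelve over two. -/
def big : Matrix (Fin 6) (Fin 6) F4 →* Matrix (Fin 12) (Fin 12) (ZMod 2) :=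
  ((Matrix.reindexAlgEquiv (ZMod 2) (ZMod 2) (finProdFinEquiv : Fin 6 × Fin 2 ≃ Fin (6 * 2))).toMulEquiv.toMonoidHom).comp
    (((Matrix.compRingEquiv (Fin 6) (Fin 2) (ZMod 2)).toMulEquiv.toMonoidHom).comp
      block.mapMatrix.toMonoidHom)

theorem big_apply (M : Matrix (Fin 6) (Fin 6) F4) (i j : Fin 12) :
    big M i j = blockEntry (M (pr i).1 (pr j).1) (pr i).2 (pr j).2 := rfl

theorem big_injective : Function.Injective big := by
  intro A B h
  ext i j
  have h1 : ∀ p q, blockEntry (A i j) p q = blockEntry (B i j) p q := fun p q => by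
    have h' := congrFun (congrFun h (finProdFinEquiv (i, p))) (finProdFinEquiv (j, q))
    rw [big_apply, big_apply] at h'
    simpa only [pr, Equiv.symm_apply_apply] using h'
  have key : ∀ a b : Fin 4, (∀ p q : Fin 2, blockEntry ⟨a⟩ p q = blockEntry ⟨b⟩ p q) → a = b := by
    decide +kernel
  exact congrArg F4.mk (key (A i j).v (B i j).v h1)

/-- An entry of a coded matrix. -/
def bitEnt (c : ℕ) (i j : Fin 12) : ZMod 2 := decF2 12 c i j

/-! ### Codes -/

/-- The scalar `ω` in twelve dimensions. -/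
def wI : ℕ := (List.range 6).foldr (fun i r =>
  r ||| 1 <<< ((2 * i) * 12 + (2 * i + 1)) ||| 1 <<< ((2 * i + 1) * 12 + 2 * i) |||
    1 <<< ((2 * i + 1) * 12 + (2 * i + 1))) 0

/-- The least of the three multiples of a code by scalars. -/
def normP (a : ℕ) : ℕ := min a (min (mulF2 12 wI a) (mulF2 12 wI (mulF2 12 wI a)))

/-- The product of codes up to scalars. -/
def mulP (a b : ℕ) : ℕ := normP (mulF2 12 a b)

/-- The least of the three multiples of a row. -/
def normV (l : ℕ) : ℕ := min l (min (mulF2 12 l wI) (mulF2 12 (mulF2 12 l wI) wI))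

theorem canon_mulF2 (a b : ℕ) : canonF2 12 (mulF2 12 a b) = true := by
  rw [canonF2, Nat.blt_eq]
  have h : ∀ m ≤ 12, xorUpto (fun k => ((a >>> k) &&& colMask 12 12) * ((b >>> (12 * k)) % 2 ^ 12)) m
      < 2 ^ (12 * 12) := by
    intro m
    induction m with
    | zero => intro _; exact Nat.two_pow_pos _
    | succ m ih =>
      intro hm
      refine Nat.xor_lt_two_pow (ih (by omega)) ?_
      have h1 : (a >>> m) &&& colMask 12 12 ≤ colMask 12 12 := Nat.and_le_right
      have h2 : (b >>> (12 * m)) % 2 ^ 12 ≤ 2 ^ 12 - 1 :=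
        Nat.le_sub_one_of_lt (Nat.mod_lt _ (Nat.two_pow_pos _))
      refine Nat.lt_of_le_of_lt (Nat.mul_le_mul h1 h2) ?_
      decide +kernel
  exact h 12 le_rfl

theorem canon_one : canonF2 12 (oneF2 12) = true := by decide +kernel

theorem mulF2_assoc (a b c : ℕ) : mulF2 12 (mulF2 12 a b) c = mulF2 12 a (mulF2 12 b c) :=
  decF2_injOn (canon_mulF2 _ _) (canon_mulF2 _ _) (by simp only [decF2_mulF2, Matrix.mul_assoc])

theorem one_mulF2 {a : ℕ} (ha : canonF2 12 a = true) : mulF2 12 (oneF2 12) a = a :=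
  decF2_injOn (canon_mulF2 _ _) ha (by rw [decF2_mulF2, decF2_oneF2, Matrix.one_mul])

theorem mulF2_one {a : ℕ} (ha : canonF2 12 a = true) : mulF2 12 a (oneF2 12) = a :=
  decF2_injOn (canon_mulF2 _ _) ha (by rw [decF2_mulF2, decF2_oneF2, Matrix.mul_one])

theorem wI_cube : mulF2 12 wI (mulF2 12 wI wI) = oneF2 12 := by decide +kernel

theorem wI_three {a : ℕ} (ha : canonF2 12 a = true) :
    mulF2 12 wI (mulF2 12 wI (mulF2 12 wI a)) = a := by
  rw [← mulF2_assoc, ← mulF2_assoc, mulF2_assoc wI, wI_cube, one_mulF2 ha]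

theorem wI_three' {a : ℕ} (ha : canonF2 12 a = true) :
    mulF2 12 (mulF2 12 (mulF2 12 a wI) wI) wI = a := by
  rw [mulF2_assoc, mulF2_assoc, wI_cube, mulF2_one ha]

theorem min3_rot (a b c : ℕ) : min b (min c a) = min a (min b c) := by omega

theorem normP_wI {a : ℕ} (ha : canonF2 12 a = true) : normP (mulF2 12 wI a) = normP a := by
  rw [normP, normP, wI_three ha, min3_rot]

theorem normV_wI {a : ℕ} (ha : canonF2 12 a = true) : normV (mulF2 12 a wI) = normV a := by
  rw [normV, normV, wI_three' ha, min3_rot]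

theorem normP_cases (a : ℕ) :
    normP a = a ∨ normP a = mulF2 12 wI a ∨ normP a = mulF2 12 wI (mulF2 12 wI a) := by
  simp only [normP]
  omega

theorem normV_cases (a : ℕ) :
    normV a = a ∨ normV a = mulF2 12 a wI ∨ normV a = mulF2 12 (mulF2 12 a wI) wI := by
  simp only [normV]
  omega

theorem canon_normP {a : ℕ} (ha : canonF2 12 a = true) : canonF2 12 (normP a) = true := by
  rcases normP_cases a with h | h | h <;> rw [h] <;> first | exact ha | exact canon_mulF2 _ _

theorem normP_idem {a : ℕ} (ha : canonF2 12 a = true) : normP (normP a) = normP a := by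
  rcases normP_cases a with h | h | h <;> rw [h]
  · exact h
  · rw [normP_wI ha, h]
  · rw [normP_wI (canon_mulF2 _ _), normP_wI ha, h]

/-- A code commuting with the scalar. -/
def Lin (a : ℕ) : Prop := canonF2 12 a = true ∧ mulF2 12 a wI = mulF2 12 wI a

theorem Lin.mul {a b : ℕ} (ha : Lin a) (hb : Lin b) : Lin (mulF2 12 a b) := by
  refine ⟨canon_mulF2 _ _, ?_⟩
  rw [mulF2_assoc, hb.2, ← mulF2_assoc, ha.2, mulF2_assoc]

theorem lin_wI : Lin wI := ⟨by decide +kernel, rfl⟩

theorem normP_mul_left {a : ℕ} (b : ℕ) :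
    normP (mulF2 12 (normP a) b) = normP (mulF2 12 a b) := by
  rcases normP_cases a with h | h | h <;> rw [h]
  · rw [mulF2_assoc, normP_wI (canon_mulF2 _ _)]
  · rw [mulF2_assoc, normP_wI (canon_mulF2 _ _), mulF2_assoc, normP_wI (canon_mulF2 _ _)]

theorem normP_mul_right {a b : ℕ} (ha : Lin a) :
    normP (mulF2 12 a (normP b)) = normP (mulF2 12 a b) := by
  rcases normP_cases b with h | h | h <;> rw [h]
  · rw [← mulF2_assoc, ha.2, mulF2_assoc, normP_wI (canon_mulF2 _ _)]
  · rw [← mulF2_assoc, ha.2, mulF2_assoc, normP_wI (canon_mulF2 _ _), ← mulF2_assoc, ha.2,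
      mulF2_assoc, normP_wI (canon_mulF2 _ _)]

theorem normV_mul_norm {v a : ℕ} (ha : Lin a) :
    normV (mulF2 12 v (normP a)) = normV (mulF2 12 v a) := by
  rcases normP_cases a with h | h | h <;> rw [h]
  · rw [← ha.2, ← mulF2_assoc, normV_wI (canon_mulF2 _ _)]
  · rw [← ha.2, ← mulF2_assoc wI, ← ha.2, ← mulF2_assoc, ← mulF2_assoc,
      normV_wI (canon_mulF2 _ _), normV_wI (canon_mulF2 _ _)]

theorem normV_norm_mul {v g : ℕ} (hg : Lin g) :
    normV (mulF2 12 (normV v) g) = normV (mulF2 12 v g) := by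
  rcases normV_cases v with h | h | h <;> rw [h]
  · rw [mulF2_assoc, ← hg.2, ← mulF2_assoc, normV_wI (canon_mulF2 _ _)]
  · rw [mulF2_assoc (mulF2 12 v wI), ← hg.2, ← mulF2_assoc, normV_wI (canon_mulF2 _ _),
      mulF2_assoc, ← hg.2, ← mulF2_assoc, normV_wI (canon_mulF2 _ _)]

/-! ### The field -/

section Field

variable {F : Type*} [Field F] [Fintype F] (hF : Fintype.card F = 2 ^ 2) {w : F}
  (hw : 1 + w + w ^ 2 = 0)

/-- An element of the model in the field. -/
def elt (w : F) (x : F4) : F := el w (x.v.val.testBit 0) (x.v.val.testBit 1)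

/-- The model and the field. -/
def toF : F4 ≃+* F :=
  RingEquiv.ofBijective
    ({ toFun := elt w
       map_one' := by
         show el w ((1 : F4).v.val.testBit 0) ((1 : F4).v.val.testBit 1) = 1
         rw [show ((1 : F4).v.val.testBit 0) = true by decide +kernel,
           show ((1 : F4).v.val.testBit 1) = false by decide +kernel]
         simp [el]
       map_zero' := by
         show el w ((0 : F4).v.val.testBit 0) ((0 : F4).v.val.testBit 1) = 0
         rw [show ((0 : F4).v.val.testBit 0) = false by decide +kernel,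
           show ((0 : F4).v.val.testBit 1) = false by decide +kernel]
         simp [el]
       map_add' := fun x y => by
         have h : ∀ a b : Fin 4,
             ((⟨a⟩ : F4) + ⟨b⟩).v.val.testBit 0 = (a.val.testBit 0 ^^ b.val.testBit 0) ∧
             ((⟨a⟩ : F4) + ⟨b⟩).v.val.testBit 1 = (a.val.testBit 1 ^^ b.val.testBit 1) := by
           decide +kernel
         show el w _ _ = _
         rw [(h x.v y.v).1, (h x.v y.v).2, el_xor hF hw]
         rfl
       map_mul' := fun x y => by
         have h : ∀ a b : Fin 4,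
             ((⟨a⟩ : F4) * ⟨b⟩).v.val.testBit 0 =
               ((a.val.testBit 0 && b.val.testBit 0) ^^ (a.val.testBit 1 && b.val.testBit 1)) ∧
             ((⟨a⟩ : F4) * ⟨b⟩).v.val.testBit 1 =
               (((a.val.testBit 0 && b.val.testBit 1) ^^ (a.val.testBit 1 && b.val.testBit 0)) ^^
                 (a.val.testBit 1 && b.val.testBit 1)) := by
           decide +kernel
         show el w _ _ = _
         rw [(h x.v y.v).1, (h x.v y.v).2, el_mul hF hw]
         rfl } : F4 →+* F)
    ((Fintype.bijective_iff_injective_and_card _).2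
      ⟨fun x y h => by
        obtain ⟨h0, h1⟩ := el_injective hF hw h
        have key : ∀ a b : Fin 4, a.val.testBit 0 = b.val.testBit 0 →
            a.val.testBit 1 = b.val.testBit 1 → a = b := by decide +kernel
        exact congrArg F4.mk (key _ _ h0 h1),
       by rw [F4.card_eq, hF]; norm_num⟩)

theorem toF_ofN (v i : ℕ) :
    toF hF hw (F4.ofN (v >>> (2 * i))) = el w (v.testBit (2 * i)) (v.testBit (2 * i + 1)) := by
  show el w ((F4.ofN (v >>> (2 * i))).v.val.testBit 0) ((F4.ofN (v >>> (2 * i))).v.val.testBit 1) = _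
  have h : (F4.ofN (v >>> (2 * i))).v.val = (v >>> (2 * i)) % 2 ^ 2 := by simp [F4.ofN]
  rw [h, Nat.testBit_mod_two_pow, Nat.testBit_mod_two_pow, Nat.testBit_shiftRight,
    Nat.testBit_shiftRight]
  simp

theorem toF_two : toF hF hw (F4.ofN 2) = w := by
  show el w ((F4.ofN 2).v.val.testBit 0) ((F4.ofN 2).v.val.testBit 1) = w
  rw [show ((F4.ofN 2).v.val.testBit 0) = false by decide +kernel,
    show ((F4.ofN 2).v.val.testBit 1) = true by decide +kernel]
  simp [el]

/-- The code of a matrix. -/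
def IsCode (c : ℕ) (M : Matrix (Fin 6) (Fin 6) F) : Prop :=
  canonF2 12 c = true ∧ ∃ N : Matrix (Fin 6) (Fin 6) F4, M = N.map (toF hF hw) ∧ big N = decF2 12 c

theorem big_scalar (i j : Fin 12) :
    big (diagonal fun _ => F4.ofN 2) i j = decF2 12 wI i j := by
  have h : ∀ i j : Fin 12, blockEntry (if (pr i).1 = (pr j).1 then F4.ofN 2 else 0) (pr i).2 (pr j).2
      = bitEnt wI i j := by decide +kernel
  rw [big_apply, Matrix.diagonal_apply]
  exact h i j

theorem isCode_one : IsCode hF hw (oneF2 12) 1 :=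
  ⟨canon_one, 1, by rw [Matrix.map_one _ (map_zero _) (map_one _)], by rw [map_one, decF2_oneF2]⟩

theorem IsCode.mul {a b : ℕ} {M N : Matrix (Fin 6) (Fin 6) F} (ha : IsCode hF hw a M)
    (hb : IsCode hF hw b N) : IsCode hF hw (mulF2 12 a b) (M * N) := by
  obtain ⟨-, M', rfl, hM⟩ := ha
  obtain ⟨-, N', rfl, hN⟩ := hb
  exact ⟨canon_mulF2 _ _, M' * N', (Matrix.map_mul (f := (toF hF hw : F4 ≃+* F))).symm, by
    rw [map_mul, hM, hN, decF2_mulF2]⟩

theorem isCode_wI : IsCode hF hw wI (diagonal fun _ => w) :=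
  ⟨lin_wI.1, diagonal fun _ => F4.ofN 2, by
    rw [Matrix.diagonal_map (map_zero _)]
    simp only [toF_two hF hw], Matrix.ext big_scalar⟩

theorem diagonal_scalar_comm (c : F) (M : Matrix (Fin 6) (Fin 6) F) :
    (diagonal fun _ => c) * M = M * diagonal fun _ => c := by
  ext i j
  rw [Matrix.diagonal_mul, Matrix.mul_diagonal, mul_comm]

theorem IsCode.unique {a : ℕ} {M N : Matrix (Fin 6) (Fin 6) F} (ha : IsCode hF hw a M)
    (hb : IsCode hF hw a N) : M = N := by
  obtain ⟨-, M', rfl, hM⟩ := ha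
  obtain ⟨-, N', rfl, hN⟩ := hb
  rw [big_injective (hM.trans hN.symm)]

theorem IsCode.code_unique {a b : ℕ} {M : Matrix (Fin 6) (Fin 6) F} (ha : IsCode hF hw a M)
    (hb : IsCode hF hw b M) : a = b := by
  obtain ⟨hca, M', hM', hM⟩ := ha
  obtain ⟨hcb, N', rfl, hN⟩ := hb
  have e : N' = M' := Matrix.map_injective (toF hF hw).injective hM'
  exact decF2_injOn hca hcb (by rw [← hM, ← hN, e])

theorem IsCode.lin {a : ℕ} {M : Matrix (Fin 6) (Fin 6) F} (ha : IsCode hF hw a M) : Lin a := by
  refine ⟨ha.1, IsCode.code_unique hF hw (ha.mul hF hw (isCode_wI hF hw)) ?_⟩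
  rw [← diagonal_scalar_comm]
  exact (isCode_wI hF hw).mul hF hw ha

theorem IsCode.normP_scale {a : ℕ} {M : Matrix (Fin 6) (Fin 6) F} (ha : IsCode hF hw a M) :
    ∃ k : ℕ, IsCode hF hw (normP a) ((diagonal fun _ => w ^ k) * M) := by
  rcases normP_cases a with h | h | h <;> rw [h]
  · exact ⟨0, by simpa using ha⟩
  · exact ⟨1, by rw [pow_one]; exact (isCode_wI hF hw).mul hF hw ha⟩
  · refine ⟨2, ?_⟩
    have := (isCode_wI hF hw).mul hF hw ((isCode_wI hF hw).mul hF hw ha)
    rwa [← Matrix.mul_assoc, Matrix.diagonal_mul_diagonal,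
      show (fun _ : Fin 6 => w * w) = fun _ => w ^ 2 from funext fun _ => (pow_two w).symm] at this

end Field

end CfsgLib.Schur.MultiplierU62
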