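import Cfsg.Agent.Lib.Schur.MultiplierU62Code
import Cfsg.Agent.Lib.Schur.MultiplierU62Data
import Cfsg.Agent.Lib.Schur.PcTail
import Cfsg.Agent.Lib.ThreeTrans.UnitarySix

/-!
Codes of elements of `PSU₆(2)`, and the separation of generators of a Sylow subgroup by rows.
-/

set_option autoImplicit false
set_option linter.unusedSectionVars false
set_option maxRecDepth 100000

noncomputable section

namespace CfsgLib.Schur.MultiplierU62

open CfsgLib.Sporadic Matrix
open CfsgLib.Recognition.G2Four (F4)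
open CfsgLib.Presented.Fi22Unitary (el vec isoOK hLo hHi herm_vec vec_injective vec_zero)
open CfsgLib.ThreeTrans.USix (IsTvAt exists_tvAt)

universe u

/-- A coordinate of a coded vector in the model. -/
def coo (v : ℕ) (i : Fin 6) : F4 := F4.ofN (v >>> (2 * i.val))

/-- The transvection at a coded vector, in the model. -/
def tvModel (v : ℕ) : Matrix (Fin 6) (Fin 6) F4 :=
  Matrix.of fun i j => (if i = j then 1 else 0) + coo v i * (coo v j * coo v j)

/-- An entry of its code. -/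
def tvEnt (v : ℕ) (i j : Fin 12) : ZMod 2 :=
  blockEntry ((if (pr i).1 = (pr j).1 then 1 else 0) + coo v (pr i).1 * (coo v (pr j).1 * coo v (pr j).1))
    (pr i).2 (pr j).2

/-- A transvection with its code. -/
def tvGood (p : ℕ × ℕ) : Bool :=
  Nat.blt p.1 4096 && !(p.1 == 0) && isoOK p.1 && canonF2 12 p.2 &&
    (List.finRange 12).all fun i => (List.finRange 12).all fun j =>
      decide (tvEnt p.1 i j = bitEnt p.2 i j)

theorem tvList_good : tvList.all tvGood = true := by decide +kernel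

/-- The code of a word in the transvections. -/
def wordCode : List ℕ → ℕ
  | [] => normP (oneF2 12)
  | k :: ks => mulP (normP ((tvList.getD k (0, oneF2 12)).2)) (wordCode ks)

variable {F : Type u} [Field F] [Fintype F] (hF : Fintype.card F = 2 ^ 2) {w : F}
  (hw : 1 + w + w ^ 2 = 0)

/-- The code of an element of `PSU₆(2)`. -/
def Rep (a : ℕ) (x : Cfsg.PSU 6 F 2) : Prop :=
  ∃ (c : ℕ) (M : Cfsg.SU 6 F 2),
    QuotientGroup.mk M = x ∧ IsCode hF hw c M.1.1 ∧ a = normP c

theorem rep_one : Rep hF hw (normP (oneF2 12)) 1 :=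
  ⟨_, 1, rfl, isCode_one hF hw, rfl⟩

theorem mulP_normP {c d : ℕ} (hc : Lin c) : mulP (normP c) (normP d) = normP (mulF2 12 c d) := by
  rw [mulP, normP_mul_left, normP_mul_right hc]

theorem rep_mul {a b : ℕ} {x y : Cfsg.PSU 6 F 2} (hx : Rep hF hw a x) (hy : Rep hF hw b y) :
    Rep hF hw (mulP a b) (x * y) := by
  obtain ⟨c, M, rfl, hc, rfl⟩ := hx
  obtain ⟨d, N, rfl, hd, rfl⟩ := hy
  exact ⟨_, M * N, rfl, hc.mul hF hw hd, mulP_normP (hc.lin hF hw)⟩

theorem rep_uniq {a : ℕ} {x y : Cfsg.PSU 6 F 2} (hx : Rep hF hw a x) (hy : Rep hF hw a y) :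
    x = y := by
  obtain ⟨c, M, rfl, hc, rfl⟩ := hx
  obtain ⟨d, N, rfl, hd, e⟩ := hy
  obtain ⟨i, hi⟩ := hc.normP_scale hF hw
  obtain ⟨j, hj⟩ := hd.normP_scale hF hw
  rw [e] at hi
  have h := hi.unique hF hw hj
  have hw0 := Presented.Fi22Unitary.w_ne_zero hF hw
  set l := (w ^ i)⁻¹ * w ^ j with hl
  have hM : M.1.1 = (diagonal fun _ => l) * N.1.1 := by
    calc M.1.1 = (diagonal fun _ => (w ^ i)⁻¹) * ((diagonal fun _ => w ^ i) * M.1.1) := by
          rw [← Matrix.mul_assoc, Matrix.diagonal_mul_diagonal]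
          simp [inv_mul_cancel₀ (pow_ne_zero i hw0)]
      _ = _ := by rw [h, ← Matrix.mul_assoc, Matrix.diagonal_mul_diagonal]
  refine QuotientGroup.eq.2 (Subgroup.mem_center_iff.2 fun g => Subtype.ext (Subtype.ext ?_))
  have hz : (M⁻¹ * N).1.1 = diagonal fun _ => l⁻¹ := by
    have h1 : N.1.1 = (diagonal fun _ => l⁻¹) * M.1.1 := by
      rw [hM, ← Matrix.mul_assoc, Matrix.diagonal_mul_diagonal]
      rw [show (fun _ : Fin 6 => l⁻¹ * l) = fun _ => 1 from funext fun _ => inv_mul_cancel₀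
        (mul_ne_zero (inv_ne_zero (pow_ne_zero i hw0)) (pow_ne_zero j hw0)), Matrix.diagonal_one,
        Matrix.one_mul]
    have h2 : (M⁻¹).1.1 * M.1.1 = 1 :=
      congrArg (fun g : Cfsg.SU 6 F 2 => g.1.1) (inv_mul_cancel M)
    show (M⁻¹).1.1 * N.1.1 = _
    rw [h1, ← Matrix.mul_assoc, ← diagonal_scalar_comm, Matrix.mul_assoc, h2, Matrix.mul_one]
  show g.1.1 * (M⁻¹ * N).1.1 = (M⁻¹ * N).1.1 * g.1.1
  rw [hz, diagonal_scalar_comm]

theorem rep_code {a b : ℕ} {x : Cfsg.PSU 6 F 2} (hx : Rep hF hw a x) (hy : Rep hF hw b x) :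
    a = b := by
  obtain ⟨c, M, rfl, hc, rfl⟩ := hx
  obtain ⟨d, N, e, hd, rfl⟩ := hy
  have hz := QuotientGroup.eq.1 e.symm
  have hs := ClassicalGroups.center_SU_scalar (q := 2) hF ⟨_, hz⟩
  set l := (M⁻¹ * N).1.1 0 0 with hl
  have hdiag : (M⁻¹ * N).1.1 = diagonal fun _ => l := by
    ext i j
    rcases eq_or_ne i j with rfl | hij
    · rw [Matrix.diagonal_apply_eq]; exact (hs i 0).2
    · rw [Matrix.diagonal_apply_ne _ hij]; exact (hs i j).1 hij
  have hN : N.1.1 = (diagonal fun _ => l) * M.1.1 := by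
    have : N.1.1 = M.1.1 * (M⁻¹ * N).1.1 := by
      show N.1.1 = (M * (M⁻¹ * N)).1.1
      rw [mul_inv_cancel_left]
    rw [this, hdiag, diagonal_scalar_comm]
  have hl0 : l ≠ 0 := fun h0 => by
    have hdet := (M⁻¹ * N).1.2
    rw [hdiag, h0, Matrix.det_diagonal] at hdet
    simp at hdet
  have hw1 := (isCode_wI hF hw).mul hF hw hc
  rcases Presented.Fi22Unitary.scalar_cases hF hw hl0 with h | h | h
  · have e : N.1.1 = M.1.1 := by rw [hN, h, Matrix.diagonal_one, Matrix.one_mul]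
    rw [e] at hd
    rw [hc.code_unique hF hw hd]
  · rw [hN, h] at hd
    rw [← hw1.code_unique hF hw hd, normP_wI hc.1]
  · have hw2 := (isCode_wI hF hw).mul hF hw hw1
    rw [← Matrix.mul_assoc, Matrix.diagonal_mul_diagonal] at hw2
    rw [hN, h] at hd
    rw [← hw2.code_unique hF hw hd, normP_wI (canon_mulF2 _ _), normP_wI hc.1]

theorem exists_rep_tv {v c : ℕ} (h : tvGood (v, c) = true) :
    ∃ A : Cfsg.SU 6 F 2, IsTvAt (vec w v) A ∧ IsCode hF hw c A.1.1 := by
  simp only [tvGood, Bool.and_eq_true, List.all_eq_true, decide_eq_true_eq, Nat.blt_eq,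
    Bool.not_eq_true', beq_eq_false_iff_ne] at h
  obtain ⟨⟨⟨⟨hv, hv0⟩, hiso⟩, hc⟩, he⟩ := h
  have hne : vec w v ≠ 0 := fun e =>
    hv0 (vec_injective hF hw hv (by norm_num) (e.trans (vec_zero hF hw).symm))
  have hi : Cfsg.hermForm 6 F 2 (vec w v) (vec w v) = 0 := by
    simp only [isoOK, Bool.and_eq_true, Bool.not_eq_true'] at hiso
    rw [herm_vec hF hw, hiso.1, hiso.2]
    simp [el]
  obtain ⟨A, hA⟩ := exists_tvAt hF hne hi
  refine ⟨A, hA, hc, tvModel v, ?_, Matrix.ext fun i j => ?_⟩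
  · rw [hA.2.2]
    ext i j
    rw [Matrix.map_apply]
    simp only [ThreeTrans.USix.tv, Cfsg.unitaryTransvection, tvModel, coo, Matrix.add_apply,
      Matrix.one_apply, Matrix.smul_apply, vecMulVec_apply, Matrix.of_apply, map_add,
      map_mul, toF_ofN hF hw, smul_eq_mul, one_mul, pow_two]
    split <;> simp [Presented.Fi22Unitary.vec]
  · rw [big_apply]
    exact he i (List.mem_finRange i) j (List.mem_finRange j)

theorem exists_rep_entry (k : ℕ) :
    ∃ x, Rep hF hw (normP (tvList.getD k (0, oneF2 12)).2) x := by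
  rcases Nat.lt_or_ge k tvList.length with hk | hk
  · rw [List.getD_eq_getElem _ _ hk]
    obtain ⟨A, -, hA⟩ := exists_rep_tv hF hw (v := (tvList[k]).1) (c := (tvList[k]).2)
      (List.all_eq_true.1 tvList_good _ (List.getElem_mem hk))
    exact ⟨_, _, A, rfl, hA, rfl⟩
  · rw [List.getD_eq_default _ _ hk]
    exact ⟨1, rep_one hF hw⟩

theorem exists_rep_word : ∀ ks : List ℕ, ∃ x, Rep hF hw (wordCode ks) x
  | [] => ⟨1, rep_one hF hw⟩
  | k :: ks => by
    obtain ⟨x, hx⟩ := exists_rep_entry hF hw k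
    obtain ⟨y, hy⟩ := exists_rep_word ks
    exact ⟨x * y, rep_mul hF hw hx hy⟩

theorem exists_rep {cs : List ℕ} {ws : List (List ℕ)} (h : ws.map wordCode = cs) (i : ℕ) :
    ∃ x, Rep hF hw (cs.getD i (normP (oneF2 12))) x := by
  rcases Nat.lt_or_ge i cs.length with hi | hi
  · rw [List.getD_eq_getElem _ _ hi]
    obtain ⟨ks, -, e⟩ := List.mem_map.1 (by rw [h]; exact List.getElem_mem hi :
      cs[i] ∈ ws.map wordCode)
    exact e ▸ exists_rep_word hF hw ks
  · rw [List.getD_eq_default _ _ hi]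
    exact ⟨1, rep_one hF hw⟩

/-- The row a separating set starts from. -/
def sepRow (seps : List (List ℕ)) (i : ℕ) : ℕ := (seps.getD i []).getD 0 0

/-- The sets separate each generator from the later ones. -/
def sepOK (n : ℕ) (cs : List ℕ) (seps : List (List ℕ)) : Bool :=
  (List.range n).all fun i =>
    (seps.getD i []).contains (normV (mulF2 12 (sepRow seps i) (normP (oneF2 12)))) &&
      !(seps.getD i []).contains (normV (mulF2 12 (sepRow seps i) (cs.getD i (normP (oneF2 12))))) &&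
      ((List.range n).all fun j => !Nat.blt i j || (seps.getD i []).all fun l =>
        (seps.getD i []).contains (normV (mulF2 12 l (cs.getD j (normP (oneF2 12))))))

theorem le_card_of_seps {R : Pc.Rules} {C : Pc.Cert} {cs : List ℕ} {seps : List (List ℕ)}
    {gs cg : ℕ → Cfsg.PSU 6 F 2} [Finite (Cfsg.PSU 6 F 2)]
    (hgs : ∀ i, Rep hF hw (cs.getD i (normP (oneF2 12))) (gs i)) (hG : Pc.Holds R C gs cg)
    (hshape : R.shapeOK = true) (hp : R.p.Prime) (h : sepOK R.n cs seps = true) :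
    R.p ^ R.n ≤ Nat.card (Subgroup.closure (gs '' Set.Iio R.n)) := by
  simp only [sepOK, List.all_eq_true, List.mem_range, Bool.and_eq_true, Bool.not_eq_true',
    List.contains_iff_mem, Bool.or_eq_true] at h
  refine Pc.le_card_of_separators hG hshape hp
    (fun i x => ∃ a, Rep hF hw a x ∧ normV (mulF2 12 (sepRow seps i) a) ∈ seps.getD i []) ?_ ?_ ?_
  · intro i hi
    exact ⟨_, rep_one hF hw, (h i hi).1.1⟩
  · rintro i j hij hj x ⟨b, hb, hl⟩
    refine ⟨_, rep_mul hF hw hb (hgs j), ?_⟩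
    have h2 := ((h i (by omega)).2 j hj).resolve_left (by simp [hij]) _ hl
    obtain ⟨cb, Mb, -, hcb, rfl⟩ := hb
    obtain ⟨cj, Mg, -, hcg, eg⟩ := hgs j
    rw [eg, normV_mul_norm (hcg.lin hF hw), normV_mul_norm (hcb.lin hF hw),
      normV_norm_mul (hcg.lin hF hw), mulF2_assoc] at h2
    rw [eg, mulP_normP (hcb.lin hF hw), normV_mul_norm ((hcb.lin hF hw).mul (hcg.lin hF hw))]
    exact h2
  · rintro i hi ⟨a, ha, hmem⟩
    rw [rep_code hF hw ha (hgs i)] at hmem
    have := (h i hi).1.2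
    rw [← Bool.not_eq_true, List.contains_iff_mem] at this
    exact this hmem

end CfsgLib.Schur.MultiplierU62
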