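import Cfsg.Agent.Lib.Schur.MultiplierU62Checks
import Cfsg.Agent.Lib.Schur.PcAssemble
import Cfsg.Agent.Lib.Schur.CriteriaElements
import Cfsg.Agent.Lib.Presented.Fi22Unitary.Cover

/-!
The bounds at all primes for the Schur multiplier of `PSU₆(2)`.
-/

set_option autoImplicit false
set_option linter.unusedSectionVars false

noncomputable section

namespace CfsgLib.Schur.MultiplierU62

open CfsgLib.Sporadic CfsgLib.Schur

universe u

variable {F : Type u} [Field F] [Fintype F] (hF : Fintype.card F = 2 ^ 2) {w : F}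
  (hw : 1 + w + w ^ 2 = 0)

include hF in
theorem finite_psu : Finite (Cfsg.PSU 6 F 2) :=
  Nat.finite_of_card_ne_zero (by rw [Presented.Fi22Unitary.card_psu hF]; norm_num)

include hF hw in
theorem spanAt_of_checks {p : ℕ} [Fact p.Prime] {R : Pc.Rules} {C : Pc.Cert} {cs ks : List ℕ}
    {cw kw : List (List ℕ)} {seps : List (List ℕ)} {fuel : ℕ} (hcw : cw.map wordCode = cs)
    (hkw : kw.map wordCode = ks) (hshape : R.shapeOK = true) (heqs : C.eqnsOK R fuel = true)
    (hsolve : C.solveOK R = true) (hholds : Pc.holdsOK mulP (normP (oneF2 12)) R C cs ks = true)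
    (hsep : sepOK R.n cs seps = true) (hRp : R.p = p) {d : ℕ} (hd : ¬ p ∣ d)
    (hord : 9196830720 = p ^ R.n * d) {ords : List ℕ} (hlen : C.us.length = ords.length)
    (hords : C.ords = ords) : Pc.SpanAt p (Cfsg.PSU 6 F 2) ords := by
  have := finite_psu hF
  choose gs hgs using exists_rep hF hw hcw
  choose cg hcg using exists_rep hF hw hkw
  have hH := Pc.holds_of_check (Rep hF hw) (rep_one hF hw) (rep_mul hF hw) (rep_uniq hF hw) hgs hcg
    hholds
  have hle := le_card_of_seps hF hw hgs hH hshape (by rw [hRp]; exact Fact.out) hsep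
  rw [hRp] at hle
  exact Pc.spanAt_of_cert hH hshape heqs hsolve hRp hle hd
    (by rw [Presented.Fi22Unitary.card_psu hF]; exact hord) hlen hords

include hF hw in
theorem span_two : Pc.SpanAt 2 (Cfsg.PSU 6 F 2) [2, 2] :=
  spanAt_of_checks (p := 2) hF hw two_words two_conjWords two_shape two_eqns two_solve two_holds two_sep rfl
    (d := 280665) (by norm_num) (by norm_num [twoRules]) rfl rfl

include hF hw in
theorem span_three : Pc.SpanAt 3 (Cfsg.PSU 6 F 2) [3] :=
  spanAt_of_checks (p := 3) hF hw three_words three_conjWords three_shape three_eqns three_solve three_holds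
    three_sep rfl (d := 12615680) (by norm_num) (by norm_num [threeRules]) rfl rfl

include hF hw in
theorem exists_order {ks : List ℕ} {p : ℕ} [Fact p.Prime]
    (h : powCode ks p = normP (oneF2 12) ∧ wordCode ks ≠ normP (oneF2 12)) :
    ∃ x : Cfsg.PSU 6 F 2, orderOf x = p := by
  obtain ⟨x, hx⟩ := exists_rep_word hF hw ks
  have hpow : ∀ n, Rep hF hw (powCode ks n) (x ^ n) := by
    intro n
    induction n with
    | zero => rw [pow_zero]; exact rep_one hF hw
    | succ n ih => rw [pow_succ']; exact rep_mul hF hw hx ih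
  refine ⟨x, orderOf_eq_prime ?_ fun e => ?_⟩
  · have := hpow p
    rw [h.1] at this
    exact rep_uniq hF hw this (rep_one hF hw)
  · subst e
    exact h.2 (rep_code hF hw hx (rep_one hF hw))

theorem prime_cases {p : ℕ} (hp : p.Prime) (hd : p ∣ 9196830720) :
    p = 2 ∨ p = 3 ∨ p = 5 ∨ p = 7 ∨ p = 11 := by
  have h : p ∣ 2 ^ 15 * (3 ^ 6 * (5 * (7 * 11))) := by norm_num; exact hd
  have hq : ∀ {q : ℕ}, q.Prime → p ∣ q → p = q := fun hq h => (Nat.prime_dvd_prime_iff_eq hp hq).1 h
  rcases (Nat.Prime.dvd_mul hp).1 h with h | h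
  · exact Or.inl (hq Nat.prime_two (hp.dvd_of_dvd_pow h))
  rcases (Nat.Prime.dvd_mul hp).1 h with h | h
  · exact Or.inr (Or.inl (hq Nat.prime_three (hp.dvd_of_dvd_pow h)))
  rcases (Nat.Prime.dvd_mul hp).1 h with h | h
  · exact Or.inr (Or.inr (Or.inl (hq (by norm_num) h)))
  rcases (Nat.Prime.dvd_mul hp).1 h with h | h
  · exact Or.inr (Or.inr (Or.inr (Or.inl (hq (by norm_num) h))))
  · exact Or.inr (Or.inr (Or.inr (Or.inr (hq (by norm_num) h))))

include hF hw in
theorem span_rest (p : ℕ) (hp : p.Prime) (h2 : p ≠ 2) (h3 : p ≠ 3) :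
    Pc.SpanAt p (Cfsg.PSU 6 F 2) [] := by
  have : Fact p.Prime := ⟨hp⟩
  have := finite_psu hF
  by_cases hd : p ∣ 9196830720
  · rcases prime_cases hp hd with rfl | rfl | rfl | rfl | rfl
    · exact absurd rfl h2
    · exact absurd rfl h3
    · obtain ⟨x, hx⟩ := exists_order hF hw five_order
      exact Pc.spanAt_of_noMultiplierAt hp (noMultiplierAt_of_sylow_element x 1 1839366144
        (by rw [hx, pow_one]) (by norm_num) (by rw [Presented.Fi22Unitary.card_psu hF]; norm_num))
    · obtain ⟨x, hx⟩ := exists_order hF hw seven_order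
      exact Pc.spanAt_of_noMultiplierAt hp (noMultiplierAt_of_sylow_element x 1 1313832960
        (by rw [hx, pow_one]) (by norm_num) (by rw [Presented.Fi22Unitary.card_psu hF]; norm_num))
    · obtain ⟨x, hx⟩ := exists_order hF hw eleven_order
      exact Pc.spanAt_of_noMultiplierAt hp (noMultiplierAt_of_sylow_element x 1 836075520
        (by rw [hx, pow_one]) (by norm_num) (by rw [Presented.Fi22Unitary.card_psu hF]; norm_num))
  · exact Pc.spanAt_of_noMultiplierAt hp
      (noMultiplierAt_of_not_dvd (by rwa [Presented.Fi22Unitary.card_psu hF]))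

end CfsgLib.Schur.MultiplierU62

end
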