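import Cfsg.Agent.Lib.Schur.GolayOutBase

/-! Generated data for the automorphisms of M23. -/

set_option autoImplicit false

namespace CfsgLib.Schur.OutM23

open Cfsg CfsgLib.Golay CfsgLib.Schur.GolaySearch CfsgLib.Schur.GolayOut

/-- `genA` -/
def genAL : List ℕ := [3,12,22,11,15,17,7,13,6,20,5,18,9,1,2,14,21,4,8,16,19,10,0,23]

/-- The permutation with image list `genAL`. -/
def genA : Equiv.Perm GolayPt :=
  ⟨imgFun genAL, imgFun [22,13,14,0,17,10,8,6,18,12,21,3,1,7,15,4,19,5,11,20,9,16,2,23], by decide +kernel, by decide +kernel⟩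

theorem toList_genA : toList genA = genAL := by decide +kernel

/-- `genB` -/
def genBL : List ℕ := [0,5,15,11,16,12,9,19,1,14,13,8,4,21,17,10,18,20,7,3,22,6,2,23]

/-- The permutation with image list `genBL`. -/
def genB : Equiv.Perm GolayPt :=
  ⟨imgFun genBL, imgFun [0,8,22,19,12,1,21,18,11,6,15,3,5,10,9,2,4,14,16,7,17,13,20,23], by decide +kernel, by decide +kernel⟩

theorem toList_genB : toList genB = genBL := by decide +kernel

/-- `genC` -/
def genCL : List ℕ := [0,1,9,12,11,4,22,19,3,10,15,18,7,21,6,20,5,17,16,8,2,14,13,23]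

/-- The permutation with image list `genCL`. -/
def genC : Equiv.Perm GolayPt :=
  ⟨imgFun genCL, imgFun [0,1,20,8,5,16,14,12,19,2,9,4,3,22,21,10,18,17,11,7,15,13,6,23], by decide +kernel, by decide +kernel⟩

theorem toList_genC : toList genC = genCL := by decide +kernel

/-- The straight-line program. -/
def prog : List (ℕ × ℕ) :=
  [(3,4),(2,1),(7,0),(7,8),(1,4),(0,5),(8,0),(6,0),(10,9),(5,4),(8,6),(0,7),
    (8,2),(7,17),(16,0),(19,19),(12,2),(16,19),(21,0),(0,10),(0,3),(9,5),(13,21),(14,0),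
    (25,25),(21,14),(13,0),(29,0),(11,24),(32,12),(32,0),(35,14),(0,3),(6,7),(5,33),(38,16),
    (37,0),(0,28),(29,0),(5,17),(7,0),(16,17),(19,33),(23,34),(1,0),(2,0),(4,0),(0,6),
    (3,53),(0,1),(14,55),(0,49),(0,2),(23,12),(8,0),(39,21),(55,15),(0,17),(32,24),(20,0),
    (11,0),(21,3),(39,0),(62,0),(38,29),(27,66),(27,0),(20,0),(0,66),(0,4),(33,75),(0,1),
    (7,18),(11,19),(34,15),(74,1),(38,76),(9,0),(31,9),(0,32),(2,0),(0,5),(6,26),(37,58),
    (0,1),(2,89),(2,0),(10,92),(0,1),(14,63),(92,0),(42,0),(36,52),(70,0),(93,40),(0,12),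
    (50,0),(4,1),(14,0),(97,0),(10,7),(35,0),(101,0),(22,101),(20,0),(106,0),(0,50),(0,76),
    (0,5),(19,26),(101,0),(64,27),(0,101),(0,2),(13,41),(31,0),(91,0),(77,2),(49,0),(81,109),
    (0,1),(3,38),(75,0),(45,89),(0,1),(52,50),(45,0),(1,29),(44,0),(58,0),(22,0),(21,33),
    (88,0),(45,0),(16,6),(88,0),(111,0),(15,27),(136,99),(0,96),(62,0),(0,3),(96,99),(0,96),
    (0,3),(0,71),(0,4),(69,145),(43,0),(0,37),(0,5),(36,104),(1,0),(0,113),(0,138),(0,8),
    (21,81),(16,0),(104,23),(93,0),(28,45),(163,0),(38,0),(6,2),(125,0),(4,79),(122,0),(118,0),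
    (16,111),(0,148),(0,2),(10,39),(148,0),(130,29),(69,0),(25,0),(61,0),(33,24),(1,0),(0,150),
    (0,7),(9,49),(113,0),(158,0),(44,127),(0,170),(0,2),(36,131),(0,173),(0,100),(0,3),(73,27),
    (172,0),(44,159),(0,1),(90,43),(0,156),(0,142),(0,3),(67,89),(62,8),(122,0),(43,36),(134,0),
    (80,0),(7,0),(71,88),(184,0),(95,0),(27,2),(7,18),(213,0),(2,30),(193,0),(35,62),(109,38),
    (63,138),(1,0),(3,0),(0,224),(0,6),(47,226),(0,194),(0,2),(21,106),(179,0),(94,23),(158,0),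
    (140,0),(63,47),(55,54),(0,1),(231,0),(30,32),(153,0),(83,17),(0,202),(0,2),(86,85),(0,228),
    (0,146),(0,3),(42,8),(49,0),(140,170),(0,1),(3,21),(223,0),(37,82),(165,0),(104,0),(73,178),
    (0,1),(63,0),(27,29),(209,0),(168,0),(149,0),(55,28),(239,0),(66,0),(85,248),(0,231),(0,2),
    (48,251),(0,237),(0,145),(0,3),(9,102),(14,69),(227,0),(270,0),(220,0),(55,216),(0,219),(0,150),
    (0,3),(111,8),(239,0),(166,0),(62,104),(0,224),(0,251),(0,3),(172,110),(0,253),(0,284),(0,198),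
    (0,4),(76,11),(223,0),(203,0),(69,0),(118,97),(79,0),(0,77),(0,222),(0,71),(0,89),(0,6),
    (124,123),(125,0),(0,86),(0,85),(0,294),(0,208),(0,172),(0,136),(0,8),(54,62),(229,0),(131,0),
    (60,0),(19,240),(0,187),(0,178),(0,3),(27,104),(79,16),(0,1),(196,0),(206,265),(0,306),(0,2),
    (34,99),(301,0),(238,0),(104,0),(61,0),(21,0),(100,61),(95,50),(101,0),(0,307),(0,332),(0,327),
    (0,130),(67,47),(329,0),(43,108),(104,0),(0,329),(0,3),(80,0),(95,6),(114,0),(129,314),(0,1),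
    (296,0),(159,0),(42,0),(102,104),(33,0),(173,0),(91,0),(131,0),(11,4),(39,47),(48,33),(275,0),
    (247,0),(163,0),(4,5),(354,0),(134,6),(95,34),(150,62),(59,30),(37,16),(289,358),(0,368),(141,2),
    (293,0),(4,8),(0,8),(198,380),(0,321),(11,52),(331,0),(308,0),(135,0),(166,371),(0,285),(0,258),
    (0,3),(48,0),(27,14),(343,0),(264,0),(337,0),(74,0),(54,0),(5,14),(30,0),(0,28),(351,0),
    (202,0),(20,0),(110,0),(91,0),(25,22),(358,0),(400,0),(351,0),(11,52),(4,0),(12,159),(40,104),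
    (192,189),(68,0),(0,2),(59,33),(5,7),(1,166),(74,317),(0,333),(10,21),(371,0),(76,0),(12,60),
    (13,3),(174,1),(0,1),(176,10),(1,46),(4,11),(2,1),(380,0),(63,5),(350,0),(250,0),(434,0),
    (3,37),(0,6),(1,8),(14,12),(7,10),(370,0),(27,135),(0,381),(0,2),(158,0),(8,5),(434,0),
    (224,0),(182,0),(147,0),(139,0),(19,35),(14,15),(1,14),(1,0),(371,0),(111,0),(83,0),(111,0),
    (148,0),(8,6),(0,29),(0,52),(379,0),(412,0),(307,0),(47,0),(127,0)]

/-- Bottom of the stack. -/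
def stack : List (List ℕ) :=
  [[0,1,20,8,5,16,14,12,19,2,9,4,3,22,21,10,18,17,11,7,15,13,6,23],
    [0,8,22,19,12,1,21,18,11,6,15,3,5,10,9,2,4,14,16,7,17,13,20,23],
    [22,13,14,0,17,10,8,6,18,12,21,3,1,7,15,4,19,5,11,20,9,16,2,23],
    [0,1,9,12,11,4,22,19,3,10,15,18,7,21,6,20,5,17,16,8,2,14,13,23],
    [0,5,15,11,16,12,9,19,1,14,13,8,4,21,17,10,18,20,7,3,22,6,2,23],
    [3,12,22,11,15,17,7,13,6,20,5,18,9,1,2,14,21,4,8,16,19,10,0,23],
    [0,1,2,3,4,5,6,7,8,9,10,11,12,13,14,15,16,17,18,19,20,21,22,23]]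

/-- Levels. -/
def lev : List (List ℕ) :=
  [[471,433,431,470,390,453,392,255,455,452,409,461,454,265,439,391,436,432,196,407,370,425,408],
    [471,239,450,464,410,368,37,463,300,253,305,449,92,101,217,444,263,380,437,434,338,371],
    [471,307,232,46,284,236,383,393,348,340,344,351,256,457,373,401,302,331,465,376,328],
    [471,309,23,219,365,103,207,259,294,121,334,412,61,404,33,223,241,266,141,356],
    [471,188,197],
    [471,148,0,73,97,274,8,176,156,65,114,211,135,109,17,79]]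

/-- Targets. -/
def tg : List (List ℕ) :=
  [[0,1,2,3,4,5,6,7,8,9,10,11,12,13,14,15,16,17,18,19,20,21,22],
    [1,2,3,4,5,6,7,8,9,10,11,12,13,14,15,16,17,18,19,20,21,22],
    [2,3,4,5,6,7,8,9,10,11,12,13,14,15,16,17,18,19,20,21,22],
    [3,4,5,6,7,8,9,10,11,12,13,14,15,16,17,18,19,20,21,22],
    [5,14,17],
    [4,6,7,8,9,10,11,12,13,15,16,18,19,20,21,22]]

/-- Base. -/
def base : List ℕ := [0,1,2,3,5,4]

/-- Stages for the centraliser of `genA`. -/
def stagesA : List Stage :=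
  [([23], [], [23]),
  ([0,3,11,18,8,6,7,13,1,12,9,20,19,16,21,10,5,17,4,15,14,2,22], [3277413,6053905,6554826,42232,705094,1337732], [0,1,2,3,4,5,6,7,8,9,10,11,12,13,14,15,16,17,18,19,20,21,22])]

/-- Stages for the elements acting on `genB` like `genC`. -/
def stagesB : List Stage :=
  [([23], [], [23]),
  ([2,15,10,13,21,6,9,14,17,20,22], [15918660], [0,1,2,3,4,5,6,7,8,9,10,11,12,13,14,15,16,17,18,19,20,21,22]),
  ([1,5,12,4,16,18,7,19,3,11,8], [6554826,42232,705094,1337732,2702848,5476616], [0,1,2,3,4,5,6,7,8,9,10,11,12,13,14,15,16,17,18,19,20,21,22]),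
  ([0], [3277413,6053905,3719203,4721045,924689,4424227], [0,1,2,3,4,5,6,7,8,9,10,11,12,13,14,15,16,17,18,19,20,21,22])]

end CfsgLib.Schur.OutM23
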