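import Cfsg.Agent.Lib.Schur.GolayOutBase

/-! Generated data for the automorphisms of M24. -/

set_option autoImplicit false

namespace CfsgLib.Schur.OutM24

open Cfsg CfsgLib.Golay CfsgLib.Schur.GolaySearch CfsgLib.Schur.GolayOut

/-- `genA` -/
def genAL : List ℕ := [6,10,17,8,9,18,7,1,23,21,22,0,20,5,3,11,16,15,14,12,2,13,4,19]

/-- The permutation with image list `genAL`. -/
def genA : Equiv.Perm GolayPt :=
  ⟨imgFun genAL, imgFun [11,7,20,14,22,13,0,6,3,4,1,15,19,21,18,17,16,2,5,23,12,9,10,8], by decide +kernel, by decide +kernel⟩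

theorem toList_genA : toList genA = genAL := by decide +kernel

/-- `genB` -/
def genBL : List ℕ := [0,4,23,1,14,17,7,10,22,8,21,15,18,20,6,2,16,12,11,13,3,19,5,9]

/-- The permutation with image list `genBL`. -/
def genB : Equiv.Perm GolayPt :=
  ⟨imgFun genBL, imgFun [0,3,15,20,1,22,14,6,9,23,7,18,17,19,4,11,16,5,12,21,13,10,8,2], by decide +kernel, by decide +kernel⟩

theorem toList_genB : toList genB = genBL := by decide +kernel

/-- `genC` -/
def genCL : List ℕ := [16,2,13,11,9,19,17,18,6,4,15,7,1,5,22,21,0,20,14,8,12,23,10,3]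

/-- The permutation with image list `genCL`. -/
def genC : Equiv.Perm GolayPt :=
  ⟨imgFun genCL, imgFun [16,12,1,23,9,13,8,11,19,4,22,3,20,2,18,10,0,6,7,5,17,15,14,21], by decide +kernel, by decide +kernel⟩

theorem toList_genC : toList genC = genCL := by decide +kernel

/-- The straight-line program. -/
def prog : List (ℕ × ℕ) :=
  [(3,4),(2,1),(7,0),(7,8),(1,4),(0,5),(8,7),(3,2),(6,4),(0,5),(6,2),(9,0),
    (6,16),(12,0),(18,18),(11,2),(6,1),(16,19),(0,1),(15,10),(13,19),(0,1),(25,4),(0,16),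
    (0,17),(0,24),(0,4),(16,7),(12,24),(32,13),(32,0),(35,15),(11,25),(0,8),(0,2),(38,12),
    (37,0),(0,30),(0,38),(0,44),(0,5),(9,12),(41,0),(15,23),(15,43),(43,0),(2,29),(5,0),
    (27,0),(19,1),(26,0),(36,7),(51,4),(54,54),(47,33),(1,0),(23,22),(1,0),(51,20),(21,60),
    (1,0),(3,0),(0,53),(10,16),(41,0),(2,0),(46,22),(20,3),(11,0),(49,24),(11,0),(1,21),
    (15,39),(0,1),(72,15),(0,42),(0,47),(0,3),(10,28),(22,25),(0,1),(34,14),(81,3),(0,31),
    (82,0),(1,89),(24,47),(25,85),(30,0),(0,31),(3,0),(0,89),(0,6),(37,90),(0,1),(13,75),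
    (42,0),(71,0),(46,51),(36,0),(63,98),(0,1),(101,52),(82,0),(17,96),(0,1),(3,22),(8,0),
    (35,50),(0,1),(14,11),(57,0),(16,28),(79,0),(3,42),(6,0),(36,24),(30,115),(1,0),(61,39),
    (1,0),(0,39),(0,6),(76,8),(122,0),(92,16),(9,0),(0,99),(0,3),(5,45),(21,0),(26,0),
    (60,50),(78,0),(57,0),(2,27),(23,28),(135,0),(16,0),(15,3),(106,0),(11,28),(141,0),(3,61),
    (85,0),(55,101),(0,1),(97,7),(150,0),(44,0),(13,35),(97,0),(6,0),(9,2),(130,0),(61,0),
    (5,70),(6,20),(100,0),(13,0),(71,155),(0,112),(0,2),(5,26),(163,0),(41,11),(112,0),(30,54),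
    (130,0),(47,0),(28,4),(62,0),(111,170),(0,1),(53,47),(0,174),(0,66),(0,3),(30,21),(178,0),
    (105,179),(0,1),(42,58),(64,0),(121,0),(21,2),(165,0),(6,0),(101,112),(69,63),(1,0),(0,133),
    (75,0),(0,111),(0,143),(0,7),(17,30),(105,0),(12,34),(176,0),(78,0),(39,0),(23,78),(123,0),
    (67,25),(198,0),(79,13),(0,205),(0,2),(18,34),(101,21),(90,0),(0,20),(104,0),(4,0),(0,207),
    (0,197),(0,8),(61,54),(110,0),(126,0),(120,0),(43,51),(189,0),(161,0),(107,216),(0,175),(0,2),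
    (60,5),(175,0),(231,113),(0,21),(19,145),(1,0),(42,0),(0,183),(0,6),(110,62),(0,222),(0,129),
    (0,3),(12,38),(241,0),(46,86),(242,0),(53,32),(0,139),(0,198),(0,3),(44,46),(227,0),(174,0),
    (57,0),(38,61),(0,47),(0,21),(0,228),(0,208),(0,152),(0,6),(140,211),(0,247),(0,2),(84,44),
    (230,0),(57,0),(2,109),(187,0),(18,100),(210,0),(95,60),(96,0),(0,270),(0,3),(60,245),(0,206),
    (0,2),(120,10),(220,0),(239,0),(70,265),(0,212),(0,2),(84,5),(175,0),(77,0),(91,0),(37,45),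
    (281,0),(226,0),(14,0),(7,92),(274,0),(267,0),(60,292),(0,249),(0,2),(13,94),(225,0),(45,284),
    (0,1),(5,0),(48,68),(71,0),(0,303),(0,120),(0,4),(88,40),(249,0),(36,0),(62,0),(39,79),
    (0,78),(81,0),(0,82),(69,43),(44,0),(2,0),(0,236),(0,176),(0,188),(0,10),(53,38),(150,0),
    (91,329),(0,274),(0,2),(15,245),(0,309),(0,315),(0,3),(96,13),(0,265),(0,166),(0,152),(0,86),
    (0,5),(93,14),(336,0),(103,0),(58,0),(82,0),(98,100),(307,0),(216,0),(219,330),(0,334),(0,2),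
    (92,110),(114,0),(116,175),(116,0),(2,0),(0,349),(0,305),(0,208),(0,8),(19,14),(304,0),(45,307),
    (0,1),(172,294),(0,291),(0,2),(93,317),(0,296),(0,300),(0,3),(76,80),(312,0),(134,0),(209,0),
    (84,74),(350,0),(297,0),(180,0),(70,0),(8,19),(380,0),(274,0),(189,298),(0,271),(0,2),(27,0),
    (34,80),(147,33),(68,0),(0,83),(3,0),(0,374),(0,122),(0,313),(0,229),(0,9),(175,25),(322,0),
    (215,0),(84,369),(0,255),(0,2),(64,0),(49,396),(0,331),(0,271),(0,176),(0,303),(0,5),(138,99),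
    (196,0),(219,394),(0,1),(219,410),(0,298),(0,2),(84,0),(83,62),(0,411),(0,346),(0,286),(0,170),
    (0,5),(113,78),(401,0),(250,0),(193,341),(0,406),(0,2),(41,398),(0,263),(0,282),(0,3),(46,425),
    (0,318),(0,335),(0,143),(0,4),(217,14),(382,0),(88,436),(0,1),(58,0),(74,0),(20,47),(388,0),
    (144,0),(98,0),(3,38),(234,419),(134,136),(41,151),(426,0),(91,0),(225,0),(80,16),(400,0),(155,0),
    (93,0),(151,0),(4,8),(436,0),(100,0),(179,0),(203,0),(85,4),(391,0),(371,0),(190,0),(152,420),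
    (0,437),(0,316),(0,3),(51,0),(66,0),(9,65),(440,0),(267,0),(50,0),(160,159),(125,0),(0,167),
    (95,31),(1,0),(0,472),(0,316),(0,386),(0,8),(39,36),(276,477),(0,417),(172,484),(0,380),(0,425),
    (33,149),(401,0),(194,0),(394,0),(140,0),(10,4),(500,0),(51,0),(399,0),(9,0),(53,116),(171,0),
    (23,192),(0,89),(2,0),(0,502),(0,240),(0,356),(0,282),(0,9),(48,270),(458,0),(420,0),(166,500),
    (0,312),(0,347),(0,3),(176,69),(522,0),(481,0),(33,0),(193,0),(11,31),(5,283),(492,0),(117,0),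
    (146,0),(31,55),(17,157),(472,0),(93,0),(107,0),(167,0),(29,520),(0,369),(0,459),(0,289),(0,4),
    (37,404),(0,429),(0,413),(0,321),(0,167),(0,5),(33,16),(305,16),(0,1),(531,0),(102,0),(356,0),
    (293,0),(42,0),(312,29),(475,0),(434,0),(158,0),(9,108),(521,0),(324,0),(162,0),(15,36),(351,0),
    (204,0),(269,0),(533,557),(0,555),(0,2),(253,560),(0,524),(0,439),(0,3),(28,0),(19,15),(518,0),
    (181,27),(192,70),(53,19),(541,0),(141,0),(199,0),(327,500),(0,540),(0,445),(0,3),(75,0),(42,0),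
    (11,114),(200,110),(83,0),(88,0),(89,110),(89,0),(16,0),(3,0),(246,5),(1,0),(182,1),(0,249),
    (2,0),(97,0),(0,586),(0,399),(0,338),(16,30),(526,0),(426,0),(245,0),(91,0),(91,0),(205,0),
    (23,49),(66,64),(37,51),(9,0),(507,0),(178,0),(315,535),(0,1),(102,0),(16,0),(73,16),(46,98),
    (1,111),(0,9),(13,20),(48,0),(607,0),(269,0),(390,0),(3,18),(8,18),(7,5),(7,1),(1,11),
    (12,3),(124,5),(584,0),(279,0),(358,0),(171,0),(7,65),(619,0),(527,643),(0,1),(469,0),(10,70),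
    (10,22),(0,24),(558,0),(351,0),(457,0),(183,0),(6,141),(5,0),(79,20),(80,14),(0,15),(658,0),
    (15,0),(499,0),(177,0),(270,0),(119,0),(8,16),(9,10),(558,0),(220,0),(387,0),(303,0),(99,0),
    (266,0),(6,18),(0,8),(673,0),(495,0),(515,0),(208,0),(259,0),(274,0)]

/-- Bottom of the stack. -/
def stack : List (List ℕ) :=
  [[16,12,1,23,9,13,8,11,19,4,22,3,20,2,18,10,0,6,7,5,17,15,14,21],
    [0,3,15,20,1,22,14,6,9,23,7,18,17,19,4,11,16,5,12,21,13,10,8,2],
    [11,7,20,14,22,13,0,6,3,4,1,15,19,21,18,17,16,2,5,23,12,9,10,8],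
    [16,2,13,11,9,19,17,18,6,4,15,7,1,5,22,21,0,20,14,8,12,23,10,3],
    [0,4,23,1,14,17,7,10,22,8,21,15,18,20,6,2,16,12,11,13,3,19,5,9],
    [6,10,17,8,9,18,7,1,23,21,22,0,20,5,3,11,16,15,14,12,2,13,4,19],
    [0,1,2,3,4,5,6,7,8,9,10,11,12,13,14,15,16,17,18,19,20,21,22,23]]

/-- Levels. -/
def lev : List (List ℕ) :=
  [[676,675,629,598,680,665,599,673,666,634,679,637,524,677,671,672,614,653,545,686,652,574,678,687],
    [687,638,514,596,632,438,600,413,635,612,662,650,477,540,610,567,630,571,516,669,105,538,569],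
    [687,603,534,583,667,528,525,575,640,549,531,496,499,542,552,586,511,615,483,558,415,546],
    [687,384,394,463,228,518,453,459,440,152,309,34,390,654,503,404,432,123,398,479,235],
    [687,339,39,119,157,304,50,184,579,239,218,223,313,359,162,485,324,195,374,27],
    [687,418,260],
    [687,8,208,344,93,135,169,16,0,287,245,274,107,59,127,69]]

/-- Targets. -/
def tg : List (List ℕ) :=
  [[0,1,2,3,4,5,6,7,8,9,10,11,12,13,14,15,16,17,18,19,20,21,22,23],
    [0,1,2,3,4,5,6,7,8,9,10,11,12,13,14,15,16,17,18,19,20,21,22],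
    [1,2,3,4,5,6,7,8,9,10,11,12,13,14,15,16,17,18,19,20,21,22],
    [2,3,4,5,6,7,8,9,10,11,12,13,14,15,16,17,18,19,20,21,22],
    [3,4,5,6,7,8,9,10,11,12,13,14,15,16,17,18,19,20,21,22],
    [5,14,17],
    [4,6,7,8,9,10,11,12,13,15,16,18,19,20,21,22]]

/-- Base. -/
def base : List ℕ := [23,0,1,2,3,5,4]

/-- Stages for the centraliser of `genA`. -/
def stagesA : List Stage :=
  [([0,6,7,1,10,22,4,9,21,13,5,18,14,3,8,23,19,12,20,2,17,15,11], [3277413,6053905,6554826,42232,705094,1337732], [0,1,2,3,4,5,6,7,8,9,10,11,12,13,14,15,16,17,18,19,20,21,22,23]),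
  ([16], [2702848,5476616,84464,1410188,4424227,7438406], [0,1,2,3,4,5,6,7,8,9,10,11,12,13,14,15,16,17,18,19,20,21,22,23])]

/-- Stages for the elements acting on `genB` like `genC`. -/
def stagesB : List Stage :=
  [([1,4,14,6,7,10,21,19,13,20,3], [], [0,1,2,3,4,5,6,7,8,9,10,11,12,13,14,15,16,17,18,19,20,21,22,23]),
  ([2,23,9,8,22,5,17,12,18,11,15], [6554826,42232,705094,1337732,6594610,2675464], [0,1,2,3,4,5,6,7,8,9,10,11,12,13,14,15,16,17,18,19,20,21,22,23]),
  ([0], [3277413,6053905,3719203,4721045,924689,1053483], [0,1,2,3,4,5,6,7,8,9,10,11,12,13,14,15,16,17,18,19,20,21,22,23]),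
  ([16], [2702848,5476616,84464,1410188,4424227,7438406], [0,1,2,3,4,5,6,7,8,9,10,11,12,13,14,15,16,17,18,19,20,21,22,23])]

end CfsgLib.Schur.OutM24
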