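/-
The outer automorphism group of M24: generation and rigidity.
-/
import Cfsg.Agent.Lib.Schur.MathieuSubgroups
import Cfsg.Agent.Lib.Schur.OutM24Data

set_option autoImplicit false

namespace CfsgLib.Schur.OutM24

open Cfsg CfsgLib.Golay CfsgLib.Schur.GolaySearch CfsgLib.Schur.GolayOut

theorem gens_side : (inG side24 genAL && inG side24 genBL && inG side24 genCL) = true := by
  decide +kernel

theorem gens_mem : ∀ x ∈ ({genA, genB, genC} : Set (Equiv.Perm GolayPt)), x ∈ Cfsg.M24 := by
  have h := gens_side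
  simp only [inG, Bool.and_eq_true] at h
  rintro x (rfl | rfl | rfl) <;>
    rw [mem_M24_side, mem_M24_iff_isPres] <;>
    simp only [toList_genA, toList_genB, toList_genC]
  exacts [h.1.1, h.1.2, h.2]

theorem stack_ok : ∀ l ∈ runProg prog stack,
    InSub (Subgroup.closure {genA, genB, genC}) l := by
  refine inSub_runProg _ _ (inSub_stack toList_genA toList_genB toList_genC rfl ?_ ?_)
  · decide +kernel
  · simp only [stack, List.forall_mem_cons]
    refine ⟨⟨genC⁻¹, ?_⟩, ⟨genB⁻¹, ?_⟩, ⟨genA⁻¹, ?_⟩, ⟨genC, ?_⟩, ⟨genB, ?_⟩, ⟨genA, ?_⟩, ⟨1, ?_⟩,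
      fun x hx => absurd hx List.not_mem_nil⟩ <;>
      decide +kernel

theorem closure_eq : Subgroup.closure {genA, genB, genC} = Cfsg.M24 := by
  refine closure_eq_part 0 ((Subgroup.closure_le _).mpr gens_mem) ?_
    (base := base) (by decide +kernel) (tg := tg) (by decide +kernel) stack_ok (lev := lev) (by decide +kernel)
  exact fun σ hσ => ⟨hσ, fun b hb => by simp at hb⟩

theorem out_check : outCheck side24 (fun _ => List.range 24) genAL genBL genCL 23 2 2 stagesA stagesB
    [1, 22] [([0, 0, 1, 2], 23)] [1] = true := by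
  decide +kernel

theorem card_out : Nat.card (Cfsg.Out Cfsg.M24) = 1 := by
  have : Fact (Nat.Prime 23) := ⟨by norm_num⟩
  have hle : Nat.card (Cfsg.Out Cfsg.M24) ≤ 1 :=
    card_out_le_golay side24 (fun _ => List.range 24) mem_M24_side (fun σ _ => cand_M24 σ)
      toList_genA toList_genB toList_genC closure_eq 23 2 2 (by norm_num) stagesA stagesB
      [1, 22] [([0, 0, 1, 2], 23)] [1] out_check
  exact card_out_eq_one hle

end CfsgLib.Schur.OutM24
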