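/-
The bound of `OutRigid` with a fourth generator centralising or normalising the second.
-/
import Cfsg.Agent.Lib.Schur.OutRigid

set_option autoImplicit false

namespace CfsgLib.Schur

open Subgroup Cfsg
open scoped Pointwise

universe u

/-- The product of the entries named by a word in four elements. -/
def evalFour {M : Type u} [Mul M] [One M] (x y z w : M) : List ℕ → M
  | [] => 1
  | i :: r => [x, y, z, w].getD i 1 * evalFour x y z w r

theorem evalFour_map {M : Type u} [MulOneClass M] {N : Type*} [MulOneClass N] (f : M →* N)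
    (x y z w : M) : ∀ r : List ℕ, f (evalFour x y z w r) = evalFour (f x) (f y) (f z) (f w) r
  | [] => map_one f
  | i :: r => by
    rw [evalFour, evalFour, map_mul, evalFour_map f x y z w r]
    congr 1
    rcases i with _ | _ | _ | _ | i <;> simp

/-- If every automorphism agrees up to an inner one with one of the listed assignments on three
generators, the outer automorphism group has at most as many elements as the list.

The listed assignments are `a ↦ a ^ j`, `b ↦ b`, `c ↦ x`, `d ↦ y`; here `⟨a⟩` is a self-centralising Sylow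
subgroup of prime order normalised by `b`, and `Lc` holds the elements acting on `b` like `c`. -/
theorem card_out_le_four {G : Type u} [Group G] [Finite G] [DecidableEq G] (a b c d : G) (p s k l : ℕ)
    [hp : Fact p.Prime] (hpord : orderOf a = p) (hpp : ¬ p * p ∣ Nat.card G)
    (hC : ∀ x : G, x * a * x⁻¹ = a → ∃ i : ℕ, x = a ^ i)
    (hb : b * a * b⁻¹ = a ^ s) (hs : ¬ s % p = 1)
    (reps : List ℕ) (hreps : ∀ j < p, j ≠ 0 → ∃ i, j * s ^ i % p ∈ reps)
    (hc : c * b * c⁻¹ = b ^ k) (Lc : List G)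
    (hLc : ∀ x : G, x * b * x⁻¹ = b ^ k → x ∈ Lc)
    (hd : d * b * d⁻¹ = b ^ l) (Ld : List G) (hLd : ∀ x : G, x * b * x⁻¹ = b ^ l → x ∈ Ld)
    (hgen : closure {a, b, c, d} = ⊤)
    (R : List (List ℕ × ℕ)) (hR : ∀ r ∈ R, evalFour a b c d r.1 ^ r.2 = 1)
    (surv : List (ℕ × G × G))
    (hsurv : ∀ j ∈ reps, ∀ x ∈ Lc, ∀ y ∈ Ld, (∀ r ∈ R, evalFour (a ^ j) b x y r.1 ^ r.2 = 1) →
      (j, x, y) ∈ surv) :
    Nat.card (Cfsg.Out G) ≤ surv.length := by
  classical
  -- normalisation by an inner automorphism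
  have hnorm : ∀ φ : MulAut G, ∃ (g : G) (i : Fin surv.length),
      g * φ a * g⁻¹ = a ^ (surv.get i).1 ∧ g * φ b * g⁻¹ = b ∧
        g * φ c * g⁻¹ = (surv.get i).2.1 ∧
        g * φ d * g⁻¹ = (surv.get i).2.2 := by
    intro φ
    have hcard : Nat.card (zpowers a) = p ^ (Nat.card G).factorization p := by
      rw [Nat.card_zpowers, hpord]
      have h1 : p ∣ Nat.card G := hpord ▸ orderOf_dvd_natCard a
      have h0 : (Nat.card G).factorization p ≠ 0 :=
        ((hp.out.factorization_pos_of_dvd Nat.card_pos.ne' h1)).ne'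
      have h2 : (Nat.card G).factorization p < 2 := by
        by_contra hge
        refine hpp ?_
        rw [← pow_two]
        exact (pow_dvd_pow p (not_lt.mp hge)).trans (Nat.ordProj_dvd _ _)
      rw [show (Nat.card G).factorization p = 1 by omega, pow_one]
    have hcard' : Nat.card (zpowers (φ a)) = p ^ (Nat.card G).factorization p := by
      rw [← hcard, Nat.card_zpowers, Nat.card_zpowers]
      exact orderOf_injective φ.toMonoidHom φ.injective a
    obtain ⟨g0, hg0⟩ := MulAction.exists_smul_eq G (Sylow.ofCard _ hcard') (Sylow.ofCard _ hcard)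
    have hmem : g0 * φ a * g0⁻¹ ∈ zpowers a := by
      have h1 : φ a ∈ (Sylow.ofCard _ hcard' : Sylow p G) := mem_zpowers (φ a)
      have h2 : MulAut.conj g0 • φ a ∈ (g0 • Sylow.ofCard _ hcard' : Sylow p G) :=
        Set.smul_mem_smul_set h1
      rw [hg0] at h2
      have h3 : g0 * φ a * g0⁻¹ ∈ (Sylow.ofCard _ hcard : Sylow p G) := by
        simpa [MulAut.smul_def] using h2
      exact h3
    obtain ⟨j0, hj0p, hj0⟩ : ∃ j0 < p, g0 * φ a * g0⁻¹ = a ^ j0 := by
      obtain ⟨n, hn⟩ := mem_zpowers_iff.mp hmem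
      refine ⟨(n % p).toNat, ?_, ?_⟩
      · have := Int.emod_lt_of_pos n (show (0 : ℤ) < p by exact_mod_cast hp.out.pos)
        have := Int.emod_nonneg n (show (p : ℤ) ≠ 0 by exact_mod_cast hp.out.ne_zero)
        omega
      · rw [← hn, ← zpow_natCast, Int.toNat_of_nonneg
          (Int.emod_nonneg _ (by exact_mod_cast hp.out.ne_zero)), ← hpord, zpow_mod_orderOf]
    have hj00 : j0 ≠ 0 := by
      intro h0
      rw [h0, pow_zero, mul_inv_eq_one, mul_eq_left] at hj0
      rw [φ.map_eq_one_iff.mp hj0, orderOf_one] at hpord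
      exact hp.out.one_lt.ne hpord
    obtain ⟨i0, hi0⟩ := hreps j0 hj0p hj00
    set j := j0 * s ^ i0 % p with hj
    have hbi : ∀ i : ℕ, b ^ i * a * (b ^ i)⁻¹ = a ^ (s ^ i) := by
      intro i
      induction i with
      | zero => simp
      | succ i ih =>
        calc b ^ (i + 1) * a * (b ^ (i + 1))⁻¹
            = b * (b ^ i * a * (b ^ i)⁻¹) * b⁻¹ := by rw [pow_succ']; group
          _ = (b * a * b⁻¹) ^ (s ^ i) := by rw [ih, conj_pow]
          _ = a ^ (s ^ (i + 1)) := by rw [hb, ← pow_mul, pow_succ']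
    set g1 := b ^ i0 * g0 with hg1
    have hj1 : g1 * φ a * g1⁻¹ = a ^ j := by
      calc g1 * φ a * g1⁻¹ = b ^ i0 * (g0 * φ a * g0⁻¹) * (b ^ i0)⁻¹ := by rw [hg1]; group
        _ = (b ^ i0 * a * (b ^ i0)⁻¹) ^ j0 := by rw [hj0, conj_pow]
        _ = a ^ j := by
          rw [hbi, ← pow_mul, hj, ← hpord, pow_mod_orderOf, mul_comm]
    have hjp : ¬ p ∣ j := by
      intro hd
      have h0 : j = 0 := Nat.eq_zero_of_dvd_of_lt hd (Nat.mod_lt _ hp.out.pos)
      rw [h0, pow_zero, mul_inv_eq_one, mul_eq_left] at hj1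
      rw [φ.map_eq_one_iff.mp hj1, orderOf_one] at hpord
      exact hp.out.one_lt.ne hpord
    set y := g1 * φ b * g1⁻¹ with hy
    have hya : y * a ^ j * y⁻¹ = (a ^ j) ^ s := by
      rw [← hj1, hy, conj_pow, ← map_pow, ← hb, map_mul, map_mul, map_inv]; group
    have hya' : (b⁻¹ * y) * a * (b⁻¹ * y)⁻¹ = a := by
      have h2 : b⁻¹ * y * a ^ j * (b⁻¹ * y)⁻¹ = a ^ j := by
        calc b⁻¹ * y * a ^ j * (b⁻¹ * y)⁻¹ = b⁻¹ * (y * a ^ j * y⁻¹) * b := by group
          _ = b⁻¹ * (b * a * b⁻¹) ^ j * b := by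
            rw [hya, hb, ← pow_mul, ← pow_mul, mul_comm j s]
          _ = a ^ j := by rw [conj_pow]; group
      have hcop : Nat.Coprime j (orderOf a) := by
        rw [hpord]; exact (hp.out.coprime_iff_not_dvd.mpr hjp).symm
      obtain ⟨l, hl⟩ := exists_pow_eq_self_of_coprime hcop
      have h3 : ((b⁻¹ * y) * a ^ j * (b⁻¹ * y)⁻¹) ^ l = (a ^ j) ^ l := by rw [h2]
      rwa [conj_pow, hl] at h3
    obtain ⟨i1, hi1⟩ := hC _ hya'
    have hyb : y = b * a ^ i1 := by rw [← hi1]; group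
    -- remove the power of `a`
    obtain ⟨u, hu⟩ : ∃ u : ℤ, a ^ u * y * (a ^ u)⁻¹ = b := by
      have hns : ¬ ((p : ℤ) ∣ (s : ℤ) - 1) := by
        intro hd
        apply hs
        have h1 : ((s : ℕ) : ZMod p) = ((1 : ℕ) : ZMod p) := by
          have h2 : (((s : ℤ) - 1 : ℤ) : ZMod p) = 0 := (ZMod.intCast_zmod_eq_zero_iff_dvd _ p).mpr hd
          push_cast at h2 ⊢
          exact sub_eq_zero.mp h2
        have h3 := (ZMod.natCast_eq_natCast_iff' _ _ _).mp h1
        rwa [Nat.one_mod_eq_one.mpr hp.out.one_lt.ne'] at h3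
      obtain ⟨v, w, hvw⟩ : IsCoprime ((s : ℤ) - 1) (p : ℤ) :=
        (Nat.prime_iff_prime_int.mp hp.out).coprime_iff_not_dvd.mpr hns |>.symm
      refine ⟨(i1 : ℤ) * s * v, ?_⟩
      set u : ℤ := (i1 : ℤ) * s * v with hu
      have h1 : ∀ m : ℤ, b * a ^ m = a ^ ((s : ℤ) * m) * b := fun m => by
        have := map_zpow (MulAut.conj b) a m
        simp only [MulAut.conj_apply] at this
        rw [← mul_inv_eq_iff_eq_mul, this, hb, ← zpow_natCast, ← zpow_mul]
      calc a ^ u * y * (a ^ u)⁻¹ = a ^ u * (b * a ^ ((i1 : ℤ) + -u)) := by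
            rw [hyb, ← zpow_natCast, ← zpow_neg, zpow_add, mul_assoc, mul_assoc]
        _ = a ^ (u + (s : ℤ) * ((i1 : ℤ) + -u)) * b := by rw [h1, zpow_add, mul_assoc]
        _ = b := by
          have h2 : u + (s : ℤ) * ((i1 : ℤ) + -u) = (p : ℤ) * ((i1 : ℤ) * s * w) := by
            rw [hu]; linear_combination (-((i1 : ℤ) * s)) * hvw
          rw [h2, zpow_mul, zpow_natCast, ← hpord, pow_orderOf_eq_one, one_zpow, one_mul]
    set g := a ^ u * g1 with hg
    have hga : g * φ a * g⁻¹ = a ^ j := by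
      calc g * φ a * g⁻¹ = a ^ u * (g1 * φ a * g1⁻¹) * (a ^ u)⁻¹ := by rw [hg]; group
        _ = a ^ j := by rw [hj1, ← zpow_natCast, ← zpow_add, ← zpow_neg, ← zpow_add]; congr 1; omega
    have hgb : g * φ b * g⁻¹ = b := by
      calc g * φ b * g⁻¹ = a ^ u * y * (a ^ u)⁻¹ := by rw [hg, hy]; group
        _ = b := hu
    have hx : g * φ c * g⁻¹ ∈ Lc := by
      refine hLc _ ?_
      calc g * φ c * g⁻¹ * b * (g * φ c * g⁻¹)⁻¹
          = g * φ c * g⁻¹ * (g * φ b * g⁻¹) * (g * φ c * g⁻¹)⁻¹ := by rw [hgb]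
        _ = g * φ (c * b * c⁻¹) * g⁻¹ := by rw [map_mul, map_mul, map_inv]; group
        _ = b ^ k := by rw [hc, map_pow, ← conj_pow, hgb]
    have hy' : g * φ d * g⁻¹ ∈ Ld := by
      refine hLd _ ?_
      calc g * φ d * g⁻¹ * b * (g * φ d * g⁻¹)⁻¹
          = g * φ d * g⁻¹ * (g * φ b * g⁻¹) * (g * φ d * g⁻¹)⁻¹ := by rw [hgb]
        _ = g * φ (d * b * d⁻¹) * g⁻¹ := by rw [map_mul, map_mul, map_inv]; group
        _ = b ^ l := by rw [hd, map_pow, ← conj_pow, hgb]
    have hjx := hsurv j hi0 _ hx _ hy' (fun r hr => by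
      have he := congrArg (fun z => g * φ z * g⁻¹) (hR r hr)
      simp only [map_pow, map_one, mul_one, mul_inv_cancel, ← conj_pow] at he
      have h1 := evalFour_map ((MulAut.conj g : MulAut G).toMonoidHom.comp φ.toMonoidHom) a b c d r.1
      simp only [MonoidHom.coe_comp, MulEquiv.coe_toMonoidHom, Function.comp_apply,
        MulAut.conj_apply, hga, hgb] at h1
      rwa [h1] at he)
    obtain ⟨i, hi, he⟩ := List.getElem_of_mem hjx
    exact ⟨g, ⟨i, hi⟩, by simp [he, hga], hgb, by simp [he], by simp [he]⟩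
  choose g i hga hgb hgc hgd using hnorm
  let f : Cfsg.Out G → Fin surv.length := fun q => i q.out
  have hf : Function.Injective f := by
    intro q q' hqq
    set φ := q.out with hφ
    set ψ := q'.out with hψ
    have hi : i φ = i ψ := hqq
    have heq : MulAut.conj (g φ) * φ = MulAut.conj (g ψ) * ψ := by
      apply MulEquiv.toMonoidHom_injective
      apply MonoidHom.eq_of_eqOn_dense hgen
      rintro z (rfl | rfl | rfl | rfl)
      · show g φ * φ z * (g φ)⁻¹ = g ψ * ψ z * (g ψ)⁻¹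
        rw [hga, hga, hi]
      · show g φ * φ z * (g φ)⁻¹ = g ψ * ψ z * (g ψ)⁻¹
        rw [hgb, hgb]
      · show g φ * φ z * (g φ)⁻¹ = g ψ * ψ z * (g ψ)⁻¹
        rw [hgc, hgc, hi]
      · show g φ * φ z * (g φ)⁻¹ = g ψ * ψ z * (g ψ)⁻¹
        rw [hgd, hgd, hi]
    rw [← Quotient.out_eq q, ← Quotient.out_eq q', ← hφ, ← hψ]
    have h1 : ((MulAut.conj (g φ) * φ : MulAut G) : Cfsg.Out G) = (φ : Cfsg.Out G) := by
      rw [QuotientGroup.mk_mul, (QuotientGroup.eq_one_iff _).mpr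
        (show MulAut.conj (g φ) ∈ Cfsg.Inn G from ⟨g φ, rfl⟩), one_mul]
    have h2 : ((MulAut.conj (g ψ) * ψ : MulAut G) : Cfsg.Out G) = (ψ : Cfsg.Out G) := by
      rw [QuotientGroup.mk_mul, (QuotientGroup.eq_one_iff _).mpr
        (show MulAut.conj (g ψ) ∈ Cfsg.Inn G from ⟨g ψ, rfl⟩), one_mul]
    show (φ : Cfsg.Out G) = (ψ : Cfsg.Out G)
    rw [← h1, ← h2, heq]
  simpa using Nat.card_le_card_of_injective f hf

end CfsgLib.Schur
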