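/-
Polycyclic multiplier certificates for the Janko group J3 and its triple cover.
-/
import Cfsg.Agent.Lib.Schur.PcAssemble
import Cfsg.Agent.Lib.Sporadic.J3

set_option autoImplicit false

namespace CfsgLib.Schur.PcJankoThree

open Cfsg.Spor CfsgLib.Sporadic CfsgLib.Sporadic.J3 CfsgLib.Schur
open scoped commutatorElement

/-- The least code among the scalar multiples. -/
noncomputable def norm (c : ℕ) : ℕ :=
  min c (min (mulF2 18 (scalars.getD 1 one) c) (mulF2 18 (scalars.getD 2 one) c))

/-- The normalised code of the identity. -/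
noncomputable def oneN : ℕ := norm one

/-- Product of normalised codes. -/
noncomputable def cmul (a b : ℕ) : ℕ := norm (mulF2 18 a b)

theorem canon_mulF2 (a b : ℕ) : canonF2 18 (mulF2 18 a b) = true := by
  rw [canonF2, Nat.blt_eq]
  have h : ∀ m ≤ 18, xorUpto (fun k => ((a >>> k) &&& colMask 18 18) * ((b >>> (18 * k)) % 2 ^ 18)) m
      < 2 ^ (18 * 18) := by
    intro m
    induction m with
    | zero => intro _; exact Nat.two_pow_pos _
    | succ m ih =>
      intro hm
      refine Nat.xor_lt_two_pow (ih (by omega)) ?_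
      have h1 : (a >>> m) &&& colMask 18 18 ≤ colMask 18 18 := Nat.and_le_right
      have h2 : (b >>> (18 * m)) % 2 ^ 18 ≤ 2 ^ 18 - 1 :=
        Nat.le_sub_one_of_lt (Nat.mod_lt _ (Nat.two_pow_pos _))
      refine Nat.lt_of_le_of_lt (Nat.mul_le_mul h1 h2) ?_
      decide +kernel
  exact h 18 le_rfl

theorem commutator_sup_center_eq_top {Γ : Type*} [Group Γ]
    (hs : IsSimpleGroup (Γ ⧸ Subgroup.center Γ))
    (hcard : ¬ Nat.Prime (Nat.card (Γ ⧸ Subgroup.center Γ))) :
    commutator Γ ⊔ Subgroup.center Γ = ⊤ := by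
  set π := QuotientGroup.mk' (Subgroup.center Γ) with hπdef
  have hπ : Function.Surjective π := QuotientGroup.mk'_surjective _
  have hN : ((commutator Γ).map π).Normal := Subgroup.Normal.map inferInstance π hπ
  rcases hN.eq_bot_or_eq_top with hb | ht
  · refine absurd ?_ hcard
    let _ : CommGroup (Γ ⧸ Subgroup.center Γ) :=
      { (inferInstance : Group (Γ ⧸ Subgroup.center Γ)) with
        mul_comm := fun x y => by
          obtain ⟨x, rfl⟩ := hπ x
          obtain ⟨y, rfl⟩ := hπ y
          rw [← commutatorElement_eq_one_iff_mul_comm, ← map_commutatorElement, ← Subgroup.mem_bot,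
            ← hb]
          exact Subgroup.mem_map_of_mem _
            (Subgroup.commutator_mem_commutator (Subgroup.mem_top _) (Subgroup.mem_top _)) }
    exact IsSimpleGroup.prime_card
  · have h1 := Subgroup.comap_map_eq π (commutator Γ)
    rw [ht, Subgroup.comap_top, hπdef, QuotientGroup.ker_mk'] at h1
    exact h1.symm

variable {F : Type*} [Field F] {ω : F} (h : FieldFour F ω)
include h

/-- A normalised code of an element of `J3`. -/
def Rep (a : ℕ) (x : Cfsg.Spor.J3 F ω) : Prop :=
  canonF2 18 a = true ∧ norm a = a ∧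
    ∃ g : threeJ3 F ω, (QuotientGroup.mk g : Cfsg.Spor.J3 F ω) = x ∧ h.emb g.1 = decF2 18 a

theorem exists_scalar (k : ℕ) : ∃ g : threeJ3 F ω, g ∈ Subgroup.center (threeJ3 F ω) ∧
    h.emb g.1 = decF2 18 (scalars.getD k one) := by
  rcases Nat.lt_or_ge k 3 with hk | hk
  · obtain ⟨g, hg, e⟩ := h.scalar_mem (k : ZMod 3)
    refine ⟨⟨g, hg⟩, scalar_central (g := ⟨g, hg⟩) e, ?_⟩
    show h.big g.1 = _
    rw [e, h.big_scalar, ZMod.val_natCast_of_lt hk]
  · refine ⟨1, one_mem _, ?_⟩
    rw [List.getD_eq_default _ _ (show scalars.length ≤ k from hk), OneMemClass.coe_one, map_one,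
      J3.dec_one]

theorem rep_norm {c : ℕ} (hc : canonF2 18 c = true) {g : threeJ3 F ω}
    (e : h.emb g.1 = decF2 18 c) (hcl : norm (norm c) = norm c) :
    Rep h (norm c) (QuotientGroup.mk g) := by
  have key : ∀ k, ∃ g' : threeJ3 F ω, (QuotientGroup.mk g' : Cfsg.Spor.J3 F ω) = QuotientGroup.mk g ∧
      h.emb g'.1 = decF2 18 (mulF2 18 (scalars.getD k one) c) := by
    intro k
    obtain ⟨s, hs, es⟩ := exists_scalar h k
    refine ⟨s * g, ?_, ?_⟩
    · rw [QuotientGroup.mk_mul, (QuotientGroup.eq_one_iff s).2 hs, one_mul]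
    · rw [Subgroup.coe_mul, map_mul, es, e, ← mulF2_dec]
  refine ⟨?_, hcl, ?_⟩
  · unfold norm
    rcases min_choice c (min (mulF2 18 (scalars.getD 1 one) c) (mulF2 18 (scalars.getD 2 one) c))
      with h1 | h1 <;> rw [h1]
    · exact hc
    · rcases min_choice (mulF2 18 (scalars.getD 1 one) c) (mulF2 18 (scalars.getD 2 one) c)
        with h2 | h2 <;> rw [h2] <;> exact canon_mulF2 _ _
  · unfold norm
    rcases min_choice c (min (mulF2 18 (scalars.getD 1 one) c) (mulF2 18 (scalars.getD 2 one) c))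
      with h1 | h1 <;> rw [h1]
    · exact ⟨g, rfl, e⟩
    · rcases min_choice (mulF2 18 (scalars.getD 1 one) c) (mulF2 18 (scalars.getD 2 one) c)
        with h2 | h2 <;> rw [h2] <;> exact key _

theorem norm_scalar_mul {c : ℕ} (hc : canonF2 18 c = true) (k : ℕ) :
    norm (mulF2 18 (scalars.getD k one) c) = norm c := by
  have assoc : ∀ i j, mulF2 18 (scalars.getD i one) (mulF2 18 (scalars.getD j one) c) =
      mulF2 18 (mulF2 18 (scalars.getD i one) (scalars.getD j one)) c := fun i j =>
    dec_inj _ _ (canon_mulF2 _ _) (canon_mulF2 _ _) (by simp only [mulF2_dec, mul_assoc])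
  have h1c : mulF2 18 one c = c :=
    dec_inj _ _ (canon_mulF2 _ _) hc (by rw [mulF2_dec, J3.dec_one, one_mul])
  have t11 : mulF2 18 (scalars.getD 1 one) (scalars.getD 1 one) = scalars.getD 2 one := by
    decide +kernel
  have t12 : mulF2 18 (scalars.getD 1 one) (scalars.getD 2 one) = one := by decide +kernel
  have t21 : mulF2 18 (scalars.getD 2 one) (scalars.getD 1 one) = one := by decide +kernel
  have t22 : mulF2 18 (scalars.getD 2 one) (scalars.getD 2 one) = scalars.getD 1 one := by
    decide +kernel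
  match k with
  | 0 => rw [show scalars.getD 0 one = one by decide +kernel, h1c]
  | 1 =>
    unfold norm
    simp only [assoc, t11, t21, h1c]
    rw [min_comm (mulF2 18 (scalars.getD 2 one) c) c, ← min_assoc, min_comm _ c, min_assoc]
  | 2 =>
    unfold norm
    simp only [assoc, t12, t22, h1c]
    rw [← min_assoc, min_comm _ c, min_assoc, min_comm (mulF2 18 (scalars.getD 2 one) c)]
  | k + 3 =>
    rw [List.getD_eq_default _ _ (show scalars.length ≤ k + 3 from Nat.le_add_left 3 k), h1c]

theorem norm_norm {c : ℕ} (hc : canonF2 18 c = true) : norm (norm c) = norm c := by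
  rcases min_choice c (min (mulF2 18 (scalars.getD 1 one) c) (mulF2 18 (scalars.getD 2 one) c))
    with h1 | h1
  · exact congrArg norm (show norm c = c from h1)
  · rcases min_choice (mulF2 18 (scalars.getD 1 one) c) (mulF2 18 (scalars.getD 2 one) c)
      with h2 | h2 <;>
      rw [show norm c = _ from h1.trans h2] <;> rw [norm_scalar_mul h hc] <;>
      exact h1.trans h2

theorem rep_one : Rep h oneN 1 := by
  have hc : canonF2 18 one = true := by decide +kernel
  exact rep_norm h hc (g := 1) (by rw [OneMemClass.coe_one, map_one, J3.dec_one]) (norm_norm h hc)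

theorem rep_mul {a b : ℕ} {x y : Cfsg.Spor.J3 F ω} (hx : Rep h a x) (hy : Rep h b y) :
    Rep h (cmul a b) (x * y) := by
  obtain ⟨-, -, g, rfl, eg⟩ := hx
  obtain ⟨-, -, g', rfl, eg'⟩ := hy
  rw [← QuotientGroup.mk_mul]
  exact rep_norm h (canon_mulF2 _ _) (by rw [Subgroup.coe_mul, map_mul, eg, eg', ← mulF2_dec])
    (norm_norm h (canon_mulF2 _ _))

theorem rep_uniq {a : ℕ} {x y : Cfsg.Spor.J3 F ω} (hx : Rep h a x) (hy : Rep h a y) : x = y := by
  obtain ⟨-, -, g, rfl, eg⟩ := hx
  obtain ⟨-, -, g', rfl, eg'⟩ := hy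
  rw [Subtype.ext (h.emb_injective (eg.trans eg'.symm)) (a2 := g')]

theorem rep_code {a b : ℕ} {x : Cfsg.Spor.J3 F ω} (hx : Rep h a x) (hy : Rep h b x) : a = b := by
  obtain ⟨hca, hna, g, rfl, eg⟩ := hx
  obtain ⟨hcb, hnb, g', e', eg'⟩ := hy
  have hz : g⁻¹ * g' ∈ Subgroup.center (threeJ3 F ω) := QuotientGroup.eq.1 e'.symm
  obtain ⟨k, hk⟩ := h.center_scalar hz
  have hk' : h.emb (g⁻¹ * g').1 = decF2 18 (scalars.getD k.val one) := by
    show h.big ((g⁻¹ * g').1 : Matrix F9 F9 F) = _
    rw [hk, h.big_scalar]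
  have hb : b = mulF2 18 (scalars.getD k.val one) a := by
    refine dec_inj _ _ hcb (canon_mulF2 _ _) ?_
    rw [mulF2_dec, ← hk', ← eg, ← eg', ← map_mul, ← Subgroup.coe_mul,
      ← Subgroup.mem_center_iff.1 hz g, mul_inv_cancel_left]
  rw [← hna, ← hnb, hb, norm_scalar_mul h hca]

omit h

/-- The generators and conjugators are normalised words in the transversals. -/
noncomputable def membersOK (cs vs : List ℕ) : Bool :=
  vs.map (wordCode (mulF2 18) one chain) == cs && cs.all (fun c => canonF2 18 c && norm c == c)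

/-- Everything to check. -/
noncomputable def certOK (R : Pc.Rules) (C : Pc.Cert) (cs cv ks kv : List ℕ) (fuel : ℕ)
    (idx : List ℕ) : Bool :=
  membersOK cs cv && membersOK ks kv && R.shapeOK && C.eqnsOK R fuel && C.solveOK R &&
    Pc.holdsOK cmul oneN R C cs ks && idx.length == R.p ^ R.n &&
    Pc.sortedBy (Pc.pcElems cmul oneN R.p R.n cs R.n) idx

include h

theorem exists_rep {cs vs : List ℕ} (hm : membersOK cs vs = true) (i : ℕ) :
    ∃ x, Rep h (cs.getD i oneN) x := by
  simp only [membersOK, Bool.and_eq_true, beq_iff_eq, List.all_eq_true] at hm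
  rcases Nat.lt_or_ge i cs.length with hi | hi
  · rw [List.getD_eq_getElem _ _ hi]
    obtain ⟨g, hg, e⟩ := h.codeMem_of_vals hm.1 _ (List.getElem_mem hi)
    exact ⟨QuotientGroup.mk (⟨g, h.threeJ3_eq ▸ hg⟩ : threeJ3 F ω),
      (hm.2 _ (List.getElem_mem hi)).1, (hm.2 _ (List.getElem_mem hi)).2, _, rfl, e⟩
  · rw [List.getD_eq_default _ _ hi]
    exact ⟨1, rep_one h⟩

theorem spanAt_of_certOK {p : ℕ} [Fact p.Prime] {R : Pc.Rules} {C : Pc.Cert}
    {cs cv ks kv : List ℕ} {fuel : ℕ} {idx : List ℕ}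
    (hok : certOK R C cs cv ks kv fuel idx = true) (hRp : R.p = p) {d : ℕ} (hd : ¬ p ∣ d)
    (hord : 50232960 = p ^ R.n * d) {ords : List ℕ} (hlen : C.us.length = ords.length)
    (hords : C.ords = ords) : Pc.SpanAt p (Cfsg.Spor.J3 F ω) ords := by
  simp only [certOK, Bool.and_eq_true, beq_iff_eq] at hok
  obtain ⟨⟨⟨⟨⟨⟨⟨hcs, hks⟩, hshape⟩, heqs⟩, hsolve⟩, hholds⟩, hidx⟩, hsort⟩ := hok
  choose gs hgs using exists_rep h hcs
  choose cg hcg using exists_rep h hks
  have := h.finite_threeJ3
  have hH := Pc.holds_of_check (Rep h) (rep_one h) (rep_mul h) (rep_uniq h) hgs hcg hholds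
  have hlen' := Pc.le_card_of_elems (Rep h) (rep_one h) (rep_mul h) (rep_code h) hgs R.p R.n
    (Pc.nodup_of_sortedBy hsort)
  have hl2 : R.p ^ R.n ≤ (Pc.pcElems cmul oneN R.p R.n cs R.n).length := by
    simp only [Pc.sortedBy, Bool.and_eq_true, beq_iff_eq] at hsort
    omega
  exact Pc.spanAt_of_cert hH hshape heqs hsolve hRp (hRp ▸ hl2.trans hlen') hd
    (by rw [h.card_J3]; exact hord) hlen hords

/-- The triple cover is a stem extension. -/
theorem center_le_commutator :
    Subgroup.center (threeJ3 F ω) ≤ commutator (threeJ3 F ω) := by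
  have := h.finite_threeJ3
  have hker := commutator_sup_center_eq_top h.isSimple_J3 (by rw [h.card_J3]; norm_num)
  have hS : commutator (threeJ3 F ω) = ⊤ := by
    refine h.eq_top_of_prime (p := 5) (by norm_num) (by decide +kernel) _ fun x hx => ?_
    have h3 : x ^ 3 ∈ commutator (threeJ3 F ω) := by
      obtain ⟨a, ha, z, hz, hxe⟩ := Subgroup.mem_sup_of_normal_right.1
        (hker ▸ Subgroup.mem_top x : x ∈ commutator (threeJ3 F ω) ⊔ Subgroup.center _)
      have hz3 : z ^ 3 = 1 := by
        have := pow_card_eq_one' (x := (⟨z, hz⟩ : Subgroup.center (threeJ3 F ω)))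
        rw [h.card_center] at this
        exact congrArg Subtype.val this
      rw [← hxe, (show Commute a z from Subgroup.mem_center_iff.1 hz a).mul_pow, hz3, mul_one]
      exact pow_mem ha 3
    have h6 : x = (x ^ 3) ^ 2 := by
      rw [← pow_mul, show 3 * 2 = 5 + 1 from rfl, pow_succ, hx, one_mul]
    rw [h6]
    exact pow_mem h3 2
  rw [hS]
  exact le_top

end CfsgLib.Schur.PcJankoThree
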