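/-
Splitting the remaining checks of a large certificate into ranges.
-/
import Cfsg.Agent.Lib.Schur.PcFast
import Cfsg.Agent.Lib.Schur.PcCriteria

set_option autoImplicit false

namespace CfsgLib.Schur.Pc

/-- One combination giving a multiple of a spanning vector, by evaluation. -/
def Cert.restStep (C : Cert) (M L : ℕ) (vals : List ℤ) (k : ℕ) : Bool :=
  fastEq (vals.take L) M (C.ordComb.getD k []) (addS (C.ords.getD k 0) (C.us.getD k []) [])

theorem Cert.solveRest_of_parts {C : Cert} {R : Rules} {M L : ℕ} {vals : List ℤ}
    (hv : C.valsOK M vals = true) (hL : C.rows.length = L)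
    (h1 : (List.range C.us.length).all (C.restStep M L vals) = true)
    (h2 : (List.range R.d).all (fun i => (C.shifts.getD i []).all fun x => x == 0) = true) :
    C.solveRest R = true := by
  simp only [valsOK, Bool.and_eq_true, beq_iff_eq, List.all_eq_true] at hv
  have hr : C.rows.map evalB = vals.take L := by
    rw [← hv.1, List.map_append, List.take_left' (by simp [hL])]
  have hb : ∀ r ∈ C.rows, Bdd M r := fun r hr => bdd_of_bddB (hv.2 r (List.mem_append_left _ hr))
  rw [solveRest, h2, Bool.and_true]
  simp only [List.all_eq_true, List.mem_range] at h1 ⊢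
  exact fun k hk => vecEq_of_fastEq hr hb (h1 k hk)

variable {α : Type*} [DecidableEq α] (cmul : α → α → α) (cone : α)

/-- A power relation for the codes. -/
def powStep (R : Rules) (cs : List α) (i : ℕ) : Bool :=
  decide (evC cmul cone cs (List.replicate R.p i) = evC cmul cone cs (R.pwW i))

/-- The commutator relations of one letter for the codes. -/
def comStep (R : Rules) (cs : List α) (j : ℕ) : Bool :=
  (List.range j).all fun i =>
    decide (evC cmul cone cs [j, i] = evC cmul cone cs (i :: j :: R.cmW i j))

/-- The conjugations of one equation for the codes. -/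
def fuseStep (C : Cert) (cs ks : List α) (k : ℕ) : Bool :=
  match C.eqns.getD k (.assoc [] [] []) with
  | .assoc _ _ _ => true
  | .fuse g xs ys u _ => u.all fun k =>
      decide (cmul (ks.getD g cone) (evC cmul cone cs (xs.getD k [])) =
        cmul (evC cmul cone cs (ys.getD k [])) (ks.getD g cone))

theorem holdsOK_of_parts {R : Rules} {C : Cert} {cs ks : List α} {n m : ℕ} (hn : R.n = n)
    (hm : C.eqns.length = m) (h1 : rangeOK (powStep cmul cone R cs) 0 n = true)
    (h2 : rangeOK (comStep cmul cone R cs) 0 n = true)
    (h3 : rangeOK (fuseStep cmul cone C cs ks) 0 m = true) :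
    holdsOK cmul cone R C cs ks = true := by
  subst hn hm
  rw [rangeOK_iff] at h1 h2 h3
  simp only [holdsOK, Bool.and_eq_true, List.all_eq_true, List.mem_range]
  refine ⟨⟨fun i hi => h1 i (Nat.zero_le _) (by omega),
    fun j hj => List.all_eq_true.1 (h2 j (Nat.zero_le _) (by omega)) |> fun h i hi =>
      h i (List.mem_range.2 hi)⟩, fun e he => ?_⟩
  obtain ⟨k, hk, rfl⟩ := List.getElem_of_mem he
  have h := h3 k (Nat.zero_le _) (by omega)
  rw [fuseStep, List.getD_eq_getElem _ _ hk] at h
  exact h

end CfsgLib.Schur.Pc
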