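import Cfsg.Agent.Lib.Schur.TransferValues
import Mathlib.GroupTheory.Index
import Mathlib.Data.ZMod.Basic
import Mathlib.Tactic.Group
import Mathlib.Algebra.Ring.Parity
import Mathlib.Algebra.Group.TypeTags.Finite
import Mathlib.GroupTheory.PGroup

/-!
# Double covers from stable central extensions of a subgroup of odd index

A central extension `π : E →* G` of a subgroup of odd index by a group of order two, whose commutator
pairing is invariant under the fusion of `G`, gives a stem double cover of `G` as soon as two commuting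
elements of exponent four have lifts that do not commute.
-/

set_option autoImplicit false

open scoped commutatorElement

namespace CfsgLib.Schur.StableTransfer

open MulAction

universe u

variable {G E : Type u} [Group G] [Group E]

/-- Commutation of lifts is invariant under the fusion of `G` in the range of `π`. -/
def Stable (π : E →* G) : Prop :=
  ∀ (g : G) (e₁ e₂ f₁ f₂ : E), π e₁ * π e₂ = π e₂ * π e₁ →
    π f₁ = g * π e₁ * g⁻¹ → π f₂ = g * π e₂ * g⁻¹ → e₁ * e₂ = e₂ * e₁ → f₁ * f₂ = f₂ * f₁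

section lifts

variable {π : E →* G}

/-- Commutation of lifts depends on the images only, for a central kernel. -/
theorem comm_congr (hcen : π.ker ≤ Subgroup.center E) {e₁ e₂ f₁ f₂ : E} (h₁ : π e₁ = π f₁)
    (h₂ : π e₂ = π f₂) (h : e₁ * e₂ = e₂ * e₁) : f₁ * f₂ = f₂ * f₁ := by
  have hz : ∀ e f : E, π e = π f → ∃ z ∈ Subgroup.center E, f = z * e := fun e f hef =>
    ⟨f * e⁻¹, hcen (by rw [MonoidHom.mem_ker, map_mul, map_inv, hef, mul_inv_cancel]),
      by rw [inv_mul_cancel_right]⟩
  obtain ⟨z, hzc, rfl⟩ := hz _ _ h₁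
  obtain ⟨w, hwc, rfl⟩ := hz _ _ h₂
  exact (Commute.mul_left
    (((Subgroup.mem_center_iff.1 hzc (w * e₂)).symm : z * (w * e₂) = w * e₂ * z))
    (Commute.mul_right ((Subgroup.mem_center_iff.1 hwc e₁) : e₁ * w = w * e₁) h)).eq

end lifts

/-- Products of powers of two commuting elements, and their commutators in an extension. -/
theorem lifts_comm_of_even {E : Type u} [Group E] {x y d : E} (hd : d * d = 1)
    (hdc : ∀ e, Commute d e) (hxy : x * y = d * (y * x)) {i j k l : ℤ}
    (hev : Even (i * l - j * k)) : Commute (x ^ i * y ^ j) (x ^ k * y ^ l) := by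
  have hinv : d⁻¹ = d := inv_eq_of_mul_eq_one_right hd
  have hyx : y * x = d * (x * y) := by rw [hxy, ← mul_assoc, hd, one_mul]
  have h1 : ∀ n : ℤ, y * x ^ n = d ^ n * (x ^ n * y) := by
    intro n
    have hc : y * x * y⁻¹ = d * x := by rw [hyx, mul_assoc, mul_assoc, mul_inv_cancel, mul_one]
    have hp := map_zpow (MulAut.conj y) x n
    rw [MulAut.conj_apply, MulAut.conj_apply, hc, (hdc x).mul_zpow, mul_inv_eq_iff_eq_mul] at hp
    rw [hp, mul_assoc]
  have h2 : ∀ m n : ℤ, y ^ m * x ^ n = d ^ (m * n) * (x ^ n * y ^ m) := by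
    intro m n
    have hc : (x ^ n)⁻¹ * y * x ^ n = d ^ n * y := by
      rw [mul_assoc, h1 n, ← mul_assoc, ← ((hdc (x ^ n)⁻¹).zpow_left n).eq, mul_assoc,
        inv_mul_cancel_left]
    have := congrArg (fun e => e ^ m) hc
    rw [((hdc y).zpow_left n).mul_zpow, ← zpow_mul, mul_comm n m] at this
    have hp : ((x ^ n)⁻¹ * y * x ^ n) ^ m = (x ^ n)⁻¹ * y ^ m * x ^ n := by
      have hq := map_zpow (MulAut.conj (x ^ n)⁻¹) y m
      rw [MulAut.conj_apply, MulAut.conj_apply, inv_inv] at hq
      exact hq.symm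
    rw [hp, mul_assoc, inv_mul_eq_iff_eq_mul] at this
    rw [this, ← mul_assoc, ← ((hdc (x ^ n)).zpow_left (m * n)).eq, mul_assoc]
  have hd2 : ∀ a b : ℤ, Even (a - b) → d ^ a = d ^ b := by
    intro a b ⟨c, hc⟩
    have : a = b + 2 * c := by omega
    rw [this, zpow_add, zpow_mul, zpow_two, hd, one_zpow, mul_one]
  have key : ∀ a b c e : ℤ,
      x ^ a * y ^ b * (x ^ c * y ^ e) = d ^ (b * c) * (x ^ (a + c) * y ^ (b + e)) := by
    intro a b c e
    rw [zpow_add, zpow_add]
    calc x ^ a * y ^ b * (x ^ c * y ^ e) = x ^ a * (y ^ b * x ^ c) * y ^ e := by group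
      _ = x ^ a * (d ^ (b * c) * (x ^ c * y ^ b)) * y ^ e := by rw [h2]
      _ = d ^ (b * c) * x ^ a * (x ^ c * y ^ b) * y ^ e := by
        rw [← mul_assoc (x ^ a), ((hdc (x ^ a)).zpow_left (b * c)).eq]
      _ = _ := by group
  show _ * _ = _ * _
  rw [key, key, add_comm k i, add_comm l j, hd2 (j * k) (l * i)]
  rw [mul_comm l i]
  obtain ⟨c, hc⟩ := hev
  exact ⟨-c, by omega⟩

theorem two_cases : ∀ a : Multiplicative (ZMod 2), a = 1 ∨ a = Multiplicative.ofAdd 1 := by decide

theorem gen_two : (Multiplicative.ofAdd (1 : ZMod 2)) ≠ 1 ∧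
    Multiplicative.ofAdd (1 : ZMod 2) * Multiplicative.ofAdd 1 = 1 ∧
    (Multiplicative.ofAdd (1 : ZMod 2)) ^ 2 = 1 := by decide

/-- A stem double cover from a stable central extension of a subgroup of odd index. -/
theorem exists_stem_two [Finite G] [Finite E] (π : E →* G) {d : E} (hd1 : d ≠ 1) (hd : d * d = 1)
    (hker : π.ker = Subgroup.zpowers d) (hcen : π.ker ≤ Subgroup.center E)
    (hodd : Odd (π.range.index)) (hst : Stable π)
    {x y : E} (hx : π x ^ 4 = 1) (hy : π y ^ 4 = 1) (hxy : x * y = d * (y * x)) :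
    ∃ (Γ : Type u) (_ : Group Γ) (_ : Finite Γ) (σ : Γ →* G),
      Cfsg.IsStemExtension σ ∧ Nonempty (σ.ker ≃* Multiplicative (ZMod 2)) := by
  classical
  letI : Fintype (G ⧸ π.range) := Fintype.ofFinite _
  let A := Multiplicative (ZMod 2)
  have hA : ∀ a : A, a = 1 ∨ a = Multiplicative.ofAdd 1 := two_cases
  let ψ : A →* E :=
    { toFun := fun a => if a = 1 then 1 else d
      map_one' := by simp
      map_mul' := fun a b => by
        rcases hA a with rfl | rfl <;> rcases hA b with rfl | rfl <;>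
          simp [gen_two.1, gen_two.2.1, hd] }
  have hψ : Function.Injective ψ := by
    rw [injective_iff_map_eq_one]
    intro a ha
    rcases hA a with rfl | rfl
    · rfl
    · simp [ψ, hd1, gen_two.1] at ha ⊢
  have hdk : π d = 1 := by
    rw [← MonoidHom.mem_ker, hker]; exact Subgroup.mem_zpowers d
  have hkerψ : π.ker = ψ.range := by
    rw [hker]
    refine le_antisymm ((Subgroup.zpowers_le).2 ⟨Multiplicative.ofAdd 1, by simp [ψ, gen_two.1]⟩) ?_
    rintro _ ⟨a, rfl⟩
    rcases hA a with rfl | rfl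
    · simp
    · rw [show ψ (Multiplicative.ofAdd 1) = d by simp [ψ, gen_two.1]]
      exact Subgroup.mem_zpowers d
  have hcenψ : ∀ (a : A) (e : E), e * ψ a = ψ a * e := fun a e =>
    Subgroup.mem_center_iff.1 (hcen (hkerψ ▸ ⟨a, rfl⟩)) e
  have hdc : ∀ e, Commute d e := fun e =>
    ((Subgroup.mem_center_iff.1 (hcen (hker ▸ Subgroup.mem_zpowers d)) e)).symm
  set u := π x with hu0
  set v := π y with hv0
  have huv : u * v = v * u := by
    have h := congrArg π hxy
    simpa [hdk] using h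
  -- the subgroup generated by `u` and `v`
  set H : Subgroup G := Subgroup.closure {u, v} with hHdef
  have hHmem : ∀ h ∈ H, ∃ i j : ℤ, h = u ^ i * v ^ j := by
    intro h hh
    have c : Commute u v := huv
    induction hh using Subgroup.closure_induction with
    | mem z hz =>
      rcases hz with rfl | rfl
      · exact ⟨1, 0, by simp⟩
      · exact ⟨0, 1, by simp⟩
    | one => exact ⟨0, 0, by simp⟩
    | mul a b _ _ iha ihb =>
      obtain ⟨i, j, rfl⟩ := iha
      obtain ⟨k, l, rfl⟩ := ihb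
      exact ⟨i + k, j + l, by
        rw [zpow_add, zpow_add, (c.symm.zpow_zpow j k).mul_mul_mul_comm]⟩
    | inv a _ iha =>
      obtain ⟨i, j, rfl⟩ := iha
      exact ⟨-i, -j, by rw [mul_inv_rev, zpow_neg, zpow_neg, (c.symm.zpow_zpow j i).inv_inv.eq]⟩
  have huH : u ∈ H := Subgroup.subset_closure (by simp)
  have hvH : v ∈ H := Subgroup.subset_closure (by simp)
  have hcomH : ∀ h ∈ H, ∀ h' ∈ H, h * h' = h' * h := by
    intro h hh h' hh'
    obtain ⟨i, j, rfl⟩ := hHmem h hh
    obtain ⟨k, l, rfl⟩ := hHmem h' hh'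
    have c : Commute u v := huv
    exact (((Commute.refl u).zpow_zpow i k).mul_right (c.zpow_zpow i l)).mul_left
      ((c.symm.zpow_zpow j k).mul_right ((Commute.refl v).zpow_zpow j l))
  -- representatives compatible with the orbits of `H`
  let o : G ⧸ π.range → Quotient (MulAction.orbitRel ↥H (G ⧸ π.range)) := fun ω => Quotient.mk'' ω
  have horb : ∀ ω, ∃ h : ↥H, h • (o ω).out = ω := by
    intro ω
    have : (orbitRel ↥H (G ⧸ π.range)).r ω (o ω).out :=
      Quotient.exact' (Quotient.out_eq' (o ω)).symm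
    exact MulAction.mem_orbit_iff.1 this
  choose h hh using horb
  let t : G ⧸ π.range → G := fun ω => (h ω : G) * (o ω).out.out
  have htmk : ∀ ω, QuotientGroup.mk (t ω) = ω := fun ω => by
    show QuotientGroup.mk ((h ω : G) * _) = ω
    rw [← smul_eq_mul, ← MulAction.Quotient.smul_mk, QuotientGroup.out_eq']
    exact hh ω
  have hsame : ∀ (g : ↥H) ω, o ((g : G) • ω) = o ω := fun g ω =>
    Quotient.sound' ⟨g, rfl⟩
  -- each coset factor is conjugate into the stabiliser
  have hstab : ∀ g ∈ H, ∀ ω, ∃ s, s ∈ H ∧ s • (o ω).out = (o ω).out ∧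
      (t ω)⁻¹ * g * t (g⁻¹ • ω) = (o ω).out.out⁻¹ * s * (o ω).out.out := by
    intro g hg ω
    have ho : o (g⁻¹ • ω) = o ω := hsame ⟨g⁻¹, H.inv_mem hg⟩ ω
    refine ⟨(h ω : G)⁻¹ * g * h (g⁻¹ • ω), H.mul_mem (H.mul_mem (H.inv_mem (h ω).2) hg)
      (h (g⁻¹ • ω)).2, ?_, ?_⟩
    · have h1 := hh (g⁻¹ • ω)
      rw [ho] at h1
      have h1 : (h (g⁻¹ • ω) : G) • (o ω).out = g⁻¹ • ω := h1
      have h2 : (h ω : G) • (o ω).out = ω := hh ω
      rw [mul_smul, mul_smul, h1, smul_inv_smul, inv_smul_eq_iff, h2]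
    · simp only [t, ho]
      group
  have hrange : ∀ g ∈ H, ∀ ω, (t ω)⁻¹ * g * t (g⁻¹ • ω) ∈ π.range := by
    intro g _ ω
    have h1 : (QuotientGroup.mk (t ω) : G ⧸ π.range) = QuotientGroup.mk (g * t (g⁻¹ • ω)) := by
      rw [htmk, ← smul_eq_mul, ← MulAction.Quotient.smul_mk, htmk, smul_inv_smul]
    have h2 := QuotientGroup.eq.1 h1
    rwa [← mul_assoc] at h2
  choose eu heu using fun ω => hrange u huH ω
  choose ev hev using fun ω => hrange v hvH ω
  have hc : ∀ ω, ∃ a : A, ψ a = eu ω * ev (u⁻¹ • ω) * (ev ω * eu (v⁻¹ • ω))⁻¹ := by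
    intro ω
    have hm : eu ω * ev (u⁻¹ • ω) * (ev ω * eu (v⁻¹ • ω))⁻¹ ∈ π.ker := by
      have hs : v⁻¹ • u⁻¹ • ω = u⁻¹ • v⁻¹ • ω := by
        rw [smul_smul, smul_smul, ← mul_inv_rev, ← mul_inv_rev, huv]
      simp only [MonoidHom.mem_ker, map_mul, map_inv, heu, hev, hs, mul_inv_eq_one]
      calc (t ω)⁻¹ * u * t (u⁻¹ • ω) * ((t (u⁻¹ • ω))⁻¹ * v * t (u⁻¹ • v⁻¹ • ω))
          = (t ω)⁻¹ * (u * v) * t (u⁻¹ • v⁻¹ • ω) := by group
        _ = (t ω)⁻¹ * v * t (v⁻¹ • ω) * ((t (v⁻¹ • ω))⁻¹ * u * t (u⁻¹ • v⁻¹ • ω)) := by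
            rw [huv]; group
    rwa [hkerψ] at hm
  choose c hc using hc
  have hceq : ∀ ω, eu ω * ev (u⁻¹ • ω) = ψ (c ω) * (ev ω * eu (v⁻¹ • ω)) := fun ω => by
    rw [hc, inv_mul_cancel_right]
  -- the value at a common fixed point
  have hfixv : ∀ ω, u • ω = ω → v • ω = ω → c ω = Multiplicative.ofAdd 1 := by
    intro ω hωu hωv
    rcases hA (c ω) with h1 | h1
    · exfalso
      have e1 := hceq ω
      rw [h1, map_one, one_mul, inv_smul_eq_iff.2 hωu.symm, inv_smul_eq_iff.2 hωv.symm] at e1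
      have hu1 := heu ω
      have hv1 := hev ω
      rw [inv_smul_eq_iff.2 hωu.symm] at hu1
      rw [inv_smul_eq_iff.2 hωv.symm] at hv1
      have := hst (t ω) (eu ω) (ev ω) x y (by rw [← map_mul, e1, map_mul]) (by rw [hu1, hu0]; group)
        (by rw [hv1, hv0]; group) e1
      rw [hxy] at this
      exact hd1 (mul_eq_right.1 this)
    · exact h1
  -- the other orbits contribute nothing
  have horbit : ∀ q : Quotient (MulAction.orbitRel ↥H (G ⧸ π.range)),
      ¬ (u • q.out = q.out ∧ v • q.out = q.out) →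
      ∏ ω ∈ Finset.univ.filter (fun ω => o ω = q), c ω = 1 := by
    intro q hq
    set t0 := q.out.out with ht0
    -- the stabiliser has commuting lifts
    have hS : ∀ s s' : G, s ∈ H → s • q.out = q.out → s' ∈ H → s' • q.out = q.out →
        ∀ e e' : E, π e = t0⁻¹ * s * t0 → π e' = t0⁻¹ * s' * t0 → e * e' = e' * e := by
      intro s s' hsH hs hsH' hs' e e' he he'
      obtain ⟨i, j, rfl⟩ := hHmem s hsH
      obtain ⟨k, l, rfl⟩ := hHmem s' hsH'
      have hev : Even (i * l - j * k) := by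
        by_contra hodd'
        obtain ⟨m, hm⟩ := Int.not_even_iff_odd.1 hodd'
        apply hq
        set S := H ⊓ MulAction.stabilizer G q.out with hSdef
        have hmS : ∀ a, a ∈ S → a • q.out = q.out := fun a ha => ha.2
        have h1 : u ^ i * v ^ j ∈ S := ⟨hsH, hs⟩
        have h2 : u ^ k * v ^ l ∈ S := ⟨hsH', hs'⟩
        have hu4 : u ^ (4 : ℤ) = 1 := by exact_mod_cast hx
        have hv4 : v ^ (4 : ℤ) = 1 := by exact_mod_cast hy
        have c : Commute u v := huv
        have hp : ∀ a b n : ℤ, (u ^ a * v ^ b) ^ n = u ^ (a * n) * v ^ (b * n) := fun a b n => by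
          rw [(c.zpow_zpow a b).mul_zpow, ← zpow_mul, ← zpow_mul]
        have hmul : ∀ a b a' b' : ℤ,
            u ^ a * v ^ b * (u ^ a' * v ^ b') = u ^ (a + a') * v ^ (b + b') := fun a b a' b' => by
          rw [(c.symm.zpow_zpow b a').mul_mul_mul_comm, ← zpow_add, ← zpow_add]
        have hsq : (2 * m + 1) * (2 * m + 1) = 4 * (m * m + m) + 1 := by ring
        refine ⟨hmS u ?_, hmS v ?_⟩
        · have := S.mul_mem (S.zpow_mem h1 (l * (2 * m + 1))) (S.zpow_mem h2 (-j * (2 * m + 1)))
          rw [hp, hp, hmul, show i * (l * (2 * m + 1)) + k * (-j * (2 * m + 1)) =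
            4 * (m * m + m) + 1 by rw [← hsq, ← hm]; ring,
            show j * (l * (2 * m + 1)) + l * (-j * (2 * m + 1)) = 0 by ring,
            zpow_add, zpow_mul, hu4] at this
          simpa using this
        · have := S.mul_mem (S.zpow_mem h1 (-k * (2 * m + 1))) (S.zpow_mem h2 (i * (2 * m + 1)))
          rw [hp, hp, hmul, show j * (-k * (2 * m + 1)) + l * (i * (2 * m + 1)) =
            4 * (m * m + m) + 1 by rw [← hsq, ← hm]; ring,
            show i * (-k * (2 * m + 1)) + k * (i * (2 * m + 1)) = 0 by ring,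
            zpow_add, zpow_mul, hv4] at this
          simpa using this
      refine hst t0⁻¹ (x ^ i * y ^ j) (x ^ k * y ^ l) e e' ?_ ?_ ?_
        (lifts_comm_of_even hd hdc hxy hev)
      · simp only [map_mul, map_zpow]
        exact hcomH _ hsH _ hsH'
      · simp only [map_mul, map_zpow, inv_inv]; exact he
      · simp only [map_mul, map_zpow, inv_inv]; exact he'
    let K : Subgroup E := Subgroup.closure
      {e | ∃ s, s ∈ H ∧ s • q.out = q.out ∧ π e = t0⁻¹ * s * t0}
    letI : CommGroup ↥K :=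
      { (inferInstance : Group ↥K) with
        mul_comm := (Subgroup.isMulCommutative_closure (fun a ha b hb => by
          obtain ⟨s, h1, h2, h3⟩ := ha
          obtain ⟨s', h1', h2', h3'⟩ := hb
          exact hS s s' h1 h2 h1' h2' a b h3 h3')).is_comm.comm }
    have hmem : ∀ (g : G) (e : G ⧸ π.range → E), g ∈ H →
        (∀ ω, π (e ω) = (t ω)⁻¹ * g * t (g⁻¹ • ω)) → ∀ ω, o ω = q → e ω ∈ K := by
      intro g e hg he ω hω
      obtain ⟨s, h1, h2, h3⟩ := hstab g hg ω
      subst hω
      exact Subgroup.subset_closure ⟨s, h1, h2, (he ω).trans h3⟩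
    set T := Finset.univ.filter (fun ω => o ω = q) with hT
    have hψK : ∀ a : A, ψ a ∈ K := fun a => Subgroup.subset_closure
      ⟨1, H.one_mem, one_smul _ _, by
        rw [MonoidHom.mem_ker.1 (hkerψ ▸ ⟨a, rfl⟩ : ψ a ∈ π.ker)]; group⟩
    let lift : (e : G ⧸ π.range → E) → G ⧸ π.range → ↥K := fun e ω =>
      if he : e ω ∈ K then ⟨e ω, he⟩ else 1
    have hlift : ∀ (g : G) (e : G ⧸ π.range → E), g ∈ H →
        (∀ ω, π (e ω) = (t ω)⁻¹ * g * t (g⁻¹ • ω)) → ∀ ω ∈ T, (lift e ω : E) = e ω := by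
      intro g e hg he ω hω
      simp [lift, hmem g e hg he ω (Finset.mem_filter.1 hω).2]
    let ψK : A →* ↥K := ψ.codRestrict K hψK
    have hT' : ∀ g ∈ H, ∀ ω ∈ T, g⁻¹ • ω ∈ T := fun g hg ω hω =>
      Finset.mem_filter.2 ⟨Finset.mem_univ _,
        (hsame ⟨g⁻¹, H.inv_mem hg⟩ ω).trans (Finset.mem_filter.1 hω).2⟩
    have hre : ∀ g ∈ H, ∀ f : G ⧸ π.range → ↥K, ∏ ω ∈ T, f (g⁻¹ • ω) = ∏ ω ∈ T, f ω := by
      intro g hg f
      refine Finset.prod_nbij' (fun ω => g⁻¹ • ω) (fun ω => g • ω) (hT' g hg) (fun ω hω => ?_)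
        (fun ω _ => smul_inv_smul g ω) (fun ω _ => inv_smul_smul g ω) (fun ω _ => rfl)
      simpa using hT' g⁻¹ (H.inv_mem hg) ω hω
    have hall : ∏ ω ∈ T, lift eu ω * lift ev (u⁻¹ • ω) =
        ψK (∏ ω ∈ T, c ω) * ∏ ω ∈ T, lift ev ω * lift eu (v⁻¹ • ω) := by
      rw [map_prod, ← Finset.prod_mul_distrib]
      refine Finset.prod_congr rfl fun ω hω => Subtype.ext ?_
      simp only [Subgroup.coe_mul, MonoidHom.codRestrict_apply, ψK,
        hlift u eu huH heu ω hω, hlift v ev hvH hev ω hω,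
        hlift v ev hvH hev _ (hT' u huH ω hω), hlift u eu huH heu _ (hT' v hvH ω hω)]
      exact hceq ω
    rw [Finset.prod_mul_distrib, hre u huH, Finset.prod_mul_distrib, hre v hvH,
      mul_comm (∏ ω ∈ T, lift ev ω)] at hall
    apply hψ
    rw [map_one]
    exact congrArg Subtype.val (mul_eq_right.1 hall.symm)
  -- assemble
  have htot : ∏ ω, c ω = Multiplicative.ofAdd 1 := by
    set Fx := Finset.univ.filter (fun ω : G ⧸ π.range => u • ω = ω ∧ v • ω = ω) with hFx
    have hpg : ∀ g : ↥H, g ^ 4 = 1 := by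
      intro g
      obtain ⟨i, j, hg⟩ := hHmem g g.2
      have c : Commute u v := huv
      apply Subtype.ext
      rw [SubgroupClass.coe_pow, hg, (c.zpow_zpow i j).mul_pow, ← zpow_natCast, ← zpow_natCast,
        zpow_comm u i, zpow_comm v j, zpow_natCast, zpow_natCast, hx, hy]
      simp
    haveI : Fact (Nat.Prime 2) := ⟨Nat.prime_two⟩
    have hP : IsPGroup 2 ↥H := fun g => ⟨2, by simpa using hpg g⟩
    have hcard := hP.card_modEq_card_fixedPoints (α := G ⧸ π.range)
    have hfp : Nat.card (MulAction.fixedPoints ↥H (G ⧸ π.range)) = Fx.card := by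
      rw [← Nat.card_eq_finsetCard]
      refine Nat.card_congr (Equiv.subtypeEquivRight fun ω => ?_)
      simp only [hFx, Finset.mem_filter, Finset.mem_univ, true_and, MulAction.mem_fixedPoints]
      constructor
      · exact fun h => ⟨h ⟨u, huH⟩, h ⟨v, hvH⟩⟩
      · rintro ⟨h1, h2⟩ ⟨g, hg⟩
        obtain ⟨i, j, rfl⟩ := hHmem g hg
        exact MulAction.mem_stabilizer_iff.1 ((MulAction.stabilizer G ω).mul_mem
          ((MulAction.stabilizer G ω).zpow_mem h1 i) ((MulAction.stabilizer G ω).zpow_mem h2 j))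
    have hFodd : Odd Fx.card := by
      rw [hfp, ← Subgroup.index_eq_card] at hcard
      rw [Nat.odd_iff] at hodd ⊢
      rw [Nat.ModEq] at hcard
      omega
    rw [← Finset.prod_fiberwise Finset.univ o c]
    have hfib : ∀ q, (u • q.out = q.out ∧ v • q.out = q.out) →
        Finset.univ.filter (fun ω => o ω = q) = {q.out} := by
      intro q ⟨h1, h2⟩
      ext ω
      simp only [Finset.mem_filter, Finset.mem_univ, true_and, Finset.mem_singleton]
      refine ⟨fun hω => ?_, fun hω => hω ▸ Quotient.out_eq' q⟩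
      have := hh ω
      rw [hω] at this
      have this : (h ω : G) • q.out = ω := this
      obtain ⟨i, j, hij⟩ := hHmem _ (h ω).2
      rw [← this, hij]
      exact MulAction.mem_stabilizer_iff.1 ((MulAction.stabilizer G q.out).mul_mem
        ((MulAction.stabilizer G q.out).zpow_mem h1 i) ((MulAction.stabilizer G q.out).zpow_mem h2 j))
    rw [← Finset.prod_filter_mul_prod_filter_not _
      (fun q => u • q.out = q.out ∧ v • q.out = q.out)]
    rw [Finset.prod_eq_pow_card (b := Multiplicative.ofAdd (1 : ZMod 2)) (fun q hq => ?_),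
      Finset.prod_eq_one (fun q hq => ?_), mul_one]
    rotate_left
    · exact horbit q (Finset.mem_filter.1 hq).2
    · rw [hfib q (Finset.mem_filter.1 hq).2, Finset.prod_singleton]
      exact hfixv _ (Finset.mem_filter.1 hq).2.1 (Finset.mem_filter.1 hq).2.2
    have hcardQ : (Finset.univ.filter fun q : Quotient (MulAction.orbitRel ↥H (G ⧸ π.range)) =>
        u • q.out = q.out ∧ v • q.out = q.out).card = Fx.card := by
      refine Finset.card_bij (fun q _ => q.out) (fun q hq => ?_) (fun a _ b _ hab => ?_)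
        (fun ω hω => ?_)
      · simpa [hFx] using hq
      · exact ((Quotient.out_eq' a).symm.trans (congrArg o hab)).trans (Quotient.out_eq' b)
      · refine ⟨o ω, ?_, ?_⟩ <;>
        · have h2 := (Finset.mem_filter.1 hω).2
          have he : (o ω).out = ω := by
            obtain ⟨i, j, hij⟩ := hHmem _ (h ω).2
            have := hh ω
            replace this : (h ω : G) • (o ω).out = ω := this
            rw [hij] at this
            have h3 : (u ^ i * v ^ j) • ω = ω := MulAction.mem_stabilizer_iff.1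
              ((MulAction.stabilizer G ω).mul_mem ((MulAction.stabilizer G ω).zpow_mem h2.1 i)
                ((MulAction.stabilizer G ω).zpow_mem h2.2 j))
            exact MulAction.injective (u ^ i * v ^ j) (this.trans h3.symm)
          first
            | exact he
            | simpa [he] using h2
    rw [hcardQ]
    obtain ⟨m, hm⟩ := hFodd
    rw [hm, pow_add, pow_mul, gen_two.2.2,
      one_pow, one_mul, pow_one]
  refine TransferValues.exists_stem π ψ hψ hkerψ hcenψ t htmk ?_
  rw [eq_top_iff]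
  intro a _
  rcases hA a with rfl | rfl
  · exact one_mem _
  · exact Subgroup.subset_closure ⟨u, v, eu, ev, c, huv, heu, hev, hceq, htot⟩

end CfsgLib.Schur.StableTransfer
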